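/-
Basic facts on finite nilpotent groups (helper65).
-/
import Mathlib

set_option autoImplicit false

namespace Cfsg.Agent.Lib.Helper65

/-- In a finite nilpotent group, elements of coprime orders commute. -/
theorem commute_of_coprime_orderOf {N : Type*} [Group N] [Finite N] [hN : Group.IsNilpotent N]
    (a b : N) (h : Nat.Coprime (orderOf a) (orderOf b)) : Commute a b := by
  obtain ⟨φ⟩ := (Group.isNilpotent_of_finite_tfae (G := N)).out 0 4 |>.mp hN
  have key : φ.symm a * φ.symm b = φ.symm b * φ.symm a := by
    funext q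
    funext Q
    have hq : (q : ℕ).Prime := Nat.prime_of_mem_primeFactors q.2
    have : Fact (q : ℕ).Prime := ⟨hq⟩
    simp only [Pi.mul_apply]
    -- orders of components
    have hcomp : ∀ c : N, orderOf (φ.symm c q Q) ∣ orderOf c := by
      intro c
      apply orderOf_dvd_of_pow_eq_one
      have h1 : (φ.symm c) ^ orderOf c = 1 := by
        rw [← map_pow, pow_orderOf_eq_one, map_one]
      have h2 := congrFun (congrFun h1 q) Q
      simpa using h2
    obtain ⟨i, hi⟩ := (IsPGroup.iff_orderOf.mp Q.2) (φ.symm a q Q)
    obtain ⟨j, hj⟩ := (IsPGroup.iff_orderOf.mp Q.2) (φ.symm b q Q)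
    have ha := hcomp a
    have hb := hcomp b
    rw [hi] at ha
    rw [hj] at hb
    by_cases hi0 : i = 0
    · subst hi0
      rw [pow_zero, orderOf_eq_one_iff] at hi
      rw [hi, one_mul, mul_one]
    · have hj0 : j = 0 := by
        by_contra hj0
        have h1 : (q : ℕ) ∣ orderOf a := (dvd_pow_self _ hi0).trans ha
        have h2 : (q : ℕ) ∣ orderOf b := (dvd_pow_self _ hj0).trans hb
        have := Nat.dvd_gcd h1 h2
        rw [h.gcd_eq_one] at this
        exact hq.one_lt.ne' (Nat.dvd_one.mp this)
      subst hj0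
      rw [pow_zero, orderOf_eq_one_iff] at hj
      rw [hj, one_mul, mul_one]
  have := congrArg φ key
  show a * b = b * a
  simpa using this

/-- A subgroup of a nilpotent subgroup is nilpotent. -/
theorem isNilpotent_of_le {G : Type*} [Group G] {H K : Subgroup G} (h : H ≤ K)
    (hK : Group.IsNilpotent ↥K) : Group.IsNilpotent ↥H :=
  Group.nilpotent_of_mulEquiv (Subgroup.subgroupOfEquivOfLe h)

end Cfsg.Agent.Lib.Helper65
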