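import Mathlib
import Cfsg.Agent.Lib.Helper6.SzCh.Defs
import Cfsg.Agent.Lib.Helper78.CharOrtho
import Cfsg.Agent.Lib.Helper41.SzChAllSums
import Cfsg.Agent.Lib.Helper25.SzChBLin

/-!
# SZCH-[NC] (helper65): the non-cuspidal characters `1`, `St`, `Ind λ` of a group with Suzuki data
-/

set_option autoImplicit false
set_option linter.unusedSectionVars false

namespace Cfsg.Agent.Lib.Helper65.SzCh

open Cfsg Cfsg.Agent.Lib.Helper6.SzCh Cfsg.Agent.Lib.Helper75 Cfsg.Agent.Lib.Helper78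
open Cfsg.Agent.Lib.Helper52.BL Cfsg.Agent.Lib.Helper41.SzCh Cfsg.Agent.Lib.Helper25.SzCh
open scoped ComplexConjugate Classical

universe u

section general

/-- a sum of squares of natural numbers equal to `1` has exactly one non-zero term, equal to `1` -/
theorem nc_sum_sq_eq_one {ι : Type*} (s : Finset ι) (f : ι → ℕ) (h : ∑ i ∈ s, f i * f i = 1) :
    ∃ i ∈ s, f i = 1 ∧ ∀ j ∈ s, j ≠ i → f j = 0 := by
  have hex : ∃ i ∈ s, f i ≠ 0 := by
    by_contra hne
    push Not at hne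
    have : ∑ i ∈ s, f i * f i = 0 := Finset.sum_eq_zero (fun i hi => by rw [hne i hi, Nat.mul_zero])
    omega
  obtain ⟨i, his, hi⟩ := hex
  have hsplit := Finset.add_sum_erase s (fun i => f i * f i) his
  rw [h] at hsplit
  have hge : 1 ≤ f i * f i := Nat.mul_pos (Nat.pos_of_ne_zero hi) (Nat.pos_of_ne_zero hi)
  have hrest : ∑ j ∈ s.erase i, f j * f j = 0 := by omega
  have hfi : f i * f i = 1 := by omega
  refine ⟨i, his, ?_, ?_⟩
  · exact Nat.eq_one_of_mul_eq_one_right hfi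
  · intro j hj hji
    have := (Finset.sum_eq_zero_iff.mp hrest) j (Finset.mem_erase.mpr ⟨hji, hj⟩)
    exact (mul_self_eq_zero.mp this)

variable {K : Type u} [Group K] [Fintype K]

/-- a character of norm one is irreducible -/
theorem nc_irr_of_norm_one {A : K → ℂ} (hA : IsCharacter K A) (h : classInner A A = 1) :
    ∃ χ : IrrCharacter K, A = χ.1 ∧ ∀ ψ : IrrCharacter K, mult A ψ.1 = if ψ = χ then 1 else 0 := by
  rw [classInner_eq_sum_mult hA hA] at h
  have h' : ∑ ψ : IrrCharacter K, mult A ψ.1 * mult A ψ.1 = 1 := by exact_mod_cast h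
  obtain ⟨χ, -, hχ1, hχ0⟩ := nc_sum_sq_eq_one Finset.univ (fun ψ : IrrCharacter K => mult A ψ.1) h'
  have hm : ∀ ψ : IrrCharacter K, mult A ψ.1 = if ψ = χ then 1 else 0 := by
    intro ψ
    by_cases hψ : ψ = χ
    · rw [if_pos hψ, hψ]; exact hχ1
    · rw [if_neg hψ]; exact hχ0 ψ (Finset.mem_univ _) hψ
  refine ⟨χ, ?_, hm⟩
  conv_lhs => rw [eq_sum_mult hA]
  rw [Finset.sum_eq_single χ]
  · rw [hm χ, if_pos rfl]; simp
  · intro ψ _ hψ
    rw [hm ψ, if_neg hψ]; simp
  · intro hχ; exact absurd (Finset.mem_univ _) hχ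

/-- a character of norm two containing `χ₁` once is the sum of `χ₁` and another irreducible character -/
theorem nc_two_constituents {A : K → ℂ} (hA : IsCharacter K A) (h : classInner A A = 2)
    (χ₁ : IrrCharacter K) (h1 : mult A χ₁.1 = 1) :
    ∃ χ₂ : IrrCharacter K, χ₂ ≠ χ₁ ∧ A = χ₁.1 + χ₂.1 ∧
      ∀ ψ : IrrCharacter K, mult A ψ.1 = (if ψ = χ₁ then 1 else 0) + (if ψ = χ₂ then 1 else 0) := by
  rw [classInner_eq_sum_mult hA hA] at h
  have h' : ∑ ψ : IrrCharacter K, mult A ψ.1 * mult A ψ.1 = 2 := by exact_mod_cast h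
  have hsplit := Finset.add_sum_erase Finset.univ (fun ψ : IrrCharacter K => mult A ψ.1 * mult A ψ.1)
    (Finset.mem_univ χ₁)
  rw [h', h1] at hsplit
  have hrest : ∑ ψ ∈ Finset.univ.erase χ₁, mult A ψ.1 * mult A ψ.1 = 1 := by omega
  obtain ⟨χ₂, hχ₂mem, hχ₂1, hχ₂0⟩ :=
    nc_sum_sq_eq_one (Finset.univ.erase χ₁) (fun ψ : IrrCharacter K => mult A ψ.1) hrest
  have hne : χ₂ ≠ χ₁ := (Finset.mem_erase.mp hχ₂mem).1
  have hm : ∀ ψ : IrrCharacter K,
      mult A ψ.1 = (if ψ = χ₁ then 1 else 0) + (if ψ = χ₂ then 1 else 0) := by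
    intro ψ
    by_cases hψ1 : ψ = χ₁
    · rw [if_pos hψ1, if_neg (by rw [hψ1]; exact hne.symm), hψ1]; exact h1
    · by_cases hψ2 : ψ = χ₂
      · rw [if_neg hψ1, if_pos hψ2, hψ2]; exact hχ₂1
      · rw [if_neg hψ1, if_neg hψ2]
        exact hχ₂0 ψ (Finset.mem_erase.mpr ⟨hψ1, Finset.mem_univ _⟩) hψ2
  refine ⟨χ₂, hne, ?_, hm⟩
  conv_lhs => rw [eq_sum_mult hA]
  rw [← Finset.add_sum_erase Finset.univ _ (Finset.mem_univ χ₁)]
  rw [Finset.sum_eq_single χ₂]
  · rw [hm χ₁, hm χ₂, if_pos rfl, if_neg hne.symm, if_neg hne, if_pos rfl]; simp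
  · intro ψ hψ hψ2
    have hψ1 : ψ ≠ χ₁ := (Finset.mem_erase.mp hψ).1
    rw [hm ψ, if_neg hψ1, if_neg hψ2]; simp
  · intro hχ; exact absurd hχ₂mem hχ

end general


variable {G : Type u} [Group G]

/-- inner products of the characters induced from the characters of `B/Q` -/
theorem nc_ind_lin_inner [Fintype G] (D : SzData G) [Fintype ↥D.B] {lam mu : ↥D.B → ℂ}
    (hl : IsLinQ D lam) (hm : IsLinQ D mu) :
    classInner (indFun D.B lam) (indFun D.B mu) =
      (if lam = mu then 1 else 0) + (if mu = (fun x => conj (lam x)) then 1 else 0) := by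
  rw [mackey D lam mu (IsCharacter.isClassFunction (IsIrrCharacter.isCharacter hl.1))
    (IsCharacter.isClassFunction (IsIrrCharacter.isCharacter hm.1)), classInner_irr hl.1 hm.1]
  congr 1
  have key := isLinQ_sum_K D hl hm
  have hsum : ∑ᶠ k : ↥D.K, lam ⟨(k : G), D.K_le k.2⟩ *
        conj (mu ⟨(k : G)⁻¹, D.K_le (D.K.inv_mem k.2)⟩) =
      ∑ᶠ k : ↥D.K, lam ⟨(k : G), D.K_le k.2⟩ * mu ⟨(k : G), D.K_le k.2⟩ := by
    apply finsum_congr
    intro k
    congr 1
    have h1 := isLinQ_inv D hm ⟨(k : G), D.K_le k.2⟩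
    have h2 : (⟨(k : G), D.K_le k.2⟩ : ↥D.B)⁻¹ = ⟨(k : G)⁻¹, D.K_le (D.K.inv_mem k.2)⟩ := rfl
    rw [h2] at h1
    rw [h1, Complex.conj_conj]
  rw [hsum, key]
  congr

/-- inner product of `Ind ξ` (`ξ` vanishing off `Q`) with `Ind λ` -/
theorem nc_ind_off_inner [Fintype G] (D : SzData G) [Fintype ↥D.B] {ξ lam : ↥D.B → ℂ}
    (hξ : IsIrrCharacter ↥D.B ξ) (hoff : ∀ b : ↥D.B, (b : G) ∉ D.Q → ξ b = 0)
    (hl : IsLinQ D lam) (hne : ξ ≠ lam) :
    classInner (indFun D.B ξ) (indFun D.B lam) = ((D.q : ℂ) - 1)⁻¹ * ξ 1 := by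
  rw [mackey D ξ lam (IsCharacter.isClassFunction (IsIrrCharacter.isCharacter hξ))
    (IsCharacter.isClassFunction (IsIrrCharacter.isCharacter hl.1)),
    finsum_K_off D hoff, classInner_irr hξ hl.1, if_neg hne, isLinQ_map_one D hl, D.card_K]
  have hq := szData_two_le_q D
  have : ((qOf D.m - 1 : ℕ) : ℂ) = (D.q : ℂ) - 1 := by
    unfold SzData.q at hq ⊢
    rw [Nat.cast_sub (by omega)]; simp
  rw [this]
  simp

/-- the index of `B` is `q² + 1` -/
theorem nc_index_B [Finite G] (D : SzData G) : D.B.index = D.q ^ 2 + 1 := by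
  have h1 := D.B.card_mul_index
  have h2 : Nat.card G = qOf D.m ^ 2 * (qOf D.m ^ 2 + 1) * (qOf D.m - 1) := D.card_G
  have h3 := szData_card_B D
  have hq := szData_two_le_q D
  unfold SzData.q at hq h3 ⊢
  rw [h2, h3, D.card_Q, D.card_K] at h1
  have hpos : 0 < qOf D.m ^ 2 * (qOf D.m - 1) := by
    apply Nat.mul_pos
    · positivity
    · omega
  apply Nat.eq_of_mul_eq_mul_left hpos
  rw [h1]; ring


section main

variable [Fintype G] (D : SzData G) [Fintype ↥D.B]

theorem nc_isCharacter_ind {ξ : ↥D.B → ℂ} (hξ : IsIrrCharacter ↥D.B ξ) :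
    IsCharacter G (indFun D.B ξ) :=
  Cfsg.Agent.S0148.result D.B ξ (IsIrrCharacter.isCharacter hξ)

/-- `⟨χ|_B, ξ⟩` is the multiplicity of `χ` in `Ind ξ` -/
theorem nc_res_inner {ξ : ↥D.B → ℂ} (hξ : IsIrrCharacter ↥D.B ξ) (χ : IrrCharacter G) :
    classInner (fun b : ↥D.B => χ.1 (b : G)) ξ = (mult (indFun D.B ξ) χ.1 : ℂ) := by
  rw [← mult_spec' (nc_isCharacter_ind D hξ) χ.2,
    frobenius_reciprocity' D.B ξ (isClassFunction_irr χ)]

theorem nc_not_cusp_iff (χ : IrrCharacter G) :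
    ¬ IsCusp D χ.1 ↔ ∃ lam : ↥D.B → ℂ, IsLinQ D lam ∧ mult (indFun D.B lam) χ.1 ≠ 0 := by
  unfold Cfsg.Agent.Lib.Helper6.SzCh.IsCusp
  push Not
  constructor
  · rintro ⟨lam, hl, hne⟩
    refine ⟨lam, hl, ?_⟩
    intro h0
    apply hne
    rw [nc_res_inner D hl.1 χ, h0]; simp
  · rintro ⟨lam, hl, hne⟩
    refine ⟨lam, hl, ?_⟩
    rw [nc_res_inner D hl.1 χ]
    exact_mod_cast hne

/-- the principal character of `G` -/
noncomputable def ncOne (G : Type u) [Group G] : IrrCharacter G := ⟨fun _ => 1, isIrrCharacter_one⟩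

theorem nc_charDegree_one : charDegree (ncOne G).1 = 1 := by
  unfold charDegree ncOne
  simp

theorem nc_conj_one : (fun x : ↥D.B => conj ((fun _ : ↥D.B => (1 : ℂ)) x)) = fun _ => 1 := by
  funext x; simp

/-- `Ind λ` is irreducible for `λ ≠ 1` -/
theorem nc_ind_irr {lam : ↥D.B → ℂ} (hl : IsLinQ D lam) (hne : lam ≠ fun _ => 1) :
    ∃ χ : IrrCharacter G, indFun D.B lam = χ.1 ∧
      ∀ ψ : IrrCharacter G, mult (indFun D.B lam) ψ.1 = if ψ = χ then 1 else 0 := by
  apply nc_irr_of_norm_one (nc_isCharacter_ind D hl.1)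
  rw [nc_ind_lin_inner D hl hl, if_pos rfl, if_neg (fun h => isLinQ_conj_ne D hl hne h.symm)]
  simp

/-- `Ind 1 = 1 + St` -/
theorem nc_ind_one : ∃ St : IrrCharacter G, St ≠ ncOne G ∧
    indFun D.B (fun _ => 1) = (ncOne G).1 + St.1 ∧
      ∀ ψ : IrrCharacter G, mult (indFun D.B (fun _ => 1)) ψ.1 =
        (if ψ = ncOne G then 1 else 0) + (if ψ = St then 1 else 0) := by
  have hA := nc_isCharacter_ind D (isLinQ_one D).1
  apply nc_two_constituents hA
  · rw [nc_ind_lin_inner D (isLinQ_one D) (isLinQ_one D), if_pos rfl, if_pos (nc_conj_one D).symm]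
    norm_num
  · have h1 := mult_spec' hA (ncOne G).2
    rw [frobenius_reciprocity' D.B _ (isClassFunction_irr (ncOne G))] at h1
    have h2 : classInner (fun h : ↥D.B => (ncOne G).1 (h : G)) (fun _ => 1) = 1 :=
      classInner_irr_self (isLinQ_one D).1
    rw [h2] at h1
    exact_mod_cast h1.symm

/-- the degree of `Ind λ` -/
theorem nc_ind_apply_one {lam : ↥D.B → ℂ} (hl : IsLinQ D lam) :
    indFun D.B lam 1 = (D.q : ℂ) ^ 2 + 1 := by
  rw [indFun_one, nc_index_B D, isLinQ_map_one D hl]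
  push_cast; ring

theorem nc_charDegree_of_apply_one (χ : IrrCharacter G) (n : ℕ) (h : χ.1 1 = (n : ℂ)) :
    charDegree χ.1 = n := by
  rw [IsCharacter.apply_one_eq_charDegree (IsIrrCharacter.isCharacter χ.2)] at h
  exact_mod_cast h

end main


section classify

variable [Fintype G] (D : SzData G) [Fintype ↥D.B]

theorem nc_eight_le_q : 8 ≤ D.q := by
  have hm := D.hm
  unfold SzData.q qOf
  calc 8 = 2 ^ 3 := by norm_num
    _ ≤ 2 ^ (2 * D.m + 1) := Nat.pow_le_pow_right (by norm_num) (by omega)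

/-- `q = 2 h²` -/
theorem nc_q_eq : D.q = 2 * D.h ^ 2 := by
  unfold SzData.q SzData.h qOf hOf
  rw [← pow_mul, pow_succ, mul_comm (2 ^ (2 * D.m)) 2, mul_comm D.m 2]

/-- the characters of `B/Q` other than the trivial one -/
abbrev NcLam (D : SzData G) : Type u := {lam : ↥D.B → ℂ // IsLinQ D lam ∧ lam ≠ fun _ => 1}

theorem nc_finite_lin : Finite {lam : ↥D.B → ℂ // IsLinQ D lam} := by
  apply Nat.finite_of_card_ne_zero
  rw [card_isLinQ D]
  have := nc_eight_le_q D
  omega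

instance nc_finite_NcLam : Finite (NcLam D) := by
  have := nc_finite_lin D
  exact Finite.of_injective (fun x : NcLam D => (⟨x.1, x.2.1⟩ : {lam : ↥D.B → ℂ // IsLinQ D lam}))
    (fun x y h => Subtype.ext (by have h' := congrArg Subtype.val h; exact h'))

theorem nc_card_NcLam : Nat.card (NcLam D) = D.q - 2 := by
  have h1 : Set.ncard {lam : ↥D.B → ℂ | IsLinQ D lam} = D.q - 1 := by
    rw [← card_isLinQ D]
    exact (Nat.card_coe_set_eq _).symm
  have h2 := Set.ncard_sdiff_singleton_of_mem (s := {lam : ↥D.B → ℂ | IsLinQ D lam})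
    (a := fun _ => 1) (isLinQ_one D)
  rw [h1] at h2
  have h3 : Nat.card (NcLam D) =
      Set.ncard ({lam : ↥D.B → ℂ | IsLinQ D lam} \ {fun _ => 1}) :=
    Nat.card_coe_set_eq _
  rw [h3, h2]
  omega

/-- there is an element of `B` outside `Q` -/
theorem nc_exists_off : ∃ b : ↥D.B, (b : G) ∉ D.Q := by
  by_contra hcon
  push Not at hcon
  have hle : D.K ≤ D.Q := fun k hk => hcon ⟨k, D.K_le hk⟩
  have h1 : D.K = ⊥ := by
    rw [← szData_Q_inf_K D]
    exact (inf_eq_right.mpr hle).symm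
  have h2 := D.card_K
  rw [h1, Subgroup.card_bot] at h2
  have := nc_eight_le_q D
  unfold SzData.q at this
  omega

/-- a function vanishing off `Q` is not a character of `B/Q` -/
theorem nc_off_ne {ξ lam : ↥D.B → ℂ} (hoff : ∀ b : ↥D.B, (b : G) ∉ D.Q → ξ b = 0)
    (hl : IsLinQ D lam) : ξ ≠ lam := by
  obtain ⟨b, hb⟩ := nc_exists_off D
  intro h
  have h1 := isLinQ_mul_conj D hl b
  rw [← h, hoff b hb] at h1
  simp at h1

/-- when two irreducible induced characters coincide -/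
theorem nc_F_eq_iff {lam mu : ↥D.B → ℂ} (hl : IsLinQ D lam) (hm : IsLinQ D mu)
    {χ ψ : IrrCharacter G} (hχ : χ.1 = indFun D.B lam) (hψ : ψ.1 = indFun D.B mu) :
    χ = ψ ↔ (lam = mu ∨ mu = fun x => conj (lam x)) := by
  have h1 : classInner χ.1 ψ.1 = if χ.1 = ψ.1 then 1 else 0 := classInner_irr χ.2 ψ.2
  have h2 : classInner χ.1 ψ.1 =
      (if lam = mu then 1 else 0) + (if mu = (fun x => conj (lam x)) then 1 else 0) := by
    rw [hχ, hψ]; exact nc_ind_lin_inner D hl hm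
  constructor
  · intro h
    by_contra hcon
    push Not at hcon
    rw [if_neg hcon.1, if_neg hcon.2] at h2
    rw [if_pos (congrArg Subtype.val h)] at h1
    rw [h1] at h2
    norm_num at h2
  · intro h
    by_contra hcon
    have hne : χ.1 ≠ ψ.1 := fun h' => hcon (Subtype.ext h')
    rw [if_neg hne] at h1
    rw [h1] at h2
    rcases h with h | h
    · rw [if_pos h] at h2
      split_ifs at h2 <;> norm_num at h2
    · rw [if_pos h] at h2
      split_ifs at h2 <;> norm_num at h2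

/-- the conjugate of a non-trivial character of `B/Q` -/
noncomputable def ncConj (x : NcLam D) : NcLam D :=
  ⟨fun b => conj (x.1 b), isLinQ_conj D x.2.1, by
    intro h
    apply x.2.2
    funext b
    have h1 : conj (x.1 b) = 1 := congrFun h b
    have h2 := congrArg conj h1
    simpa using h2⟩

theorem nc_ncConj_ne (x : NcLam D) : ncConj D x ≠ x := by
  intro h
  exact isLinQ_conj_ne D x.2.1 x.2.2 (congrArg Subtype.val h)

theorem nc_card_image [Fintype (NcLam D)] (F : NcLam D → IrrCharacter G)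
    (hF : ∀ x, (F x).1 = indFun D.B x.1) :
    2 * (Finset.univ.image F).card = D.q - 2 := by
  have hcard : (Finset.univ : Finset (NcLam D)).card = D.q - 2 := by
    rw [Finset.card_univ, ← Nat.card_eq_fintype_card, nc_card_NcLam D]
  have hfib := Finset.card_eq_sum_card_fiberwise (f := F) (s := Finset.univ)
    (t := Finset.univ.image F) (fun x _ => Finset.mem_image_of_mem F (Finset.mem_univ x))
  have h2 : ∀ b ∈ Finset.univ.image F,
      (Finset.univ.filter (fun a => F a = b)).card = 2 := by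
    intro b hb
    obtain ⟨x, -, rfl⟩ := Finset.mem_image.mp hb
    have hset : Finset.univ.filter (fun a => F a = F x) = {x, ncConj D x} := by
      ext a
      simp only [Finset.mem_filter, Finset.mem_univ, true_and, Finset.mem_insert,
        Finset.mem_singleton]
      rw [eq_comm, nc_F_eq_iff D x.2.1 a.2.1 (hF x) (hF a)]
      constructor
      · rintro (h | h)
        · left; exact Subtype.ext h.symm
        · right; exact Subtype.ext h
      · rintro (h | h)
        · left; rw [h]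
        · right; rw [h]; rfl
    rw [hset, Finset.card_pair (nc_ncConj_ne D x).symm]
  rw [Finset.sum_congr rfl h2, Finset.sum_const, smul_eq_mul] at hfib
  rw [← hcard, hfib, mul_comm]

end classify


section final

variable [Fintype G] (D : SzData G) [Fintype ↥D.B]

/-- the list of the non-cuspidal characters -/
theorem nc_classify : ∃ (St : IrrCharacter G) (F : NcLam D → IrrCharacter G),
    St ≠ ncOne G ∧ indFun D.B (fun _ => 1) = (ncOne G).1 + St.1 ∧
    (∀ x, (F x).1 = indFun D.B x.1) ∧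
    (∀ χ : IrrCharacter G, ¬ IsCusp D χ.1 ↔ χ = ncOne G ∨ χ = St ∨ ∃ x, χ = F x) := by
  obtain ⟨St, hSt, hind, hmult⟩ := nc_ind_one D
  refine ⟨St, fun x => Classical.choose (nc_ind_irr D x.2.1 x.2.2), hSt, hind,
    fun x => (Classical.choose_spec (nc_ind_irr D x.2.1 x.2.2)).1.symm, ?_⟩
  intro χ
  rw [nc_not_cusp_iff D χ]
  constructor
  · rintro ⟨lam, hl, hne⟩
    by_cases h1 : lam = fun _ => 1
    · subst h1
      rw [hmult χ] at hne
      by_cases hχ1 : χ = ncOne G
      · left; exact hχ1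
      · by_cases hχ2 : χ = St
        · right; left; exact hχ2
        · rw [if_neg hχ1, if_neg hχ2] at hne
          exact absurd rfl hne
    · right; right
      refine ⟨⟨lam, hl, h1⟩, ?_⟩
      have h2 := (Classical.choose_spec (nc_ind_irr D hl h1)).2 χ
      by_contra hcon
      rw [if_neg hcon] at h2
      exact hne h2
  · rintro (h | h | ⟨x, h⟩)
    · refine ⟨fun _ => 1, isLinQ_one D, ?_⟩
      rw [hmult χ, if_pos h]
      omega
    · refine ⟨fun _ => 1, isLinQ_one D, ?_⟩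
      rw [hmult χ, if_pos h]
      omega
    · refine ⟨x.1, x.2.1, ?_⟩
      rw [(Classical.choose_spec (nc_ind_irr D x.2.1 x.2.2)).2 χ, if_pos h]
      omega

/-- the degree of the Steinberg character -/
theorem nc_degree_St {St : IrrCharacter G}
    (hind : indFun D.B (fun _ => 1) = (ncOne G).1 + St.1) : charDegree St.1 = D.q ^ 2 := by
  apply nc_charDegree_of_apply_one
  have h1 := nc_ind_apply_one D (isLinQ_one D)
  rw [hind] at h1
  have h2 : ((ncOne G).1 + St.1) 1 = 1 + St.1 1 := rfl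
  rw [h2] at h1
  push_cast
  linear_combination h1

/-- the degree of the irreducible induced characters -/
theorem nc_degree_F {lam : ↥D.B → ℂ} (hl : IsLinQ D lam) {χ : IrrCharacter G}
    (hχ : χ.1 = indFun D.B lam) : charDegree χ.1 = D.q ^ 2 + 1 := by
  apply nc_charDegree_of_apply_one
  rw [hχ, nc_ind_apply_one D hl]
  push_cast
  ring

/-- the multiplicities of the non-cuspidal characters in `Ind ξ`, `ξ` vanishing off `Q` -/
theorem nc_mult_off {ξ : ↥D.B → ℂ} (hξ : IsIrrCharacter ↥D.B ξ)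
    (hoff : ∀ b : ↥D.B, (b : G) ∉ D.Q → ξ b = 0) (n : ℕ)
    (hn : ((D.q : ℂ) - 1)⁻¹ * ξ 1 = (n : ℂ)) {χ : IrrCharacter G} (hχ : ¬ IsCusp D χ.1) :
    mult (indFun D.B ξ) χ.1 = if χ = ncOne G then 0 else n := by
  obtain ⟨St, F, hSt, hind, hF, hcl⟩ := nc_classify D
  have hA := nc_isCharacter_ind D hξ
  have hone : classInner (indFun D.B ξ) (ncOne G).1 = 0 := by
    rw [frobenius_reciprocity D.B ξ (isClassFunction_irr (ncOne G))]
    exact classInner_irr_ne hξ (isLinQ_one D).1 (nc_off_ne D hoff (isLinQ_one D))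
  have key : ∀ ψ : IrrCharacter G, classInner (indFun D.B ξ) ψ.1 = (n : ℂ) →
      mult (indFun D.B ξ) ψ.1 = n := by
    intro ψ h
    rw [mult_spec hA ψ.2] at h
    exact_mod_cast h
  rcases (hcl χ).mp hχ with h | h | ⟨x, h⟩
  · rw [if_pos h, h]
    have := mult_spec hA (ncOne G).2
    rw [hone] at this
    exact_mod_cast this.symm
  · have hne : χ ≠ ncOne G := by rw [h]; exact hSt
    rw [if_neg hne, h]
    apply key
    have h1 := nc_ind_off_inner D hξ hoff (isLinQ_one D) (nc_off_ne D hoff (isLinQ_one D))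
    rw [hind, classInner_add_right, hone, zero_add, hn] at h1
    exact h1
  · have hne : χ ≠ ncOne G := by
      intro h'
      have h1 := nc_degree_F D x.2.1 (hF x)
      rw [← h, h', nc_charDegree_one] at h1
      have := nc_eight_le_q D
      nlinarith
    rw [if_neg hne, h]
    apply key
    rw [hF x, nc_ind_off_inner D hξ hoff x.2.1 (nc_off_ne D hoff x.2.1), hn]

/-- the parameters `(a, b, c)` of the non-cuspidal characters -/
theorem nc_params (T : BTable D) {χ : IrrCharacter G} (hχ : ¬ IsCusp D χ.1) :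
    T.pa χ.1 = (if χ = ncOne G then 0 else 1) ∧ T.pb χ.1 = (if χ = ncOne G then 0 else D.h) ∧
      T.pc χ.1 = (if χ = ncOne G then 0 else D.h) := by
  have hq := nc_eight_le_q D
  have hq1 : (D.q : ℂ) - 1 ≠ 0 := by
    have : (D.q : ℂ) ≠ 1 := by
      have : D.q ≠ 1 := by omega
      exact_mod_cast this
    exact sub_ne_zero.mpr this
  have hZ1 : ((1 : ↥D.B) : G) ∈ D.Z := D.Z.one_mem
  refine ⟨?_, ?_, ?_⟩
  · have h1 : T.pa χ.1 = mult (indFun D.B T.φ) χ.1 := floor_res_eq_mult D T.irr_φ χ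
    rw [h1]
    apply nc_mult_off D T.irr_φ T.φ_off 1 _ hχ
    rw [T.φ_Z 1 hZ1]
    push_cast
    field_simp
  · have h1 : T.pb χ.1 = mult (indFun D.B T.ψ₁) χ.1 := floor_res_eq_mult D T.irr_ψ₁ χ
    rw [h1]
    apply nc_mult_off D T.irr_ψ₁ T.ψ₁_off D.h _ hχ
    rw [T.ψ₁_one]
    field_simp
  · have h1 : T.pc χ.1 = mult (indFun D.B T.ψ₂) χ.1 := floor_res_eq_mult D T.irr_ψ₂ χ
    rw [h1]
    apply nc_mult_off D T.irr_ψ₂ T.ψ₂_off D.h _ hχ
    rw [T.ψ₂_one]
    field_simp

/-- the number of non-cuspidal characters other than the trivial one -/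
theorem nc_card :
    ((Finset.univ.filter (fun χ : IrrCharacter G => ¬ IsCusp D χ.1)).erase (ncOne G)).card =
      D.h ^ 2 := by
  obtain ⟨St, F, hSt, hind, hF, hcl⟩ := nc_classify D
  have : Fintype (NcLam D) := Fintype.ofFinite _
  have hq := nc_eight_le_q D
  have hFne : ∀ x, F x ≠ ncOne G := by
    intro x h'
    have h1 := nc_degree_F D x.2.1 (hF x)
    rw [h', nc_charDegree_one] at h1
    nlinarith
  have hStF : St ∉ Finset.univ.image F := by
    intro h
    obtain ⟨x, -, hx⟩ := Finset.mem_image.mp h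
    have h1 := nc_degree_F D x.2.1 (hF x)
    rw [hx, nc_degree_St D hind] at h1
    omega
  have hset : (Finset.univ.filter (fun χ : IrrCharacter G => ¬ IsCusp D χ.1)).erase (ncOne G) =
      insert St (Finset.univ.image F) := by
    ext χ
    simp only [Finset.mem_erase, Finset.mem_filter, Finset.mem_univ, true_and,
      Finset.mem_insert, Finset.mem_image]
    rw [hcl χ]
    constructor
    · rintro ⟨hne, h | h | ⟨x, h⟩⟩
      · exact absurd h hne
      · left; exact h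
      · right; exact ⟨x, h.symm⟩
    · rintro (h | ⟨x, h⟩)
      · exact ⟨by rw [h]; exact hSt, Or.inr (Or.inl h)⟩
      · exact ⟨by rw [← h]; exact hFne x, Or.inr (Or.inr ⟨x, h.symm⟩)⟩
  rw [hset, Finset.card_insert_of_notMem hStF]
  have h2 := nc_card_image D F hF
  have h3 := nc_q_eq D
  omega

end final


/-- **SZCH-[NC]**: the degrees of the non-cuspidal characters -/
theorem nc_degree [Fintype G] (D : SzData G) [Fintype ↥D.B] (χ : IrrCharacter G)
    (hχ : ¬ IsCusp D χ.1) :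
    charDegree χ.1 = 1 ∨ charDegree χ.1 = D.q ^ 2 ∨ charDegree χ.1 = D.q ^ 2 + 1 := by
  obtain ⟨St, F, hSt, hind, hF, hcl⟩ := nc_classify D
  rcases (hcl χ).mp hχ with h | h | ⟨x, h⟩
  · left; rw [h]; exact nc_charDegree_one
  · right; left; rw [h]; exact nc_degree_St D hind
  · right; right; rw [h]; exact nc_degree_F D x.2.1 (hF x)

/-- **SZCH-[NC]**: the three non-cuspidal degrees occur -/
theorem nc_exists [Fintype G] (D : SzData G) :
    (∃ χ : IrrCharacter G, charDegree χ.1 = 1) ∧ (∃ χ : IrrCharacter G, charDegree χ.1 = D.q ^ 2) ∧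
      ∃ χ : IrrCharacter G, charDegree χ.1 = D.q ^ 2 + 1 := by
  have : Fintype ↥D.B := Fintype.ofFinite _
  obtain ⟨St, F, hSt, hind, hF, hcl⟩ := nc_classify D
  have hne : Nonempty (NcLam D) := by
    have h := nc_card_NcLam D
    have hq := nc_eight_le_q D
    have hpos : 0 < Nat.card (NcLam D) := by omega
    exact (Nat.card_pos_iff.mp hpos).1
  obtain ⟨x⟩ := hne
  exact ⟨⟨ncOne G, nc_charDegree_one⟩, ⟨St, nc_degree_St D hind⟩,
    ⟨F x, nc_degree_F D x.2.1 (hF x)⟩⟩

/-- **SZCH-[NC]**: the trivial character has parameters `(0,0,0)`; the other `q/2 = h^2` non-cuspidal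
characters have `(1,h,h)` -/
theorem nc_sums [Fintype G] (D : SzData G) [Fintype ↥D.B] (T : BTable D) :
    ∑ χ ∈ Finset.univ.filter (fun χ : IrrCharacter G => ¬ IsCusp D χ.1), T.pa χ.1 ^ 2 = D.h ^ 2 ∧
    ∑ χ ∈ Finset.univ.filter (fun χ : IrrCharacter G => ¬ IsCusp D χ.1), T.pa χ.1 * T.pb χ.1 = D.h ^ 3 ∧
    ∑ χ ∈ Finset.univ.filter (fun χ : IrrCharacter G => ¬ IsCusp D χ.1), T.pa χ.1 * T.pc χ.1 = D.h ^ 3 ∧
    ∑ χ ∈ Finset.univ.filter (fun χ : IrrCharacter G => ¬ IsCusp D χ.1), T.pb χ.1 ^ 2 = D.h ^ 4 ∧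
    ∑ χ ∈ Finset.univ.filter (fun χ : IrrCharacter G => ¬ IsCusp D χ.1), T.pb χ.1 * T.pc χ.1 = D.h ^ 4 ∧
    ∑ χ ∈ Finset.univ.filter (fun χ : IrrCharacter G => ¬ IsCusp D χ.1), T.pc χ.1 ^ 2 = D.h ^ 4 := by
  have hcard := nc_card D
  obtain ⟨St, F, hSt, hind, hF, hcl⟩ := nc_classify D
  have hone : ¬ IsCusp D (ncOne G).1 := (hcl _).mpr (Or.inl rfl)
  have key : ∀ (f : IrrCharacter G → ℕ) (c : ℕ),
      (∀ χ : IrrCharacter G, ¬ IsCusp D χ.1 → f χ = if χ = ncOne G then 0 else c) →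
      ∑ χ ∈ Finset.univ.filter (fun χ : IrrCharacter G => ¬ IsCusp D χ.1), f χ = D.h ^ 2 * c := by
    intro f c hf
    have h0 : f (ncOne G) = 0 := by rw [hf _ hone, if_pos rfl]
    rw [← Finset.sum_erase _ h0]
    have h1 : ∀ χ ∈ (Finset.univ.filter (fun χ : IrrCharacter G => ¬ IsCusp D χ.1)).erase (ncOne G),
        f χ = c := by
      intro χ hχ
      obtain ⟨hne, hmem⟩ := Finset.mem_erase.mp hχ
      rw [hf χ (Finset.mem_filter.mp hmem).2, if_neg hne]
    rw [Finset.sum_congr rfl h1, Finset.sum_const, smul_eq_mul, hcard]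
  refine ⟨?_, ?_, ?_, ?_, ?_, ?_⟩
  · rw [key (fun χ => T.pa χ.1 ^ 2) 1]
    · ring
    · intro χ hχ
      obtain ⟨ha, hb, hc⟩ := nc_params D T hχ
      simp only [ha]
      split_ifs <;> norm_num
  · rw [key (fun χ => T.pa χ.1 * T.pb χ.1) D.h]
    · ring
    · intro χ hχ
      obtain ⟨ha, hb, hc⟩ := nc_params D T hχ
      simp only [ha, hb]
      split_ifs <;> norm_num
  · rw [key (fun χ => T.pa χ.1 * T.pc χ.1) D.h]
    · ring
    · intro χ hχ
      obtain ⟨ha, hb, hc⟩ := nc_params D T hχ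
      simp only [ha, hc]
      split_ifs <;> norm_num
  · rw [key (fun χ => T.pb χ.1 ^ 2) (D.h ^ 2)]
    · ring
    · intro χ hχ
      obtain ⟨ha, hb, hc⟩ := nc_params D T hχ
      simp only [hb]
      split_ifs <;> norm_num
  · rw [key (fun χ => T.pb χ.1 * T.pc χ.1) (D.h ^ 2)]
    · ring
    · intro χ hχ
      obtain ⟨ha, hb, hc⟩ := nc_params D T hχ
      simp only [hb, hc]
      split_ifs <;> norm_num
      ring
  · rw [key (fun χ => T.pc χ.1 ^ 2) (D.h ^ 2)]
    · ring
    · intro χ hχ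
      obtain ⟨ha, hb, hc⟩ := nc_params D T hχ
      simp only [hc]
      split_ifs <;> norm_num

end Cfsg.Agent.Lib.Helper65.SzCh
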