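import Mathlib
import Cfsg.Prelude.Def_GeometricClasses
import Cfsg.Prelude.Def_ClassicalGeometry
import Cfsg.Agent.Lib.Helper37.BHRSU.Defs
import Cfsg.Agent.Lib.Helper37.BHRSU.Kit

set_option autoImplicit false

/-!
# BHRSU-[P1]: `SU_n(q)` stabilises no proper non-zero subspace.
-/

namespace Cfsg.Agent.Lib.Helper37.BHRSU

open Cfsg Cfsg.Geo Cfsg.Agent.Lib.Helper70.AschU
open scoped MatrixGroups Matrix Kronecker

variable {F : Type*} [Field F] [Fintype F] {n q : ℕ}

/-- BHRSU-[P1]  easy (from [K-IRR]).  `g ∈ subspaceStabilizer W` means `g '' W = W`. -/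
theorem not_SUg_le_subspaceStabilizer (hF : Fintype.card F = q ^ 2) (hn : 2 ≤ n) (W : Submodule F (Fin n → F))
    (hW : W ≠ ⊥) (hW' : W ≠ ⊤) : ¬ SUg n F q ≤ subspaceStabilizer W := by
  intro hle
  have hirr := (SUg_absIrred (F := F) (n := n) (q := q) hF hn).1
  have hinv : ∀ s ∈ matrixSet (SUg n F q), W.map (Matrix.toLin' s) ≤ W := by
    rintro s ⟨g, hg, rfl⟩
    rintro _ ⟨v, hv, rfl⟩
    have := hle hg
    exact (this v).1 hv
  rcases hirr W hinv with h | h
  · exact hW h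
  · exact hW' h

end Cfsg.Agent.Lib.Helper37.BHRSU
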