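import Mathlib
import Cfsg.Prelude.Def_GeometricClasses
import Cfsg.Prelude.Def_ClassicalGeometry
import Cfsg.Agent.Lib.Helper37.BHRSU.Defs
import Cfsg.Agent.Lib.Helper13.Herm
import Cfsg.Agent.S0837
import Cfsg.Agent.Lib.Helper37.BHRSU.Kit

set_option autoImplicit false

/-!
# BHRSU-[P3]: `SU_n(q)` (n ≥ 3) normalises no field subalgebra of degree ≥ 2.
-/

namespace Cfsg.Agent.Lib.Helper65.BhrsuP3

open Cfsg Cfsg.Geo
open scoped MatrixGroups Matrix Kronecker

section general

variable {F : Type*} [Field F] {ι : Type} [Fintype ι] [DecidableEq ι]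

/-- a nonzero element of a field subalgebra kills no nonzero vector -/
theorem eq_zero_of_mulVec_eq_zero {r : ℕ} {K : Subalgebra F (Matrix ι ι F)}
    (hK : IsFieldSubalgebra r K) {E : Matrix ι ι F} (hE : E ∈ K)
    {x : ι → F} (hx : x ≠ 0) (hEx : E *ᵥ x = 0) : E = 0 := by
  by_contra hE0
  obtain ⟨y, hyK, hy⟩ := hK.inv E hE hE0
  have hy' : y * E = 1 := by rw [← hK.comm E hE y hyK, hy]
  apply hx
  calc x = (1 : Matrix ι ι F) *ᵥ x := (Matrix.one_mulVec x).symm
    _ = y *ᵥ (E *ᵥ x) := by rw [← hy', Matrix.mulVec_mulVec]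
    _ = 0 := by rw [hEx, Matrix.mulVec_zero]

end general

variable {F : Type*} [Field F] [Fintype F] {n q : ℕ}

/-- a non-zero element of trace zero. -/
theorem exists_trace_zero_ne (hF : Fintype.card F = q ^ 2) : ∃ c : F, c ≠ 0 ∧ c + c ^ q = 0 := by
  obtain ⟨σ, hσ, hσ2⟩ := Cfsg.Agent.Lib.Helper13.exists_frob hF
  have hne : σ ≠ RingHom.id F := Cfsg.Agent.S0837.frob_ne_id σ hF hσ
  obtain ⟨t, ht⟩ : ∃ t : F, σ t ≠ t := by
    by_contra hcon
    push Not at hcon
    exact hne (RingHom.ext hcon)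
  refine ⟨t - σ t, fun h => ht (sub_eq_zero.mp h).symm, ?_⟩
  rw [← hσ, map_sub, hσ2]
  ring

/-- the linear functional `x ↦ f(x, v)`. -/
noncomputable def hermFunctional (n : ℕ) (F : Type*) [Field F] (q : ℕ) (v : Fin n → F) :
    (Fin n → F) →ₗ[F] F where
  toFun x := hermForm n F q x v
  map_add' x y := Cfsg.Agent.Lib.Helper13.hermForm_add_left x y v
  map_smul' a x := by
    simpa [smul_eq_mul] using Cfsg.Agent.Lib.Helper13.hermForm_smul_left (q := q) a x v

omit [Fintype F] in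
theorem hermFunctional_apply (v x : Fin n → F) : hermFunctional n F q v x = hermForm n F q x v := rfl

/-- every isotropic vector is an eigenvector of every element of a field subalgebra normalised by `SU`. -/
theorem eigen_of_normalized (hF : Fintype.card F = q ^ 2) (hn : 3 ≤ n) (r : ℕ)
    (K : Subalgebra F (Matrix (Fin n) (Fin n) F)) (hK : IsFieldSubalgebra r K)
    (hle : Cfsg.Agent.Lib.Helper37.BHRSU.SUg n F q ≤ subalgebraNormalizer K)
    (k : Matrix (Fin n) (Fin n) F) (hk : k ∈ K)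
    (v : Fin n → F) (hv0 : hermForm n F q v v = 0) : ∃ l : F, k *ᵥ v = l • v := by
  by_cases hv : v = 0
  · exact ⟨0, by rw [hv, Matrix.mulVec_zero, smul_zero]⟩
  obtain ⟨c, hc0, hc⟩ := exists_trace_zero_ne (q := q) hF
  obtain ⟨τ, hτ, hτm⟩ := Cfsg.Agent.Lib.Helper37.BHRSU.exists_tv hF v hv0 c hc
  have hτx : ∀ x : Fin n → F, (τ : Matrix (Fin n) (Fin n) F) *ᵥ x
      = x + (c * hermForm n F q x v) • v := by
    intro x
    rw [hτm, Cfsg.Agent.Lib.Helper13.unitaryTransvection_mulVec]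
  set T : Matrix (Fin n) (Fin n) F := (τ : Matrix (Fin n) (Fin n) F) with hT
  set T' : Matrix (Fin n) (Fin n) F :=
    ((τ⁻¹ : GL (Fin n) F) : Matrix (Fin n) (Fin n) F) with hT'
  have hT'T : T' * T = 1 := by rw [hT', hT, ← Units.val_mul, inv_mul_cancel, Units.val_one]
  have hconj : T * k * T' ∈ K := ((hle hτ) k).mp hk
  have hEK : T * k * T' - k ∈ K := K.sub_mem hconj hk
  -- a nonzero vector in the kernel of x ↦ (f(x,v), f(kx,v))
  let φ := hermFunctional n F q v
  let L : (Fin n → F) →ₗ[F] F × F :=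
    LinearMap.prod φ (φ.comp (Matrix.mulVecLin k))
  have hker : LinearMap.ker L ≠ ⊥ := by
    apply LinearMap.ker_ne_bot_of_finrank_lt
    rw [Module.finrank_prod, Module.finrank_self, Module.finrank_fintype_fun_eq_card,
      Fintype.card_fin]
    omega
  obtain ⟨x, hxL, hx0⟩ := Submodule.exists_mem_ne_zero_of_ne_bot hker
  rw [LinearMap.mem_ker] at hxL
  have hx1 : hermForm n F q x v = 0 := by
    have := congrArg Prod.fst hxL
    exact this
  have hx2 : hermForm n F q (k *ᵥ x) v = 0 := by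
    have := congrArg Prod.snd hxL
    exact this
  have hTx : T *ᵥ x = x := by rw [hτx, hx1, mul_zero, zero_smul, add_zero]
  have hT'x : T' *ᵥ x = x := by
    calc T' *ᵥ x = T' *ᵥ (T *ᵥ x) := by rw [hTx]
      _ = x := by rw [Matrix.mulVec_mulVec, hT'T, Matrix.one_mulVec]
  have hEx : (T * k * T' - k) *ᵥ x = 0 := by
    rw [Matrix.sub_mulVec, ← Matrix.mulVec_mulVec, ← Matrix.mulVec_mulVec, hT'x, hτx, hx2,
      mul_zero, zero_smul, add_zero, sub_self]
  have hE0 := eq_zero_of_mulVec_eq_zero hK hEK hx0 hEx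
  have hcomm : T * k = k * T := by
    have h1 : T * k * T' = k := sub_eq_zero.mp hE0
    calc T * k = T * k * (T' * T) := by rw [hT'T, mul_one]
      _ = (T * k * T') * T := by rw [mul_assoc, mul_assoc, mul_assoc]
      _ = k * T := by rw [h1]
  -- evaluate at y with f(y,v) ≠ 0
  obtain ⟨i, hi⟩ : ∃ i, v i ≠ 0 := by
    by_contra hcon
    push Not at hcon
    exact hv (funext hcon)
  set y : Fin n → F := Pi.single i 1 with hy
  have hy' : hermForm n F q y v ≠ 0 := by
    rw [hy, Cfsg.Agent.Lib.Helper13.hermForm_single_left]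
    exact pow_ne_zero _ hi
  have h3 := congrArg (fun M : Matrix (Fin n) (Fin n) F => M *ᵥ y) hcomm
  simp only [← Matrix.mulVec_mulVec] at h3
  rw [hτx, hτx, Matrix.mulVec_add, Matrix.mulVec_smul] at h3
  have h4 : (c * hermForm n F q (k *ᵥ y) v) • v = (c * hermForm n F q y v) • (k *ᵥ v) :=
    add_left_cancel h3
  have hcy : c * hermForm n F q y v ≠ 0 := mul_ne_zero hc0 hy'
  refine ⟨(c * hermForm n F q y v)⁻¹ * (c * hermForm n F q (k *ᵥ y) v), ?_⟩
  rw [mul_smul, h4, smul_smul, inv_mul_cancel₀ hcy, one_smul]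

end Cfsg.Agent.Lib.Helper65.BhrsuP3

namespace Cfsg.Agent.Lib.Helper37.BHRSU

open Cfsg Cfsg.Geo Cfsg.Agent.Lib.Helper70.AschU
open scoped MatrixGroups Matrix Kronecker

variable {F : Type*} [Field F] [Fintype F] {n q : ℕ}

/-- BHRSU-[P3] -/
theorem not_SUg_le_subalgebraNormalizer (hF : Fintype.card F = q ^ 2) (hn : 3 ≤ n) (r : ℕ) (hr : 2 ≤ r)
    (K : Subalgebra F (Matrix (Fin n) (Fin n) F)) (hK : IsFieldSubalgebra r K) :
    ¬ SUg n F q ≤ subalgebraNormalizer K := by
  intro hle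
  have hKbot : K ≤ ⊥ := by
    intro k hk
    obtain ⟨c, hc⟩ := scalar_of_isotropic_eigen hF (by omega) k
      (Cfsg.Agent.Lib.Helper65.BhrsuP3.eigen_of_normalized hF hn r K hK hle k hk)
    rw [Algebra.mem_bot]
    refine ⟨c, ?_⟩
    rw [Algebra.algebraMap_eq_smul_one]
    exact hc.symm
  have h1 : Module.finrank F K ≤ 1 := by
    have hmono := Submodule.finrank_mono (show Subalgebra.toSubmodule K ≤
      Subalgebra.toSubmodule (⊥ : Subalgebra F (Matrix (Fin n) (Fin n) F)) from hKbot)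
    have hb : Module.finrank F (⊥ : Subalgebra F (Matrix (Fin n) (Fin n) F)) = 1 := by
      have : Nonempty (Fin n) := ⟨⟨0, by omega⟩⟩
      exact Subalgebra.finrank_bot
    exact hmono.trans hb.le
  rw [hK.finrank_eq] at h1
  omega

end Cfsg.Agent.Lib.Helper37.BHRSU
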