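import Mathlib
import Cfsg.Agent.Lib.Helper19.KTPerm

/-!
# Existence of subgroups of index two (helper65)

* `exists_index_two_of_surjective`: pull back along a surjective homomorphism.
* `exists_index_two_of_two_group`: a non-trivial finite 2-group.
* `exists_index_two_of_element`: an element whose order is the full 2-part of `|G|`
  (Cayley's sign argument).
* `exists_index_two_of_comm`: a finite abelian group of even order.
* `exists_index_two_of_cyclic_normal`: a finite group of even order with a cyclic normal
  subgroup with abelian quotient.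
* `exists_invariant_index_two`: if `H` has a subgroup of index two, it has one invariant under
  a given involutory automorphism.
-/

set_option autoImplicit false

namespace Cfsg.Agent.Lib.Helper65.IndexTwo

variable {G : Type*} [Group G]

theorem exists_index_two_of_surjective {K : Type*} [Group K] (f : G →* K)
    (hf : Function.Surjective f) (h : ∃ M : Subgroup K, M.index = 2) :
    ∃ M : Subgroup G, M.index = 2 := by
  obtain ⟨M, hM⟩ := h
  exact ⟨M.comap f, by rw [Subgroup.index_comap_of_surjective M hf]; exact hM⟩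

theorem exists_index_two_of_two_group [Finite G] (hG : IsPGroup 2 G) (hnt : Nontrivial G) :
    ∃ M : Subgroup G, M.index = 2 := by
  have : Fact (Nat.Prime 2) := ⟨Nat.prime_two⟩
  obtain ⟨k, hk⟩ := IsPGroup.iff_card.mp hG
  have hk1 : k ≠ 0 := by
    intro h0
    rw [h0, pow_zero] at hk
    have := Finite.one_lt_card (α := G)
    omega
  obtain ⟨k', rfl⟩ := Nat.exists_eq_succ_of_ne_zero hk1
  obtain ⟨M, hM⟩ := Sylow.exists_subgroup_card_pow_prime (G := G) 2 (n := k')
    (by rw [hk]; exact pow_dvd_pow 2 (Nat.le_succ _))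
  refine ⟨M, ?_⟩
  have := M.card_mul_index
  rw [hM, hk, pow_succ] at this
  exact Nat.eq_of_mul_eq_mul_left (by positivity) this

theorem card_units_int : Nat.card ℤˣ = 2 := by
  rw [Nat.card_eq_fintype_card]
  rfl

/-- Cayley: an element whose order is the full 2-part of the group order is an odd permutation
in the regular representation. -/
theorem exists_index_two_of_element [Finite G] (u : G) (k m : ℕ) (hk : 1 ≤ k)
    (hu : orderOf u = 2 ^ k) (hcard : Nat.card G = m * 2 ^ k) (hm : Odd m) :
    ∃ M : Subgroup G, M.index = 2 := by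
  classical
  have : Fintype G := Fintype.ofFinite G
  set π : Equiv.Perm G := MulAction.toPermHom G G u with hπ
  have hπj : ∀ (j : ℕ) (x : G), (π ^ j) x = u ^ j * x := by
    intro j x
    rw [hπ, ← map_pow]
    rfl
  have hu1 : ∀ j, 0 < j → j < 2 ^ k → u ^ j ≠ 1 := by
    intro j hj0 hjlt h
    have := orderOf_le_of_pow_eq_one hj0 h
    omega
  have hsupp : π.support = Finset.univ := by
    ext x
    simp only [Equiv.Perm.mem_support, Finset.mem_univ, iff_true]
    have h1 := hπj 1 x
    rw [pow_one, pow_one] at h1
    rw [h1]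
    intro h
    have hu' : u = 1 := by
      have := mul_right_cancel (h.trans (one_mul x).symm)
      exact this
    have h2 := hu1 1 Nat.one_pos (Nat.one_lt_two_pow (by omega))
    rw [pow_one] at h2
    exact h2 hu'
  have hsign : Equiv.Perm.sign π = -1 := by
    apply Cfsg.Agent.Lib.Helper19.KTPerm.sign_eq_neg_one π (2 ^ k) m (by positivity)
      (Nat.even_pow.mpr ⟨even_two, by omega⟩)
    · ext x
      rw [hπj, ← hu, pow_orderOf_eq_one, one_mul]
      rfl
    · intro j hj0 hjlt x _ h
      rw [hπj] at h
      have := mul_right_cancel (h.trans (one_mul x).symm)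
      exact hu1 j hj0 hjlt this
    · rw [hsupp, Finset.card_univ, ← Nat.card_eq_fintype_card, hcard]
    · exact hm
  set f : G →* ℤˣ := (Equiv.Perm.sign).comp (MulAction.toPermHom G G) with hf
  have hfu : f u = -1 := hsign
  apply exists_index_two_of_surjective f
  · intro y
    rcases Int.units_eq_one_or y with h | h
    · exact ⟨1, by rw [map_one, h]⟩
    · exact ⟨u, by rw [hfu, h]⟩
  · exact ⟨⊥, by rw [Subgroup.index_bot, card_units_int]⟩

theorem exists_index_two_of_comm {A : Type*} [CommGroup A] [Finite A]
    (h : Even (Nat.card A)) : ∃ M : Subgroup A, M.index = 2 := by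
  have : Fact (Nat.Prime 2) := ⟨Nat.prime_two⟩
  have hpos : Nat.card A ≠ 0 := Nat.card_pos.ne'
  obtain ⟨k, m, hm, hkm⟩ := Nat.exists_eq_two_pow_mul_odd hpos
  set f : A →* A := powMonoidHom m with hf
  have hfx : ∀ x : A, f x = x ^ m := fun x => rfl
  -- the range is a 2-group
  have hP : IsPGroup 2 f.range := by
    rintro ⟨y, x, rfl⟩
    refine ⟨k, ?_⟩
    apply Subtype.ext
    show (f x) ^ 2 ^ k = 1
    rw [hfx, ← pow_mul, mul_comm, ← hkm]
    exact pow_card_eq_one'
  -- and non-trivial
  obtain ⟨u, hu⟩ := exists_prime_orderOf_dvd_card' (G := A) 2 (even_iff_two_dvd.mp h)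
  have hu2 : u ^ 2 = 1 := by rw [← hu, pow_orderOf_eq_one]
  have hu1 : u ≠ 1 := by
    intro h1
    rw [h1, orderOf_one] at hu
    omega
  have hfu : f u = u := by
    obtain ⟨j, hj⟩ := hm
    rw [hfx, hj, pow_succ, pow_mul, hu2, one_pow, one_mul]
  have hnt : Nontrivial f.range := by
    refine ⟨⟨⟨f u, u, rfl⟩, 1, ?_⟩⟩
    intro h1
    have := congrArg Subtype.val h1
    rw [Subgroup.coe_one] at this
    exact hu1 (hfu ▸ this)
  exact exists_index_two_of_surjective f.rangeRestrict f.rangeRestrict_surjective
    (exists_index_two_of_two_group hP hnt)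

/-- A finite group of even order with a cyclic normal subgroup `C` and abelian `G / C` has a
subgroup of index two. -/
theorem exists_index_two_of_cyclic_normal [Finite G] (C : Subgroup G) [hCn : C.Normal]
    (hC : IsCyclic C) (hab : ∀ x y : G, (y * x)⁻¹ * (x * y) ∈ C) (heven : Even (Nat.card G)) :
    ∃ M : Subgroup G, M.index = 2 := by
  classical
  have hcomm : ∀ a b : G ⧸ C, a * b = b * a := by
    intro a b
    induction a using QuotientGroup.induction_on with
    | H x =>
      induction b using QuotientGroup.induction_on with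
      | H y =>
        rw [← QuotientGroup.mk_mul, ← QuotientGroup.mk_mul, eq_comm, QuotientGroup.eq]
        exact hab x y
  let _ : CommGroup (G ⧸ C) := { (inferInstance : Group (G ⧸ C)) with mul_comm := hcomm }
  by_cases hQ : Even (Nat.card (G ⧸ C))
  · exact exists_index_two_of_surjective (QuotientGroup.mk' C) (QuotientGroup.mk'_surjective C)
      (exists_index_two_of_comm hQ)
  · rw [Nat.not_even_iff_odd] at hQ
    have hcard : Nat.card G = Nat.card (G ⧸ C) * Nat.card C :=
      Subgroup.card_eq_card_quotient_mul_card_subgroup C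
    have hCeven : Even (Nat.card C) := by
      rw [hcard] at heven
      rcases Nat.even_mul.mp heven with h | h
      · exact absurd h (Nat.not_even_iff_odd.mpr hQ)
      · exact h
    obtain ⟨g, hg⟩ := hC.exists_generator
    have hog : orderOf g = Nat.card C := orderOf_eq_card_of_forall_mem_zpowers hg
    have hpos : Nat.card C ≠ 0 := Nat.card_pos.ne'
    obtain ⟨k, m, hm, hkm⟩ := Nat.exists_eq_two_pow_mul_odd hpos
    have hk : 1 ≤ k := by
      by_contra h0
      have : k = 0 := by omega
      rw [this, pow_zero, one_mul] at hkm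
      rw [hkm] at hCeven
      exact (Nat.not_even_iff_odd.mpr hm) hCeven
    have hm0 : m ≠ 0 := by
      rintro rfl
      simp at hm
    have hou : orderOf ((g : G) ^ m) = 2 ^ k := by
      have h1 : orderOf (g : G) = 2 ^ k * m := by
        rw [Subgroup.orderOf_coe, hog, hkm]
      rw [orderOf_pow_of_dvd hm0 (by rw [h1]; exact Dvd.intro_left _ rfl), h1,
        Nat.mul_div_cancel _ (Nat.pos_of_ne_zero hm0)]
    apply exists_index_two_of_element ((g : G) ^ m) k (Nat.card (G ⧸ C) * m) hk hou
    · rw [hcard, hkm]; ring
    · exact hQ.mul hm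

/-- If `H` has a subgroup of index two, then it has one that is invariant under a given
involutory automorphism. -/
theorem exists_invariant_index_two {H : Type*} [Group H] (σ : H ≃* H) (hσ : ∀ h, σ (σ h) = h)
    (M : Subgroup H) (hM : M.index = 2) :
    ∃ N : Subgroup H, N.index = 2 ∧ ∀ n ∈ N, σ n ∈ N := by
  by_cases hinv : ∀ m ∈ M, σ m ∈ M
  · exact ⟨M, hM, hinv⟩
  · push Not at hinv
    obtain ⟨a, haM, haσ⟩ := hinv
    let N : Subgroup H :=
      { carrier := {h | h ∈ M ↔ σ h ∈ M}
        one_mem' := by
          show (1 : H) ∈ M ↔ σ 1 ∈ M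
          rw [map_one]
        mul_mem' := by
          intro x y hx hy
          show x * y ∈ M ↔ σ (x * y) ∈ M
          have hx' : x ∈ M ↔ σ x ∈ M := hx
          have hy' : y ∈ M ↔ σ y ∈ M := hy
          rw [map_mul, Subgroup.mul_mem_iff_of_index_two hM, Subgroup.mul_mem_iff_of_index_two hM,
            hx', hy']
        inv_mem' := by
          intro x hx
          show x⁻¹ ∈ M ↔ σ x⁻¹ ∈ M
          have hx' : x ∈ M ↔ σ x ∈ M := hx
          rw [map_inv, Subgroup.inv_mem_iff, Subgroup.inv_mem_iff, hx'] }
    have hN : ∀ h, h ∈ N ↔ (h ∈ M ↔ σ h ∈ M) := fun h => Iff.rfl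
    refine ⟨N, ?_, ?_⟩
    · rw [Subgroup.index_eq_two_iff]
      refine ⟨a, fun b => ?_⟩
      rw [hN, hN, map_mul, Subgroup.mul_mem_iff_of_index_two hM,
        Subgroup.mul_mem_iff_of_index_two hM]
      by_cases h1 : b ∈ M <;> by_cases h2 : σ b ∈ M <;> simp [Xor, h1, h2, haM, haσ]
    · intro n hn
      rw [hN] at hn ⊢
      rw [hσ]
      exact hn.symm

end Cfsg.Agent.Lib.Helper65.IndexTwo
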