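import Mathlib
import Cfsg.Agent.S0684
import Cfsg.Agent.S0688
import Cfsg.Agent.Lib.Helper65.IndexTwo

/-!
# Regular linear groups with at most one subgroup of order three have a subgroup of index two
(helper65)

`H ≤ GL(V)`, `V` a finite vector space over `ZMod p`, `p` odd, `H` regular on the non-zero
vectors (the multiplicative group of a finite near-field).  If `H` has at most one subgroup of
order `3`, then `H` has a subgroup of index `2`.  The proof follows Passman's trichotomy: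

* type I (an irreducible cyclic normal subgroup `A`): `C_H(A)` is abelian, hence cyclic, and
  `H / C_H(A)` is abelian;
* type II (solvable, not of type I): `|V| ∈ {25, 49, 121, 529}` by S0688, and then the subgroup
  of order 3 is normal with a quotient of order `8, 16, 40, 176`;
* type III (non-solvable): by S0689 (taken as a hypothesis here) `H` contains `SL(2,5)`, which
  has several subgroups of order 3.
-/

set_option autoImplicit false

namespace Cfsg.Agent.Lib.Helper65.RegLin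

open Cfsg.Agent.Lib.Helper65.IndexTwo

/-! ### abstract groups -/

section abstract
variable {H : Type*} [Group H] [Finite H]

/-- a group of order `2 ^ k * r`, with `r` an odd prime such that no divisor `d ≠ 1` of `2 ^ k`
is `≡ 1 (mod r)`, has a subgroup of index two -/
theorem exists_index_two_of_card_two_pow_mul (r k : ℕ) (hr : r.Prime) (hr2 : r ≠ 2) (hk : 1 ≤ k)
    (hcard : Nat.card H = 2 ^ k * r)
    (hdiv : ∀ d, d ∣ 2 ^ k → d ≡ 1 [MOD r] → d = 1) : ∃ M : Subgroup H, M.index = 2 := by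
  have : Fact r.Prime := ⟨hr⟩
  obtain ⟨S⟩ : Nonempty (Sylow r H) := inferInstance
  have hidx : (S : Subgroup H).index ∣ 2 ^ k := by
    have h1 : (S : Subgroup H).index ∣ 2 ^ k * r := by
      rw [← hcard]
      exact Subgroup.index_dvd_card _
    have h2 : Nat.Coprime (S : Subgroup H).index r := by
      rw [Nat.coprime_comm, Nat.Prime.coprime_iff_not_dvd hr]
      exact S.not_dvd_index
    exact h2.dvd_of_dvd_mul_right h1
  have hn : Nat.card (Sylow r H) = 1 :=
    hdiv _ ((S.card_dvd_index).trans hidx) (card_sylow_modEq_one r H)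
  have hsub : Subsingleton (Sylow r H) := (Nat.card_eq_one_iff_unique.mp hn).1
  have hSn : (S : Subgroup H).Normal := S.normal_of_subsingleton
  obtain ⟨j, -, hj⟩ := (Nat.dvd_prime_pow Nat.prime_two).mp hidx
  have hQ : Nat.card (H ⧸ (S : Subgroup H)) = 2 ^ j := by
    rw [← Subgroup.index_eq_card, hj]
  have hP : IsPGroup 2 (H ⧸ (S : Subgroup H)) := IsPGroup.of_card hQ
  have hnt : Nontrivial (H ⧸ (S : Subgroup H)) := by
    rw [← Finite.one_lt_card_iff_nontrivial, hQ]
    by_contra hle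
    have hj0 : j = 0 := by
      by_contra hj0
      exact hle (Nat.one_lt_two_pow hj0)
    rw [hj0, pow_zero] at hj
    -- `S = ⊤`, so `H` is an `r`-group of even order
    have hST : (S : Subgroup H) = ⊤ := Subgroup.index_eq_one.mp hj
    have hHr : IsPGroup r H := by
      intro g
      obtain ⟨n, hn⟩ := S.isPGroup' ⟨g, by rw [hST]; trivial⟩
      exact ⟨n, by simpa using congrArg Subtype.val hn⟩
    obtain ⟨n, hn⟩ := IsPGroup.iff_card.mp hHr
    have h2 : 2 ∣ r ^ n := by
      rw [← hn, hcard]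
      exact Dvd.dvd.mul_right (dvd_pow_self 2 (by omega)) r
    have := (Nat.prime_dvd_prime_iff_eq Nat.prime_two hr).mp (Nat.prime_two.dvd_of_dvd_pow h2)
    exact hr2 this.symm
  exact exists_index_two_of_surjective (QuotientGroup.mk' (S : Subgroup H))
    (QuotientGroup.mk'_surjective _) (exists_index_two_of_two_group hP hnt)

/-- a group of order `24`, `48`, `120` or `528` with at most one subgroup of order `3` has a
subgroup of index two -/
theorem exists_index_two_of_small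
    (hcard : Nat.card H = 24 ∨ Nat.card H = 48 ∨ Nat.card H = 120 ∨ Nat.card H = 528)
    (hU3 : ∀ A B : Subgroup H, Nat.card A = 3 → Nat.card B = 3 → A = B) :
    ∃ M : Subgroup H, M.index = 2 := by
  have h3 : Fact (Nat.Prime 3) := ⟨Nat.prime_three⟩
  have hdvd : 3 ∣ Nat.card H := by
    rcases hcard with h | h | h | h <;> rw [h] <;> decide
  obtain ⟨x, hx⟩ := exists_prime_orderOf_dvd_card' (G := H) 3 hdvd
  set P : Subgroup H := Subgroup.zpowers x with hPdef
  have hP3 : Nat.card P = 3 := by rw [Nat.card_zpowers, hx]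
  have hPn : P.Normal := by
    constructor
    intro n hn g
    have hmap : Nat.card (P.map (MulAut.conj g).toMonoidHom) = 3 := by
      rw [Subgroup.card_map_of_injective (MulAut.conj g).injective, hP3]
    have := hU3 _ _ hmap hP3
    rw [← this]
    exact ⟨n, hn, rfl⟩
  have hQcard : Nat.card H = Nat.card (H ⧸ P) * 3 := by
    rw [← hP3]
    exact Subgroup.card_eq_card_quotient_mul_card_subgroup P
  apply exists_index_two_of_surjective (QuotientGroup.mk' P) (QuotientGroup.mk'_surjective P)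
  rcases hcard with h | h | h | h
  · have hQ : Nat.card (H ⧸ P) = 2 ^ 3 := by omega
    exact exists_index_two_of_two_group (IsPGroup.of_card hQ)
      (by rw [← Finite.one_lt_card_iff_nontrivial, hQ]; norm_num)
  · have hQ : Nat.card (H ⧸ P) = 2 ^ 4 := by omega
    exact exists_index_two_of_two_group (IsPGroup.of_card hQ)
      (by rw [← Finite.one_lt_card_iff_nontrivial, hQ]; norm_num)
  · have hQ : Nat.card (H ⧸ P) = 2 ^ 3 * 5 := by omega
    apply exists_index_two_of_card_two_pow_mul 5 3 (by norm_num) (by norm_num) (by norm_num) hQ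
    intro d hd hmod
    have hle : d ≤ 8 := Nat.le_of_dvd (by norm_num) hd
    have key : ∀ d ≤ 8, d ∣ 2 ^ 3 → d % 5 = 1 % 5 → d = 1 := by decide
    exact key d hle hd hmod
  · have hQ : Nat.card (H ⧸ P) = 2 ^ 4 * 11 := by omega
    apply exists_index_two_of_card_two_pow_mul 11 4 (by norm_num) (by norm_num) (by norm_num) hQ
    intro d hd hmod
    have hle : d ≤ 16 := Nat.le_of_dvd (by norm_num) hd
    have key : ∀ d ≤ 16, d ∣ 2 ^ 4 → d % 11 = 1 % 11 → d = 1 := by decide
    exact key d hle hd hmod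

end abstract

/-! ### `SL(2,5)` has two subgroups of order three -/

abbrev SL25 := Matrix.SpecialLinearGroup (Fin 2) (ZMod 5)

def u₁ : SL25 := ⟨!![0, 1; 4, 4], by rw [Matrix.det_fin_two_of]; decide⟩
def u₂ : SL25 := ⟨!![0, 4; 1, 4], by rw [Matrix.det_fin_two_of]; decide⟩

theorem u₁_pow : u₁ ^ 3 = 1 := by decide
theorem u₂_pow : u₂ ^ 3 = 1 := by decide
theorem u₁_ne : u₁ ≠ 1 := by decide
theorem u₂_ne : u₂ ≠ 1 := by decide
theorem u₁_ne_u₂ : u₁ ≠ u₂ := by decide
theorem u₁_ne_u₂_sq : u₁ ≠ u₂ ^ 2 := by decide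

theorem two_subgroups_of_order_three {H : Type*} [Group H] (f : SL25 →* H)
    (hf : Function.Injective f) :
    ∃ A B : Subgroup H, Nat.card A = 3 ∧ Nat.card B = 3 ∧ A ≠ B := by
  have h3 : Fact (Nat.Prime 3) := ⟨Nat.prime_three⟩
  have ho₁ : orderOf u₁ = 3 := orderOf_eq_prime u₁_pow u₁_ne
  have ho₂ : orderOf u₂ = 3 := orderOf_eq_prime u₂_pow u₂_ne
  refine ⟨Subgroup.zpowers (f u₁), Subgroup.zpowers (f u₂), ?_, ?_, ?_⟩
  · rw [Nat.card_zpowers, orderOf_injective f hf, ho₁]
  · rw [Nat.card_zpowers, orderOf_injective f hf, ho₂]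
  · intro h
    have hmem : f u₁ ∈ Subgroup.zpowers (f u₂) := by
      rw [← h]
      exact Subgroup.mem_zpowers _
    obtain ⟨k, hk⟩ := Subgroup.mem_zpowers_iff.mp hmem
    rw [← map_zpow] at hk
    have hk' : u₂ ^ k = u₁ := hf hk
    rw [← zpow_mod_orderOf, ho₂] at hk'
    simp only [Nat.cast_ofNat] at hk'
    have hlt : k % 3 < 3 := Int.emod_lt_of_pos k (by norm_num)
    have hnn : 0 ≤ k % 3 := Int.emod_nonneg k (by norm_num)
    obtain ⟨n, hn⟩ := Int.eq_ofNat_of_zero_le hnn
    rw [hn, zpow_natCast] at hk'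
    have hn3 : n < 3 := by omega
    interval_cases n
    · exact u₁_ne (by rw [← hk', pow_zero])
    · exact u₁_ne_u₂ (by rw [← hk', pow_one])
    · exact u₁_ne_u₂_sq hk'.symm

/-! ### linear groups -/

section linear
variable {p : ℕ} [Fact p.Prime] {V : Type*} [AddCommGroup V] [Module (ZMod p) V] [Finite V]

/-- the endomorphism of an element -/
def toEnd {H : Subgroup (V ≃ₗ[ZMod p] V)} (h : H) : Module.End (ZMod p) V :=
  ((h : V ≃ₗ[ZMod p] V) : V →ₗ[ZMod p] V)

omit [Finite V] in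
theorem toEnd_apply {H : Subgroup (V ≃ₗ[ZMod p] V)} (h : H) (v : V) :
    toEnd h v = (h : V ≃ₗ[ZMod p] V) v := rfl

omit [Finite V] in
theorem toEnd_mul {H : Subgroup (V ≃ₗ[ZMod p] V)} (h k : H) : toEnd (h * k) = toEnd h * toEnd k := by
  apply LinearMap.ext
  intro v
  rfl

omit [Finite V] in
theorem free_of_reg (H : Subgroup (V ≃ₗ[ZMod p] V))
    (hreg : ∀ v w : V, v ≠ 0 → w ≠ 0 → ∃! h : H, (h : V ≃ₗ[ZMod p] V) v = w) :
    ∀ h : H, ∀ v : V, v ≠ 0 → (h : V ≃ₗ[ZMod p] V) v = v → h = 1 := by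
  intro h v hv hhv
  obtain ⟨h0, -, huniq⟩ := hreg v v hv hv
  rw [huniq h hhv, huniq 1 (by simp)]

theorem card_of_reg [Nontrivial V] (H : Subgroup (V ≃ₗ[ZMod p] V))
    (hreg : ∀ v w : V, v ≠ 0 → w ≠ 0 → ∃! h : H, (h : V ≃ₗ[ZMod p] V) v = w) :
    Nat.card H = Nat.card V - 1 := by
  classical
  obtain ⟨v0, hv0⟩ := exists_ne (0 : V)
  have h1 : Nat.card H = Nat.card {w : V // w ≠ 0} := by
    apply Nat.card_congr
    refine Equiv.ofBijective (fun h => ⟨(h : V ≃ₗ[ZMod p] V) v0, ?_⟩) ⟨?_, ?_⟩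
    · intro h0
      apply hv0
      have := (h : V ≃ₗ[ZMod p] V).injective (h0.trans (map_zero _).symm)
      exact this
    · intro h k hhk
      have h3 : (h : V ≃ₗ[ZMod p] V) v0 = (k : V ≃ₗ[ZMod p] V) v0 := congrArg Subtype.val hhk
      obtain ⟨h0, -, huniq⟩ := hreg v0 _ hv0 (show (k : V ≃ₗ[ZMod p] V) v0 ≠ 0 from by
        intro h0
        apply hv0
        exact (k : V ≃ₗ[ZMod p] V).injective (h0.trans (map_zero _).symm))
      rw [huniq h h3, huniq k rfl]
    · rintro ⟨w, hw⟩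
      obtain ⟨h, hh, -⟩ := hreg v0 w hv0 hw
      exact ⟨h, Subtype.ext hh⟩
  rw [h1]
  have : Fintype V := Fintype.ofFinite V
  rw [Nat.card_eq_fintype_card, Nat.card_eq_fintype_card]
  exact Set.card_ne_eq (0 : V)

/-- type I: an irreducible cyclic normal subgroup -/
theorem exists_index_two_of_irreducible [Nontrivial V] (hp2 : p ≠ 2)
    (H : Subgroup (V ≃ₗ[ZMod p] V))
    (hreg : ∀ v w : V, v ≠ 0 → w ≠ 0 → ∃! h : H, (h : V ≃ₗ[ZMod p] V) v = w)
    (A : Subgroup H) (hAn : A.Normal) (hAc : IsCyclic A)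
    (hirr : ∀ W : Submodule (ZMod p) V,
      (∀ a ∈ A, ∀ v ∈ W, ((a : H) : V ≃ₗ[ZMod p] V) v ∈ W) → W = ⊥ ∨ W = ⊤) :
    ∃ M : Subgroup H, M.index = 2 := by
  classical
  have hp : p.Prime := Fact.out
  have hfinGL : Finite (V ≃ₗ[ZMod p] V) :=
    Finite.of_injective (fun e : V ≃ₗ[ZMod p] V => (e : V → V)) DFunLike.coe_injective
  have hfree := free_of_reg H hreg
  have hHcard : Nat.card H = Nat.card V - 1 := card_of_reg H hreg
  have heven : Even (Nat.card H) := by
    have hVp : IsPGroup p (Multiplicative V) := by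
      intro g
      refine ⟨1, ?_⟩
      rw [pow_one]
      show Multiplicative.ofAdd (p • Multiplicative.toAdd g) = 1
      have : p • Multiplicative.toAdd g = 0 := by
        have h := ZMod.natCast_self p
        rw [← Nat.cast_smul_eq_nsmul (ZMod p), h, zero_smul]
      rw [this]
      rfl
    obtain ⟨n, hn⟩ := IsPGroup.iff_card.mp hVp
    have hn' : Nat.card V = p ^ n := by
      rw [← hn]
      exact Nat.card_congr Multiplicative.ofAdd
    have hodd : Odd (p ^ n) := (hp.odd_of_ne_two hp2).pow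
    rw [hHcard, hn']
    exact Nat.Odd.sub_odd hodd odd_one
  -- the centralizer
  set C : Subgroup H := Subgroup.centralizer (A : Set H) with hCdef
  have hCn : C.Normal := Subgroup.normal_centralizer
  -- the algebra generated by `A`
  set S : Set (Module.End (ZMod p) V) := {L | ∃ a ∈ A, toEnd a = L} with hS
  set 𝔸 := Algebra.adjoin (ZMod p) S with h𝔸
  have hSS : ∀ L ∈ S, ∀ L' ∈ S, Commute L L' := by
    rintro L ⟨a, ha, rfl⟩ L' ⟨a', ha', rfl⟩
    obtain ⟨g, hg⟩ := hAc.exists_generator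
    obtain ⟨i, hi⟩ := Subgroup.mem_zpowers_iff.mp (hg ⟨a, ha⟩)
    obtain ⟨j, hj⟩ := Subgroup.mem_zpowers_iff.mp (hg ⟨a', ha'⟩)
    have haa : a * a' = a' * a := by
      have h1 : (⟨a, ha⟩ : A) * ⟨a', ha'⟩ = ⟨a', ha'⟩ * ⟨a, ha⟩ := by
        rw [← hi, ← hj, ← zpow_add, ← zpow_add, add_comm]
      exact congrArg Subtype.val h1
    show toEnd a * toEnd a' = toEnd a' * toEnd a
    rw [← toEnd_mul, ← toEnd_mul, haa]
  have h𝔸comm : ∀ L ∈ 𝔸, ∀ L' ∈ 𝔸, Commute L L' := by
    intro L hL L' hL'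
    apply Algebra.commute_of_mem_adjoin_of_forall_mem_commute hL'
    intro b hb
    apply Commute.symm
    apply Algebra.commute_of_mem_adjoin_of_forall_mem_commute hL
    intro b' hb'
    exact hSS b hb b' hb'
  have hC𝔸 : ∀ c ∈ C, ∀ L ∈ 𝔸, Commute (toEnd c) L := by
    intro c hc L hL
    apply Algebra.commute_of_mem_adjoin_of_forall_mem_commute hL
    rintro b ⟨a, ha, rfl⟩
    show toEnd c * toEnd a = toEnd a * toEnd c
    rw [← toEnd_mul, ← toEnd_mul, (Subgroup.mem_centralizer_iff.mp hc) a ha]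
  -- a non-zero vector; every vector is `L v₀` with `L ∈ 𝔸`
  obtain ⟨v₀, hv₀⟩ := exists_ne (0 : V)
  let W : Submodule (ZMod p) V :=
    { carrier := {w | ∃ L ∈ 𝔸, L v₀ = w}
      zero_mem' := ⟨0, Subalgebra.zero_mem _, rfl⟩
      add_mem' := by
        rintro _ _ ⟨L, hL, rfl⟩ ⟨L', hL', rfl⟩
        exact ⟨L + L', Subalgebra.add_mem _ hL hL', rfl⟩
      smul_mem' := by
        rintro r _ ⟨L, hL, rfl⟩
        exact ⟨r • L, Subalgebra.smul_mem _ hL r, rfl⟩ }
  have hWtop : W = ⊤ := by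
    have hinv : ∀ a ∈ A, ∀ v ∈ W, ((a : H) : V ≃ₗ[ZMod p] V) v ∈ W := by
      rintro a ha _ ⟨L, hL, rfl⟩
      refine ⟨toEnd a * L, Subalgebra.mul_mem _ (Algebra.subset_adjoin ⟨a, ha, rfl⟩) hL, rfl⟩
    rcases hirr W hinv with h | h
    · exfalso
      have : v₀ ∈ W := ⟨1, Subalgebra.one_mem _, rfl⟩
      rw [h, Submodule.mem_bot] at this
      exact hv₀ this
    · exact h
  have hrep : ∀ w : V, ∃ L ∈ 𝔸, L v₀ = w := by
    intro w
    have : w ∈ W := by rw [hWtop]; trivial
    exact this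
  -- `C` is commutative
  have hCcomm : ∀ c₁ ∈ C, ∀ c₂ ∈ C, c₁ * c₂ = c₂ * c₁ := by
    intro c₁ hc₁ c₂ hc₂
    obtain ⟨L₁, hL₁, h1⟩ := hrep ((c₁ : V ≃ₗ[ZMod p] V) v₀)
    obtain ⟨L₂, hL₂, h2⟩ := hrep ((c₂ : V ≃ₗ[ZMod p] V) v₀)
    have e1 : (c₁ : V ≃ₗ[ZMod p] V) ((c₂ : V ≃ₗ[ZMod p] V) v₀) = L₂ (L₁ v₀) := by
      rw [← h2, ← toEnd_apply c₁, ← Module.End.mul_apply, (hC𝔸 c₁ hc₁ L₂ hL₂).eq,
        Module.End.mul_apply, toEnd_apply, h1]
    have e2 : (c₂ : V ≃ₗ[ZMod p] V) ((c₁ : V ≃ₗ[ZMod p] V) v₀) = L₂ (L₁ v₀) := by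
      rw [← h1, ← toEnd_apply c₂, ← Module.End.mul_apply, (hC𝔸 c₂ hc₂ L₁ hL₁).eq,
        Module.End.mul_apply, toEnd_apply, ← h2, ← Module.End.mul_apply,
        (h𝔸comm L₁ hL₁ L₂ hL₂).eq, Module.End.mul_apply]
    have h3 : (c₂ * c₁)⁻¹ * (c₁ * c₂) = 1 := by
      apply hfree _ v₀ hv₀
      show ((c₂ * c₁)⁻¹ : H).1 ((c₁ : V ≃ₗ[ZMod p] V) ((c₂ : V ≃ₗ[ZMod p] V) v₀)) = v₀
      rw [e1, ← e2]
      show ((c₂ * c₁)⁻¹ : H).1 (((c₂ * c₁ : H) : V ≃ₗ[ZMod p] V) v₀) = v₀
      have : (((c₂ * c₁)⁻¹ * (c₂ * c₁) : H) : V ≃ₗ[ZMod p] V) v₀ = v₀ := by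
        rw [inv_mul_cancel]; rfl
      exact this
    exact (inv_mul_eq_one.mp h3).symm
  have hCmc : IsMulCommutative C := ⟨⟨fun a b => Subtype.ext (hCcomm a a.2 b b.2)⟩⟩
  have hCcyc : IsCyclic C := Cfsg.Agent.S0684.isCyclic_of_fpf H C hfree
  -- `H / C` is abelian
  have hab : ∀ x y : H, (y * x)⁻¹ * (x * y) ∈ C := by
    intro x y
    obtain ⟨g, hg⟩ := hAc.exists_generator
    have hconj : ∀ z : H, ∃ k : ℤ, z * (g : H) * z⁻¹ = (g : H) ^ k := by
      intro z
      have hz : z * (g : H) * z⁻¹ ∈ A := hAn.conj_mem _ g.2 z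
      obtain ⟨k, hk⟩ := Subgroup.mem_zpowers_iff.mp (hg ⟨_, hz⟩)
      refine ⟨k, ?_⟩
      have := congrArg Subtype.val hk
      simpa using this.symm
    obtain ⟨k, hk⟩ := hconj x
    obtain ⟨l, hl⟩ := hconj y
    have hxy : (x * y) * (g : H) * (x * y)⁻¹ = (g : H) ^ (k * l) := by
      have : (x * y) * (g : H) * (x * y)⁻¹ = x * (y * (g : H) * y⁻¹) * x⁻¹ := by group
      rw [this, hl, ← conj_zpow, hk, ← zpow_mul]
    have hyx : (y * x) * (g : H) * (y * x)⁻¹ = (g : H) ^ (k * l) := by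
      have : (y * x) * (g : H) * (y * x)⁻¹ = y * (x * (g : H) * x⁻¹) * y⁻¹ := by group
      rw [this, hk, ← conj_zpow, hl, ← zpow_mul, mul_comm]
    have hz : ((y * x)⁻¹ * (x * y)) * (g : H) = (g : H) * ((y * x)⁻¹ * (x * y)) := by
      have h1 : (x * y) * (g : H) = (g : H) ^ (k * l) * (x * y) := by
        rw [← hxy]; group
      have h2 : (y * x) * (g : H) = (g : H) ^ (k * l) * (y * x) := by
        rw [← hyx]; group
      have h3 : (y * x)⁻¹ * (g : H) ^ (k * l) = (g : H) * (y * x)⁻¹ := by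
        rw [inv_mul_eq_iff_eq_mul, ← mul_assoc, h2, mul_inv_cancel_right]
      rw [mul_assoc, h1, ← mul_assoc, h3, mul_assoc]
    rw [hCdef, Subgroup.mem_centralizer_iff]
    intro a ha
    obtain ⟨i, hi⟩ := Subgroup.mem_zpowers_iff.mp (hg ⟨a, ha⟩)
    have hai : a = (g : H) ^ i := by
      have := congrArg Subtype.val hi
      simpa using this.symm
    rw [hai]
    exact ((Commute.zpow_right (show Commute ((y * x)⁻¹ * (x * y)) (g : H) from hz) i).eq).symm
  exact exists_index_two_of_cyclic_normal C hCcyc hab heven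

/-- **Main lemma**: a regular linear group over `ZMod p`, `p` odd, with at most one subgroup of
order three has a subgroup of index two (S0689 is taken as the hypothesis `h689`). -/
theorem exists_index_two [Nontrivial V] (hp2 : p ≠ 2) (H : Subgroup (V ≃ₗ[ZMod p] V))
    (hreg : ∀ v w : V, v ≠ 0 → w ≠ 0 → ∃! h : H, (h : V ≃ₗ[ZMod p] V) v = w)
    (hU3 : ∀ A B : Subgroup H, Nat.card A = 3 → Nat.card B = 3 → A = B)
    (h689 : ¬ Group.IsSolvable H →
      (Nat.card V = 121 ∧ Nonempty (H ≃* SL25)) ∨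
      (Nat.card V = 841 ∧ Nonempty (H ≃* SL25 × Multiplicative (ZMod 7))) ∨
      (Nat.card V = 3481 ∧ Nonempty (H ≃* SL25 × Multiplicative (ZMod 29)))) :
    ∃ M : Subgroup H, M.index = 2 := by
  have hfinGL : Finite (V ≃ₗ[ZMod p] V) :=
    Finite.of_injective (fun e : V ≃ₗ[ZMod p] V => (e : V → V)) DFunLike.coe_injective
  by_cases hsolv : Group.IsSolvable H
  · by_cases hI : ∀ A : Subgroup H, A.Normal → IsCyclic A → ∃ W : Submodule (ZMod p) V,
        W ≠ ⊥ ∧ W ≠ ⊤ ∧ ∀ a ∈ A, ∀ v ∈ W, ((a : H) : V ≃ₗ[ZMod p] V) v ∈ W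
    · have hV := Cfsg.Agent.S0688.result H hreg hI hsolv
      have hHcard := card_of_reg H hreg
      apply exists_index_two_of_small _ hU3
      rcases hV with h | h | h | h <;> rw [hHcard, h] <;> simp
    · push Not at hI
      obtain ⟨A, hAn, hAc, hA⟩ := hI
      apply exists_index_two_of_irreducible hp2 H hreg A hAn hAc
      intro W hW
      by_contra hcon
      push Not at hcon
      obtain ⟨a, ha, v, hv, hav⟩ := hA W hcon.1 hcon.2
      exact hav (hW a ha v hv)
  · exfalso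
    rcases h689 hsolv with ⟨-, ⟨e⟩⟩ | ⟨-, ⟨e⟩⟩ | ⟨-, ⟨e⟩⟩
    · obtain ⟨A, B, hA, hB, hne⟩ :=
        two_subgroups_of_order_three e.symm.toMonoidHom e.symm.injective
      exact hne (hU3 A B hA hB)
    · obtain ⟨A, B, hA, hB, hne⟩ :=
        two_subgroups_of_order_three
          (e.symm.toMonoidHom.comp (MonoidHom.inl SL25 (Multiplicative (ZMod 7))))
          (e.symm.injective.comp (Prod.mk_left_injective 1))
      exact hne (hU3 A B hA hB)
    · obtain ⟨A, B, hA, hB, hne⟩ :=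
        two_subgroups_of_order_three
          (e.symm.toMonoidHom.comp (MonoidHom.inl SL25 (Multiplicative (ZMod 29))))
          (e.symm.injective.comp (Prod.mk_left_injective 1))
      exact hne (hU3 A B hA hB)

/-- **Bridge**: a group `K` acting regularly on the non-zero elements of a finite elementary
abelian `p`-group `β` (`p` odd) by additive permutations, with at most one subgroup of order
three, has a subgroup of index two. -/
theorem exists_index_two_of_action {β : Type*} [AddCommGroup β] [Finite β] [Nontrivial β]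
    {p : ℕ} [Fact p.Prime] [Module (ZMod p) β] (hp2 : p ≠ 2)
    {K : Type*} [Group K] (ρ : K →* Equiv.Perm β)
    (hadd : ∀ k x y, ρ k (x + y) = ρ k x + ρ k y)
    (hreg : ∀ v w : β, v ≠ 0 → w ≠ 0 → ∃! k : K, ρ k v = w)
    (hU3 : ∀ A B : Subgroup K, Nat.card A = 3 → Nat.card B = 3 → A = B)
    (h689 : ∀ H : Subgroup (β ≃ₗ[ZMod p] β),
      (∀ v w : β, v ≠ 0 → w ≠ 0 → ∃! h : H, (h : β ≃ₗ[ZMod p] β) v = w) →
      ¬ Group.IsSolvable H →
      (Nat.card β = 121 ∧ Nonempty (H ≃* SL25)) ∨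
      (Nat.card β = 841 ∧ Nonempty (H ≃* SL25 × Multiplicative (ZMod 7))) ∨
      (Nat.card β = 3481 ∧ Nonempty (H ≃* SL25 × Multiplicative (ZMod 29)))) :
    ∃ M : Subgroup K, M.index = 2 := by
  -- the linear maps
  let am : K → (β →+ β) := fun k => AddMonoidHom.mk' (ρ k) (hadd k)
  let lin : K → (β ≃ₗ[ZMod p] β) := fun k =>
    { toFun := ρ k
      map_add' := hadd k
      map_smul' := fun c x => ZMod.map_smul (am k) c x
      invFun := (ρ k).symm
      left_inv := (ρ k).left_inv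
      right_inv := (ρ k).right_inv }
  have hlin : ∀ k x, lin k x = ρ k x := fun k x => rfl
  let φ : K →* (β ≃ₗ[ZMod p] β) :=
    { toFun := lin
      map_one' := by
        apply LinearEquiv.ext
        intro x
        rw [hlin, map_one]
        rfl
      map_mul' := by
        intro k l
        apply LinearEquiv.ext
        intro x
        rw [hlin, map_mul]
        rfl }
  have hφ : ∀ k x, φ k x = ρ k x := fun k x => rfl
  have hinj : Function.Injective φ := by
    intro k l hkl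
    obtain ⟨v, hv⟩ := exists_ne (0 : β)
    have hlv : ρ l v ≠ 0 := by
      intro h0
      have h1 : ρ l v = ρ l 0 := by
        rw [h0]
        have := hadd l 0 0
        rw [add_zero] at this
        exact (left_eq_add.mp this).symm
      exact hv ((ρ l).injective h1)
    obtain ⟨k0, -, huniq⟩ := hreg v (ρ l v) hv hlv
    have h1 : ρ k v = ρ l v := by rw [← hφ, hkl, hφ]
    rw [huniq k h1, huniq l rfl]
  set H : Subgroup (β ≃ₗ[ZMod p] β) := φ.range with hH
  let e : K ≃* H := MonoidHom.ofInjective hinj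
  have he : ∀ k x, ((e k : H) : β ≃ₗ[ZMod p] β) x = ρ k x := fun k x => rfl
  have hregH : ∀ v w : β, v ≠ 0 → w ≠ 0 → ∃! h : H, (h : β ≃ₗ[ZMod p] β) v = w := by
    intro v w hv hw
    obtain ⟨k, hk, huniq⟩ := hreg v w hv hw
    refine ⟨e k, hk, ?_⟩
    intro h hh
    obtain ⟨k', rfl⟩ := e.surjective h
    rw [huniq k' hh]
  have hU3H : ∀ A B : Subgroup H, Nat.card A = 3 → Nat.card B = 3 → A = B := by
    intro A B hA hB
    have h1 : Nat.card (A.map e.symm.toMonoidHom) = 3 := by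
      rw [Subgroup.card_map_of_injective e.symm.injective, hA]
    have h2 : Nat.card (B.map e.symm.toMonoidHom) = 3 := by
      rw [Subgroup.card_map_of_injective e.symm.injective, hB]
    exact Subgroup.map_injective e.symm.injective (hU3 _ _ h1 h2)
  have := exists_index_two hp2 H hregH hU3H (h689 H hregH)
  exact exists_index_two_of_surjective e.toMonoidHom e.surjective this

end linear

end Cfsg.Agent.Lib.Helper65.RegLin
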