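import Mathlib

/-!
# Pure group-theoretic lemmas for Bender–Glauberman Theorem 14.6, step (6)   (helper65)
-/

set_option autoImplicit false

namespace Cfsg.Agent.Lib.Helper65.BGSix

universe u

variable {G : Type u} [Group G]

/-- If `k a k⁻¹ = b a` and `k b k⁻¹ = b`, then `k ^ j a k ^ (-j) = b ^ j a`. -/
theorem conj_pow_eq_of_comm {k a b : G} (hab : k * a * k⁻¹ = b * a) (hb : k * b * k⁻¹ = b) (j : ℕ) :
    k ^ j * a * (k ^ j)⁻¹ = b ^ j * a := by
  induction j with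
  | zero => simp
  | succ j ih =>
    have h1 : k ^ (j + 1) * a * (k ^ (j + 1))⁻¹ = k * (k ^ j * a * (k ^ j)⁻¹) * k⁻¹ := by
      rw [pow_succ']; group
    rw [h1, ih]
    have h2 : k * (b ^ j * a) * k⁻¹ = (k * b * k⁻¹) ^ j * (k * a * k⁻¹) := by
      rw [conj_pow]; group
    rw [h2, hb, hab, pow_succ, mul_assoc]

/-- **(P3a)** if `b` with `k a k⁻¹ = b a` commutes with `k`, `b ^ q = 1`, `k ^ p = 1`,
`p`, `q` coprime, then `b = 1`. -/
theorem eq_one_of_conj_eq_mul {k a b : G} {p q : ℕ} (hpq : Nat.Coprime p q) (hk : k ^ p = 1)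
    (hbq : b ^ q = 1) (hab : k * a * k⁻¹ = b * a) (hb : k * b * k⁻¹ = b) : b = 1 := by
  have h := conj_pow_eq_of_comm hab hb p
  rw [hk] at h
  have hbp : b ^ p = 1 := by
    have : a = b ^ p * a := by simpa using h
    exact (mul_eq_right.mp this.symm)
  have h1 : orderOf b ∣ p := orderOf_dvd_of_pow_eq_one hbp
  have h2 : orderOf b ∣ q := orderOf_dvd_of_pow_eq_one hbq
  have h3 : orderOf b ∣ 1 := by
    have := Nat.dvd_gcd h1 h2
    rwa [hpq] at this
  exact orderOf_eq_one_iff.mp (Nat.dvd_one.mp h3)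

/-- **(P1)** If `K ≤ E` has prime order `p`, `E'` centralizes `K` and `p ∤ |E'|`, then `E` centralizes
`K`. -/
theorem le_centralizer_of_commutator_le [Finite G] (E K : Subgroup G) (p : ℕ) [hp : Fact p.Prime]
    (hKE : K ≤ E) (hK : Nat.card K = p)
    (hc : ⁅E, E⁆ ≤ Subgroup.centralizer (K : Set G)) (hpd : ¬ p ∣ Nat.card ↥⁅E, E⁆) :
    E ≤ Subgroup.centralizer (K : Set G) := by
  intro e he
  rw [Subgroup.mem_centralizer_iff]
  intro k hk
  -- `a = [e, k] ∈ E'`
  set a := e * k * e⁻¹ * k⁻¹ with ha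
  have haE : a ∈ ⁅E, E⁆ := by
    have := Subgroup.commutator_mem_commutator he (hKE hk)
    simpa [commutatorElement_def, ha] using this
  have hak : k * a = a * k := ((Subgroup.mem_centralizer_iff.mp (hc haE)) k hk)
  have hkp : k ^ p = 1 := by
    have := pow_card_eq_one' (G := K) (x := ⟨k, hk⟩)
    rw [hK] at this
    exact congrArg Subtype.val this
  have h1 : e * k * e⁻¹ = a * k := by rw [ha]; group
  have h2 : (a * k) ^ p = a ^ p * k ^ p := (Commute.mul_pow (show Commute a k from hak.symm) p)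
  have h3 : (e * k * e⁻¹) ^ p = 1 := by rw [conj_pow, hkp]; group
  have hap : a ^ p = 1 := by
    rw [h1, h2, hkp, mul_one] at h3
    exact h3
  have ho : orderOf a ∣ p := orderOf_dvd_of_pow_eq_one hap
  have ho2 : orderOf a ∣ Nat.card ↥⁅E, E⁆ := by
    have := orderOf_dvd_natCard (⟨a, haE⟩ : ↥⁅E, E⁆)
    rwa [Subgroup.orderOf_mk] at this
  have ha1 : a = 1 := by
    rcases (Nat.dvd_prime hp.out).mp ho with h | h
    · exact orderOf_eq_one_iff.mp h
    · exact absurd (h ▸ ho2) hpd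
  have : e * k * e⁻¹ = k := by rw [h1, ha1, one_mul]
  calc k * e = (e * k * e⁻¹) * e := by rw [this]
    _ = e * k := by group


theorem pow_card_eq_one_of_mem [Finite G] {K : Subgroup G} {p : ℕ} (hK : Nat.card K = p) {k : G}
    (hk : k ∈ K) : k ^ p = 1 := by
  have := pow_card_eq_one' (G := K) (x := ⟨k, hk⟩)
  rw [hK] at this
  exact congrArg Subtype.val this

/-- **(P2)** An abelian `p'`-group `D` normalized by `K` of prime order `p`, all of whose elements of
prime order are centralized by `K`, is centralized by `K`. -/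
theorem le_centralizer_of_prime_order [Finite G] (D K : Subgroup G) (p : ℕ) [hp : Fact p.Prime]
    (hD : ∀ x ∈ D, ∀ y ∈ D, x * y = y * x) (hKD : K ≤ Subgroup.normalizer (D : Set G))
    (hK : Nat.card K = p) (hpd : ¬ p ∣ Nat.card D)
    (h : ∀ d ∈ D, (orderOf d).Prime → d ∈ Subgroup.centralizer (K : Set G)) :
    D ≤ Subgroup.centralizer (K : Set G) := by
  have key : ∀ n : ℕ, ∀ d ∈ D, orderOf d = n → d ∈ Subgroup.centralizer (K : Set G) := by
    intro n
    induction n using Nat.strong_induction_on with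
    | _ n ih =>
      intro d hd hn
      by_cases hn1 : n = 1
      · rw [hn1] at hn
        rw [orderOf_eq_one_iff.mp hn]
        exact Subgroup.one_mem _
      obtain ⟨t, ht, htn⟩ := Nat.exists_prime_and_dvd hn1
      have hnpos : 0 < n := hn ▸ orderOf_pos d
      have hdt : d ^ t ∈ Subgroup.centralizer (K : Set G) := by
        apply ih (n / t) (Nat.div_lt_self hnpos ht.one_lt) (d ^ t) (D.pow_mem hd t)
        rw [orderOf_pow_of_dvd ht.ne_zero (hn ▸ htn), hn]
      have htD : t ∣ Nat.card D := by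
        have h1 : orderOf d ∣ Nat.card D := by
          have := orderOf_dvd_natCard (⟨d, hd⟩ : D)
          rwa [Subgroup.orderOf_mk] at this
        exact (hn ▸ htn).trans h1
      have hpt : Nat.Coprime p t := by
        rw [Nat.coprime_primes hp.out ht]
        intro hh
        exact hpd (hh ▸ htD)
      rw [Subgroup.mem_centralizer_iff]
      intro k hk
      have hkN := hKD hk
      have hkd : k * d * k⁻¹ ∈ D := (Subgroup.mem_normalizer_iff.mp hkN d).mp hd
      set e := k * d * k⁻¹ * d⁻¹ with he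
      have heD : e ∈ D := D.mul_mem hkd (D.inv_mem hd)
      have hkdt : k * d ^ t * k⁻¹ = d ^ t := by
        have := (Subgroup.mem_centralizer_iff.mp hdt) k hk
        rw [this]; group
      have het : e ^ t = 1 := by
        have hc : Commute (k * d * k⁻¹) d⁻¹ := hD _ hkd _ (D.inv_mem hd)
        rw [he, hc.mul_pow, conj_pow, hkdt, inv_pow, mul_inv_cancel]
      have heC : e ∈ Subgroup.centralizer (K : Set G) := by
        by_cases he1 : e = 1
        · rw [he1]; exact Subgroup.one_mem _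
        · apply h e heD
          have h1 : orderOf e ∣ t := orderOf_dvd_of_pow_eq_one het
          rcases (Nat.dvd_prime ht).mp h1 with h2 | h2
          · exact absurd (orderOf_eq_one_iff.mp h2) he1
          · rw [h2]; exact ht
      have hke : k * e * k⁻¹ = e := by
        have := (Subgroup.mem_centralizer_iff.mp heC) k hk
        rw [this]; group
      have hab : k * d * k⁻¹ = e * d := by rw [he]; group
      have he1 : e = 1 :=
        eq_one_of_conj_eq_mul hpt (pow_card_eq_one_of_mem hK hk) het hab hke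
      rw [he1, one_mul] at hab
      calc k * d = (k * d * k⁻¹) * k := by group
        _ = d * k := by rw [hab]
  intro d hd
  exact key _ d hd rfl

/-- **(P3)** An abelian group `A` of exponent `q` normalized but not centralized by `K` of prime order
`p ≠ q` contains a nontrivial `K`-invariant subgroup on which `K` has no nontrivial fixed point. -/
theorem exists_fpf_subgroup [Finite G] (A K : Subgroup G) (p q : ℕ) [hp : Fact p.Prime]
    [hq : Fact q.Prime] (hpq : p ≠ q)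
    (hAc : ∀ x ∈ A, ∀ y ∈ A, x * y = y * x) (hAq : ∀ a ∈ A, a ^ q = 1)
    (hKA : K ≤ Subgroup.normalizer (A : Set G)) (hK : Nat.card K = p)
    (hAK : ¬ A ≤ Subgroup.centralizer (K : Set G)) :
    ∃ B : Subgroup G, B ≤ A ∧ B ≠ ⊥ ∧ K ≤ Subgroup.normalizer (B : Set G) ∧
      B ⊓ Subgroup.centralizer (K : Set G) = ⊥ := by
  have hKcyc : IsCyclic K := isCyclic_of_prime_card hK
  have hKcomm : ∀ x ∈ K, ∀ y ∈ K, x * y = y * x := by
    intro x hx y hy
    have := (IsCyclic.commGroup (α := K)).mul_comm ⟨x, hx⟩ ⟨y, hy⟩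
    exact congrArg Subtype.val this
  obtain ⟨a, haA, haK⟩ := SetLike.not_le_iff_exists.mp hAK
  rw [Subgroup.mem_centralizer_iff] at haK
  push Not at haK
  obtain ⟨k, hk, hka⟩ := haK
  have hconj : ∀ k' ∈ K, ∀ x ∈ A, k' * x * k'⁻¹ ∈ A := fun k' hk' x hx =>
    (Subgroup.mem_normalizer_iff.mp (hKA hk') x).mp hx
  let θ : ↥A →* G := MonoidHom.mk' (fun x => k * (x : G) * k⁻¹ * (x : G)⁻¹) (by
    intro x y
    have h2 := hconj k hk y y.2
    have hu : k * (y : G) * k⁻¹ * (y : G)⁻¹ ∈ A := A.mul_mem h2 (A.inv_mem y.2)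
    have hc : (k * (y : G) * k⁻¹ * (y : G)⁻¹) * (x : G)⁻¹ =
        (x : G)⁻¹ * (k * (y : G) * k⁻¹ * (y : G)⁻¹) := hAc _ hu _ (A.inv_mem x.2)
    show k * ((x : G) * (y : G)) * k⁻¹ * ((x : G) * (y : G))⁻¹ =
      k * (x : G) * k⁻¹ * (x : G)⁻¹ * (k * (y : G) * k⁻¹ * (y : G)⁻¹)
    calc k * ((x : G) * (y : G)) * k⁻¹ * ((x : G) * (y : G))⁻¹
        = k * (x : G) * k⁻¹ * ((k * (y : G) * k⁻¹ * (y : G)⁻¹) * (x : G)⁻¹) := by group
      _ = k * (x : G) * k⁻¹ * ((x : G)⁻¹ * (k * (y : G) * k⁻¹ * (y : G)⁻¹)) := by rw [hc]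
      _ = _ := by group)
  have hθ : ∀ x : ↥A, θ x = k * (x : G) * k⁻¹ * (x : G)⁻¹ := fun x => rfl
  refine ⟨θ.range, ?_, ?_, ?_, ?_⟩
  · rintro y ⟨x, rfl⟩
    rw [hθ]
    exact A.mul_mem (hconj k hk x x.2) (A.inv_mem x.2)
  · intro hbot
    have : θ ⟨a, haA⟩ ∈ θ.range := ⟨_, rfl⟩
    rw [hbot, Subgroup.mem_bot, hθ] at this
    apply hka
    have h1 : k * a * k⁻¹ = a := by
      have : k * a * k⁻¹ * a⁻¹ = 1 := this
      calc k * a * k⁻¹ = (k * a * k⁻¹ * a⁻¹) * a := by group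
        _ = a := by rw [this, one_mul]
    calc k * a = (k * a * k⁻¹) * k := by group
      _ = a * k := by rw [h1]
  · have hfwd : ∀ k' ∈ K, ∀ y ∈ θ.range, k' * y * k'⁻¹ ∈ θ.range := by
      rintro k' hk' y ⟨x, rfl⟩
      refine ⟨⟨k' * (x : G) * k'⁻¹, hconj k' hk' x x.2⟩, ?_⟩
      rw [hθ, hθ]
      have hkk : k' * k = k * k' := hKcomm k' hk' k hk
      show k * (k' * (x : G) * k'⁻¹) * k⁻¹ * (k' * (x : G) * k'⁻¹)⁻¹ =
        k' * (k * (x : G) * k⁻¹ * (x : G)⁻¹) * k'⁻¹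
      calc k * (k' * (x : G) * k'⁻¹) * k⁻¹ * (k' * (x : G) * k'⁻¹)⁻¹
          = (k * k') * (x : G) * (k * k')⁻¹ * k' * (x : G)⁻¹ * k'⁻¹ := by group
        _ = (k' * k) * (x : G) * (k' * k)⁻¹ * k' * (x : G)⁻¹ * k'⁻¹ := by rw [hkk]
        _ = _ := by group
    intro k' hk'
    rw [Subgroup.mem_normalizer_iff]
    intro y
    constructor
    · exact hfwd k' hk' y
    · intro hy
      have := hfwd k'⁻¹ (K.inv_mem hk') _ hy
      have h3 : k'⁻¹ * (k' * y * k'⁻¹) * k'⁻¹⁻¹ = y := by group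
      rwa [h3] at this
  · rw [eq_bot_iff]
    rintro y ⟨⟨x, rfl⟩, hyC⟩
    rw [Subgroup.mem_bot]
    have hyA : θ x ∈ A := by
      rw [hθ]; exact A.mul_mem (hconj k hk x x.2) (A.inv_mem x.2)
    have hcomm : k * θ x * k⁻¹ = θ x := by
      have := (Subgroup.mem_centralizer_iff.mp hyC) k hk
      rw [this]; group
    have hab : k * (x : G) * k⁻¹ = θ x * (x : G) := by rw [hθ]; group
    exact eq_one_of_conj_eq_mul ((Nat.coprime_primes hp.out hq.out).mpr hpq)
      (pow_card_eq_one_of_mem hK hk) (hAq _ hyA) hab hcomm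


/-- **(P5)** the automorphism group of a group of prime order is abelian: commutators of elements of
`N(W)` centralize `W` when `|W|` is prime. -/
theorem commutator_mem_centralizer_of_prime_card [Finite G] {W : Subgroup G} {q : ℕ}
    (hq : q.Prime) (hW : Nat.card W = q) {g h : G}
    (hg : g ∈ Subgroup.normalizer (W : Set G)) (hh : h ∈ Subgroup.normalizer (W : Set G)) :
    g * h * g⁻¹ * h⁻¹ ∈ Subgroup.centralizer (W : Set G) := by
  have : Fact q.Prime := ⟨hq⟩
  -- a generator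
  obtain ⟨w₀, hw₀W, hw₀1⟩ : ∃ w₀ ∈ W, w₀ ≠ 1 := by
    by_contra hcon
    push Not at hcon
    have : W = ⊥ := by
      rw [eq_bot_iff]; intro x hx; rw [Subgroup.mem_bot]; exact hcon x hx
    rw [this, Subgroup.card_bot] at hW
    exact hq.one_lt.ne hW
  have hgen : ∀ w ∈ W, ∃ j : ℤ, w = w₀ ^ j := by
    intro w hw
    have h1 : Subgroup.zpowers (⟨w₀, hw₀W⟩ : W) = ⊤ := by
      apply zpowers_eq_top_of_prime_card (p := q) hW
      intro h; apply hw₀1; exact congrArg Subtype.val h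
    have h2 : (⟨w, hw⟩ : W) ∈ Subgroup.zpowers (⟨w₀, hw₀W⟩ : W) := by rw [h1]; trivial
    obtain ⟨j, hj⟩ := Subgroup.mem_zpowers_iff.mp h2
    refine ⟨j, ?_⟩
    have := congrArg Subtype.val hj
    simpa using this.symm
  -- conjugation by `x ∈ N(W)` is a power map on `W`
  have hpow : ∀ x ∈ Subgroup.normalizer (W : Set G), ∃ n : ℤ, ∀ w ∈ W, x * w * x⁻¹ = w ^ n := by
    intro x hx
    have h1 : x * w₀ * x⁻¹ ∈ W := (Subgroup.mem_normalizer_iff.mp hx w₀).mp hw₀W
    obtain ⟨n, hn⟩ := hgen _ h1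
    refine ⟨n, ?_⟩
    intro w hw
    obtain ⟨j, rfl⟩ := hgen w hw
    have e1 : x * w₀ ^ j * x⁻¹ = (x * w₀ * x⁻¹) ^ j := (conj_zpow).symm
    rw [e1, hn, ← zpow_mul, ← zpow_mul, mul_comm]
  -- conjugations by elements of `N(W)` commute on `W`
  have hcomm : ∀ x ∈ Subgroup.normalizer (W : Set G), ∀ y ∈ Subgroup.normalizer (W : Set G),
      ∀ w ∈ W, x * (y * w * y⁻¹) * x⁻¹ = y * (x * w * x⁻¹) * y⁻¹ := by
    intro x hx y hy w hw
    obtain ⟨n, hn⟩ := hpow x hx
    obtain ⟨m, hm⟩ := hpow y hy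
    have h1 : y * w * y⁻¹ ∈ W := (Subgroup.mem_normalizer_iff.mp hy w).mp hw
    have h2 : x * w * x⁻¹ ∈ W := (Subgroup.mem_normalizer_iff.mp hx w).mp hw
    rw [hn _ h1, hm w hw, hm _ h2, hn w hw, ← zpow_mul, ← zpow_mul, mul_comm]
  rw [Subgroup.mem_centralizer_iff]
  intro w hw
  have hgi := Subgroup.inv_mem _ hg
  have hhi := Subgroup.inv_mem _ hh
  have h1 : h⁻¹ * w * h⁻¹⁻¹ ∈ W := (Subgroup.mem_normalizer_iff.mp hhi w).mp hw
  have h2 : g⁻¹ * (h⁻¹ * w * h⁻¹⁻¹) * g⁻¹⁻¹ ∈ W := (Subgroup.mem_normalizer_iff.mp hgi _).mp h1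
  -- `[g,h] w [g,h]⁻¹ = g h g⁻¹ h⁻¹ w h g h⁻¹ g⁻¹ = w`
  have key : (g * h * g⁻¹ * h⁻¹) * w * (g * h * g⁻¹ * h⁻¹)⁻¹ = w := by
    have e1 : (g * h * g⁻¹ * h⁻¹) * w * (g * h * g⁻¹ * h⁻¹)⁻¹ =
        g * (h * (g⁻¹ * (h⁻¹ * w * h⁻¹⁻¹) * g⁻¹⁻¹) * h⁻¹) * g⁻¹ := by group
    rw [e1, hcomm h hh g⁻¹ hgi _ h1]
    have e2 : h * (h⁻¹ * w * h⁻¹⁻¹) * h⁻¹ = w := by group
    rw [e2]; group
  calc w * (g * h * g⁻¹ * h⁻¹)
      = ((g * h * g⁻¹ * h⁻¹) * w * (g * h * g⁻¹ * h⁻¹)⁻¹) * (g * h * g⁻¹ * h⁻¹) := by rw [key]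
    _ = (g * h * g⁻¹ * h⁻¹) * w := by group

/-! ### `Ω₁(Z(T))` -/

/-- `Ω₁(Z(T))` for a subgroup `T` and a number `q`: the elements of `T` of order dividing `q` that
commute with every element of `T`. -/
def omegaCenter (T : Subgroup G) (q : ℕ) : Subgroup G where
  carrier := {x | x ∈ T ∧ (∀ t ∈ T, t * x = x * t) ∧ x ^ q = 1}
  one_mem' := ⟨T.one_mem, fun t _ => by simp, one_pow q⟩
  mul_mem' := by
    rintro a b ⟨haT, hac, haq⟩ ⟨hbT, hbc, hbq⟩
    refine ⟨T.mul_mem haT hbT, ?_, ?_⟩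
    · intro t ht
      calc t * (a * b) = (t * a) * b := by group
        _ = a * (t * b) := by rw [hac t ht]; group
        _ = a * b * t := by rw [hbc t ht]; group
    · have hab : Commute a b := hbc a haT
      rw [hab.mul_pow, haq, hbq, one_mul]
  inv_mem' := by
    rintro a ⟨haT, hac, haq⟩
    refine ⟨T.inv_mem haT, ?_, by rw [inv_pow, haq, inv_one]⟩
    intro t ht
    have := hac t ht
    calc t * a⁻¹ = a⁻¹ * (a * t) * a⁻¹ := by group
      _ = a⁻¹ * (t * a) * a⁻¹ := by rw [this]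
      _ = a⁻¹ * t := by group

theorem mem_omegaCenter {T : Subgroup G} {q : ℕ} {x : G} :
    x ∈ omegaCenter T q ↔ x ∈ T ∧ (∀ t ∈ T, t * x = x * t) ∧ x ^ q = 1 := Iff.rfl

theorem omegaCenter_le (T : Subgroup G) (q : ℕ) : omegaCenter T q ≤ T := fun _ hx => hx.1

theorem omegaCenter_le_centralizer (T : Subgroup G) (q : ℕ) :
    omegaCenter T q ≤ Subgroup.centralizer (T : Set G) := by
  intro x hx
  rw [Subgroup.mem_centralizer_iff]
  exact hx.2.1

theorem omegaCenter_comm {T : Subgroup G} {q : ℕ} {x y : G} (hx : x ∈ omegaCenter T q)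
    (hy : y ∈ omegaCenter T q) : x * y = y * x := hy.2.1 x hx.1

theorem conj_mem_omegaCenter {T : Subgroup G} {q : ℕ} {g : G}
    (hg : g ∈ Subgroup.normalizer (T : Set G)) {x : G} (hx : x ∈ omegaCenter T q) :
    g * x * g⁻¹ ∈ omegaCenter T q := by
  obtain ⟨hxT, hxc, hxq⟩ := hx
  refine ⟨(Subgroup.mem_normalizer_iff.mp hg x).mp hxT, ?_, by rw [conj_pow, hxq]; group⟩
  intro t ht
  have h1 : g⁻¹ * t * g⁻¹⁻¹ ∈ T :=
    (Subgroup.mem_normalizer_iff.mp (Subgroup.inv_mem _ hg) t).mp ht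
  have h2 := hxc _ h1
  calc t * (g * x * g⁻¹) = g * ((g⁻¹ * t * g⁻¹⁻¹) * x) * g⁻¹ := by group
    _ = g * (x * (g⁻¹ * t * g⁻¹⁻¹)) * g⁻¹ := by rw [h2]
    _ = g * x * g⁻¹ * t := by group

theorem normalizer_le_normalizer_omegaCenter (T : Subgroup G) (q : ℕ) :
    Subgroup.normalizer (T : Set G) ≤ Subgroup.normalizer (omegaCenter T q : Set G) := by
  intro g hg
  rw [Subgroup.mem_normalizer_iff]
  intro x
  constructor
  · exact conj_mem_omegaCenter hg
  · intro h
    have := conj_mem_omegaCenter (Subgroup.inv_mem _ hg) h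
    have e : g⁻¹ * (g * x * g⁻¹) * g⁻¹⁻¹ = x := by group
    rwa [e] at this

/-- `Ω₁(Z(T)) ≠ 1` for a nontrivial finite `q`-group `T`. -/
theorem omegaCenter_ne_bot [Finite G] {T : Subgroup G} {q : ℕ} [hq : Fact q.Prime]
    (hT : IsPGroup q T) (hT1 : T ≠ ⊥) : omegaCenter T q ≠ ⊥ := by
  have : Nontrivial T := (Subgroup.nontrivial_iff_ne_bot T).mpr hT1
  have hZ : Nontrivial (Subgroup.center T) := hT.center_nontrivial
  have hZp : IsPGroup q (Subgroup.center T) := hT.to_subgroup _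
  have hdvd : q ∣ Nat.card (Subgroup.center T) := by
    rcases hZp.card_eq_or_dvd with h | h
    · exact absurd h (by
        have := Finite.one_lt_card (α := Subgroup.center T)
        omega)
    · exact h
  obtain ⟨z, hz⟩ := exists_prime_orderOf_dvd_card' q hdvd
  intro hbot
  have hzmem : ((z : T) : G) ∈ omegaCenter T q := by
    refine ⟨(z : T).2, ?_, ?_⟩
    · intro t ht
      have := Subgroup.mem_center_iff.mp z.2 ⟨t, ht⟩
      exact congrArg Subtype.val this
    · have h1 : z ^ q = 1 := by rw [← hz]; exact pow_orderOf_eq_one z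
      have h2 := congrArg (fun w : Subgroup.center T => ((w : T) : G)) h1
      simpa using h2
  rw [hbot, Subgroup.mem_bot] at hzmem
  have hz1 : z = 1 := by
    apply Subtype.ext; apply Subtype.ext; simpa using hzmem
  rw [hz1, orderOf_one] at hz
  exact hq.out.one_lt.ne hz

/-- every subgroup of a cyclic subgroup `C` is normalized by `N_G(C)` -/
theorem normalizer_le_normalizer_of_le_cyclic {C K : Subgroup G} (hC : IsCyclic C) (hKC : K ≤ C) :
    Subgroup.normalizer (C : Set G) ≤ Subgroup.normalizer (K : Set G) := by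
  obtain ⟨⟨g, hgC⟩, hg⟩ := hC.exists_generator
  have hgen : ∀ c ∈ C, ∃ j : ℤ, c = g ^ j := by
    intro c hc
    obtain ⟨j, hj⟩ := Subgroup.mem_zpowers_iff.mp (hg ⟨c, hc⟩)
    refine ⟨j, ?_⟩
    have := congrArg Subtype.val hj
    simpa using this.symm
  have hfwd : ∀ e ∈ Subgroup.normalizer (C : Set G), ∀ k ∈ K, e * k * e⁻¹ ∈ K := by
    intro e he k hk
    have h1 : e * g * e⁻¹ ∈ C := (Subgroup.mem_normalizer_iff.mp he g).mp hgC
    obtain ⟨m, hm⟩ := hgen _ h1
    obtain ⟨j, hj⟩ := hgen k (hKC hk)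
    have : e * k * e⁻¹ = k ^ m := by
      rw [hj]
      have e1 : e * g ^ j * e⁻¹ = (e * g * e⁻¹) ^ j := (conj_zpow).symm
      rw [e1, hm, ← zpow_mul, ← zpow_mul, mul_comm]
    rw [this]
    exact K.zpow_mem hk m
  intro e he
  rw [Subgroup.mem_normalizer_iff]
  intro k
  constructor
  · exact hfwd e he k
  · intro h
    have := hfwd e⁻¹ (Subgroup.inv_mem _ he) _ h
    have e2 : e⁻¹ * (e * k * e⁻¹) * e⁻¹⁻¹ = k := by group
    rwa [e2] at this

end Cfsg.Agent.Lib.Helper65.BGSix
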