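import Mathlib
import Cfsg.Prelude.Def_OddOrderLocal
import Cfsg.Agent.Lib.Helper65.BGSixPure
import Cfsg.Agent.Lib.Helper54.BGFourteenThree
import Cfsg.Agent.Lib.Helper54.BGElevenA
import Cfsg.Agent.Lib.Helper55.FrobFixedPoints
import Cfsg.Agent.Lib.Helper97.BGTwelveCor
import Cfsg.Agent.S1350
import Cfsg.Agent.S1417
import Cfsg.Agent.S1418
import Cfsg.Agent.S1420
import Cfsg.Agent.S1439

/-!
# Bender–Glauberman Theorem 14.6, step (6), module 6A (pure `H`)   (helper65)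

`H` a maximal subgroup, `E` a complement of `H_σ`, `K ≤ E` of prime order `p ∈ τ₁(H)` acting without
fixed points on `H_σ ≠ 1`.  Then either `E` centralizes `K`, or there are `q ∈ τ₂(H)`, an elementary
abelian `A ≤ E` of order `q²` and `B ≤ A` of order `q`, normal in `H`, not centralized by `K`, with
`C_A(K) ≠ 1`.
-/

set_option autoImplicit false

namespace Cfsg.Agent.Lib.Helper65.BGSix

open Cfsg

universe u

variable {G : Type u} [Group G]

/-- `Ω_t(D)` for a commutative subgroup `D`. -/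
def omegaSub (D : Subgroup G) (hD : ∀ x ∈ D, ∀ y ∈ D, x * y = y * x) (t : ℕ) : Subgroup G where
  carrier := {x | x ∈ D ∧ x ^ t = 1}
  mul_mem' := by
    rintro x y ⟨hx, hxt⟩ ⟨hy, hyt⟩
    refine ⟨D.mul_mem hx hy, ?_⟩
    rw [(show Commute x y from hD x hx y hy).mul_pow, hxt, hyt, one_mul]
  one_mem' := ⟨D.one_mem, one_pow _⟩
  inv_mem' := by
    rintro x ⟨hx, hxt⟩
    exact ⟨D.inv_mem hx, by rw [inv_pow, hxt, inv_one]⟩

theorem mem_omegaSub {D : Subgroup G} {hD : ∀ x ∈ D, ∀ y ∈ D, x * y = y * x} {t : ℕ} {x : G} :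
    x ∈ omegaSub D hD t ↔ x ∈ D ∧ x ^ t = 1 := Iff.rfl

/-- a subgroup normalized by a complement `E` and centralized by `H_σ` is normal in `H` -/
theorem le_normalizer_of_compl {H E N X : Subgroup G} (hE : IsComplIn E N H)
    (hEX : E ≤ Subgroup.normalizer (X : Set G)) (hNX : N ≤ Subgroup.centralizer (X : Set G)) :
    H ≤ Subgroup.normalizer (X : Set G) := by
  intro m hm
  obtain ⟨a, ha, b, hb, rfl⟩ := hE.2.2.2 m hm
  exact Subgroup.mul_mem _ (hEX ha) (Subgroup.centralizer_le_normalizer _ (hNX hb))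

/-- primes dividing the order of a complement of `H_σ` are not in `σ(H)` -/
theorem not_mem_sigma_of_dvd_card_compl [Finite G] (hG : IsMinSimpleOddOrder G) {H E : Subgroup G}
    (hH : IsCoatom H) (hE : IsComplIn E (sigmaCore H) H) {t : ℕ} (ht : t.Prime)
    (htE : t ∣ Nat.card E) : t ∉ sigma H := by
  intro hσ
  have h1350 := (Cfsg.Agent.S1350.result hG H hH).1
  exact Cfsg.Agent.Lib.Helper97.BGTwelve.not_dvd_card_of_isComplIn hE h1350 ht hσ htE

/-- the Frobenius lemma applied to `H_σ`: a `t`-subgroup `S` of a complement `E`, normalized by `K` of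
prime order `p` (a `σ(H)'`-number) with `C_S(K) = 1`, centralizes `H_σ` if `C_{H_σ}(K) = 1`. -/
theorem sigmaCore_le_centralizer_of_fpf [Finite G] (hG : IsMinSimpleOddOrder G) {H E : Subgroup G}
    (hH : IsCoatom H) (hE : IsComplIn E (sigmaCore H) H) {K S : Subgroup G} {p t : ℕ}
    [hp : Fact p.Prime] [ht : Fact t.Prime] (hpt : p ≠ t) (hKE : K ≤ E) (hK : Nat.card K = p)
    (hSE : S ≤ E) (hS : IsPGroup t S) (hS1 : S ≠ ⊥) (hKS : K ≤ Subgroup.normalizer (S : Set G))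
    (hSK : S ⊓ Subgroup.centralizer (K : Set G) = ⊥)
    (hfpf : sigmaCore H ⊓ Subgroup.centralizer (K : Set G) = ⊥) :
    sigmaCore H ≤ Subgroup.centralizer (S : Set G) := by
  have h1350 := (Cfsg.Agent.S1350.result hG H hH).1
  have hHs : Group.IsSolvable H := hG.2.2.2 H hH.1
  have hσsolv : Group.IsSolvable (sigmaCore H) := by
    have : Group.IsSolvable ((sigmaCore H).subgroupOf H) := inferInstance
    exact Group.isSolvable_of_isSolvable_injective (f := Subgroup.inclusion h1350.1)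
      (Subgroup.inclusion_injective _)
  have hpK : p ∣ Nat.card E := hK ▸ Subgroup.card_dvd_of_le hKE
  have htS : t ∣ Nat.card E := by
    obtain ⟨n, hn⟩ := IsPGroup.iff_card.mp hS
    have hn0 : n ≠ 0 := by
      intro h0
      rw [h0, pow_zero] at hn
      exact hS1 (Subgroup.card_eq_one.mp hn)
    have : t ∣ Nat.card S := hn ▸ dvd_pow_self t hn0
    exact this.trans (Subgroup.card_dvd_of_le hSE)
  have hpσ := not_mem_sigma_of_dvd_card_compl hG hH hE hp.out hpK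
  have htσ := not_mem_sigma_of_dvd_card_compl hG hH hE ht.out htS
  have hcop : ∀ r : ℕ, r.Prime → r ∉ sigma H → (Nat.card (sigmaCore H)).Coprime r := by
    intro r hr hrσ
    rw [Nat.coprime_comm, Nat.Prime.coprime_iff_not_dvd hr]
    intro hd
    exact hrσ (h1350.2.1 r hr hd)
  have hEN : E ≤ Subgroup.normalizer (sigmaCore H : Set G) :=
    hE.1.trans (Cfsg.Agent.Lib.Helper54.le_normalizer_sigmaCore H)
  apply Cfsg.Agent.Lib.Helper55.FrobFixedPoints.le_centralizer_of_fixed_points hG.1 hpt S K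
    (sigmaCore H) hS hK hKS (hSE.trans hEN) (hKE.trans hEN) hσsolv (hcop t ht.out htσ)
    (hcop p hp.out hpσ) hSK
  rw [hfpf]
  exact bot_le

/-- a normal abelian `σ(H)'`-subgroup of `H` lies in `O_{σ(H)'}(F(H))` -/
theorem le_piCoreOf_fittingOf [Finite G] {H X : Subgroup G} (hXH : X ≤ H)
    (hHX : H ≤ Subgroup.normalizer (X : Set G)) (hXc : ∀ x ∈ X, ∀ y ∈ X, x * y = y * x)
    (hXσ : ∀ r : ℕ, r.Prime → r ∣ Nat.card X → r ∉ sigma H) :
    X ≤ piCoreOf {q | q.Prime ∧ q ∉ sigma H} (fittingOf H) := by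
  -- `X ≤ F(H)`
  have hXF : X ≤ fittingOf H := by
    have hn : (X.subgroupOf H).Normal := by
      constructor
      intro n hn g
      rw [Subgroup.mem_subgroupOf] at hn ⊢
      have := (Subgroup.mem_normalizer_iff.mp (hHX g.2) (n : G)).mp hn
      simpa using this
    have hnil : Group.IsNilpotent (X.subgroupOf H) := by
      let _ : CommGroup ↥(X.subgroupOf H) :=
        { (inferInstance : Group ↥(X.subgroupOf H)) with
          mul_comm := fun a b => by
            apply Subtype.ext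
            apply Subtype.ext
            exact hXc _ a.2 _ b.2 }
      exact CommGroup.isNilpotent
    have h1 : X.subgroupOf H ≤ fittingSubgroup H := le_sSup ⟨hn, hnil⟩
    have h2 := Subgroup.map_mono (f := H.subtype) h1
    rwa [Subgroup.map_subgroupOf_eq_of_le hXH] at h2
  set F := fittingOf H with hF
  have hFH : F ≤ H := Subgroup.map_subtype_le _
  have hn : (X.subgroupOf F).Normal := by
    constructor
    intro n hn g
    rw [Subgroup.mem_subgroupOf] at hn ⊢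
    have := (Subgroup.mem_normalizer_iff.mp (hHX (hFH g.2)) (n : G)).mp hn
    simpa using this
  have hπ : ∀ r : ℕ, r.Prime → r ∣ Nat.card (X.subgroupOf F) → r ∈ {q | q.Prime ∧ q ∉ sigma H} := by
    intro r hr hd
    have hc : Nat.card (X.subgroupOf F) = Nat.card X := by
      rw [← Subgroup.card_map_of_injective F.subtype_injective,
        Subgroup.map_subgroupOf_eq_of_le hXF]
    rw [hc] at hd
    exact ⟨hr, hXσ r hr hd⟩
  have h1 : X.subgroupOf F ≤ piCore {q | q.Prime ∧ q ∉ sigma H} F := le_sSup ⟨hn, hπ⟩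
  have h2 := Subgroup.map_mono (f := F.subtype) h1
  rwa [Subgroup.map_subgroupOf_eq_of_le hXF] at h2


/-- `N(Ω) ∩ N(S) ≤ N(Ω ∩ C(S))` -/
theorem le_normalizer_inf_centralizer {E Ω S : Subgroup G}
    (h1 : E ≤ Subgroup.normalizer (Ω : Set G)) (h2 : E ≤ Subgroup.normalizer (S : Set G)) :
    E ≤ Subgroup.normalizer ((Ω ⊓ Subgroup.centralizer (S : Set G) : Subgroup G) : Set G) := by
  have hfwd : ∀ e ∈ E, ∀ x ∈ Ω ⊓ Subgroup.centralizer (S : Set G),
      e * x * e⁻¹ ∈ Ω ⊓ Subgroup.centralizer (S : Set G) := by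
    intro e he x hx
    refine ⟨(Subgroup.mem_normalizer_iff.mp (h1 he) x).mp hx.1, ?_⟩
    show e * x * e⁻¹ ∈ Subgroup.centralizer (S : Set G)
    rw [Subgroup.mem_centralizer_iff]
    intro y hy
    have hy' : e⁻¹ * y * e⁻¹⁻¹ ∈ S :=
      (Subgroup.mem_normalizer_iff.mp (Subgroup.inv_mem _ (h2 he)) y).mp hy
    have hc := (Subgroup.mem_centralizer_iff.mp hx.2) _ hy'
    calc y * (e * x * e⁻¹) = e * ((e⁻¹ * y * e⁻¹⁻¹) * x) * e⁻¹ := by group
      _ = e * (x * (e⁻¹ * y * e⁻¹⁻¹)) * e⁻¹ := by rw [hc]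
      _ = e * x * e⁻¹ * y := by group
  intro e he
  rw [Subgroup.mem_normalizer_iff]
  intro x
  constructor
  · exact hfwd e he x
  · intro hx
    have := hfwd e⁻¹ (E.inv_mem he) _ hx
    have h3 : e⁻¹ * (e * x * e⁻¹) * e⁻¹⁻¹ = x := by group
    rwa [h3] at this

/-- **Module 6A.** -/
theorem tau1_dichotomy [Finite G] (hG : IsMinSimpleOddOrder G) (H : Subgroup G) (hH : IsCoatom H)
    (E : Subgroup G) (hE : IsComplIn E (sigmaCore H) H) (K : Subgroup G) (p : ℕ) [hp : Fact p.Prime]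
    (hKE : K ≤ E) (hK : Nat.card K = p) (hp1 : p ∈ tau1 H)
    (hfpf : sigmaCore H ⊓ Subgroup.centralizer (K : Set G) = ⊥) (hne : sigmaCore H ≠ ⊥) :
    E ≤ Subgroup.centralizer (K : Set G) ∨
      ∃ (q : ℕ) (A B : Subgroup G), q ∈ tau2 H ∧ A ≤ E ∧ IsElementaryAbelian q A ∧
        Nat.card A = q ^ 2 ∧ B ≤ A ∧ Nat.card B = q ∧ H ≤ Subgroup.normalizer (B : Set G) ∧
        ¬ B ≤ Subgroup.centralizer (K : Set G) ∧ A ⊓ Subgroup.centralizer (K : Set G) ≠ ⊥ := by
  by_contra hcon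
  push Not at hcon
  obtain ⟨hEK, hno⟩ := hcon
  have h1350 := (Cfsg.Agent.S1350.result hG H hH).1
  have hU := Cfsg.Agent.Lib.Helper54.uniqThree_of_minSimple hG
  have hDc' : IsMulCommutative ↥⁅E, E⁆ := (Cfsg.Agent.S1420.result hG H hH E hE).2.1
  have hDc : ∀ x ∈ ⁅E, E⁆, ∀ y ∈ ⁅E, E⁆, x * y = y * x := by
    intro x hx y hy
    exact congrArg Subtype.val (mul_comm' (⟨x, hx⟩ : ↥⁅E, E⁆) ⟨y, hy⟩)
  have hDE : ⁅E, E⁆ ≤ E := by
    rw [Subgroup.commutator_le]
    intro a ha b hb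
    rw [commutatorElement_def]
    exact E.mul_mem (E.mul_mem (E.mul_mem ha hb) (E.inv_mem ha)) (E.inv_mem hb)
  have hDH : ⁅E, E⁆ ≤ ⁅H, H⁆ := Subgroup.commutator_mono hE.1 hE.1
  have hpD : ¬ p ∣ Nat.card ↥⁅E, E⁆ := fun h =>
    hp1.2.2.2.1 (h.trans (Subgroup.card_dvd_of_le hDH))
  have hED : E ≤ Subgroup.normalizer ((⁅E, E⁆ : Subgroup G) : Set G) := by
    intro e he
    rw [Subgroup.mem_normalizer_iff]
    intro x
    have hfwd : ∀ e ∈ E, ∀ x ∈ ⁅E, E⁆, e * x * e⁻¹ ∈ ⁅E, E⁆ := by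
      intro e he x hx
      have h1 : e * x * e⁻¹ * x⁻¹ ∈ ⁅E, E⁆ := by
        have := Subgroup.commutator_mem_commutator he (hDE hx)
        simpa [commutatorElement_def] using this
      have h2 : e * x * e⁻¹ = (e * x * e⁻¹ * x⁻¹) * x := by group
      rw [h2]
      exact Subgroup.mul_mem _ h1 hx
    constructor
    · exact hfwd e he x
    · intro hx
      have := hfwd e⁻¹ (E.inv_mem he) _ hx
      have h3 : e⁻¹ * (e * x * e⁻¹) * e⁻¹⁻¹ = x := by group
      rwa [h3] at this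
  have hKD : K ≤ Subgroup.normalizer ((⁅E, E⁆ : Subgroup G) : Set G) := hKE.trans hED
  have h2 : ¬ ⁅E, E⁆ ≤ Subgroup.centralizer (K : Set G) := fun h =>
    hEK (le_centralizer_of_commutator_le E K p hKE hK h hpD)
  obtain ⟨d, hdD, hdprime, hdK⟩ : ∃ d ∈ ⁅E, E⁆, (orderOf d).Prime ∧
      d ∉ Subgroup.centralizer (K : Set G) := by
    by_contra h
    push Not at h
    exact h2 (le_centralizer_of_prime_order _ K p hDc hKD hK hpD h)
  set t := orderOf d with ht
  have : Fact t.Prime := ⟨hdprime⟩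
  have htD : t ∣ Nat.card ↥⁅E, E⁆ := by
    have := orderOf_dvd_natCard (⟨d, hdD⟩ : ↥⁅E, E⁆)
    rwa [Subgroup.orderOf_mk] at this
  have htE : t ∣ Nat.card E := htD.trans (Subgroup.card_dvd_of_le hDE)
  have htσ : t ∉ sigma H := not_mem_sigma_of_dvd_card_compl hG hH hE hdprime htE
  have hpt : p ≠ t := fun h => hpD (h ▸ htD)
  -- `Ω = Ω_t(E')`
  set Ω := omegaSub ⁅E, E⁆ hDc t with hΩ
  have hΩD : Ω ≤ ⁅E, E⁆ := fun x hx => hx.1
  have hΩE : Ω ≤ E := hΩD.trans hDE
  have hdΩ : d ∈ Ω := ⟨hdD, pow_orderOf_eq_one d⟩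
  have hΩc : ∀ x ∈ Ω, ∀ y ∈ Ω, x * y = y * x := fun x hx y hy => hDc x hx.1 y hy.1
  have hΩt : ∀ x ∈ Ω, x ^ t = 1 := fun x hx => hx.2
  have hEΩ : E ≤ Subgroup.normalizer (Ω : Set G) := by
    intro e he
    rw [Subgroup.mem_normalizer_iff]
    intro x
    have hfwd : ∀ e ∈ E, ∀ x ∈ Ω, e * x * e⁻¹ ∈ Ω := by
      intro e he x hx
      refine ⟨(Subgroup.mem_normalizer_iff.mp (hED he) x).mp hx.1, ?_⟩
      rw [conj_pow, hx.2]; group
    constructor
    · exact hfwd e he x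
    · intro hx
      have := hfwd e⁻¹ (E.inv_mem he) _ hx
      have h3 : e⁻¹ * (e * x * e⁻¹) * e⁻¹⁻¹ = x := by group
      rwa [h3] at this
  have hΩK : ¬ Ω ≤ Subgroup.centralizer (K : Set G) := fun h => hdK (h hdΩ)
  obtain ⟨B₀, hB₀Ω, hB₀1, hKB₀, hB₀K⟩ :=
    exists_fpf_subgroup Ω K p t hpt hΩc hΩt (hKE.trans hEΩ) hK hΩK
  have hB₀t : IsPGroup t B₀ := by
    intro ⟨x, hx⟩
    refine ⟨1, ?_⟩
    apply Subtype.ext
    simpa using hΩt x (hB₀Ω hx)
  have hσB₀ : sigmaCore H ≤ Subgroup.centralizer (B₀ : Set G) :=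
    sigmaCore_le_centralizer_of_fpf hG hH hE hpt hKE hK (hB₀Ω.trans hΩE) hB₀t hB₀1 hKB₀ hB₀K hfpf
  -- `B = C_Ω(H_σ)` is normal in `H`
  set B := Ω ⊓ Subgroup.centralizer (sigmaCore H : Set G) with hB
  have hB₀B : B₀ ≤ B := by
    intro x hx
    refine ⟨hB₀Ω hx, ?_⟩
    show x ∈ Subgroup.centralizer (sigmaCore H : Set G)
    rw [Subgroup.mem_centralizer_iff]
    intro y hy
    exact ((Subgroup.mem_centralizer_iff.mp (hσB₀ hy)) x hx).symm
  have hB1 : B ≠ ⊥ := fun h => hB₀1 (eq_bot_iff.mpr (h ▸ hB₀B))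
  have hBK : ¬ B ≤ Subgroup.centralizer (K : Set G) := by
    intro h
    apply hB₀1
    rw [eq_bot_iff, ← hB₀K]
    exact le_inf le_rfl (hB₀B.trans h)
  have hEN : E ≤ Subgroup.normalizer (sigmaCore H : Set G) :=
    hE.1.trans (Cfsg.Agent.Lib.Helper54.le_normalizer_sigmaCore H)
  have hEB : E ≤ Subgroup.normalizer (B : Set G) := le_normalizer_inf_centralizer hEΩ hEN
  have hσB : sigmaCore H ≤ Subgroup.centralizer (B : Set G) := by
    intro y hy
    rw [Subgroup.mem_centralizer_iff]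
    intro x hx
    exact ((Subgroup.mem_centralizer_iff.mp hx.2) y hy).symm
  have hHB : H ≤ Subgroup.normalizer (B : Set G) := le_normalizer_of_compl hE hEB hσB
  have hBH : B ≤ H := (inf_le_left.trans hΩE).trans hE.1
  have hBc : ∀ x ∈ B, ∀ y ∈ B, x * y = y * x := fun x hx y hy => hΩc x hx.1 y hy.1
  have hBt : IsPGroup t B := by
    intro ⟨x, hx⟩
    refine ⟨1, ?_⟩
    apply Subtype.ext
    simpa using hΩt x hx.1
  have hBσ : ∀ r : ℕ, r.Prime → r ∣ Nat.card B → r ∉ sigma H := by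
    intro r hr hd
    obtain ⟨n, hn⟩ := IsPGroup.iff_card.mp hBt
    rw [hn] at hd
    rw [(Nat.prime_dvd_prime_iff_eq hr hdprime).mp (hr.dvd_of_dvd_pow hd)]
    exact htσ
  have hBF := le_piCoreOf_fittingOf hBH hHB hBc hBσ
  have htB : t ∣ Nat.card B := by
    obtain ⟨n, hn⟩ := IsPGroup.iff_card.mp hBt
    have hn0 : n ≠ 0 := by
      intro h0
      rw [h0, pow_zero] at hn
      exact hB1 (Subgroup.card_eq_one.mp hn)
    exact hn ▸ dvd_pow_self t hn0
  have htτ : t ∈ tau2 H :=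
    (Cfsg.Agent.S1439.result hG H hH).2.1 t hdprime (htB.trans (Subgroup.card_dvd_of_le hBF))
  -- the elementary abelian subgroup `A` of order `t ^ 2` of `E`
  have hr1 : ¬ PRankLE t 1 ↥E :=
    Cfsg.Agent.Lib.Helper97.BGTwelve.not_pRankLE_complement hE h1350.2.1 htσ htτ.2.2.2
  obtain ⟨A, hAE, hAe, hAc⟩ :=
    Cfsg.Agent.Lib.Helper97.BGTwelve.exists_elemAb_sq_of_not_pRankLE_one E hr1
  have h18 := Cfsg.Agent.S1418.result hG H hH E hE t htτ A ⟨hAE, hAe, hAc⟩
  have h17 := Cfsg.Agent.S1417.result hG H hH t htτ A ⟨hAE.trans hE.1, hAe, hAc⟩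
  have hCA : sigmaCore H ⊓ Subgroup.centralizer (A : Set G) = ⊥ := h17.2.2.2.1
  have hΩA : Ω ≤ A := by
    intro x hx
    by_cases hx1 : x = 1
    · rw [hx1]; exact A.one_mem
    have hox : orderOf x = t := by
      have h1 : orderOf x ∣ t := orderOf_dvd_of_pow_eq_one hx.2
      rcases (Nat.dvd_prime hdprime).mp h1 with h | h
      · exact absurd (orderOf_eq_one_iff.mp h) hx1
      · exact h
    have := h18.1.2 (Subgroup.zpowers x) (Subgroup.zpowers_le.mpr (hΩE hx))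
      (by rw [Nat.card_zpowers, hox])
    exact this (Subgroup.mem_zpowers x)
  have hBA : B ≤ A := inf_le_left.trans hΩA
  have hBneA : B ≠ A := by
    intro h
    apply hne
    rw [eq_bot_iff, ← hCA]
    exact le_inf le_rfl (h ▸ hσB)
  have hBcard : Nat.card B = t := by
    obtain ⟨n, hn⟩ := IsPGroup.iff_card.mp hBt
    have h1 : Nat.card B ∣ t ^ 2 := hAc ▸ Subgroup.card_dvd_of_le hBA
    rw [hn] at h1
    have hn2 : n ≤ 2 := (Nat.pow_dvd_pow_iff_le_right hdprime.one_lt).mp h1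
    have hn0 : n ≠ 0 := by
      intro h0
      rw [h0, pow_zero] at hn
      exact hB1 (Subgroup.card_eq_one.mp hn)
    have hn2' : n ≠ 2 := by
      intro h2
      apply hBneA
      apply Subgroup.eq_of_le_of_card_ge hBA
      rw [hn, h2, hAc]
    have : n = 1 := by omega
    rw [hn, this, pow_one]
  have hAK : A ⊓ Subgroup.centralizer (K : Set G) ≠ ⊥ := by
    intro h
    have hAt : IsPGroup t A := IsPGroup.of_card hAc
    have hA1 : A ≠ ⊥ := fun h0 => hB1 (eq_bot_iff.mpr (h0 ▸ hBA))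
    have := sigmaCore_le_centralizer_of_fpf hG hH hE hpt hKE hK hAE hAt hA1
      (hKE.trans h18.1.1) h hfpf
    apply hne
    rw [eq_bot_iff, ← hCA]
    exact le_inf le_rfl this
  exact hAK (hno t A B htτ hAE hAe hAc hBA hBcard hHB hBK)

end Cfsg.Agent.Lib.Helper65.BGSix
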