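import Mathlib
import Cfsg.Prelude.Def_OddOrderLocal
import Cfsg.Agent.Lib.Helper65.BGSixPure
import Cfsg.Agent.Lib.Helper54.BGElevenA
import Cfsg.Agent.S1423

/-!
# Bender–Glauberman Theorem 14.6, step (6), module 6B   (helper65)

The three "kills" of the bad configuration produced by module 6A.
-/

set_option autoImplicit false

namespace Cfsg.Agent.Lib.Helper65.BGSix

open Cfsg Pointwise

universe u

variable {G : Type u} [Group G]

theorem orderOf_eq_of_mem_of_card_prime [Finite G] {B : Subgroup G} {q : ℕ} (hq : q.Prime)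
    (hB : Nat.card B = q) {b : G} (hb : b ∈ B) (hb1 : b ≠ 1) : orderOf b = q := by
  have h1 : orderOf b ∣ q := by
    have := orderOf_dvd_natCard (⟨b, hb⟩ : B)
    rwa [Subgroup.orderOf_mk, hB] at this
  rcases (Nat.dvd_prime hq).mp h1 with h | h
  · exact absurd (orderOf_eq_one_iff.mp h) hb1
  · exact h

/-- **6B(i)** (helper97's shortcut): `B = [B,K] ≤ (M*_σ)'`, so `M*` is the only maximal subgroup
containing `C_G(B)` (S1423). -/
theorem kill_sigma [Finite G] (hG : IsMinSimpleOddOrder G) (Mstar H : Subgroup G)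
    (hMs : IsCoatom Mstar) (hH : IsCoatom H) (hHMs : H ≠ Mstar) (K B : Subgroup G) (q : ℕ)
    [hq : Fact q.Prime]
    (hB : Nat.card B = q) (hKσ : K ≤ sigmaCore Mstar) (hBσ : B ≤ sigmaCore Mstar)
    (hKB : K ≤ Subgroup.normalizer (B : Set G)) (hBK : ¬ B ≤ Subgroup.centralizer (K : Set G))
    (hCB : Subgroup.centralizer (B : Set G) ≤ H) : False := by
  have hσM : sigmaCore Mstar ≤ Mstar := Cfsg.Agent.Lib.Helper54.sigmaCore_le Mstar
  have hqσ : q ∈ sigma Mstar :=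
    Cfsg.Agent.Lib.Helper54.sigmaCore_isPi Mstar q hq.out (hB ▸ Subgroup.card_dvd_of_le hBσ)
  -- a nontrivial commutator `c = k b k⁻¹ b⁻¹ ∈ B`
  obtain ⟨b, hbB, hbK⟩ := SetLike.not_le_iff_exists.mp hBK
  rw [Subgroup.mem_centralizer_iff] at hbK
  push Not at hbK
  obtain ⟨k, hk, hkb⟩ := hbK
  have hkbB : k * b * k⁻¹ ∈ B := (Subgroup.mem_normalizer_iff.mp (hKB hk) b).mp hbB
  have hcB : k * b * k⁻¹ * b⁻¹ ∈ B := B.mul_mem hkbB (B.inv_mem hbB)
  have hc1 : k * b * k⁻¹ * b⁻¹ ≠ 1 := by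
    intro h
    apply hkb
    have h1 : k * b * k⁻¹ = b := by
      calc k * b * k⁻¹ = (k * b * k⁻¹ * b⁻¹) * b := by group
        _ = b := by rw [h, one_mul]
    calc k * b = (k * b * k⁻¹) * k := by group
      _ = b * k := by rw [h1]
  have hcq : orderOf (k * b * k⁻¹ * b⁻¹) = q :=
    orderOf_eq_of_mem_of_card_prime hq.out hB hcB hc1
  have hcc : k * b * k⁻¹ * b⁻¹ ∈ ⁅sigmaCore Mstar, sigmaCore Mstar⁆ := by
    have := Subgroup.commutator_mem_commutator (hKσ hk) (hBσ hbB)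
    rwa [commutatorElement_def] at this
  have hBz : Subgroup.zpowers (k * b * k⁻¹ * b⁻¹) = B := by
    apply Subgroup.eq_of_le_of_card_ge (Subgroup.zpowers_le.mpr hcB)
    rw [Nat.card_zpowers, hcq, hB]
  have hBc : B ≤ ⁅sigmaCore Mstar, sigmaCore Mstar⁆ := by
    rw [← hBz]; exact Subgroup.zpowers_le.mpr hcc
  obtain ⟨P⟩ : Nonempty (Sylow q ↥(sigmaCore Mstar)) := inferInstance
  have h23 := Cfsg.Agent.S1423.result hG Mstar hMs q hqσ B (hBσ.trans hσM) hB P (Or.inr hBc)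
  exact hHMs (h23.1.2 H hH hCB)

end Cfsg.Agent.Lib.Helper65.BGSix
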