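import Mathlib
import Cfsg.Prelude.Def_OddOrderLocal
import Cfsg.Agent.Lib.Helper65.BGSixPure
import Cfsg.Agent.Lib.Helper54.BGFourteenDefs
import Cfsg.Agent.Lib.Helper54.BGFourteenEmbedA
import Cfsg.Agent.Lib.Helper54.BGElevenA
import Cfsg.Agent.Lib.Helper54.Coprime
import Cfsg.Agent.Lib.Helper45.RankTools
import Cfsg.Agent.Lib.Helper23.BGFourteenA
import Cfsg.Agent.Lib.Helper23.BGFrobPrimact
import Cfsg.Agent.S1350
import Cfsg.Agent.S1429

/-!
# Bender–Glauberman Theorem 14.6, step (6), module 6B part (ii): the `κ`-kill   (helper65)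

`M₁` a maximal subgroup not of type `P₁` with a Hall `κ(M₁)`-subgroup `K` of prime order; `H ≠ M₁`
another maximal subgroup of `q`-rank `≤ 2` containing an elementary abelian `A` of order `q²` with
`A ≤ (M₁)_σ`, `A ∩ C_G(K) ≠ 1`, and a subgroup `B ≤ A` with `C_G(B) ≤ H`.  Contradiction.
-/

set_option autoImplicit false

namespace Cfsg.Agent.Lib.Helper65.BGSix

open Cfsg Pointwise
open Cfsg.Agent.Lib.Helper54

universe u

variable {G : Type u} [Group G]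

theorem exists_ne_one_of_ne_bot' {A : Subgroup G} (hA : A ≠ ⊥) : ∃ a ∈ A, a ≠ 1 := by
  obtain ⟨a, ha⟩ := Subgroup.ne_bot_iff_exists_ne_one.mp hA
  exact ⟨(a : G), a.2, fun h => ha (Subtype.ext h)⟩

/-- **6B(ii), the κ-kill.** -/
theorem kill_kappa [Finite G] (hG : IsMinSimpleOddOrder G) (h30 : Stmt1430 G) (h31 : Stmt1431 G)
    (M₁ H : Subgroup G) (hM₁ : IsCoatom M₁) (hH : IsCoatom H) (hHM₁ : H ≠ M₁)
    (K : Subgroup G) (hKhall : IsPiHallOf (kappa M₁) K M₁) (hKp : (Nat.card K).Prime)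
    (s : ℕ) (hs : s.Prime) (hsM : s ∣ Nat.card M₁) (hsσ : s ∉ sigma M₁) (hsκ : s ∉ kappa M₁)
    (q : ℕ) [hq : Fact q.Prime] (hq2 : PRankLE q 2 H) (A B : Subgroup G) (hAH : A ≤ H)
    (hAel : IsElementaryAbelian q A) (hAcard : Nat.card A = q ^ 2) (hBA : B ≤ A)
    (hCB : Subgroup.centralizer (B : Set G) ≤ H) (hAσ : A ≤ sigmaCore M₁)
    (hAK : A ⊓ Subgroup.centralizer (K : Set G) ≠ ⊥) : False := by
  classical
  have hHall := (Cfsg.Agent.S1350.result hG M₁ hM₁).1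
  have hK1 : K ≠ ⊥ := by
    intro h; rw [h, Subgroup.card_bot] at hKp; exact Nat.not_prime_one hKp
  have hKc : IsCyclic K := by
    have : Fact (Nat.card K).Prime := ⟨hKp⟩
    exact isCyclic_of_prime_card rfl
  have hKM : K ≤ M₁ := hKhall.1
  obtain ⟨-, ⟨U₁, -, hU₁H, hKU₁, hU₁f⟩, -⟩ := h30 M₁ hM₁ K hKhall hK1
  have hKU : IsSigmaDecomposition M₁ K U₁ :=
    Cfsg.Agent.Lib.Helper23.isSigmaDecomposition_of_hall hHall hKc hKhall hU₁H hKU₁
  have hU₁M : U₁ ≤ M₁ := hU₁H.1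
  have hP1 : ¬ (∀ r : ℕ, r.Prime → r ∣ Nat.card M₁ → r ∉ sigma M₁ → r ∈ kappa M₁) :=
    fun h => hsκ (h s hs hsM hsσ)
  have hsU : s ∣ Nat.card U₁ := by
    have h1 := Cfsg.Agent.Lib.Helper54.card_mul_relIndex hU₁H.1
    have h2 : ¬ s ∣ U₁.relIndex M₁ := hU₁H.2.2 s hs ⟨hs, hsκ, hsσ⟩
    rw [← h1] at hsM
    exact (hs.dvd_mul.mp hsM).resolve_right h2
  have hU1 : U₁ ≠ ⊥ := by
    intro h
    rw [h, Subgroup.card_bot] at hsU
    exact hs.one_lt.ne' (Nat.dvd_one.mp hsU)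
  have h29 : ¬ (∀ r : ℕ, r.Prime → r ∣ Nat.card M₁ → r ∉ sigma M₁ → r ∈ kappa M₁) →
      ∀ (p : ℕ) [Fact p.Prime], p ∣ Nat.card M₁ → p ∉ sigma M₁ ∪ kappa M₁ → ∀ S : Sylow p M₁,
        sigmaCore M₁ ⊓ Subgroup.centralizer ((Subgroup.closure
          {x : G | x ∈ (S : Subgroup M₁).map M₁.subtype ∧ x ^ p = 1} : Subgroup G) : Set G) = ⊥ :=
    fun hP1 p _ hpM hp S => (Cfsg.Agent.S1429.result hG M₁ hM₁ hP1 p hpM hp S).2.1
  have hCU : sigmaCore M₁ ⊓ Subgroup.centralizer (U₁ : Set G) = ⊥ :=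
    Cfsg.Agent.Lib.Helper23.inf_centralizer_eq_bot_of_sigmaDecomposition hHall hKU hU1 h29
  have hnil : Group.IsNilpotent (sigmaCore M₁) := by
    have : Fact s.Prime := ⟨hs⟩
    obtain ⟨S⟩ : Nonempty (Sylow s M₁) := inferInstance
    refine (Cfsg.Agent.S1429.result hG M₁ hM₁ hP1 s hsM ?_ S).2.2
    rintro (h | h)
    · exact hsσ h
    · exact hsκ h
  -- the element `x'`
  obtain ⟨x', hx', hx'1⟩ := exists_ne_one_of_ne_bot' hAK
  have hx'A : x' ∈ A := hx'.1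
  have hx'K : x' ∈ Subgroup.centralizer (K : Set G) := hx'.2
  have hx'q : x' ^ q = 1 := hAel.2 x' hx'A
  have hox' : orderOf x' = q := orderOf_eq_prime hx'q hx'1
  have hqdvd : q ∣ Nat.card ↥(sigmaCore M₁ ⊓ Subgroup.centralizer (K : Set G)) := by
    have hmem : x' ∈ sigmaCore M₁ ⊓ Subgroup.centralizer (K : Set G) := ⟨hAσ hx'A, hx'K⟩
    have := orderOf_dvd_natCard (⟨x', hmem⟩ : ↥(sigmaCore M₁ ⊓ Subgroup.centralizer (K : Set G)))
    rwa [Subgroup.orderOf_mk, hox'] at this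
  obtain ⟨-, -, h31c, -⟩ := h31 M₁ hM₁ K hKhall hK1
  obtain ⟨S⟩ : Nonempty (Sylow q ↥(sigmaCore M₁)) := inferInstance
  obtain ⟨hUM, hTM, -⟩ := h31c q hq.out hqdvd S
  -- the Sylow `q`-subgroup `T` of `(M₁)_σ`
  have hSnorm : (S : Subgroup ↥(sigmaCore M₁)).Normal := by
    have h := ((Group.isNilpotent_of_finite_tfae (G := ↥(sigmaCore M₁))).out 0 3).mp hnil
    exact h q hq S
  have hSuniq : ∀ Q : Sylow q ↥(sigmaCore M₁), Q = S := by
    intro Q
    have := Sylow.unique_of_normal S hSnorm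
    exact Subsingleton.elim _ _
  obtain ⟨T, hT⟩ : ∃ T : Subgroup G,
      T = (S : Subgroup ↥(sigmaCore M₁)).map (sigmaCore M₁).subtype := ⟨_, rfl⟩
  rw [← hT] at hUM hTM
  have hTσ : T ≤ sigmaCore M₁ := by rw [hT]; exact Subgroup.map_subtype_le _
  have hTq : IsPGroup q T := by rw [hT]; exact S.isPGroup'.map _
  have hmemT : ∀ x ∈ sigmaCore M₁, (∃ n : ℕ, x ^ (q ^ n) = 1) → x ∈ T := by
    rintro x hx ⟨n, hn⟩
    have hx'n : (⟨x, hx⟩ : ↥(sigmaCore M₁)) ^ (q ^ n) = 1 := Subtype.ext (by simpa using hn)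
    have hZp : IsPGroup q (Subgroup.zpowers (⟨x, hx⟩ : ↥(sigmaCore M₁))) := by
      rintro ⟨y, hy⟩
      refine ⟨n, ?_⟩
      obtain ⟨k, rfl⟩ := Subgroup.mem_zpowers_iff.mp hy
      apply Subtype.ext
      show ((⟨x, hx⟩ : ↥(sigmaCore M₁)) ^ k) ^ (q ^ n) = 1
      rw [← zpow_natCast, ← zpow_mul, mul_comm, zpow_mul, zpow_natCast, hx'n, one_zpow]
    obtain ⟨Q, hQ⟩ := hZp.exists_le_sylow
    rw [hSuniq Q] at hQ
    rw [hT]
    exact ⟨⟨x, hx⟩, hQ (Subgroup.mem_zpowers _), rfl⟩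
  have hTpow : ∀ t ∈ T, ∃ n : ℕ, t ^ (q ^ n) = 1 := by
    intro t ht
    obtain ⟨n, hn⟩ := hTq ⟨t, ht⟩
    exact ⟨n, by simpa using congrArg Subtype.val hn⟩
  have hconjT : ∀ m ∈ M₁, ∀ t ∈ T, m * t * m⁻¹ ∈ T := by
    intro m hm t ht
    obtain ⟨n, hn⟩ := hTpow t ht
    apply hmemT
    · exact (Subgroup.mem_normalizer_iff.mp (le_normalizer_sigmaCore M₁ hm) t).mp (hTσ ht)
    · exact ⟨n, by rw [conj_pow, hn]; group⟩
  have hNT : M₁ ≤ Subgroup.normalizer (T : Set G) := by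
    intro m hm
    rw [Subgroup.mem_normalizer_iff]
    intro t
    constructor
    · exact hconjT m hm t
    · intro h
      have := hconjT m⁻¹ (M₁.inv_mem hm) _ h
      have e : m⁻¹ * (m * t * m⁻¹) * m⁻¹⁻¹ = t := by group
      rwa [e] at this
  have hAT : A ≤ T := by
    intro a ha
    exact hmemT a (hAσ ha) ⟨1, by rw [pow_one]; exact hAel.2 a ha⟩
  have hT1 : T ≠ ⊥ := by
    intro h
    have := hAT hx'A
    rw [h, Subgroup.mem_bot] at this
    exact hx'1 this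
  -- `W = Ω₁(Z(T))`
  obtain ⟨W, hW⟩ : ∃ W : Subgroup G, W = omegaCenter T q := ⟨_, rfl⟩
  have hW1 : W ≠ ⊥ := by rw [hW]; exact omegaCenter_ne_bot hTq hT1
  have hWT : W ≤ T := by rw [hW]; exact omegaCenter_le T q
  have hWc : ∀ w ∈ W, ∀ t ∈ T, t * w = w * t := by
    intro w hw t ht
    rw [hW] at hw
    exact hw.2.1 t ht
  have hNW : M₁ ≤ Subgroup.normalizer (W : Set G) := by
    rw [hW]; exact hNT.trans (normalizer_le_normalizer_omegaCenter T q)
  have hWel : IsElementaryAbelian q W := by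
    refine ⟨⟨⟨fun a b => Subtype.ext ?_⟩⟩, ?_⟩
    · exact (hWc b.1 b.2 a.1 (hWT a.2))
    · intro a ha
      rw [hW] at ha
      exact ha.2.2
  have hWA : ∀ w ∈ W, ∀ a ∈ A, w * a = a * w := fun w hw a ha => (hWc w hw a (hAT ha)).symm
  have hWH : W ≤ H := by
    intro w hw
    apply hCB
    rw [Subgroup.mem_centralizer_iff]
    intro b hb
    exact hWc w hw b (hAT (hBA hb))
  have hsupel : IsElementaryAbelian q (W ⊔ A) :=
    Cfsg.Agent.Lib.Helper45.isElementaryAbelian_sup hWel hAel hWA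
  have hsupcard : Nat.card (W ⊔ A : Subgroup G) ≤ q ^ 2 := by
    by_contra hlt
    push Not at hlt
    exact (Cfsg.Agent.Lib.Helper45.not_pRankLE_subgroup_iff 2 H).mpr
      ⟨W ⊔ A, sup_le hWH hAH, hsupel, hlt⟩ hq2
  have hsupeq : A = W ⊔ A := by
    apply Subgroup.eq_of_le_of_card_ge le_sup_right
    rw [hAcard]; exact hsupcard
  have hWA' : W ≤ A := by rw [hsupeq]; exact le_sup_left
  by_cases hBW : B ≤ W
  · -- `T ≤ C_G(B) ≤ H`
    have hTH : T ≤ H := by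
      intro t ht
      apply hCB
      rw [Subgroup.mem_centralizer_iff]
      intro b hb
      exact (hWc b (hBW hb) t ht).symm
    exact hHM₁ (hUM.unique ⟨hH, hTH⟩ ⟨hM₁, hTM⟩)
  · -- `|W| = q`
    have hWq : Nat.card W = q := by
      have hdvd : Nat.card W ∣ q ^ 2 := hAcard ▸ Subgroup.card_dvd_of_le hWA'
      obtain ⟨i, hi, hWi⟩ := (Nat.dvd_prime_pow hq.out).mp hdvd
      interval_cases i
      · exact absurd (Subgroup.card_eq_one.mp (by rw [hWi, pow_zero])) hW1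
      · rw [hWi, pow_one]
      · exfalso
        apply hBW
        have : W = A := Subgroup.eq_of_le_of_card_ge hWA' (by rw [hWi, hAcard])
        rw [this]; exact hBA
    obtain ⟨k₀, hk₀, hk₀1⟩ := exists_ne_one_of_ne_bot' hK1
    have hfix : ∀ u ∈ U₁, k₀ * u = u * k₀ → u = 1 := by
      intro u hu hc
      have hmem : u ∈ U₁ ⊓ Subgroup.centralizer ({k₀} : Set G) := by
        refine ⟨hu, ?_⟩
        show u ∈ Subgroup.centralizer ({k₀} : Set G)
        rw [Subgroup.mem_centralizer_iff]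
        intro h hh
        rw [Set.mem_singleton_iff] at hh
        rw [hh]; exact hc
      rw [hU₁f k₀ hk₀ hk₀1, Subgroup.mem_bot] at hmem
      exact hmem
    have hUW : U₁ ≤ Subgroup.centralizer (W : Set G) := by
      intro v hv
      obtain ⟨u, hu, rfl⟩ := exists_commutator_eq_of_fixedPointFree (hKU₁ hk₀) hfix v hv
      exact commutator_mem_centralizer_of_prime_card hq.out hWq (hNW (hKM hk₀)) (hNW (hU₁M hu))
    apply hW1
    rw [eq_bot_iff, ← hCU]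
    intro w hw
    refine ⟨hTσ (hWT hw), ?_⟩
    show w ∈ Subgroup.centralizer (U₁ : Set G)
    rw [Subgroup.mem_centralizer_iff]
    intro u hu
    have := Subgroup.mem_centralizer_iff.mp (hUW hu) w hw
    exact this.symm

end Cfsg.Agent.Lib.Helper65.BGSix
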