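import Mathlib
import Cfsg.Prelude.Def_OddOrderLocal
import Cfsg.Agent.Lib.Helper65.BGSixPure
import Cfsg.Agent.Lib.Helper65.BGSixA
import Cfsg.Agent.Lib.Helper65.BGSixB
import Cfsg.Agent.Lib.Helper65.BGSixC
import Cfsg.Agent.Lib.Helper24.BGFourteenSixFrame
import Cfsg.Agent.Lib.Helper34.TildeEquiv
import Cfsg.Agent.Lib.Helper30.BGNonab
import Cfsg.Agent.Lib.Helper50.AlphaCore
import Cfsg.Agent.Lib.Helper54.BGFourteenThree
import Cfsg.Agent.Lib.Helper54.BGTransitivity
import Cfsg.Agent.Lib.Helper97.BGTwelveCor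
import Cfsg.Agent.S1350
import Cfsg.Agent.S1415
import Cfsg.Agent.S1417
import Cfsg.Agent.S1418
import Cfsg.Agent.S1420

/-!
# Bender–Glauberman Theorem 14.6, step (6): `E ≤ M*`   (helper65)

Main result `step6`: in the setting of B&G Theorem 14.6 (frame facts `FrameM`, `FrameH` of helper24),
`K ≤ F(H ∩ M*)` and `H ∩ M*` is a complement to `H_σ` in `H`.
-/

set_option autoImplicit false

namespace Cfsg.Agent.Lib.Helper65.BGSix

open Cfsg Pointwise
open Cfsg.Agent.Lib.Helper54
open Cfsg.Agent.Lib.Helper22.BGFourteenFour (Stmt1432)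
open Cfsg.Agent.Lib.Helper24.BGSixFrame (FrameM FrameH)

universe u

variable {G : Type u} [Group G]

theorem map_conj_one' (A : Subgroup G) : A.map (MulAut.conj (1 : G)).toMonoidHom = A := by
  ext x
  rw [Cfsg.Agent.Lib.Helper22.BGFourteenFour.mem_map_conj_iff]
  simp

/-- a normal abelian subgroup lies in the Fitting subgroup -/
theorem le_fittingOf_of_normal_comm {E X : Subgroup G} (hXE : X ≤ E)
    (hEX : E ≤ Subgroup.normalizer (X : Set G)) (hXc : ∀ x ∈ X, ∀ y ∈ X, x * y = y * x) :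
    X ≤ fittingOf E := by
  have hn : (X.subgroupOf E).Normal := by
    constructor
    intro n hn g
    rw [Subgroup.mem_subgroupOf] at hn ⊢
    have := (Subgroup.mem_normalizer_iff.mp (hEX g.2) (n : G)).mp hn
    simpa using this
  have hnil : Group.IsNilpotent (X.subgroupOf E) := by
    let _ : CommGroup ↥(X.subgroupOf E) :=
      { (inferInstance : Group ↥(X.subgroupOf E)) with
        mul_comm := fun a b => by
          apply Subtype.ext
          apply Subtype.ext
          exact hXc _ a.2 _ b.2 }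
    exact CommGroup.isNilpotent
  have h1 : X.subgroupOf E ≤ fittingSubgroup E := le_sSup ⟨hn, hnil⟩
  have h2 := Subgroup.map_mono (f := E.subtype) h1
  rwa [Subgroup.map_subgroupOf_eq_of_le hXE] at h2

/-- Dedekind: if `E` is a complement of `N` in `H`, `E ≤ L` and `N ∩ L = 1`, then `H ∩ L = E`. -/
theorem inf_eq_of_isComplIn {H E N L : Subgroup G} (hE : IsComplIn E N H) (hEL : E ≤ L)
    (hNL : N ⊓ L = ⊥) : H ⊓ L = E := by
  apply le_antisymm
  · rintro h ⟨hhH, hhL⟩
    obtain ⟨e, he, n, hn, rfl⟩ := hE.2.2.2 h hhH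
    have hnL : n ∈ L := by
      have : n = e⁻¹ * (e * n) := by group
      rw [this]
      exact L.mul_mem (L.inv_mem (hEL he)) hhL
    have hn1 : n = 1 := by
      have : n ∈ N ⊓ L := ⟨hn, hnL⟩
      rwa [hNL, Subgroup.mem_bot] at this
    rw [hn1, mul_one]; exact he
  · exact le_inf hE.1 hEL

theorem step6_finish {H Mstar E K X : Subgroup G} (hE : IsComplIn E (sigmaCore H) H)
    (hHσMs : sigmaCore H ⊓ Mstar = ⊥) (hEMs : E ≤ Mstar) (hKX : K ≤ X) (hXE : X ≤ E)
    (hEX : E ≤ Subgroup.normalizer (X : Set G)) (hXc : ∀ x ∈ X, ∀ y ∈ X, x * y = y * x) :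
    K ≤ fittingOf (H ⊓ Mstar) ∧ IsComplIn (H ⊓ Mstar) (sigmaCore H) H := by
  have hEq : H ⊓ Mstar = E := inf_eq_of_isComplIn hE hEMs hHσMs
  rw [hEq]
  exact ⟨hKX.trans (le_fittingOf_of_normal_comm hXE hEX hXc), hE⟩

/-- **Module 6B**: the bad configuration produced by module 6A is impossible. -/
theorem kill_bad [Finite G] (hG : IsMinSimpleOddOrder G) (h30 : Stmt1430 G) (h31 : Stmt1431 G)
    (h32 : Stmt1432 G)
    (M Mstar H K U : Subgroup G) (hM : IsCoatom M) (hMstar : IsCoatom Mstar) (hH : IsCoatom H)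
    (hKU : IsSigmaDecomposition M K U) (hU1 : U ≠ ⊥)
    (hKst : K = sigmaCore Mstar ⊓
      Subgroup.centralizer ((sigmaCore M ⊓ Subgroup.centralizer (K : Set G)) : Set G))
    (hKstH : IsPiHallOf (kappa Mstar) (sigmaCore M ⊓ Subgroup.centralizer (K : Set G)) Mstar)
    (FM : FrameM M Mstar K U) (FH : FrameH M Mstar H K U)
    (q : ℕ) [hq : Fact q.Prime] (A B : Subgroup G) (hq2 : q ∈ tau2 H) (hAH : A ≤ H)
    (hAel : IsElementaryAbelian q A) (hAcard : Nat.card A = q ^ 2) (hBA : B ≤ A)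
    (hBcard : Nat.card B = q) (hHB : H ≤ Subgroup.normalizer (B : Set G))
    (hBK : ¬ B ≤ Subgroup.centralizer (K : Set G))
    (hAK : A ⊓ Subgroup.centralizer (K : Set G) ≠ ⊥) : False := by
  classical
  have hp := FM.hp
  have hK1 : K ≠ ⊥ := by
    intro h; rw [h, Subgroup.card_bot] at hp; exact Nat.not_prime_one hp
  have hHalls := (Cfsg.Agent.S1350.result hG Mstar hMstar).1
  have hHall := (Cfsg.Agent.S1350.result hG M hM).1
  have hMssolv : Group.IsSolvable Mstar := hG.2.2.2 Mstar hMstar.1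
  have hHMs : H ≠ Mstar := by
    have := FH.hHMs 1
    rwa [map_conj_one'] at this
  -- `C_G(B) ≤ H`
  have hB1 : B ≠ ⊥ := by
    intro h; rw [h, Subgroup.card_bot] at hBcard; exact hq.out.one_lt.ne hBcard
  have hBtop : B ≠ ⊤ := by
    intro h
    apply hH.1
    rw [eq_top_iff, ← h]
    exact hBA.trans hAH
  have hNB : Subgroup.normalizer (B : Set G) = H := by
    have hne := normalizer_ne_top_of_simple hG.2.1 hB1 hBtop
    by_contra hcon
    exact hne (hH.2 _ (lt_of_le_of_ne hHB (Ne.symm hcon)))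
  have hCB : Subgroup.centralizer (B : Set G) ≤ H := by
    rw [← hNB]; exact Subgroup.centralizer_le_normalizer _
  -- the element `x'`
  obtain ⟨x', hx', hx'1⟩ := exists_ne_one_of_ne_bot' hAK
  have hx'A : x' ∈ A := hx'.1
  have hx'K : x' ∈ Subgroup.centralizer (K : Set G) := hx'.2
  have hx'q : x' ^ q = 1 := hAel.2 x' hx'A
  have hox' : orderOf x' = q := orderOf_eq_prime hx'q hx'1
  have hx'Ms : x' ∈ Mstar := FM.hCK hx'K
  obtain ⟨k₀, hk₀, hk₀1⟩ := exists_ne_one_of_ne_bot' hK1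
  have hKNB : K ≤ Subgroup.normalizer (B : Set G) := FH.hKH.trans hHB
  have hAcomm : ∀ a ∈ A, ∀ b ∈ A, a * b = b * a := fun a ha b hb =>
    congrArg Subtype.val (hAel.1.is_comm.comm ⟨a, ha⟩ ⟨b, hb⟩)
  by_cases hqσ : q ∈ sigma Mstar
  · -- case (i): `q ∈ σ(M*)`
    obtain ⟨-, -, -, h31d⟩ := h31 Mstar hMstar _ hKstH FM.hKs1
    have hdisj : B ⊓ K = ⊥ := by
      by_contra hne
      have hdvd : Nat.card (B ⊓ K : Subgroup G) ∣ q :=
        hBcard ▸ Subgroup.card_dvd_of_le inf_le_left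
      rcases (Nat.dvd_prime hq.out).mp hdvd with h | h
      · exact hne (Subgroup.card_eq_one.mp h)
      · have hBe : B ⊓ K = B := Subgroup.eq_of_le_of_card_ge inf_le_left (by rw [h, hBcard])
        apply hBK
        intro b hb
        have hbK : b ∈ K := by
          have : b ∈ B ⊓ K := by rw [hBe]; exact hb
          exact this.2
        rw [Subgroup.mem_centralizer_iff]
        intro k hk
        exact FM.hKab k hk b hbK
    have hcard : Nat.card (B ⊔ K : Subgroup G) = Nat.card B * Nat.card K :=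
      card_sup_of_le_normalizer hKNB hdisj
    have hY : B ⊔ K ≤ sigmaCore Mstar := by
      apply h31d
      · intro r hr hd
        rw [hcard, hBcard] at hd
        rcases (Nat.Prime.dvd_mul hr).mp hd with h3 | h3
        · rw [(Nat.prime_dvd_prime_iff_eq hr hq.out).mp h3]; exact hqσ
        · rw [(Nat.prime_dvd_prime_iff_eq hr hp).mp h3]; exact FM.hpσMs
      · have hstar : sigmaCore Mstar ⊓ Subgroup.centralizer
            ((sigmaCore M ⊓ Subgroup.centralizer (K : Set G) : Subgroup G) : Set G) = K :=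
          hKst.symm
        rw [hstar]
        intro h
        apply hK1
        rw [eq_bot_iff, ← h]
        exact le_inf le_sup_right le_rfl
    exact kill_sigma hG Mstar H hMstar hH hHMs K B q hBcard FM.hKσ (le_sup_left.trans hY)
      hKNB hBK hCB
  · -- cases (ii), (iii): S1432
    have hx'C : x' ∈ Mstar ⊓ Subgroup.centralizer ({k₀} : Set G) := by
      refine ⟨hx'Ms, ?_⟩
      show x' ∈ Subgroup.centralizer ({k₀} : Set G)
      rw [Subgroup.mem_centralizer_iff]
      intro h hh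
      rw [Set.mem_singleton_iff] at hh
      rw [hh]
      exact Subgroup.mem_centralizer_iff.mp hx'K k₀ hk₀
    have hprime : ∀ r : ℕ, r.Prime → r ∣ orderOf x' → r = q := by
      intro r hr hd
      rw [hox'] at hd
      exact (Nat.prime_dvd_prime_iff_eq hr hq.out).mp hd
    have hAC : A ≤ Subgroup.centralizer ({x'} : Set G) := by
      intro a ha
      rw [Subgroup.mem_centralizer_iff]
      intro h hh
      rw [Set.mem_singleton_iff] at hh
      rw [hh]
      exact hAcomm x' hx'A a ha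
    rcases h32 Mstar hMstar k₀ (FM.hKσ hk₀) hk₀1 x' hx'C hx'1
      (fun r hr hd => by rw [hprime r hr hd]; exact hqσ) with ⟨hκ, -⟩ | ⟨hτ, -, hCx', -⟩
    · -- case (ii): `q ∈ κ(M*)`
      have hqκ : q ∈ kappa Mstar := hκ q hq.out (by rw [hox'])
      obtain ⟨K₁, hK₁hall, hx'K₁, -⟩ := exists_kappaHall_mem hG Mstar hMstar hx'Ms hqκ hox'
      obtain ⟨m, -, hconj⟩ := Cfsg.Agent.Lib.Helper62.isPiHallOf_conj hMssolv hKstH hK₁hall
      have hx'' : m⁻¹ * x' * m ∈ sigmaCore M ⊓ Subgroup.centralizer (K : Set G) := by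
        rw [← hconj] at hx'K₁
        exact Cfsg.Agent.Lib.Helper54.mem_conj_smul_iff.mp hx'K₁
      have hx''1 : m⁻¹ * x' * m ≠ 1 := by
        intro h
        apply hx'1
        have : x' = m * (m⁻¹ * x' * m) * m⁻¹ := by group
        rw [this, h]; group
      obtain ⟨h31a, -, -, -⟩ := h31 M hM K hKU.hall hK1
      have hCx'' : Subgroup.centralizer ({m⁻¹ * x' * m} : Set G) ≤ M :=
        centralizer_le_of_mem_kstar h31a FM.hKsM hx'' hx''1
      -- the conjugate `M₁` of `M`
      obtain ⟨M₁, hM₁def⟩ : ∃ M₁ : Subgroup G, M₁ = M.map (MulAut.conj m).toMonoidHom := ⟨_, rfl⟩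
      have hmemM₁ : ∀ x : G, x ∈ M₁ ↔ m⁻¹ * x * m ∈ M := by
        intro x
        rw [hM₁def]
        exact Cfsg.Agent.Lib.Helper22.BGFourteenFour.mem_map_conj_iff
      have hM₁ : IsCoatom M₁ := by
        rw [hM₁def]; exact Cfsg.Agent.Lib.Helper34.TildeEquiv.isCoatom_map_conj hM m
      have hσ₁ : sigma M₁ = sigma M := by
        rw [hM₁def]; exact Cfsg.Agent.Lib.Helper34.TildeEquiv.sigma_map (MulAut.conj m) M
      have hκ₁ : kappa M₁ = kappa M := by
        rw [hM₁def]; exact Cfsg.Agent.Lib.Helper34.TildeEquiv.kappa_map (MulAut.conj m) M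
      have hcard₁ : Nat.card M₁ = Nat.card M := by
        rw [hM₁def]; exact Cfsg.Agent.Lib.Helper34.TildeEquiv.card_map_equiv (MulAut.conj m) M
      have hmemσ₁ : ∀ x : G, x ∈ sigmaCore M₁ ↔ m⁻¹ * x * m ∈ sigmaCore M := by
        intro x
        rw [hM₁def, Cfsg.Agent.Lib.Helper34.TildeEquiv.sigmaCore_map (MulAut.conj m) M]
        exact Cfsg.Agent.Lib.Helper22.BGFourteenFour.mem_map_conj_iff
      have hHall₁ := (Cfsg.Agent.S1350.result hG M₁ hM₁).1
      have hx'σ₁ : x' ∈ sigmaCore M₁ := (hmemσ₁ x').mpr hx''.1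
      have hqσ₁ : q ∈ sigma M₁ := by
        apply sigmaCore_isPi M₁ q hq.out
        have := orderOf_dvd_natCard (⟨x', hx'σ₁⟩ : ↥(sigmaCore M₁))
        rwa [Subgroup.orderOf_mk, hox'] at this
      have hCx'M₁ : Subgroup.centralizer ({x'} : Set G) ≤ M₁ := by
        intro c hc
        rw [hmemM₁]
        apply hCx''
        rw [Subgroup.mem_centralizer_iff] at hc ⊢
        intro h hh
        rw [Set.mem_singleton_iff] at hh
        have h1 := hc x' (Set.mem_singleton x')
        rw [hh]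
        calc m⁻¹ * x' * m * (m⁻¹ * c * m) = m⁻¹ * (x' * c) * m := by group
          _ = m⁻¹ * (c * x') * m := by rw [h1]
          _ = m⁻¹ * c * m * (m⁻¹ * x' * m) := by group
      have hAM₁ : A ≤ M₁ := hAC.trans hCx'M₁
      have hKM₁ : K ≤ M₁ := by
        intro k hk
        apply hCx'M₁
        rw [Subgroup.mem_centralizer_iff]
        intro h hh
        rw [Set.mem_singleton_iff] at hh
        rw [hh]
        exact (Subgroup.mem_centralizer_iff.mp hx'K k hk).symm
      have hAq : IsPGroup q A := by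
        intro a
        refine ⟨1, ?_⟩
        rw [pow_one]
        apply Subtype.ext
        simpa using hAel.2 a a.2
      have hAσ₁ : A ≤ sigmaCore M₁ :=
        Cfsg.Agent.Lib.Helper30.BGNonab.le_sigmaCore_of_isPGroup M₁ hHall₁ hqσ₁ hAq hAM₁
      have hKhall₁ : IsPiHallOf (kappa M₁) K M₁ := by
        refine ⟨hKM₁, ?_, ?_⟩
        · intro r hr hd
          rw [hκ₁]; exact hKU.hall.2.1 r hr hd
        · intro r hr hrκ hd
          rw [hκ₁] at hrκ
          apply hKU.hall.2.2 r hr hrκ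
          have h1 := card_mul_relIndex hKM₁
          have h2 := card_mul_relIndex hKU.hall.1
          have h3 : K.relIndex M₁ = K.relIndex M := by
            apply Nat.eq_of_mul_eq_mul_left (Nat.card_pos (α := K))
            rw [h1, h2, hcard₁]
          rwa [← h3]
      -- the witness prime `s`
      have hU1' : Nat.card U ≠ 1 := fun h => hU1 (Subgroup.card_eq_one.mp h)
      obtain ⟨s, hs, hsU⟩ := Nat.exists_prime_and_dvd hU1'
      obtain ⟨hsσ, hsκ⟩ :=
        Cfsg.Agent.Lib.Helper50.not_mem_of_dvd_card_of_sigmaDecomposition hHall hKU hs hsU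
      have hsM : s ∣ Nat.card M₁ := by
        rw [hcard₁]; exact hsU.trans (Subgroup.card_dvd_of_le FM.hUM)
      have hHM₁ : H ≠ M₁ := by rw [hM₁def]; exact FH.hHM m
      exact kill_kappa hG h30 h31 M₁ H hM₁ hH hHM₁ K hKhall₁ hp s hs hsM
        (by rw [hσ₁]; exact hsσ) (by rw [hκ₁]; exact hsκ) q hq2.2.2.1 A B hAH hAel hAcard hBA
        hCB hAσ₁ hAK
    · -- case (iii): `q ∈ τ₂(M*)`, `C_G(x') ≤ M*`
      have hqτ : q ∈ tau2 Mstar := hτ q hq.out (by rw [hox'])
      have hAMs : A ≤ Mstar := hAC.trans hCx'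
      have h17 := (Cfsg.Agent.S1417.result hG Mstar hMstar q hqτ A ⟨hAMs, hAel, hAcard⟩).2.2.2.2.1
      have hbot := h17 H hH hHMs hAH
      apply hK1
      rw [eq_bot_iff, ← hbot]
      exact le_inf FM.hKσ FH.hKH

/-- **Step (6)** of B&G Theorem 14.6. -/
theorem step6 [Finite G] (hG : IsMinSimpleOddOrder G) (h30 : Stmt1430 G) (h31 : Stmt1431 G)
    (h32 : Stmt1432 G)
    (M Mstar H K U : Subgroup G) (hM : IsCoatom M) (hMstar : IsCoatom Mstar) (hH : IsCoatom H)
    (hKU : IsSigmaDecomposition M K U) (hU1 : U ≠ ⊥)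
    (hKst : K = sigmaCore Mstar ⊓
      Subgroup.centralizer ((sigmaCore M ⊓ Subgroup.centralizer (K : Set G)) : Set G))
    (hKstH : IsPiHallOf (kappa Mstar) (sigmaCore M ⊓ Subgroup.centralizer (K : Set G)) Mstar)
    (FM : FrameM M Mstar K U) (FH : FrameH M Mstar H K U) :
    K ≤ fittingOf (H ⊓ Mstar) ∧ IsComplIn (H ⊓ Mstar) (sigmaCore H) H := by
  classical
  have hp := FM.hp
  have : Fact (Nat.card K).Prime := ⟨hp⟩
  have hHallH := (Cfsg.Agent.S1350.result hG H hH).1
  have hHalls := (Cfsg.Agent.S1350.result hG Mstar hMstar).1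
  have hHsolv : Group.IsSolvable H := hG.2.2.2 H hH.1
  have hMssolv : Group.IsSolvable Mstar := hG.2.2.2 Mstar hMstar.1
  have hU3 := uniqThree_of_minSimple hG
  have hKprime : ∀ r : ℕ, r.Prime → r ∣ Nat.card K → r = Nat.card K := fun r hr hd =>
    (Nat.prime_dvd_prime_iff_eq hr hp).mp hd
  obtain ⟨E, hE, hKE⟩ := Cfsg.Agent.Lib.Helper97.BGTwelve.exists_complIn_ge hHsolv hHallH FH.hKH
    (fun r hr hd => by rw [hKprime r hr hd]; exact FH.hpσ)
  have hEH : E ≤ H := hE.1
  have hKcomm : ∀ x ∈ K, ∀ y ∈ K, x * y = y * x := FM.hKab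
  have hNKMs : Subgroup.normalizer (K : Set G) ≤ Mstar := FM.hNK.trans FM.hCK
  have hpH : Nat.card K ∣ Nat.card H := Subgroup.card_dvd_of_le FH.hKH
  by_cases hr1 : PRankLE (Nat.card K) 1 H
  · by_cases hd : Nat.card K ∣ Nat.card ↥⁅H, H⁆
    · -- `p ∈ τ₃(H)`
      have hp3 : Nat.card K ∈ tau3 H := ⟨hp, FH.hpσ, hd, hr1⟩
      have hEsolv : Group.IsSolvable E :=
        Group.isSolvable_of_isSolvable_injective (f := Subgroup.inclusion hEH)
          (Subgroup.inclusion_injective _)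
      obtain ⟨E₃, hE₃, hKE₃⟩ := Cfsg.Agent.Lib.Helper62.isPiHallOf_dom (π := tau3 H) hEsolv hKE
        (fun r hr hd => by rw [hKprime r hr hd]; exact hp3)
      obtain ⟨hcyc, -, hEN⟩ := (Cfsg.Agent.S1415.result hG H hH E hE).2.2 E₃ hE₃
      have hEK : E ≤ Subgroup.normalizer (K : Set G) :=
        hEN.trans (normalizer_le_normalizer_of_le_cyclic hcyc hKE₃)
      exact step6_finish hE FH.hHσMs (hEK.trans hNKMs) le_rfl hKE hEK hKcomm
    · -- `p ∈ τ₁(H)`
      have hp1 : Nat.card K ∈ tau1 H := ⟨hp, FH.hpσ, hpH, hd, hr1⟩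
      rcases tau1_dichotomy hG H hH E hE K (Nat.card K) hKE rfl hp1 FH.hfpf FH.hHσ1 with
        hEC | ⟨q, A, B, hq2, hAE, hAel, hAcard, hBA, hBcard, hHB, hBK, hAK⟩
      · have hEK : E ≤ Subgroup.normalizer (K : Set G) :=
          hEC.trans (Subgroup.centralizer_le_normalizer _)
        exact step6_finish hE FH.hHσMs (hEC.trans FM.hCK) le_rfl hKE hEK hKcomm
      · exfalso
        have : Fact q.Prime := ⟨hq2.1⟩
        exact kill_bad hG h30 h31 h32 M Mstar H K U hM hMstar hH hKU hU1 hKst hKstH FM FH q A B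
          hq2 (hAE.trans hEH) hAel hAcard hBA hBcard hHB hBK hAK
  · -- `p ∈ τ₂(H)`
    have hr2 : PRankLE (Nat.card K) 2 H := by
      by_contra h
      exact FH.hpσ (Cfsg.Agent.Lib.Helper50.alpha_subset_sigma hG hU3 H hH ⟨hp, h⟩)
    have hp2 : Nat.card K ∈ tau2 H := ⟨hp, FH.hpσ, hr2, hr1⟩
    have hr1E : ¬ PRankLE (Nat.card K) 1 E :=
      Cfsg.Agent.Lib.Helper97.BGTwelve.not_pRankLE_complement hE (sigmaCore_isPi H) FH.hpσ hr1
    obtain ⟨A, hAE, hAel, hAcard⟩ :=
      Cfsg.Agent.Lib.Helper97.BGTwelve.exists_elemAb_sq_of_not_pRankLE_one E hr1E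
    obtain ⟨⟨hEA, hXA⟩, -, -⟩ :=
      Cfsg.Agent.S1418.result hG H hH E hE (Nat.card K) hp2 A ⟨hAE, hAel, hAcard⟩
    have hKA : K ≤ A := hXA K hKE rfl
    have hAcomm : ∀ a ∈ A, ∀ b ∈ A, a * b = b * a := fun a ha b hb =>
      congrArg Subtype.val (hAel.1.is_comm.comm ⟨a, ha⟩ ⟨b, hb⟩)
    have hAMs : A ≤ Mstar := by
      intro a ha
      apply FM.hCK
      rw [Subgroup.mem_centralizer_iff]
      intro k hk
      exact hAcomm k (hKA hk) a ha
    have hAp : IsPGroup (Nat.card K) A := by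
      intro a
      refine ⟨1, ?_⟩
      rw [pow_one]
      apply Subtype.ext
      simpa using hAel.2 a a.2
    have hAnc : ¬ IsCyclic A := by
      intro hc
      have h1 : Monoid.exponent A = Nat.card A := IsCyclic.exponent_eq_card
      have h2 : Monoid.exponent A ∣ Nat.card K := by
        apply Monoid.exponent_dvd_of_forall_pow_eq_one
        intro a
        apply Subtype.ext
        simpa using hAel.2 a a.2
      rw [h1, hAcard] at h2
      have h3 := Nat.le_of_dvd hp.pos h2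
      have h4 : Nat.card K < Nat.card K ^ 2 := by
        have := hp.one_lt
        nlinarith
      omega
    obtain ⟨Es, hEs, -⟩ := Cfsg.Agent.Lib.Helper97.BGTwelve.exists_complIn_ge (K := ⊥) hMssolv
      hHalls bot_le (fun r hr hd => by
        rw [Subgroup.card_bot] at hd
        exact absurd (Nat.dvd_one.mp hd) hr.one_lt.ne')
    have hNA : Subgroup.normalizer (A : Set G) ≤ Mstar :=
      (Cfsg.Agent.S1420.result hG Mstar hMstar Es hEs).2.2.1 (Nat.card K) A FM.hpσMs hAp hAMs hAnc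
    exact step6_finish hE FH.hHσMs (hEA.trans hNA) hKA hAE hEA hAcomm

end Cfsg.Agent.Lib.Helper65.BGSix
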