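import Mathlib
import Cfsg.Prelude.Def_OddOrderLocal
import Cfsg.Agent.Lib.Helper65.BGSixD

/-!
# Bender–Glauberman Theorem 14.6, step (6) for an ARBITRARY complement   (helper65)

`step6_le`: every complement `E` of `H_σ` in `H` containing `K` lies in `M*` (the form needed by
helper54's Lemma A, `kappa_eq_empty_of_signalizer`).  Same proof as `step6`, with `E` a parameter.
-/

set_option autoImplicit false

namespace Cfsg.Agent.Lib.Helper65.BGSix

open Cfsg Pointwise
open Cfsg.Agent.Lib.Helper54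
open Cfsg.Agent.Lib.Helper22.BGFourteenFour (Stmt1432)
open Cfsg.Agent.Lib.Helper24.BGSixFrame (FrameM FrameH)

universe u

variable {G : Type u} [Group G]

/-- **Step (6)** of B&G Theorem 14.6 for an arbitrary complement `E ≥ K` of `H_σ` in `H`: `E ≤ M*`, and
`K` lies in a normal abelian subgroup `X` of `E`. -/
theorem step6_core [Finite G] (hG : IsMinSimpleOddOrder G) (h30 : Stmt1430 G) (h31 : Stmt1431 G)
    (h32 : Stmt1432 G)
    (M Mstar H K U : Subgroup G) (hM : IsCoatom M) (hMstar : IsCoatom Mstar) (hH : IsCoatom H)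
    (hKU : IsSigmaDecomposition M K U) (hU1 : U ≠ ⊥)
    (hKst : K = sigmaCore Mstar ⊓
      Subgroup.centralizer ((sigmaCore M ⊓ Subgroup.centralizer (K : Set G)) : Set G))
    (hKstH : IsPiHallOf (kappa Mstar) (sigmaCore M ⊓ Subgroup.centralizer (K : Set G)) Mstar)
    (FM : FrameM M Mstar K U) (FH : FrameH M Mstar H K U)
    (E : Subgroup G) (hE : IsComplIn E (sigmaCore H) H) (hKE : K ≤ E) :
    E ≤ Mstar ∧ ∃ X : Subgroup G, K ≤ X ∧ X ≤ E ∧ E ≤ Subgroup.normalizer (X : Set G) ∧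
      ∀ x ∈ X, ∀ y ∈ X, x * y = y * x := by
  classical
  have hp := FM.hp
  have : Fact (Nat.card K).Prime := ⟨hp⟩
  have hHallH := (Cfsg.Agent.S1350.result hG H hH).1
  have hHalls := (Cfsg.Agent.S1350.result hG Mstar hMstar).1
  have hHsolv : Group.IsSolvable H := hG.2.2.2 H hH.1
  have hMssolv : Group.IsSolvable Mstar := hG.2.2.2 Mstar hMstar.1
  have hU3 := uniqThree_of_minSimple hG
  have hKprime : ∀ r : ℕ, r.Prime → r ∣ Nat.card K → r = Nat.card K := fun r hr hd =>
    (Nat.prime_dvd_prime_iff_eq hr hp).mp hd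
  have hEH : E ≤ H := hE.1
  have hKcomm : ∀ x ∈ K, ∀ y ∈ K, x * y = y * x := FM.hKab
  have hNKMs : Subgroup.normalizer (K : Set G) ≤ Mstar := FM.hNK.trans FM.hCK
  have hpH : Nat.card K ∣ Nat.card H := Subgroup.card_dvd_of_le FH.hKH
  by_cases hr1 : PRankLE (Nat.card K) 1 H
  · by_cases hd : Nat.card K ∣ Nat.card ↥⁅H, H⁆
    · -- `p ∈ τ₃(H)`
      have hp3 : Nat.card K ∈ tau3 H := ⟨hp, FH.hpσ, hd, hr1⟩
      have hEsolv : Group.IsSolvable E :=
        Group.isSolvable_of_isSolvable_injective (f := Subgroup.inclusion hEH)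
          (Subgroup.inclusion_injective _)
      obtain ⟨E₃, hE₃, hKE₃⟩ := Cfsg.Agent.Lib.Helper62.isPiHallOf_dom (π := tau3 H) hEsolv hKE
        (fun r hr hd => by rw [hKprime r hr hd]; exact hp3)
      obtain ⟨hcyc, -, hEN⟩ := (Cfsg.Agent.S1415.result hG H hH E hE).2.2 E₃ hE₃
      have hEK : E ≤ Subgroup.normalizer (K : Set G) :=
        hEN.trans (normalizer_le_normalizer_of_le_cyclic hcyc hKE₃)
      exact ⟨hEK.trans hNKMs, _, le_rfl, hKE, hEK, hKcomm⟩
    · -- `p ∈ τ₁(H)`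
      have hp1 : Nat.card K ∈ tau1 H := ⟨hp, FH.hpσ, hpH, hd, hr1⟩
      rcases tau1_dichotomy hG H hH E hE K (Nat.card K) hKE rfl hp1 FH.hfpf FH.hHσ1 with
        hEC | ⟨q, A, B, hq2, hAE, hAel, hAcard, hBA, hBcard, hHB, hBK, hAK⟩
      · have hEK : E ≤ Subgroup.normalizer (K : Set G) :=
          hEC.trans (Subgroup.centralizer_le_normalizer _)
        exact ⟨hEC.trans FM.hCK, _, le_rfl, hKE, hEK, hKcomm⟩
      · exfalso
        have : Fact q.Prime := ⟨hq2.1⟩
        exact kill_bad hG h30 h31 h32 M Mstar H K U hM hMstar hH hKU hU1 hKst hKstH FM FH q A B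
          hq2 (hAE.trans hEH) hAel hAcard hBA hBcard hHB hBK hAK
  · -- `p ∈ τ₂(H)`
    have hr2 : PRankLE (Nat.card K) 2 H := by
      by_contra h
      exact FH.hpσ (Cfsg.Agent.Lib.Helper50.alpha_subset_sigma hG hU3 H hH ⟨hp, h⟩)
    have hp2 : Nat.card K ∈ tau2 H := ⟨hp, FH.hpσ, hr2, hr1⟩
    have hr1E : ¬ PRankLE (Nat.card K) 1 E :=
      Cfsg.Agent.Lib.Helper97.BGTwelve.not_pRankLE_complement hE (sigmaCore_isPi H) FH.hpσ hr1
    obtain ⟨A, hAE, hAel, hAcard⟩ :=
      Cfsg.Agent.Lib.Helper97.BGTwelve.exists_elemAb_sq_of_not_pRankLE_one E hr1E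
    obtain ⟨⟨hEA, hXA⟩, -, -⟩ :=
      Cfsg.Agent.S1418.result hG H hH E hE (Nat.card K) hp2 A ⟨hAE, hAel, hAcard⟩
    have hKA : K ≤ A := hXA K hKE rfl
    have hAcomm : ∀ a ∈ A, ∀ b ∈ A, a * b = b * a := fun a ha b hb =>
      congrArg Subtype.val (hAel.1.is_comm.comm ⟨a, ha⟩ ⟨b, hb⟩)
    have hAMs : A ≤ Mstar := by
      intro a ha
      apply FM.hCK
      rw [Subgroup.mem_centralizer_iff]
      intro k hk
      exact hAcomm k (hKA hk) a ha
    have hAp : IsPGroup (Nat.card K) A := by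
      intro a
      refine ⟨1, ?_⟩
      rw [pow_one]
      apply Subtype.ext
      simpa using hAel.2 a a.2
    have hAnc : ¬ IsCyclic A := by
      intro hc
      have h1 : Monoid.exponent A = Nat.card A := IsCyclic.exponent_eq_card
      have h2 : Monoid.exponent A ∣ Nat.card K := by
        apply Monoid.exponent_dvd_of_forall_pow_eq_one
        intro a
        apply Subtype.ext
        simpa using hAel.2 a a.2
      rw [h1, hAcard] at h2
      have h3 := Nat.le_of_dvd hp.pos h2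
      have h4 : Nat.card K < Nat.card K ^ 2 := by
        have := hp.one_lt
        nlinarith
      omega
    obtain ⟨Es, hEs, -⟩ := Cfsg.Agent.Lib.Helper97.BGTwelve.exists_complIn_ge (K := ⊥) hMssolv
      hHalls bot_le (fun r hr hd => by
        rw [Subgroup.card_bot] at hd
        exact absurd (Nat.dvd_one.mp hd) hr.one_lt.ne')
    have hNA : Subgroup.normalizer (A : Set G) ≤ Mstar :=
      (Cfsg.Agent.S1420.result hG Mstar hMstar Es hEs).2.2.1 (Nat.card K) A FM.hpσMs hAp hAMs hAnc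
    exact ⟨hEA.trans hNA, _, hKA, hAE, hEA, hAcomm⟩

/-- every complement of `H_σ` in `H` containing `K` lies in `M*` -/
theorem step6_le [Finite G] (hG : IsMinSimpleOddOrder G) (h30 : Stmt1430 G) (h31 : Stmt1431 G)
    (h32 : Stmt1432 G)
    (M Mstar H K U : Subgroup G) (hM : IsCoatom M) (hMstar : IsCoatom Mstar) (hH : IsCoatom H)
    (hKU : IsSigmaDecomposition M K U) (hU1 : U ≠ ⊥)
    (hKst : K = sigmaCore Mstar ⊓
      Subgroup.centralizer ((sigmaCore M ⊓ Subgroup.centralizer (K : Set G)) : Set G))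
    (hKstH : IsPiHallOf (kappa Mstar) (sigmaCore M ⊓ Subgroup.centralizer (K : Set G)) Mstar)
    (FM : FrameM M Mstar K U) (FH : FrameH M Mstar H K U) :
    ∀ E : Subgroup G, IsComplIn E (sigmaCore H) H → K ≤ E → E ≤ Mstar :=
  fun E hE hKE =>
    (step6_core hG h30 h31 h32 M Mstar H K U hM hMstar hH hKU hU1 hKst hKstH FM FH E hE hKE).1

/-- every complement of `H_σ` in `H` containing `K` equals `H ∩ M*` -/
theorem step6_eq [Finite G] (hG : IsMinSimpleOddOrder G) (h30 : Stmt1430 G) (h31 : Stmt1431 G)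
    (h32 : Stmt1432 G)
    (M Mstar H K U : Subgroup G) (hM : IsCoatom M) (hMstar : IsCoatom Mstar) (hH : IsCoatom H)
    (hKU : IsSigmaDecomposition M K U) (hU1 : U ≠ ⊥)
    (hKst : K = sigmaCore Mstar ⊓
      Subgroup.centralizer ((sigmaCore M ⊓ Subgroup.centralizer (K : Set G)) : Set G))
    (hKstH : IsPiHallOf (kappa Mstar) (sigmaCore M ⊓ Subgroup.centralizer (K : Set G)) Mstar)
    (FM : FrameM M Mstar K U) (FH : FrameH M Mstar H K U) :
    ∀ E : Subgroup G, IsComplIn E (sigmaCore H) H → K ≤ E → H ⊓ Mstar = E :=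
  fun E hE hKE => inf_eq_of_isComplIn hE
    (step6_core hG h30 h31 h32 M Mstar H K U hM hMstar hH hKU hU1 hKst hKstH FM FH E hE hKE).1
    FH.hHσMs

end Cfsg.Agent.Lib.Helper65.BGSix
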