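import Mathlib

/-!
# Feit–Higman (S1142), MODULE LA-CHEB  (helper65, for helper19's project FH)

Chebyshev-type recurrences `p_{k+2} = y p_{k+1} - c p_k` (`p_0 = 0, p_1 = 1`) and
`d_{k+2} = y d_{k+1} - c d_k` (`d_0 = 2, d_1 = y`), their closed forms for `y = 2 r cos θ`, `c = r²`,
the location of the roots of `p_n`, and powers of an element satisfying a quadratic equation.
-/

set_option autoImplicit false

namespace Cfsg.Agent.Lib.Helper65.FHCheb

noncomputable def pSeq (y c : ℝ) : ℕ → ℝ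
  | 0 => 0
  | 1 => 1
  | k + 2 => y * pSeq y c (k + 1) - c * pSeq y c k

noncomputable def dSeq (y c : ℝ) : ℕ → ℝ
  | 0 => 2
  | 1 => y
  | k + 2 => y * dSeq y c (k + 1) - c * dSeq y c k

@[simp] theorem pSeq_zero (y c : ℝ) : pSeq y c 0 = 0 := rfl
@[simp] theorem pSeq_one (y c : ℝ) : pSeq y c 1 = 1 := rfl
theorem pSeq_add_two (y c : ℝ) (k : ℕ) :
    pSeq y c (k + 2) = y * pSeq y c (k + 1) - c * pSeq y c k := rfl
@[simp] theorem dSeq_zero (y c : ℝ) : dSeq y c 0 = 2 := rfl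
@[simp] theorem dSeq_one (y c : ℝ) : dSeq y c 1 = y := rfl
theorem dSeq_add_two (y c : ℝ) (k : ℕ) :
    dSeq y c (k + 2) = y * dSeq y c (k + 1) - c * dSeq y c k := rfl

theorem dSeq_cos (r θ : ℝ) (k : ℕ) :
    dSeq (2 * r * Real.cos θ) (r ^ 2) k = 2 * r ^ k * Real.cos (k * θ) := by
  induction k using Nat.twoStepInduction with
  | zero => simp
  | one => simp
  | more k ih0 ih1 =>
    rw [dSeq_add_two, ih1, ih0]
    have e2 : ((k + 2 : ℕ) : ℝ) * θ = ((k + 1 : ℕ) : ℝ) * θ + θ := by push_cast; ring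
    have e0 : ((k : ℕ) : ℝ) * θ = ((k + 1 : ℕ) : ℝ) * θ - θ := by push_cast; ring
    rw [e2, e0, Real.cos_add, Real.cos_sub]
    ring

theorem pSeq_sin (r θ : ℝ) (k : ℕ) :
    pSeq (2 * r * Real.cos θ) (r ^ 2) (k + 1) * Real.sin θ = r ^ k * Real.sin ((k + 1) * θ) := by
  induction k using Nat.twoStepInduction with
  | zero => simp
  | one =>
    rw [pSeq_add_two]
    simp only [pSeq_one, pSeq_zero, mul_one, mul_zero, sub_zero, zero_add, pow_one]
    have : ((1 : ℕ) : ℝ) + 1 = 2 := by norm_num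
    rw [this, Real.sin_two_mul]
    ring
  | more k ih0 ih1 =>
    rw [pSeq_add_two, sub_mul, mul_assoc, mul_assoc (r ^ 2), ih1, ih0]
    have e2 : (((k + 2 : ℕ) : ℝ) + 1) * θ = (((k + 1 : ℕ) : ℝ) + 1) * θ + θ := by push_cast; ring
    have e0 : (((k : ℕ) : ℝ) + 1) * θ = (((k + 1 : ℕ) : ℝ) + 1) * θ - θ := by push_cast; ring
    rw [e2, e0, Real.sin_add, Real.sin_sub]
    ring

theorem pSeq_neg (y c : ℝ) (k : ℕ) : pSeq (-y) c k = (-1) ^ (k + 1) * pSeq y c k := by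
  induction k using Nat.twoStepInduction with
  | zero => simp
  | one => simp
  | more k ih0 ih1 =>
    rw [pSeq_add_two, pSeq_add_two, ih1, ih0]
    ring

theorem pSeq_pos_of_le (r y : ℝ) (hr : 0 < r) (hy : 2 * r ≤ y) (k : ℕ) :
    0 < pSeq y (r ^ 2) (k + 1) ∧ r * pSeq y (r ^ 2) k ≤ pSeq y (r ^ 2) (k + 1) := by
  induction k with
  | zero => simp
  | succ k ih =>
    obtain ⟨hpos, hle⟩ := ih
    have h1 : pSeq y (r ^ 2) (k + 2) = y * pSeq y (r ^ 2) (k + 1) - r ^ 2 * pSeq y (r ^ 2) k :=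
      pSeq_add_two _ _ _
    have h2 : 2 * r * pSeq y (r ^ 2) (k + 1) ≤ y * pSeq y (r ^ 2) (k + 1) :=
      mul_le_mul_of_nonneg_right hy hpos.le
    have h3 : r * pSeq y (r ^ 2) (k + 1) ≤ pSeq y (r ^ 2) (k + 2) := by
      rw [h1]
      nlinarith [mul_le_mul_of_nonneg_left hle hr.le]
    exact ⟨lt_of_lt_of_le (mul_pos hr hpos) h3, h3⟩

theorem pSeq_ne_zero_of_le (r y : ℝ) (hr : 0 < r) (hy : 2 * r ≤ |y|) (k : ℕ) :
    pSeq y (r ^ 2) (k + 1) ≠ 0 := by
  rcases le_abs.mp hy with h | h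
  · exact (pSeq_pos_of_le r y hr h k).1.ne'
  · have h1 := (pSeq_pos_of_le r (-y) hr h k).1
    rw [pSeq_neg] at h1
    intro h0
    rw [h0, mul_zero] at h1
    exact lt_irrefl _ h1

theorem pSeq_root (r y : ℝ) (hr : 0 < r) (n : ℕ) (hn : 1 ≤ n) (h : pSeq y (r ^ 2) n = 0) :
    ∃ j : ℕ, 1 ≤ j ∧ j < n ∧ y = 2 * r * Real.cos (Real.pi * j / n) ∧
      -(r ^ 2 * pSeq y (r ^ 2) (n - 1)) = r ^ n * (-1) ^ j := by
  obtain ⟨m, rfl⟩ : ∃ m, n = m + 1 := ⟨n - 1, by omega⟩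
  -- `|y| < 2r`
  have hlt : |y| < 2 * r := by
    by_contra hcon
    push Not at hcon
    exact pSeq_ne_zero_of_le r y hr hcon m h
  have h2r : 0 < 2 * r := by linarith
  obtain ⟨hlo, hhi⟩ := abs_lt.mp hlt
  have hq1 : -1 < y / (2 * r) := by
    rw [lt_div_iff₀ h2r]; linarith
  have hq2 : y / (2 * r) < 1 := by
    rw [div_lt_iff₀ h2r]; linarith
  obtain ⟨θ, hθ⟩ : ∃ θ, θ = Real.arccos (y / (2 * r)) := ⟨_, rfl⟩
  have hcos : Real.cos θ = y / (2 * r) := by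
    rw [hθ]; exact Real.cos_arccos hq1.le hq2.le
  have hθ0 : 0 < θ := by rw [hθ]; exact Real.arccos_pos.mpr hq2
  have hθπ : θ < Real.pi := by
    rw [hθ]
    have := Real.arccos_lt_pi.mpr hq1
    exact this
  have hsin : 0 < Real.sin θ := Real.sin_pos_of_pos_of_lt_pi hθ0 hθπ
  have hy : y = 2 * r * Real.cos θ := by
    rw [hcos]; field_simp
  -- `sin (n θ) = 0`
  have hs := pSeq_sin r θ m
  rw [← hy, h, zero_mul] at hs
  have hsn : Real.sin (((m : ℝ) + 1) * θ) = 0 := by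
    rcases mul_eq_zero.mp hs.symm with h0 | h0
    · exact absurd h0 (pow_ne_zero _ hr.ne')
    · exact h0
  obtain ⟨j, hj⟩ := Real.sin_eq_zero_iff.mp hsn
  -- `0 < j < n`
  have hnθ0 : 0 < ((m : ℝ) + 1) * θ := by positivity
  have hnθπ : ((m : ℝ) + 1) * θ < ((m : ℝ) + 1) * Real.pi :=
    mul_lt_mul_of_pos_left hθπ (by positivity)
  have hj0 : (0 : ℝ) < j := by
    have : 0 < (j : ℝ) * Real.pi := by rw [hj]; exact hnθ0
    exact (mul_pos_iff_of_pos_right Real.pi_pos).mp this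
  have hjn : (j : ℝ) < (m : ℝ) + 1 := by
    have : (j : ℝ) * Real.pi < ((m : ℝ) + 1) * Real.pi := by rw [hj]; exact hnθπ
    exact lt_of_mul_lt_mul_right this Real.pi_pos.le
  have hj0' : 0 < j := by exact_mod_cast hj0
  have hjn' : j < (m : ℤ) + 1 := by exact_mod_cast hjn
  obtain ⟨j', rfl⟩ : ∃ j' : ℕ, j = j' := ⟨j.toNat, (Int.toNat_of_nonneg hj0'.le).symm⟩
  have hj1 : 1 ≤ j' := by omega
  have hjm : j' < m + 1 := by omega
  have hθeq : θ = Real.pi * j' / ((m + 1 : ℕ) : ℝ) := by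
    have hm1 : ((m + 1 : ℕ) : ℝ) ≠ 0 := by positivity
    rw [eq_div_iff hm1]
    push_cast
    have := hj
    push_cast at this
    linarith
  refine ⟨j', hj1, hjm, by rw [hy, hθeq], ?_⟩
  -- the value of `p_{n-1}`
  have hcosn : Real.cos (((m : ℝ) + 1) * θ) = (-1) ^ j' := by
    rw [← hj]
    push_cast
    rw [mul_comm]
    have := Real.cos_nat_mul_pi j'
    rw [mul_comm]
    exact this
  rcases Nat.eq_zero_or_pos m with hm0 | hmpos
  · -- `n = 1`: impossible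
    subst hm0
    simp at h
  · obtain ⟨m', rfl⟩ : ∃ m', m = m' + 1 := ⟨m - 1, by omega⟩
    have hs' := pSeq_sin r θ m'
    rw [← hy] at hs'
    have e1 : ((m' : ℝ) + 1) * θ = (((m' + 1 : ℕ) : ℝ) + 1) * θ - θ := by push_cast; ring
    rw [e1, Real.sin_sub, hsn, hcosn, zero_mul, zero_sub] at hs'
    have hp : pSeq y (r ^ 2) (m' + 1) = -(r ^ m' * (-1) ^ j') := by
      have h3 : pSeq y (r ^ 2) (m' + 1) * Real.sin θ = -(r ^ m' * (-1) ^ j') * Real.sin θ := by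
        rw [hs']; ring
      exact mul_right_cancel₀ hsin.ne' h3
    show -(r ^ 2 * pSeq y (r ^ 2) (m' + 1)) = r ^ (m' + 1 + 1) * (-1) ^ j'
    rw [hp]
    ring

theorem pow_of_quadratic {R : Type*} [Ring R] [Algebra ℝ R] (M : R) (y c : ℝ)
    (hM : M * M = y • M - c • (1 : R)) (k : ℕ) :
    M ^ (k + 1) = pSeq y c (k + 1) • M - (c * pSeq y c k) • (1 : R) := by
  induction k with
  | zero => simp
  | succ k ih =>
    rw [pow_succ, ih, sub_mul, smul_mul_assoc, smul_mul_assoc, one_mul, hM, pSeq_add_two]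
    module

end Cfsg.Agent.Lib.Helper65.FHCheb
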