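import Mathlib
import Cfsg.Agent.Lib.Helper76.GOut.QFDefs

/-! # GOUT-[QF-RAD] (helper65): zero polar form ⇒ zero form; the polar form is nondegenerate -/

set_option autoImplicit false
set_option linter.unusedSectionVars false

namespace Cfsg.Agent.Lib.Helper76.GOut

variable {V : Type*} [AddCommGroup V] [Module (ZMod 2) V] [Finite V]
variable {R : Type*} [Group R]

/-- An invariant quadratic form with zero polar form is zero. -/
theorem eq_zero_of_polar_eq_zero {ρ : R →* (V ≃ₗ[ZMod 2] V)} (h : Hyp ρ) {q : V → ZMod 2}
    (hq : IsInv ρ q) (h0 : ∀ u v : V, polar q u v = 0) : ∀ v : V, q v = 0 := by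
  have hadd : ∀ u v : V, q (u + v) = q u + q v := by
    intro u v
    rw [hq.1.map_add, h0, add_zero]
  let K : Submodule (ZMod 2) V :=
    { carrier := {v | q v = 0}
      add_mem' := by
        intro a b ha hb
        show q (a + b) = 0
        rw [hadd, show q a = 0 from ha, show q b = 0 from hb, add_zero]
      zero_mem' := hq.1.map_zero
      smul_mem' := by
        intro c v hv
        show q (c • v) = 0
        have hc : c = 0 ∨ c = 1 := by revert c; decide
        rcases hc with rfl | rfl
        · rw [zero_smul]; exact hq.1.map_zero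
        · rw [one_smul]; exact hv }
  have hKinv : ∀ g : R, ∀ w ∈ K, ρ g w ∈ K := by
    intro g w hw
    show q (ρ g w) = 0
    rw [hq.2]; exact hw
  rcases h.irr K hKinv with hK | hK
  · exfalso
    have hinj : Function.Injective q := by
      intro u v huv
      have h1 : q (u + v) = 0 := by rw [hadd, huv, zmod2_add_self]
      have h2 : u + v ∈ K := h1
      rw [hK, Submodule.mem_bot] at h2
      calc u = u + (v + v) := by rw [add_self', add_zero]
        _ = (u + v) + v := by abel
        _ = v := by rw [h2, zero_add]
    have hle := Nat.card_le_card_of_injective q hinj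
    have h2 : Nat.card (ZMod 2) = 2 := by simp
    have := h.card
    omega
  · intro v
    have : v ∈ K := by rw [hK]; trivial
    exact this

/-- The polar form of a nonzero invariant quadratic form is nondegenerate. -/
theorem polar_nondeg {ρ : R →* (V ≃ₗ[ZMod 2] V)} (h : Hyp ρ) {q : V → ZMod 2}
    (hq : IsInv ρ q) (hq0 : ∃ v : V, q v ≠ 0) (u : V) (hu : u ≠ 0) : ∃ v : V, polar q u v ≠ 0 := by
  let K : Submodule (ZMod 2) V :=
    { carrier := {u | ∀ v : V, polar q u v = 0}
      add_mem' := by
        intro a b ha hb v
        rw [hq.1.polar_add_left, ha v, hb v, add_zero]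
      zero_mem' := fun v => hq.1.polar_zero_left v
      smul_mem' := by
        intro c w hw v
        have hc : c = 0 ∨ c = 1 := by revert c; decide
        rcases hc with rfl | rfl
        · rw [zero_smul]; exact hq.1.polar_zero_left v
        · rw [one_smul]; exact hw v }
  have hKinv : ∀ g : R, ∀ w ∈ K, ρ g w ∈ K := by
    intro g w hw v
    have h1 : v = ρ g (ρ g⁻¹ v) := by
      rw [← LinearEquiv.mul_apply, ← map_mul, mul_inv_cancel, map_one]; rfl
    rw [h1, hq.polar_map]
    exact hw _
  by_contra hcon
  push Not at hcon
  rcases h.irr K hKinv with hK | hK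
  · have : u ∈ K := hcon
    rw [hK, Submodule.mem_bot] at this
    exact hu this
  · obtain ⟨v, hv⟩ := hq0
    apply hv
    apply eq_zero_of_polar_eq_zero h hq
    intro a b
    have : a ∈ K := by rw [hK]; trivial
    exact this b

end Cfsg.Agent.Lib.Helper76.GOut
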