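import Mathlib
import Cfsg.Agent.Lib.Helper25.FrobCount
import Cfsg.Agent.Lib.Helper64.SibleyNumeric

/-!
# Sibley's coherence theorem, case (6.8)(c2) with `W₂ ∩ Z(H) = 1`: counting

* `index_dvd_card_sub_one`: if the centralizer of every nonidentity element of the normal subgroup `Z` is
  the normal subgroup `K`, then `[Λ:K]` divides `|Z| - 1`;
* `mul_index_le_sum`: a finite set containing all irreducible characters nontrivial on `Z`, `|Z| ≥ c + 1`,
  has sum of squared degrees at least `c [Λ:Z]`.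
-/

set_option autoImplicit false
set_option linter.unusedSectionVars false

namespace Cfsg.Agent.Lib.Helper65.SibleyBeta

open Cfsg

universe u

section Count

variable {Λ : Type u} [Group Λ] [Fintype Λ] (K Z : Subgroup Λ) [hK : K.Normal] [hZ : Z.Normal]

theorem index_dvd_card_sub_one
    (hcen : ∀ z ∈ Z, z ≠ 1 → ∀ x : Λ, x * z * x⁻¹ = z ↔ x ∈ K) :
    K.index ∣ Nat.card Z - 1 := by
  classical
  let Y : Finset Λ := (Finset.univ.filter (fun q => q ∈ Z)).erase 1
  have hYcard : Y.card = Nat.card Z - 1 := by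
    rw [Finset.card_erase_of_mem
        (by rw [Finset.mem_filter]; exact ⟨Finset.mem_univ _, Subgroup.one_mem _⟩),
      Nat.card_eq_fintype_card, Fintype.card_subtype]
  rw [← hYcard]
  apply Cfsg.Agent.Lib.Helper25.FrobCount.dvd_card_of_forall_index_stabilizer (G := ConjAct Λ) Y
  · intro g y hy
    rw [Finset.mem_erase, Finset.mem_filter] at hy ⊢
    obtain ⟨hy1, -, hy2⟩ := hy
    rw [ConjAct.smul_def]
    refine ⟨?_, Finset.mem_univ _, hZ.conj_mem y hy2 _⟩
    intro h
    apply hy1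
    have := congrArg (fun z => (ConjAct.ofConjAct g)⁻¹ * z * ConjAct.ofConjAct g) h
    simpa [mul_assoc] using this
  · intro y hy
    rw [Finset.mem_erase, Finset.mem_filter] at hy
    obtain ⟨hy1, -, hy2⟩ := hy
    have hstab : MulAction.stabilizer (ConjAct Λ) y =
        K.comap (ConjAct.ofConjAct (G := Λ)).toMonoidHom := by
      ext g
      rw [MulAction.mem_stabilizer_iff, ConjAct.smul_def, Subgroup.mem_comap]
      exact hcen y hy2 hy1 (ConjAct.ofConjAct g)
    rw [hstab, Subgroup.index_comap_of_surjective _ (MulEquiv.surjective _)]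

end Count

section Numeric

variable {L : Type*} [Group L] [Fintype L] (Z : Subgroup L) [hZ : Z.Normal]

open Classical in
/-- a finite set containing all irreducible characters nontrivial on `Z` (with `|Z| ≥ c + 1`) has
sum of squared degrees at least `c [L:Z]`. -/
theorem mul_index_le_sum (c : ℕ) (hZc : c + 1 ≤ Nat.card Z) (Ts : Finset (L → ℂ))
    (hTs : ∀ ξ : L → ℂ, IsIrrCharacter L ξ → (∃ z ∈ Z, ξ z ≠ ξ 1) → ξ ∈ Ts) :
    c * Z.index ≤ ∑ ξ ∈ Ts.filter (fun ξ => IsIrrCharacter L ξ), charDegree ξ ^ 2 := by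
  classical
  have h1 := Cfsg.Agent.Lib.Helper64.sum_sq_charDegree_nontrivial_on Z
  have hcard : Nat.card Z * Z.index = Nat.card L := Subgroup.card_mul_index Z
  set F := Finset.univ.filter
        (fun ξ : Cfsg.IrrCharacter L => ¬ ∀ z ∈ Z, (ξ : L → ℂ) z = (ξ : L → ℂ) 1) with hF
  have h2 : ∑ ξ ∈ F, charDegree (ξ : L → ℂ) ^ 2 =
      ∑ ξ ∈ F.image (fun ξ : Cfsg.IrrCharacter L => (ξ : L → ℂ)), charDegree ξ ^ 2 := by
    rw [Finset.sum_image]
    intro a _ b _ hab
    exact Subtype.ext hab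
  have h3 : F.image (fun ξ : Cfsg.IrrCharacter L => (ξ : L → ℂ)) ⊆
      Ts.filter (fun ξ => IsIrrCharacter L ξ) := by
    intro ξ hξ
    rw [Finset.mem_image] at hξ
    obtain ⟨ξ', hξ', rfl⟩ := hξ
    rw [hF, Finset.mem_filter] at hξ'
    rw [Finset.mem_filter]
    refine ⟨?_, ξ'.2⟩
    apply hTs _ ξ'.2
    by_contra hcon
    apply hξ'.2
    intro z hz
    by_contra hne
    exact hcon ⟨z, hz, hne⟩
  have h4 := Finset.sum_le_sum_of_subset (f := fun ξ : L → ℂ => charDegree ξ ^ 2) h3
  have h5 : (c + 1) * Z.index ≤ Nat.card L := by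
    rw [← hcard]
    exact Nat.mul_le_mul_right _ hZc
  rw [← h2] at h4
  have h6 : (c + 1) * Z.index = c * Z.index + Z.index := by ring
  omega

end Numeric

end Cfsg.Agent.Lib.Helper65.SibleyBeta
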