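import Mathlib
import Cfsg.Agent.Lib.Helper74.SibleyExc
import Cfsg.Agent.Lib.Helper74.FrobInduced
import Cfsg.Agent.Lib.Helper51.BGAsymA
import Cfsg.Agent.Lib.Helper79.Schur
import Cfsg.Agent.Lib.Helper78.CharValues
import Cfsg.Agent.Lib.Helper25.CohCentral

/-!
# Sibley's coherence theorem, case (6.8)(c2) with `W₂ ∩ Z(H) = 1`: group theory and inertia groups

Abstract setting: a finite group `Λ = K ⋊ W` (`K` normal, `K ⊔ W = ⊤`, coprime orders), a subgroup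
`W₂ ≤ [K,K]` containing `C_K(w)` for every `w ∈ W`, `w ≠ 1`, and `W₂ ∩ Z(K) = 1`.

* `mem_of_comm_mem`: coprime lifting: if `[K,K] ≤ N ≤ K`, `w ∈ W`, `w ≠ 1`, normalizes `N` and
  `w k w⁻¹ k⁻¹ ∈ N` then `k ∈ N`;
* `hfrob_of_cent`: `Λ/[K,K]` is a Frobenius group with kernel `K/[K,K]` (hypothesis `hfrob` of `S1521`);
* `isIrrCharacter_indFun_of_inertia`: an irreducible character of `K` with inertia group `K` induces
  irreducibly;
* `conjFun_ne_of_NT_center`, `conjFun_ne_of_linear`: the inertia group of `θ ∈ Irr K` is `K` if `θ` is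
  nontrivial on `Z(K)` or if `θ ≠ 1` is trivial on `[K,K]`.
-/

set_option autoImplicit false
set_option linter.unusedSectionVars false
set_option linter.style.haveILetI false

namespace Cfsg.Agent.Lib.Helper65.SibleyBeta

open Cfsg Cfsg.Agent.Lib.Helper78 Cfsg.Agent.Lib.Helper25.CohCentral
open scoped ComplexConjugate

universe u

section Lift

variable {Λ : Type u} [Group Λ] [Finite Λ] (K W W₂ : Subgroup Λ) [hK : K.Normal]

/-- coprime lifting of fixed points, in the form needed here -/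
theorem mem_of_comm_mem (hcop : (Nat.card W).Coprime (Nat.card K))
    (hcent : ∀ w ∈ W, w ≠ 1 → ∀ k ∈ K, w * k = k * w → k ∈ W₂)
    (hW₂ : W₂ ≤ ⁅K, K⁆) (N : Subgroup Λ) (hKN : ⁅K, K⁆ ≤ N) (hNK : N ≤ K)
    (w : Λ) (hw : w ∈ W) (hw1 : w ≠ 1) (hwN : w ∈ Subgroup.normalizer (N : Set Λ))
    (k : Λ) (hk : k ∈ K) (hwk : w * k * w⁻¹ * k⁻¹ ∈ N) : k ∈ N := by
  -- `K` normalizes `N`
  have hKnorm : K ≤ Subgroup.normalizer (N : Set Λ) := by
    intro x hx
    rw [Subgroup.mem_normalizer_iff]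
    intro n
    constructor
    · intro hn
      have h1 : x * n * x⁻¹ * n⁻¹ ∈ N := by
        apply hKN
        have := Subgroup.commutator_mem_commutator hx (hNK hn)
        rwa [commutatorElement_def] at this
      have : x * n * x⁻¹ = (x * n * x⁻¹ * n⁻¹) * n := by group
      rw [this]
      exact N.mul_mem h1 hn
    · intro hn
      have hm : x * n * x⁻¹ ∈ K := hNK hn
      have hnK : n ∈ K := by
        have := hK.conj_mem _ hm x⁻¹
        have e : x⁻¹ * (x * n * x⁻¹) * x⁻¹⁻¹ = n := by group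
        rwa [e] at this
      have h1 : x⁻¹ * (x * n * x⁻¹) * x⁻¹⁻¹ * (x * n * x⁻¹)⁻¹ ∈ N := by
        apply hKN
        have := Subgroup.commutator_mem_commutator (K.inv_mem hx) hm
        rwa [commutatorElement_def] at this
      have : n = (x⁻¹ * (x * n * x⁻¹) * x⁻¹⁻¹ * (x * n * x⁻¹)⁻¹) * (x * n * x⁻¹) := by group
      rw [this]
      exact N.mul_mem h1 hn
  -- the subgroup of elements fixing the coset `k N`
  let T : Subgroup Λ :=
    { carrier := {a | a ∈ Subgroup.normalizer (N : Set Λ) ∧ a * k * a⁻¹ * k⁻¹ ∈ N}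
      one_mem' := by
        refine ⟨Subgroup.one_mem _, ?_⟩
        simp
      mul_mem' := by
        rintro a b ⟨ha, ha'⟩ ⟨hb, hb'⟩
        refine ⟨Subgroup.mul_mem _ ha hb, ?_⟩
        have e : a * b * k * (a * b)⁻¹ * k⁻¹ =
            (a * (b * k * b⁻¹ * k⁻¹) * a⁻¹) * (a * k * a⁻¹ * k⁻¹) := by group
        rw [e]
        exact N.mul_mem ((Subgroup.mem_normalizer_iff.mp ha _).mp hb') ha'
      inv_mem' := by
        rintro a ⟨ha, ha'⟩
        refine ⟨Subgroup.inv_mem _ ha, ?_⟩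
        have e : a⁻¹ * k * a⁻¹⁻¹ * k⁻¹ = a⁻¹ * (a * k * a⁻¹ * k⁻¹)⁻¹ * a⁻¹⁻¹ := by group
        rw [e]
        exact (Subgroup.mem_normalizer_iff.mp (Subgroup.inv_mem _ ha) _).mp (N.inv_mem ha') }
  have hwT : w ∈ T := ⟨hwN, hwk⟩
  set A : Subgroup Λ := Subgroup.zpowers w with hA
  have hAT : A ≤ T := by
    rw [hA, Subgroup.zpowers_le]
    exact hwT
  have hAW : A ≤ W := by
    rw [hA, Subgroup.zpowers_le]
    exact hw
  have hcop' : (Nat.card A).Coprime (Nat.card N) :=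
    Nat.Coprime.of_dvd (Subgroup.card_dvd_of_le hAW) (Subgroup.card_dvd_of_le hNK) hcop
  have hAsolv : Group.IsSolvable A := by
    haveI : IsCyclic A := by rw [hA]; infer_instance
    haveI : IsMulCommutative A := IsCyclic.isMulCommutative
    infer_instance
  obtain ⟨c, hc, hkc⟩ := Cfsg.Agent.Lib.Helper51.BGAsym.exists_mem_centralizer_of_fixed_coset A N
    (fun a ha => (hAT ha).1) hcop' (Or.inl hAsolv) k (hKnorm hk) (fun a ha => (hAT ha).2)
  have hcK : c ∈ K := by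
    have : c = k * (k⁻¹ * c) := by group
    rw [this]
    exact K.mul_mem hk (hNK hkc)
  have hwc : w * c = c * w := by
    have := (Subgroup.mem_centralizer_iff.mp hc) w (by
      show w ∈ (A : Set Λ)
      rw [hA]
      exact Subgroup.mem_zpowers w)
    exact this
  have hcW₂ : c ∈ W₂ := hcent w hw hw1 c hcK hwc
  have hcN : c ∈ N := hKN (hW₂ hcW₂)
  have : k = c * (k⁻¹ * c)⁻¹ := by group
  rw [this]
  exact N.mul_mem hcN (N.inv_mem hkc)

/-- every element outside `K` is `k' w` with `k' ∈ K`, `w ∈ W`, `w ≠ 1` -/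
theorem exists_mul_of_not_mem (hsup : K ⊔ W = ⊤) {x : Λ} (hx : x ∉ K) :
    ∃ k' ∈ K, ∃ w ∈ W, w ≠ 1 ∧ x = k' * w := by
  have hxtop : x ∈ K ⊔ W := by rw [hsup]; trivial
  obtain ⟨k', hk', w, hw, rfl⟩ := Subgroup.mem_sup_of_normal_left.mp hxtop
  refine ⟨k', hk', w, hw, ?_, rfl⟩
  rintro rfl
  apply hx
  simpa using hk'

/-- the Frobenius hypothesis `hfrob` of `S1521`/`S1522` -/
theorem hfrob_of_cent (hsup : K ⊔ W = ⊤) (hcop : (Nat.card W).Coprime (Nat.card K))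
    (hcent : ∀ w ∈ W, w ≠ 1 → ∀ k ∈ K, w * k = k * w → k ∈ W₂)
    (hW₂ : W₂ ≤ ⁅K, K⁆) :
    ∀ k ∈ K, k ∉ ⁅K, K⁆ → ∀ x : Λ, x * k * x⁻¹ * k⁻¹ ∈ ⁅K, K⁆ → x ∈ K := by
  intro k hk hkN x hx
  by_contra hxK
  obtain ⟨k', hk', w, hw, hw1, rfl⟩ := exists_mul_of_not_mem K W hsup hxK
  haveI hNn : (⁅K, K⁆ : Subgroup Λ).Normal := Subgroup.commutator_normal K K
  set c : Λ := w * k * w⁻¹ with hc
  have hcK : c ∈ K := hK.conj_mem k hk w
  have h1 : k' * c * k'⁻¹ * k⁻¹ ∈ ⁅K, K⁆ := by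
    have : k' * w * k * (k' * w)⁻¹ * k⁻¹ = k' * c * k'⁻¹ * k⁻¹ := by
      rw [hc]; group
    rwa [this] at hx
  have h2 : k' * c * k'⁻¹ * c⁻¹ ∈ ⁅K, K⁆ := by
    have := Subgroup.commutator_mem_commutator hk' hcK
    rwa [commutatorElement_def] at this
  have h3 : c * k⁻¹ ∈ ⁅K, K⁆ := by
    have : c * k⁻¹ = (k' * c * k'⁻¹ * c⁻¹)⁻¹ * (k' * c * k'⁻¹ * k⁻¹) := by group
    rw [this]
    exact Subgroup.mul_mem _ (Subgroup.inv_mem _ h2) h1
  apply hkN
  refine mem_of_comm_mem K W W₂ hcop hcent hW₂ ⁅K, K⁆ le_rfl (Subgroup.commutator_le_left K K)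
    w hw hw1 ?_ k hk h3
  rw [Subgroup.normalizer_eq_top]
  trivial

end Lift

section Inertia

variable {Λ : Type u} [Group Λ] [Fintype Λ] (K W W₂ : Subgroup Λ) [hK : K.Normal]

/-- an irreducible character of the normal subgroup `K` whose inertia group is `K` induces
irreducibly -/
theorem isIrrCharacter_indFun_of_inertia {θ : K → ℂ} (hθ : IsIrrCharacter K θ)
    (hin : ∀ g : Λ, g ∉ K → Cfsg.Agent.Lib.Helper75.conjFun K g θ ≠ θ) :
    IsIrrCharacter Λ (indFun K θ) := by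
  classical
  have : Fintype K := Fintype.ofFinite K
  have hT : ∀ g : Λ, g ∈ K ↔ Cfsg.Agent.Lib.Helper75.conjFun K g θ = θ := by
    intro g
    constructor
    · intro hg
      exact Cfsg.Agent.Lib.Helper75.conjFun_of_mem K
        (IsCharacter.isClassFunction (IsIrrCharacter.isCharacter hθ)) ⟨g, hg⟩
    · intro hfix
      by_contra hg
      exact hin g hg hfix
  apply Cfsg.Agent.Lib.Helper74.isIrrCharacter_of_int_coeff
    (Cfsg.Agent.Lib.Helper75.isClassFunction_indFun K θ)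
  · intro χ
    rw [Cfsg.Agent.Lib.Helper75.frobenius_reciprocity K θ (isClassFunction_irr χ)]
    obtain ⟨n, hn⟩ := Cfsg.Agent.Lib.Helper74.IsCharacter.exists_nat_classInner_char (IsIrrCharacter.isCharacter hθ)
      (Cfsg.Agent.Lib.Helper75.isCharacter_res K (IsIrrCharacter.isCharacter χ.2))
    exact ⟨n, by rw [hn]; simp⟩
  · rw [Cfsg.Agent.Lib.Helper75.classInner_indFun_self K K hθ hT]
    have hNne : (Nat.card K : ℂ) ≠ 0 := by
      have : Nat.card K ≠ 0 := Nat.card_pos.ne'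
      exact_mod_cast this
    exact div_self hNne
  · rw [Cfsg.Agent.Lib.Helper75.indFun_one,
      IsCharacter.apply_one_eq_charDegree (IsIrrCharacter.isCharacter hθ)]
    have h1 := IsIrrCharacter.charDegree_pos hθ
    have h2 : 0 < K.index := Nat.pos_of_ne_zero Subgroup.index_ne_zero_of_finite
    have : (0 : ℝ) < (K.index : ℝ) * (charDegree θ : ℝ) := by positivity
    have e : ((K.index : ℂ) * (charDegree θ : ℂ)).re = (K.index : ℝ) * (charDegree θ : ℝ) := by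
      simp
    rw [e]
    exact this

/-- multiplicativity of an irreducible character on the centre -/
theorem irr_central_mul {X : Type u} [Group X] [Fintype X] (χ : IrrCharacter X) {x : X}
    (hx : x ∈ Subgroup.center X) (y : X) :
    (χ : X → ℂ) (x * y) * (χ : X → ℂ) 1 = (χ : X → ℂ) x * (χ : X → ℂ) y := by
  have h := Cfsg.Agent.Lib.Helper79.irr_sum_conj_mul χ x y
  have h1 : ∀ a : X, (χ : X → ℂ) (a * x * a⁻¹ * y) = (χ : X → ℂ) (x * y) := by
    intro a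
    have : a * x * a⁻¹ = x := by
      rw [Subgroup.mem_center_iff.mp hx a, mul_inv_cancel_right]
    rw [this]
  rw [Finset.sum_congr rfl (fun a _ => h1 a), Finset.sum_const, Finset.card_univ,
    nsmul_eq_mul, Nat.card_eq_fintype_card] at h
  have h0 := Cfsg.Agent.Lib.Helper79.irr_apply_one_ne_zero χ
  have hc : (Fintype.card X : ℂ) ≠ 0 := by
    have : Fintype.card X ≠ 0 := Fintype.card_ne_zero
    exact_mod_cast this
  field_simp at h
  exact h

/-- from `conjFun K (k' * w) θ = θ` to `conjFun K w θ = θ` -/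
theorem conjFun_eq_of_mul {θ : K → ℂ} (hθ : IsIrrCharacter K θ) {k' w : Λ} (hk' : k' ∈ K)
    (hfix : Cfsg.Agent.Lib.Helper75.conjFun K (k' * w) θ = θ) :
    Cfsg.Agent.Lib.Helper75.conjFun K w θ = θ := by
  rw [Cfsg.Agent.Lib.Helper75.conjFun_mul, Cfsg.Agent.Lib.Helper75.conjFun_of_mem K
    (IsCharacter.isClassFunction (IsIrrCharacter.isCharacter hθ)) ⟨k', hk'⟩] at hfix
  exact hfix

/-- for `w ∈ W`, `w ≠ 1`, the map `z ↦ w z w⁻¹ z⁻¹` is onto `Z(K)` -/
theorem exists_comm_eq_of_center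
    (hcent : ∀ w ∈ W, w ≠ 1 → ∀ k ∈ K, w * k = k * w → k ∈ W₂)
    (hβ : ∀ z ∈ W₂, (∀ k ∈ K, z * k = k * z) → z = 1)
    {w : Λ} (hw : w ∈ W) (hw1 : w ≠ 1) {a : Λ} (ha : a ∈ (Subgroup.center K).map K.subtype) :
    ∃ z ∈ (Subgroup.center K).map K.subtype, w * z * w⁻¹ * z⁻¹ = a := by
  set Z : Subgroup Λ := (Subgroup.center K).map K.subtype with hZ
  haveI hZn : Z.Normal := Cfsg.Agent.Lib.Helper74.centerMap_normal K
  have hZK : Z ≤ K := Cfsg.Agent.Lib.Helper74.centerMap_le K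
  have hZc := Cfsg.Agent.Lib.Helper74.centerMap_central K
  let ψ : Z → Z := fun z => ⟨w * (z : Λ) * w⁻¹ * (z : Λ)⁻¹,
    Z.mul_mem (hZn.conj_mem z z.2 w) (Z.inv_mem z.2)⟩
  have hinj : Function.Injective ψ := by
    intro x y hxy
    have hab : w * (x : Λ) * w⁻¹ * (x : Λ)⁻¹ = w * (y : Λ) * w⁻¹ * (y : Λ)⁻¹ :=
      congrArg Subtype.val hxy
    have h4 : w * ((y : Λ)⁻¹ * x) = ((y : Λ)⁻¹ * x) * w := by
      have h5 : (x : Λ) * w⁻¹ * (x : Λ)⁻¹ = y * w⁻¹ * (y : Λ)⁻¹ := by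
        have := congrArg (fun t => w⁻¹ * t) hab
        simpa [mul_assoc] using this
      have h6 : (y : Λ)⁻¹ * x * w⁻¹ = w⁻¹ * ((y : Λ)⁻¹ * x) := by
        have := congrArg (fun t => (y : Λ)⁻¹ * t * x) h5
        simpa [mul_assoc] using this
      have : w * ((y : Λ)⁻¹ * x * w⁻¹) * w = w * (w⁻¹ * ((y : Λ)⁻¹ * x)) * w := by rw [h6]
      simpa [mul_assoc] using this
    have hmem : (y : Λ)⁻¹ * x ∈ Z := Z.mul_mem (Z.inv_mem y.2) x.2
    have h7 : (y : Λ)⁻¹ * x ∈ W₂ := hcent w hw hw1 _ (hZK hmem) h4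
    have h8 : (y : Λ)⁻¹ * x = 1 := hβ _ h7 (fun k hk => hZc _ hmem k hk)
    apply Subtype.ext
    have : (x : Λ) = y * ((y : Λ)⁻¹ * x) := by group
    rw [this, h8, mul_one]
  have hsurj : Function.Surjective ψ := Finite.injective_iff_surjective.mp hinj
  obtain ⟨z, hz⟩ := hsurj ⟨a, ha⟩
  exact ⟨z, z.2, congrArg Subtype.val hz⟩

/-- **inertia group of a character nontrivial on the centre**: under `W₂ ∩ Z(K) = 1`, an element
outside `K` moves every irreducible character of `K` that is nontrivial on `Z(K)` -/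
theorem conjFun_ne_of_NT_center (hsup : K ⊔ W = ⊤)
    (hcent : ∀ w ∈ W, w ≠ 1 → ∀ k ∈ K, w * k = k * w → k ∈ W₂)
    (hβ : ∀ z ∈ W₂, (∀ k ∈ K, z * k = k * z) → z = 1)
    {θ : K → ℂ} (hθ : IsIrrCharacter K θ)
    (hnt : NT K ((Subgroup.center K).map K.subtype) θ) {g : Λ} (hg : g ∉ K) :
    Cfsg.Agent.Lib.Helper75.conjFun K g θ ≠ θ := by
  classical
  haveI : Fintype K := Fintype.ofFinite K
  intro hfix
  obtain ⟨k', hk', w, hw, hw1, rfl⟩ := exists_mul_of_not_mem K W hsup hg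
  have hfixw := conjFun_eq_of_mul K hθ hk' hfix
  obtain ⟨a, haZ, hne⟩ := hnt
  obtain ⟨z, hz, hza⟩ := exists_comm_eq_of_center K W W₂ hcent hβ hw hw1 haZ
  obtain ⟨c, hc, rfl⟩ := hz
  -- `c : K` is central; so is its `w`-conjugate
  set c' : K := ⟨w * (c : Λ) * w⁻¹, hK.conj_mem c c.2 w⟩ with hc'
  have hc'cen : c' ∈ Subgroup.center K := by
    rw [Subgroup.mem_center_iff]
    intro k
    apply Subtype.ext
    have hk2 : w⁻¹ * (k : Λ) * w⁻¹⁻¹ ∈ K := hK.conj_mem k k.2 w⁻¹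
    have h1 := Subgroup.mem_center_iff.mp hc ⟨w⁻¹ * (k : Λ) * w⁻¹⁻¹, hk2⟩
    have h2 : w⁻¹ * (k : Λ) * w⁻¹⁻¹ * (c : Λ) = (c : Λ) * (w⁻¹ * (k : Λ) * w⁻¹⁻¹) :=
      congrArg Subtype.val h1
    show (k : Λ) * (w * (c : Λ) * w⁻¹) = w * (c : Λ) * w⁻¹ * (k : Λ)
    have e1 : (k : Λ) * (w * (c : Λ) * w⁻¹) = w * (w⁻¹ * (k : Λ) * w⁻¹⁻¹ * (c : Λ)) * w⁻¹ := by
      group
    have e2 : w * (c : Λ) * w⁻¹ * (k : Λ) = w * ((c : Λ) * (w⁻¹ * (k : Λ) * w⁻¹⁻¹)) * w⁻¹ := by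
      group
    rw [e1, e2, h2]
  have hcinv : c⁻¹ ∈ Subgroup.center K := Subgroup.inv_mem _ hc
  have ha_eq : a = c' * c⁻¹ := by
    apply Subtype.ext
    rw [← hza]
    rfl
  set χ : IrrCharacter K := ⟨θ, hθ⟩ with hχ
  have h1 := irr_central_mul χ hc'cen c⁻¹
  have h2 := irr_central_mul χ hc c⁻¹
  have h3 : θ c' = θ c := by
    have := congrFun hfixw c
    rw [Cfsg.Agent.Lib.Helper75.conjFun_apply] at this
    exact this
  have h0 : θ 1 ≠ 0 := Cfsg.Agent.Lib.Helper79.irr_apply_one_ne_zero χ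
  simp only [hχ] at h1 h2
  rw [mul_inv_cancel] at h2
  apply hne
  rw [ha_eq]
  have h4 : θ (c' * c⁻¹) * θ 1 = θ 1 * θ 1 := by
    rw [h1, h3, ← h2]
  exact mul_right_cancel₀ h0 h4

/-- a character of degree one is a homomorphism to `ℂˣ` -/
theorem exists_hom_of_apply_one {X : Type u} [Group X] {R : X → ℂ} (hR : Cfsg.IsCharacter X R)
    (h : R 1 = 1) : ∃ μ : X →* ℂˣ, R = fun g => ((μ g : ℂˣ) : ℂ) := by
  obtain ⟨n, ρ, rfl⟩ := hR
  have h' := h
  rw [Representation.char_one] at h'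
  have hn : Module.finrank ℂ (Fin n → ℂ) = 1 := by exact_mod_cast h'
  let f : X →* ℂ := ⟨⟨ρ.character, h⟩, fun x y => by
    simp only [Representation.character, map_mul]
    exact Cfsg.Agent.Lib.Helper78.trace_mul_of_finrank_eq_one hn _ _⟩
  exact ⟨f.toHomUnits, rfl⟩

/-- **inertia group of a nonprincipal linear character**: an element outside `K` moves every
nonprincipal irreducible character of `K` that is trivial on `[K,K]` -/
theorem conjFun_ne_of_linear (hsup : K ⊔ W = ⊤) (hcop : (Nat.card W).Coprime (Nat.card K))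
    (hcent : ∀ w ∈ W, w ≠ 1 → ∀ k ∈ K, w * k = k * w → k ∈ W₂)
    (hW₂ : W₂ ≤ ⁅K, K⁆)
    {θ : K → ℂ} (hθ : IsIrrCharacter K θ) (hθ1 : θ ≠ fun _ => 1)
    (hker : ∀ a : K, (a : Λ) ∈ ⁅K, K⁆ → θ a = θ 1) {g : Λ} (hg : g ∉ K) :
    Cfsg.Agent.Lib.Helper75.conjFun K g θ ≠ θ := by
  classical
  haveI : Fintype K := Fintype.ofFinite K
  intro hfix
  obtain ⟨k', hk', w, hw, hw1, rfl⟩ := exists_mul_of_not_mem K W hsup hg
  have hfixw := conjFun_eq_of_mul K hθ hk' hfix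
  -- `θ` has degree one
  have hdeg : θ 1 = 1 := by
    have hmem : indFun K θ ∈ inducedIrrAbove K ⁅K, K⁆ := ⟨θ, hθ, hθ1, hker, rfl⟩
    have h1 := Cfsg.Agent.S1521.apply_one_of_mem_abelian K ⁅K, K⁆
      (Subgroup.commutator_le_left K K) le_rfl hmem
    rw [Cfsg.Agent.Lib.Helper75.indFun_one] at h1
    have h2 : (K.index : ℂ) ≠ 0 := by
      have : K.index ≠ 0 := Subgroup.index_ne_zero_of_finite
      exact_mod_cast this
    have h3 : (K.index : ℂ) * θ 1 = (K.index : ℂ) * 1 := by rw [h1, mul_one]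
    exact mul_left_cancel₀ h2 h3
  obtain ⟨μ, hμ⟩ := exists_hom_of_apply_one (IsIrrCharacter.isCharacter hθ) hdeg
  -- `μ` is `w`-invariant
  have hμw : ∀ n : K, μ ⟨w * (n : Λ) * w⁻¹, hK.conj_mem n n.2 w⟩ = μ n := by
    intro n
    have := congrFun hfixw n
    rw [Cfsg.Agent.Lib.Helper75.conjFun_apply, hμ] at this
    exact Units.ext this
  set N : Subgroup Λ := μ.ker.map K.subtype with hN
  have hNK : N ≤ K := Subgroup.map_subtype_le _
  have hmemN : ∀ n : K, (n : Λ) ∈ N ↔ μ n = 1 := by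
    intro n
    rw [hN, Subgroup.mem_map]
    constructor
    · rintro ⟨m, hm, hmn⟩
      have : m = n := Subtype.ext hmn
      rw [← this]
      exact MonoidHom.mem_ker.mp hm
    · intro h
      exact ⟨n, MonoidHom.mem_ker.mpr h, rfl⟩
  have hKN : ⁅K, K⁆ ≤ N := by
    rw [Cfsg.Agent.Lib.Helper74.commutator_eq_map K, hN]
    apply Subgroup.map_mono
    exact Abelianization.commutator_subset_ker μ
  have hwN : w ∈ Subgroup.normalizer (N : Set Λ) := by
    rw [Subgroup.mem_normalizer_iff]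
    intro n
    constructor
    · intro hn
      have hnK : n ∈ K := hNK hn
      have h1 := (hmemN ⟨n, hnK⟩).mp hn
      have h2 := hμw ⟨n, hnK⟩
      rw [h1] at h2
      exact (hmemN ⟨w * n * w⁻¹, hK.conj_mem n hnK w⟩).mpr h2
    · intro hn
      have hmK : w * n * w⁻¹ ∈ K := hNK hn
      have hnK : n ∈ K := by
        have := hK.conj_mem _ hmK w⁻¹
        have e : w⁻¹ * (w * n * w⁻¹) * w⁻¹⁻¹ = n := by group
        rwa [e] at this
      have h1 := (hmemN ⟨w * n * w⁻¹, hmK⟩).mp hn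
      have h2 := hμw ⟨n, hnK⟩
      rw [h1] at h2
      exact (hmemN ⟨n, hnK⟩).mpr h2.symm
  -- every element of `K` lies in `N`
  have hall : ∀ k : K, μ k = 1 := by
    intro k
    rw [← hmemN k]
    apply mem_of_comm_mem K W W₂ hcop hcent hW₂ N hKN hNK w hw hw1 hwN k k.2
    have hmem : (⟨w * (k : Λ) * w⁻¹, hK.conj_mem k k.2 w⟩ * k⁻¹ : K) ∈ μ.ker := by
      rw [MonoidHom.mem_ker, map_mul, hμw k, map_inv, mul_inv_cancel]
    exact ⟨_, hmem, rfl⟩
  apply hθ1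
  rw [hμ]
  funext k
  rw [hall k]
  rfl

end Inertia

end Cfsg.Agent.Lib.Helper65.SibleyBeta
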