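import Mathlib
import Cfsg.Agent.Lib.Helper65.SibleyBetaGroup
import Cfsg.Agent.Lib.Helper65.SibleyBetaCount
import Cfsg.Agent.Lib.Helper51.SibCAdd
import Cfsg.Agent.Lib.Helper52.TISylowCong
import Cfsg.Agent.Lib.Helper64.SibleyKey
import Cfsg.Agent.Lib.Helper64.SibleyLink
import Cfsg.Agent.S1522

/-!
# Sibley's coherence theorem, Peterfalvi (6.8), second alternative, case `W₂ ∩ Z(H) = 1`
(module [SIBC-BETA] of helper22's PROJECT SIBC)

`L = H ⋊ W₁ ≤ G` of odd order, coprime, `H` nilpotent, a TI-subset of `G` with normaliser `L`,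
`C_H(w) ≤ W₂ ≤ [H,H]` for `w ∈ W₁ ∖ 1`, `W₂ ∩ Z(H) = 1`, and a coherence system `(S, Ind_L^G, R)` for
`S = Ind_H^L (Irr H ∖ 1)`.  Then `S` is coherent.  This is a re-run of helper64/helper74's proof of `S1524`
with `Z = Z(H)`: irreducibility is only needed on `A ∪ B` (`A = S(H')`, `B = S ∖ S(Z)`), and the rest of
`S` is added by `S1516` (helper51's `add_rest`).
-/

set_option autoImplicit false
set_option linter.unusedSectionVars false
set_option linter.style.haveILetI false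
set_option maxHeartbeats 1000000

namespace Cfsg.Agent.Lib.Helper65.SibleyBeta

open Cfsg Cfsg.Agent.Lib.Helper78 Cfsg.Agent.Lib.Helper25.CohCentral
  Cfsg.Agent.Lib.Helper25.CohDescent
open scoped ComplexConjugate

universe u

section H1523

variable {G : Type u} [Group G] [Fintype G] (H L : Subgroup G) [Fintype L]

/-- the `S1523` interface (hypothesis `h1523` of `Helper64.key_divisibility`, `c = |H|`), without any
hypothesis on centralizers: `H` is a TI Sylow subgroup of `G` because its order is prime to `[L:H]`. -/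
theorem h1523_of_coprime (hodd : Odd (Nat.card L)) (hHL : H ≤ L) (hH1 : H ≠ ⊥)
    (hTI : IsTISubset (H : Set G)) (hN : Subgroup.normalizer (H : Set G) = L)
    (hx3 : ∃ p m : ℕ, p.Prime ∧ Nat.card (H.subgroupOf L) = p ^ m)
    (hcop : (Nat.card (H.subgroupOf L)).Coprime (H.subgroupOf L).index)
    (Z : Subgroup L) [hZn : Z.Normal] (hZ1 : Z ≠ ⊥) (hZK : Z ≤ H.subgroupOf L)
    (hZc : ∀ z ∈ Z, ∀ k ∈ H.subgroupOf L, z * k = k * z)
    (ψ : G → ℂ) (hψ : IsIrrCharacter G ψ)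
    (hconst : ∀ z z' : L, z ∈ Z → z' ∈ Z → z ≠ 1 → z' ≠ 1 → ψ z = ψ z') :
    ∀ z : L, z ∈ Z → z ≠ 1 →
      ∃ n d : ℤ, ψ z = n ∧ ψ 1 = d ∧ ((Nat.card H : ℕ) : ℤ) ∣ d - n := by
  obtain ⟨p, m, hp, hcard⟩ := hx3
  haveI : Fact p.Prime := ⟨hp⟩
  have hcardH : Nat.card H = p ^ m := by
    rw [← hcard]
    exact (Nat.card_congr (Subgroup.subgroupOfEquivOfLe hHL).toEquiv).symm
  have hpH : IsPGroup p H := IsPGroup.of_card hcardH
  have hm0 : m ≠ 0 := by
    rintro rfl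
    rw [pow_zero] at hcardH
    exact hH1 (Subgroup.card_eq_one.mp hcardH)
  have hndvd : ¬ p ∣ (H.subgroupOf (Subgroup.normalizer (H : Set G))).index := by
    rw [hN]
    intro hdvd
    have h1 : p ∣ Nat.card (H.subgroupOf L) := by rw [hcard]; exact dvd_pow_self p hm0
    have := Nat.dvd_gcd h1 hdvd
    rw [hcop.gcd_eq_one] at this
    exact hp.one_lt.ne' (Nat.dvd_one.mp this)
  obtain ⟨P, hP⟩ := Cfsg.Agent.Lib.Helper74.exists_sylow_eq_of_not_dvd_index p H hpH hndvd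
  subst hP
  intro z hz hz1
  refine Cfsg.Agent.Lib.Helper52.ti_sylow_const_congr p P
    (fun g hg x hx h => hTI g hg x hx h) (by rw [hN]; exact hodd) (Z.map L.subtype) ?_ ?_ ?_ ?_
    ψ hψ ?_ (z : G) ⟨z, hz, rfl⟩ (fun h => hz1 (Subtype.ext h))
  · intro h
    apply hZ1
    rwa [Subgroup.map_eq_bot_iff_of_injective _ L.subtype_injective] at h
  · rintro y ⟨z', hz', rfl⟩
    exact Subgroup.mem_subgroupOf.mp (hZK hz')
  · rintro x hx y ⟨z', hz', rfl⟩
    rw [hN] at hx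
    exact ⟨⟨x, hx⟩ * z' * ⟨x, hx⟩⁻¹, hZn.conj_mem z' hz' ⟨x, hx⟩, by simp⟩
  · rintro y ⟨z', hz', rfl⟩ h hh
    have := hZc z' hz' ⟨h, hHL hh⟩ (Subgroup.mem_subgroupOf.mpr hh)
    have h2 := congrArg Subtype.val this
    simpa using h2
  · rintro y ⟨z₁, hz₁, rfl⟩ y' ⟨z₂, hz₂, rfl⟩ h1 h2
    exact hconst z₁ z₂ hz₁ hz₂ (fun h => h1 (by rw [h]; rfl)) (fun h => h2 (by rw [h]; rfl))

end H1523

section Abstract

variable {Λ : Type u} [Group Λ] [Fintype Λ] (K W W₂ : Subgroup Λ) [hK : K.Normal]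

/-- the centralizer in `Λ` of a nonidentity element of `Z(K)` is `K` -/
theorem conj_center_eq_iff (hsup : K ⊔ W = ⊤)
    (hcent : ∀ w ∈ W, w ≠ 1 → ∀ k ∈ K, w * k = k * w → k ∈ W₂)
    (hβ : ∀ z ∈ W₂, (∀ k ∈ K, z * k = k * z) → z = 1) :
    ∀ z ∈ (Subgroup.center K).map K.subtype, z ≠ 1 → ∀ x : Λ, x * z * x⁻¹ = z ↔ x ∈ K := by
  intro z hz hz1 x
  have hzc := Cfsg.Agent.Lib.Helper74.centerMap_central K z hz
  have hzK := Cfsg.Agent.Lib.Helper74.centerMap_le K hz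
  constructor
  · intro hx
    by_contra hxK
    obtain ⟨k', hk', w, hw, hw1, rfl⟩ := exists_mul_of_not_mem K W hsup hxK
    apply hz1
    have h1 : w * z * w⁻¹ = z := by
      have h2 : w * z * w⁻¹ = k'⁻¹ * (k' * w * z * (k' * w)⁻¹) * k' := by group
      rw [h2, hx]
      have h3 := hzc k' hk'
      rw [mul_assoc, h3, ← mul_assoc, inv_mul_cancel, one_mul]
    have h4 : w * z = z * w := by
      have := congrArg (fun t => t * w) h1
      simpa [mul_assoc] using this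
    exact hβ z (hcent w hw hw1 z hzK h4) hzc
  · intro hx
    have h3 := hzc x hx
    rw [← h3, mul_assoc, mul_inv_cancel, mul_one]

/-- `2 [Λ:K] + 1 ≤ |Z(K)|` -/
theorem two_mul_index_add_one_le (hodd : Odd (Nat.card Λ)) (hsup : K ⊔ W = ⊤)
    (hcent : ∀ w ∈ W, w ≠ 1 → ∀ k ∈ K, w * k = k * w → k ∈ W₂)
    (hβ : ∀ z ∈ W₂, (∀ k ∈ K, z * k = k * z) → z = 1)
    (hZ1 : (Subgroup.center K).map K.subtype ≠ ⊥) :
    2 * K.index + 1 ≤ Nat.card ((Subgroup.center K).map K.subtype) := by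
  haveI := Cfsg.Agent.Lib.Helper74.centerMap_normal K
  have h1 := index_dvd_card_sub_one K ((Subgroup.center K).map K.subtype)
    (conj_center_eq_iff K W W₂ hsup hcent hβ)
  have h3 := Cfsg.Agent.Lib.Helper74.three_le_card_of_odd hodd _ hZ1
  apply Cfsg.Agent.Lib.Helper25.FrobCount.two_mul_add_one_le _ _ _ _ (by omega) h1
  · exact Odd.of_dvd_nat hodd (Subgroup.index_dvd_card K)
  · exact Odd.of_dvd_nat hodd (Subgroup.card_subgroup_dvd_card _)

/-- the members of `A = S([K,K])` are irreducible -/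
theorem irr_of_mem_A (hsup : K ⊔ W = ⊤) (hcop : (Nat.card W).Coprime (Nat.card K))
    (hcent : ∀ w ∈ W, w ≠ 1 → ∀ k ∈ K, w * k = k * w → k ∈ W₂) (hW₂ : W₂ ≤ ⁅K, K⁆) :
    ∀ χ ∈ inducedIrrAbove K ⁅K, K⁆, IsIrrCharacter Λ χ := by
  rintro χ ⟨θ, hθ, hθ1, hker, rfl⟩
  exact isIrrCharacter_indFun_of_inertia K hθ
    (fun g hg => conjFun_ne_of_linear K W W₂ hsup hcop hcent hW₂ hθ hθ1 hker hg)

/-- the members of `B = S ∖ S(Z(K))` are irreducible -/
theorem irr_of_mem_B (hsup : K ⊔ W = ⊤)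
    (hcent : ∀ w ∈ W, w ≠ 1 → ∀ k ∈ K, w * k = k * w → k ∈ W₂)
    (hβ : ∀ z ∈ W₂, (∀ k ∈ K, z * k = k * z) → z = 1) :
    ∀ χ ∈ inducedIrrAbove K ⊥ \ inducedIrrAbove K ((Subgroup.center K).map K.subtype),
      IsIrrCharacter Λ χ := by
  haveI := Cfsg.Agent.Lib.Helper74.centerMap_normal K
  intro χ hχ
  rw [mem_diff_iff K _ (Cfsg.Agent.Lib.Helper74.centerMap_le K)] at hχ
  obtain ⟨θ, hθ, hnt, rfl⟩ := hχ
  exact isIrrCharacter_indFun_of_inertia K hθ
    (fun g hg => conjFun_ne_of_NT_center K W W₂ hsup hcent hβ hθ hnt hg)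

end Abstract

section Translate

variable {G : Type u} [Group G] [Fintype G] (H L W₁ W₂ : Subgroup G)

theorem subgroupOf_coprime (hHL : H ≤ L) (hW₁L : W₁ ≤ L)
    (hcop : (Nat.card W₁).Coprime (Nat.card H)) :
    (Nat.card (W₁.subgroupOf L)).Coprime (Nat.card (H.subgroupOf L)) := by
  rw [Nat.card_congr (Subgroup.subgroupOfEquivOfLe hHL).toEquiv,
    Nat.card_congr (Subgroup.subgroupOfEquivOfLe hW₁L).toEquiv]
  exact hcop

theorem subgroupOf_cent
    (hcent : ∀ w ∈ W₁, w ≠ 1 → ∀ h ∈ H, w * h = h * w → h ∈ W₂) :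
    ∀ w ∈ W₁.subgroupOf L, w ≠ 1 → ∀ k ∈ H.subgroupOf L, w * k = k * w →
      k ∈ W₂.subgroupOf L := by
  intro w hw hw1 k hk hwk
  rw [Subgroup.mem_subgroupOf] at hw hk ⊢
  apply hcent (w : G) hw (fun hc => hw1 (Subtype.ext hc)) (k : G) hk
  have := congrArg Subtype.val hwk
  simpa using this

theorem commutator_subgroupOf_map (hHL : H ≤ L) :
    (⁅H.subgroupOf L, H.subgroupOf L⁆).map L.subtype = ⁅H, H⁆ := by
  rw [Subgroup.map_commutator, Subgroup.map_subgroupOf_eq_of_le hHL]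

theorem subgroupOf_le_commutator (hHL : H ≤ L) (hW₂ : W₂ ≤ ⁅H, H⁆) :
    W₂.subgroupOf L ≤ ⁅H.subgroupOf L, H.subgroupOf L⁆ := by
  intro x hx
  rw [Subgroup.mem_subgroupOf] at hx
  have h1 := hW₂ hx
  rw [← commutator_subgroupOf_map H L hHL] at h1
  obtain ⟨y, hy, hyx⟩ := h1
  have : y = x := Subtype.ext hyx
  rwa [this] at hy

theorem subgroupOf_beta (hHL : H ≤ L)
    (hβ : ∀ z ∈ W₂, (∀ h ∈ H, z * h = h * z) → z = 1) :
    ∀ z ∈ W₂.subgroupOf L, (∀ k ∈ H.subgroupOf L, z * k = k * z) → z = 1 := by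
  intro z hz hzc
  rw [Subgroup.mem_subgroupOf] at hz
  apply Subtype.ext
  apply hβ (z : G) hz
  intro h hh
  have := hzc ⟨h, hHL hh⟩ (by rw [Subgroup.mem_subgroupOf]; exact hh)
  have h2 := congrArg Subtype.val this
  simpa using h2

end Translate

section Main

variable {G : Type u} [Group G] [Fintype G] (H L W₁ W₂ : Subgroup G) [Fintype L]

/-- **Sibley's coherence theorem, Peterfalvi (6.8), second alternative, case `W₂ ∩ Z(H) = 1`.** -/
theorem sibley_c2_beta (hodd : Odd (Nat.card L)) (hHL : H ≤ L) (hW₁L : W₁ ≤ L)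
    (hH1 : H ≠ ⊥) (hW1 : W₁ ≠ ⊥) (hnil : Group.IsNilpotent H)
    (hHn : ∀ x ∈ L, ∀ h ∈ H, x * h * x⁻¹ ∈ H) (hinf : H ⊓ W₁ = ⊥) (hsup : H ⊔ W₁ = L)
    (hcop : (Nat.card W₁).Coprime (Nat.card H))
    (hcent : ∀ w ∈ W₁, w ≠ 1 → ∀ h ∈ H, w * h = h * w → h ∈ W₂) (hW₂ : W₂ ≤ ⁅H, H⁆)
    (hβ : ∀ z ∈ W₂, (∀ h ∈ H, z * h = h * z) → z = 1)
    (hTI : IsTISubset (H : Set G)) (hN : Subgroup.normalizer (H : Set G) = L)
    (R : (L → ℂ) → Finset (G → ℂ))
    (hS : IsCoherenceSystem (inducedIrrAbove (H.subgroupOf L) ⊥)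
      (fun α : L → ℂ => indFun L α) R) :
    IsCoherent (inducedIrrAbove (H.subgroupOf L) ⊥) {1}ᶜ (fun α : L → ℂ => indFun L α) := by
  classical
  haveI hKn := Cfsg.Agent.Lib.Helper74.subgroupOf_normal_of_conj H L hHn
  haveI hKnil := Cfsg.Agent.Lib.Helper74.subgroupOf_isNilpotent H L hHL hnil
  have hsolv := Cfsg.Agent.Lib.Helper74.subgroupOf_isSolvable H L hHL hnil
  have hK1 := Cfsg.Agent.Lib.Helper74.subgroupOf_ne_bot H L hHL hH1
  have hlt := Cfsg.Agent.Lib.Helper74.commutator_subgroupOf_lt H L hHL hH1 hnil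
  have hKL := Cfsg.Agent.Lib.Helper74.subgroupOf_lt_top H L W₁ hW₁L hW1 hinf
  have hsup' := Cfsg.Agent.Lib.Helper74.subgroupOf_sup_eq_top H L W₁ hHL hW₁L hsup
  have hcop' := subgroupOf_coprime H L W₁ hHL hW₁L hcop
  have hcent' := subgroupOf_cent H L W₁ W₂ hcent
  have hW₂' := subgroupOf_le_commutator H L W₂ hHL hW₂
  have hβ' := subgroupOf_beta H L W₂ hHL hβ
  have hidx := Cfsg.Agent.Lib.Helper74.index_subgroupOf_eq_card H L W₁ hHL hW₁L hHn hinf hsup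
  set K : Subgroup L := H.subgroupOf L with hKdef
  set W : Subgroup L := W₁.subgroupOf L with hWdef
  set W2 : Subgroup L := W₂.subgroupOf L with hW2def
  set τ : (L → ℂ) → (G → ℂ) := fun α : L → ℂ => indFun L α with hτdef
  have hfrob := hfrob_of_cent K W W2 hsup' hcop' hcent' hW₂'
  -- step 0
  have hrel : (⊥ : Subgroup L).relIndex K = Nat.card K := Subgroup.relIndex_bot_left K
  by_cases hgood : (∃ N : Subgroup L, N.Normal ∧ ⁅K, K⁆ < N ∧ N < K) ∨
      4 * K.index ^ 2 + 1 < (⁅K, K⁆).relIndex K ∨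
      (¬ ∃ p m : ℕ, p.Prime ∧ (⊥ : Subgroup L).relIndex K = p ^ m) ∨ ⁅K, K⁆ ≤ ⊥ ∨
      (∃ p m : ℕ, p.Prime ∧ (⊥ : Subgroup L).relIndex K = p ^ m ∧ K.index ∣ p - 1)
  · exact Cfsg.Agent.S1521.result K hsolv τ R hS hodd ⊥ bot_le inferInstance ⁅K, K⁆
      (sup_bot_eq _).symm hlt hKL hfrob hgood
  simp only [not_or, not_not, hrel] at hgood
  obtain ⟨hx1, -, hx3, hx4, -⟩ := hgood
  -- the centre
  haveI hZn : ((Subgroup.center K).map K.subtype).Normal :=
    Cfsg.Agent.Lib.Helper74.centerMap_normal K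
  have hZ1 := Cfsg.Agent.Lib.Helper74.centerMap_ne_bot K hK1 hKnil
  have hZK := Cfsg.Agent.Lib.Helper74.centerMap_le K
  have hZc := Cfsg.Agent.Lib.Helper74.centerMap_central K
  have hZle := Cfsg.Agent.Lib.Helper74.centerMap_le_commutator K hKnil hx1 hx4
  have hZbig := two_mul_index_add_one_le K W W2 hodd hsup' hcent' hβ' hZ1
  set Z : Subgroup L := (Subgroup.center K).map K.subtype with hZdef
  -- the sets `A` and `B`
  set S : Set (L → ℂ) := inducedIrrAbove K ⊥ with hSdef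
  set A : Set (L → ℂ) := inducedIrrAbove K ⁅K, K⁆ with hAdef
  set B : Set (L → ℂ) := S \ inducedIrrAbove K Z with hBdef
  have hirrA : ∀ χ ∈ A, IsIrrCharacter L χ := irr_of_mem_A K W W2 hsup' hcop' hcent' hW₂'
  have hirrB : ∀ χ ∈ B, IsIrrCharacter L χ := irr_of_mem_B K W W2 hsup' hcent' hβ'
  obtain ⟨hBeq, hB⟩ : B = {χ | IsIrrCharacter L χ ∧ ∃ z ∈ Z, χ z ≠ χ 1} ∧
      IsCoherent B {1}ᶜ τ :=
    Cfsg.Agent.S1522.result K hsolv τ R hS hodd hKnil hlt hKL hfrob Z hZ1 hZK hZc hirrB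
  have hA : IsCoherent A {1}ᶜ τ := Cfsg.Agent.Lib.Helper74.sibleyA_coherent K τ R hS hsolv hlt
  have hdegA : ∀ χ ∈ A, χ 1 = (K.index : ℂ) := fun χ hχ =>
    Cfsg.Agent.Lib.Helper74.sibleyA_degree K hχ
  have hAS : A ⊆ S := Cfsg.Agent.Lib.Helper74.sibleyA_subset K
  have hAne : A.Nonempty := Cfsg.Agent.Lib.Helper74.sibleyA_nonempty K hsolv hlt
  have hAc : ∀ ξ ∈ A, conjFun ξ ∈ A ∧ conjFun ξ ≠ ξ :=
    Cfsg.Agent.Lib.Helper74.sibleyA_conj K τ R hS
  have hBne : B.Nonempty := Cfsg.Agent.Lib.Helper74.sibleyB_nonempty K Z hZ1 hBeq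
  have hdegB : ∀ η ∈ B, ∃ f : ℕ, η 1 = (K.index : ℂ) * f := fun η hη =>
    Cfsg.Agent.Lib.Helper74.sibleyB_degree K Z hη
  have hBc : ∀ ξ ∈ B, conjFun ξ ∈ B ∧ conjFun ξ ≠ ξ :=
    Cfsg.Agent.Lib.Helper74.sibleyB_conj K τ R Z hS
  have hAB : Disjoint A B := Cfsg.Agent.Lib.Helper74.sibley_disjoint K Z hZle
  have hBS : B ⊆ S := Set.sdiff_subset
  have hirr : ∀ ξ ∈ A ∪ B, IsIrrCharacter L ξ := by
    rintro ξ (hξ | hξ)
    · exact hirrA ξ hξ
    · exact hirrB ξ hξ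
  -- induction is an isometry
  obtain ⟨hτ, hτ1⟩ := Cfsg.Agent.Lib.Helper74.indFun_isometry_of_TI H L hHL hTI hN (A ∪ B)
    (fun χ hχ => IsIrrCharacter.isCharacter (hirr χ hχ))
    (by
      intro χ hχ x hx
      have hχS : χ ∈ S := by
        rcases hχ with hχ | hχ
        · exact hAS hχ
        · exact hBS hχ
      apply Cfsg.Agent.Lib.Helper74.sibleyS_vanish K hχS x
      rw [hKdef, Subgroup.mem_subgroupOf]
      exact hx)
  have he : 0 < K.index := Nat.pos_of_ne_zero Subgroup.index_ne_zero_of_finite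
  have hec : Nat.card H * K.index = Nat.card L := by
    rw [← Subgroup.card_mul_index K]
    congr 1
    exact Nat.card_congr (Subgroup.subgroupOfEquivOfLe hHL).toEquiv.symm
  have hc : 0 < Nat.card H := Nat.card_pos
  have hcopK : (Nat.card K).Coprime K.index := by
    rw [hidx]
    exact hcop'.symm.of_dvd (dvd_refl _) (by
      rw [hWdef, Nat.card_congr (Subgroup.subgroupOfEquivOfLe hW₁L).toEquiv])
  -- the key hypothesis
  have hkey : ∀ ψ : G → ℂ, IsIrrCharacter G ψ →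
      (∀ ξ ∈ B, ∀ ξ' ∈ B, classInner (indFun L (ξ' 1 • ξ - ξ 1 • ξ')) ψ = 0) →
      ∀ η ∈ B, ∃ k : ℤ, (K.index : ℂ) * classInner η (fun x : L => ψ x) = k * η 1 := by
    intro ψ hψ horth η hη
    have hηB : η ∈ {χ | IsIrrCharacter L χ ∧ ∃ z ∈ Z, χ z ≠ χ 1} := by
      rw [← hBeq]; exact hη
    refine Cfsg.Agent.Lib.Helper64.key_divisibility L Z K.index (Nat.card H) hec hc ψ
      (IsCharacter.isClassFunction (IsIrrCharacter.isCharacter hψ)) ?_ ?_ hZ1 η hηB.1 hηB.2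
    · intro ξ ξ' h1 h2 h3 h4
      apply horth ξ _ ξ' _
      · rw [hBeq]; exact ⟨h1, h2⟩
      · rw [hBeq]; exact ⟨h3, h4⟩
    · intro hconst
      exact h1523_of_coprime H L hodd hHL hH1 hTI hN hx3 hcopK Z hZ1 hZK hZc ψ hψ hconst
  -- the link
  have hABcoh : IsCoherent (A ∪ B) {1}ᶜ τ :=
    Cfsg.Agent.Lib.Helper64.sibley_link L (A ∪ B) A B hirr Set.subset_union_left
      Set.subset_union_right hAB hAne hBne hAc hBc hτ hτ1 hA hB K.index he hdegA hdegB hkey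
  -- adding the rest (iterating `S1516`)
  let d : (L → ℂ) → ℕ := fun φ => charDegree φ
  let n : (L → ℂ) → ℕ := fun φ => ⌊(classInner φ φ).re⌋₊
  have hd : ∀ φ ∈ S, φ 1 = (d φ : ℂ) := fun φ hφ =>
    IsCharacter.apply_one_eq_charDegree (hS.isCharacter φ hφ)
  have hn : ∀ φ ∈ S, classInner φ φ = (n φ : ℂ) := by
    intro φ hφ
    obtain ⟨k, hk⟩ := Cfsg.Agent.S0148.exists_nat_classInner_of_isCharacter
      (hS.isCharacter φ hφ) (hS.isCharacter φ hφ)
    simp [n, hk]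
  set T : Finset (L → ℂ) := indSet K ⁅K, K⁆ ∪ (indSet K ⊥ \ indSet K Z) with hTdef
  have hTcoe : (↑T : Set (L → ℂ)) = A ∪ B := by
    rw [hTdef, Finset.coe_union, Finset.coe_sdiff, coe_indSet, coe_indSet, coe_indSet]
  have hSfin : S.Finite := by
    rw [hSdef, ← coe_indSet]; exact Finset.finite_toSet _
  have hmemT : ∀ φ, φ ∈ T ↔ φ ∈ A ∪ B := fun φ => by rw [← hTcoe, Finset.mem_coe]
  have hn1 : ∀ φ ∈ T, n φ = 1 := by
    intro φ hφ
    have h1 := hirr φ ((hmemT φ).mp hφ)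
    simp [n, classInner_irr_self h1]
  obtain ⟨χ₁, hχ₁⟩ := hAne
  have hdχ₁ : d χ₁ = K.index := by
    have h1 := hdegA χ₁ hχ₁
    rw [hd χ₁ (hAS hχ₁)] at h1
    exact_mod_cast h1
  -- the sum of the squares of the degrees over `T`
  have hsum : 2 * K.index * Z.index ≤ ∑ φ ∈ T, d φ ^ 2 := by
    have h1 := mul_index_le_sum Z (2 * K.index) hZbig T (by
      intro ξ hξ hξZ
      rw [hmemT]
      right
      rw [hBeq]
      exact ⟨hξ, hξZ⟩)
    rwa [Finset.filter_true_of_mem (fun φ hφ => hirr φ ((hmemT φ).mp hφ))] at h1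
  have hsumR : ((2 * K.index * Z.index : ℕ) : ℝ) ≤ ∑ φ ∈ T, ((d φ : ℝ) ^ 2 / (n φ : ℝ)) := by
    have h1 : ∑ φ ∈ T, ((d φ : ℝ) ^ 2 / (n φ : ℝ)) = ((∑ φ ∈ T, d φ ^ 2 : ℕ) : ℝ) := by
      push_cast
      apply Finset.sum_congr rfl
      intro φ hφ
      rw [hn1 φ hφ, Nat.cast_one, div_one]
    rw [h1]
    exact_mod_cast hsum
  refine Cfsg.Agent.Lib.Helper51.SibC.add_rest S hSfin τ R hS d n hd hn T ?_ ?_ ?_ χ₁
    ((hmemT χ₁).mpr (Or.inl hχ₁)) ?_
  · rw [hTcoe]; exact Set.union_subset hAS hBS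
  · intro φ hφ
    rw [hmemT] at hφ ⊢
    rcases hφ with hφ | hφ
    · exact Or.inl (hAc φ hφ).1
    · exact Or.inr (hBc φ hφ).1
  · rw [hTcoe]; exact hABcoh
  · intro χ hχS hχT
    rw [hmemT] at hχT
    have hχB : χ ∉ B := fun h => hχT (Or.inr h)
    obtain ⟨θ, hθ, hθ1, -, rfl⟩ := hχS
    have hθZ : ∀ a : K, (a : L) ∈ Z → θ a = θ 1 := by
      intro a ha
      by_contra hne
      apply hχB
      rw [hBdef, hSdef, mem_diff_iff K Z hZK]
      exact ⟨θ, hθ, ⟨a, ha, hne⟩, rfl⟩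
    have hsq := Cfsg.Agent.Lib.Helper64.sq_add_one_le_index (Z.subgroupOf K) θ hθ
      (fun z hz => hθZ z (Subgroup.mem_subgroupOf.mp hz)) hθ1
    have hdeg : d (indFun K θ) = K.index * charDegree θ :=
      charDegree_indFun K (IsIrrCharacter.isCharacter hθ)
    have hidxZ : Z.relIndex K * K.index = Z.index := Subgroup.relIndex_mul_index hZK
    have hrelZ : (Z.subgroupOf K).index = Z.relIndex K := rfl
    rw [hrelZ] at hsq
    rw [hdχ₁, hdeg]
    refine ⟨Dvd.intro _ rfl, lt_of_lt_of_le ?_ hsumR⟩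
    have hlt2 : charDegree θ < Z.relIndex K := by nlinarith
    have : 2 * (K.index * charDegree θ) * K.index < 2 * K.index * Z.index := by
      rw [← hidxZ]
      have h3 : K.index * charDegree θ * K.index < K.index * (Z.relIndex K * K.index) := by
        have h4 : charDegree θ * K.index < Z.relIndex K * K.index :=
          Nat.mul_lt_mul_of_pos_right hlt2 he
        calc K.index * charDegree θ * K.index = K.index * (charDegree θ * K.index) := by ring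
          _ < K.index * (Z.relIndex K * K.index) := Nat.mul_lt_mul_of_pos_left h4 he
      nlinarith
    exact_mod_cast this

end Main

end Cfsg.Agent.Lib.Helper65.SibleyBeta
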