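import Mathlib
import Cfsg.Prelude.Def_GeometricClasses
import Cfsg.Agent.Lib.Helper99.AschDefs
import Cfsg.Agent.Lib.Helper23.AschSpDefs
import Cfsg.Agent.Lib.Helper40.AschOSlot33
import Cfsg.Agent.Lib.Helper66.AschSpGL23

/-!
# ASCHSP-[GL23-SLOT] (helper65): a perfect slot group with `d = 2`, `|F| = 3` is trivial

The proof follows helper40's `AschOSlot33.slot_eq_bot_of` (choice of the slot matrix is a
homomorphism by injectivity of `slotMatrix`), with helper66's `eq_bot_of_perfect_GL2F3` at the end.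
-/

set_option autoImplicit false

namespace Cfsg.Agent.Lib.Helper23.AschSp

open Cfsg Cfsg.Geo Cfsg.Agent.Lib.Helper99.Asch
open scoped MatrixGroups Matrix Kronecker

variable {n m : ℕ} {F : Type*} [Field F] [Fintype F] {f : (Fin n → F) → (Fin n → F) → F}

/-- ASCHSP-[GL23-SLOT] -/
theorem eq_bot_of_perfect_slot_two (hF : Fintype.card F = 3) {k : ℕ} (Q₀ : Subgroup (GL (Fin n) F))
    (hperf : ⁅Q₀, Q₀⁆ = Q₀) (idx : Fin n ≃ (Fin k → Fin 2)) (B : GL (Fin n) F) (i : Fin k)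
    (hslot : ∀ x ∈ Q₀, ∃ a : GL (Fin 2) F,
        ((B * x * B⁻¹ : GL (Fin n) F) : Matrix (Fin n) (Fin n) F) =
          Matrix.reindex idx.symm idx.symm (slotMatrix i (a : Matrix (Fin 2) (Fin 2) F))) :
    Q₀ = ⊥ := by
  classical
  have hinj : ∀ a b : GL (Fin 2) F,
      Matrix.reindex idx.symm idx.symm (slotMatrix i (a : Matrix (Fin 2) (Fin 2) F)) =
        Matrix.reindex idx.symm idx.symm (slotMatrix i (b : Matrix (Fin 2) (Fin 2) F)) → a = b := by
    intro a b h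
    exact Units.ext (Cfsg.Agent.Lib.Helper40.AschOSlot33.slotMatrix_inj i
      ((Matrix.reindex idx.symm idx.symm).injective h))
  let ψ0 : Q₀ → GL (Fin 2) F := fun x => Classical.choose (hslot x.1 x.2)
  have hψ0 : ∀ x : Q₀, ((B * x.1 * B⁻¹ : GL (Fin n) F) : Matrix (Fin n) (Fin n) F) =
      Matrix.reindex idx.symm idx.symm
        (slotMatrix i ((ψ0 x : GL (Fin 2) F) : Matrix (Fin 2) (Fin 2) F)) :=
    fun x => Classical.choose_spec (hslot x.1 x.2)
  have hone : ψ0 1 = 1 := by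
    apply hinj
    rw [← hψ0 1]
    simp only [OneMemClass.coe_one, mul_one, mul_inv_cancel, Units.val_one,
      Cfsg.Agent.Lib.Helper40.AschOSlot33.slotMatrix_one',
      Matrix.reindex_apply, Matrix.submatrix_one_equiv]
  have hmul : ∀ x y : Q₀, ψ0 (x * y) = ψ0 x * ψ0 y := by
    intro x y
    apply hinj
    have hx := hψ0 x
    have hy := hψ0 y
    have hxy := hψ0 (x * y)
    rw [← hxy]
    have e : (B * ((x * y : Q₀) : GL (Fin n) F) * B⁻¹) = (B * x.1 * B⁻¹) * (B * y.1 * B⁻¹) := by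
      rw [Subgroup.coe_mul]; group
    rw [e, Units.val_mul, hx, hy, Units.val_mul (ψ0 x) (ψ0 y),
      Cfsg.Agent.Lib.Helper40.AschOSlot33.slotMatrix_mul', Matrix.reindex_apply,
      Matrix.reindex_apply, Matrix.reindex_apply, Matrix.submatrix_mul_equiv]
  let ψ : Q₀ →* GL (Fin 2) F := { toFun := ψ0, map_one' := hone, map_mul' := hmul }
  have htop : ⁅(⊤ : Subgroup Q₀), (⊤ : Subgroup Q₀)⁆ = (⊤ : Subgroup Q₀) := by
    apply Subgroup.map_injective Q₀.subtype_injective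
    rw [Subgroup.map_commutator, ← MonoidHom.range_eq_map, Subgroup.range_subtype, hperf]
  have hAperf : ⁅ψ.range, ψ.range⁆ = ψ.range := by
    rw [MonoidHom.range_eq_map, ← Subgroup.map_commutator, htop]
  have hbot := eq_bot_of_perfect_GL2F3 hF ψ.range hAperf
  rw [eq_bot_iff]
  intro x hx
  rw [Subgroup.mem_bot]
  have h1 : ψ ⟨x, hx⟩ = 1 := by
    have : ψ ⟨x, hx⟩ ∈ ψ.range := ⟨_, rfl⟩
    rw [hbot] at this
    exact Subgroup.mem_bot.mp this
  have h2 := hψ0 ⟨x, hx⟩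
  have h3 : ψ0 ⟨x, hx⟩ = 1 := h1
  rw [h3, Units.val_one, Cfsg.Agent.Lib.Helper40.AschOSlot33.slotMatrix_one',
    Matrix.reindex_apply, Matrix.submatrix_one_equiv] at h2
  have h4 : B * x * B⁻¹ = 1 := Units.ext h2
  have h5 : x = B⁻¹ * (B * x * B⁻¹) * B := by group
  rw [h5, h4]; group

end Cfsg.Agent.Lib.Helper23.AschSp
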