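import Mathlib
import Cfsg.Agent.Lib.Helper32.SLMD.Defs2

/-!
# SLMD-[G-COMMPROJ] (helper65): simultaneous eigenspaces of two commuting homomorphisms
-/

set_option autoImplicit false
set_option linter.unusedSectionVars false
set_option linter.unusedVariables false

namespace Cfsg.Agent.Lib.Helper32.SLMD

open Matrix Cfsg.Agent.Lib.Helper41 Cfsg.Agent.Lib.Helper39 Module
open scoped LinearAlgebra.Projectivization

section generic

variable {G : Type*} [Group G] {N : Type*} [Group N] [Fintype N] {H : Type*} [Group H]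
  {V : Type*} [AddCommGroup V] [Module ℂ V] [FiniteDimensional ℂ V]

namespace GCommProj

/-- the eigenspace of the product homomorphism is the intersection of the eigenspaces -/
theorem eigenSub_noncommCoprod (ρ : Representation ℂ G V) (ν : N →* G) (φ : H →* G)
    (hcomm : ∀ n h, Commute (ν n) (φ h)) (lam : N →* ℂˣ) (mu : H →* ℂˣ) :
    eigenSub ρ (MonoidHom.noncommCoprod ν φ hcomm) (lam.coprod mu) =
      eigenSub ρ ν lam ⊓ eigenSub ρ φ mu := by
  ext v
  rw [Submodule.mem_inf, mem_eigenSub, mem_eigenSub, mem_eigenSub]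
  constructor
  · intro h
    constructor
    · intro n
      have := h (n, 1)
      simpa using this
    · intro x
      have := h (1, x)
      simpa using this
  · rintro ⟨h1, h2⟩ ⟨n, x⟩
    rw [MonoidHom.noncommCoprod_apply, map_mul, Module.End.mul_apply, h2 x, map_smul, h1 n,
      MonoidHom.coprod_apply, smul_smul, Units.val_mul, mul_comm]

end GCommProj

/-- [G-COMMPROJ] -/
theorem comm_proj_sum [Fintype H] (ρ : Representation ℂ G V) (ν : N →* G) (φ : H →* G)
    (hcomm : ∀ n h, Commute (ν n) (φ h)) (lam : N →* ℂˣ) (mu : H →* ℂˣ) :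
    ∑ n : N, ∑ h : H, (((lam n)⁻¹ : ℂˣ) : ℂ) * (((mu h)⁻¹ : ℂˣ) : ℂ) * ρ.character (ν n * φ h) =
      (Fintype.card N : ℂ) * (Fintype.card H : ℂ) *
        (finrank ℂ ↥(eigenSub ρ ν lam ⊓ eigenSub ρ φ mu) : ℂ) := by
  have h := sum_twist_character ρ (MonoidHom.noncommCoprod ν φ hcomm) (lam.coprod mu)
  rw [GCommProj.eigenSub_noncommCoprod, Fintype.sum_prod_type, Fintype.card_prod, Nat.cast_mul] at h
  rw [← h]
  refine Finset.sum_congr rfl fun n _ => Finset.sum_congr rfl fun x _ => ?_
  rw [MonoidHom.noncommCoprod_apply, MonoidHom.coprod_apply, mul_inv, Units.val_mul]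

end generic

end Cfsg.Agent.Lib.Helper32.SLMD
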