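import Mathlib
import Cfsg.Agent.Lib.Helper32.SLMD.Defs2

/-!
# SLMD-[G-PSI] (helper65): additive characters of a finite field, `scaleChar`, `prChar`, `qChar`,
`sChar`: existence, nontriviality, injectivity
-/

set_option autoImplicit false
set_option linter.unusedSectionVars false
set_option linter.unusedVariables false

namespace Cfsg.Agent.Lib.Helper32.SLMD

open Matrix Cfsg.Agent.Lib.Helper41 Cfsg.Agent.Lib.Helper39 Module
open scoped LinearAlgebra.Projectivization

variable {F : Type*} [Field F] [Fintype F] [DecidableEq F] {k : ℕ}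

section chars

namespace GPsi

/-- a nontrivial character takes a value `≠ 1` somewhere -/
theorem exists_apply_ne_one (ψ : Multiplicative F →* ℂˣ) (hψ : ψ ≠ 1) :
    ∃ b : F, ψ (Multiplicative.ofAdd b) ≠ 1 := by
  by_contra h
  push Not at h
  apply hψ
  apply MonoidHom.ext
  intro a
  exact h a.toAdd

end GPsi

/-- [G-PSI] -/
theorem exists_addChar_ne_one : ∃ ψ : Multiplicative F →* ℂˣ, ψ ≠ 1 := by
  have hne : NeZero ((Monoid.exponent (Multiplicative F) : ℕ) : ℂ) :=
    ⟨by exact_mod_cast Monoid.exponent_ne_zero_of_finite⟩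
  have ha : (Multiplicative.ofAdd (1 : F)) ≠ 1 := by
    intro h
    have : (1 : F) = 0 := h
    exact one_ne_zero this
  obtain ⟨φ, hφ⟩ := CommGroup.exists_apply_ne_one_of_hasEnoughRootsOfUnity (Multiplicative F) ℂ ha
  refine ⟨φ, fun h => hφ ?_⟩
  rw [h]; rfl

/-- [G-PSI] -/
theorem scaleChar_ne_one (ψ : Multiplicative F →* ℂˣ) (hψ : ψ ≠ 1) (t : F) (ht : t ≠ 0) :
    scaleChar ψ t ≠ 1 := by
  obtain ⟨b, hb⟩ := GPsi.exists_apply_ne_one ψ hψ
  intro h
  apply hb
  have := DFunLike.congr_fun h (Multiplicative.ofAdd (t⁻¹ * b))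
  rw [scaleChar_apply, toAdd_ofAdd, ← mul_assoc, mul_inv_cancel₀ ht, one_mul] at this
  exact this

/-- [G-PSI] -/
theorem scaleChar_injective (ψ : Multiplicative F →* ℂˣ) (hψ : ψ ≠ 1) :
    Function.Injective (scaleChar ψ) := by
  intro t t' h
  by_contra hne
  have hd : t - t' ≠ 0 := sub_ne_zero.mpr hne
  apply scaleChar_ne_one ψ hψ (t - t') hd
  apply MonoidHom.ext
  intro a
  have := DFunLike.congr_fun h a
  rw [scaleChar_apply, scaleChar_apply] at this
  rw [scaleChar_apply, sub_mul, sub_eq_add_neg, ofAdd_add, map_mul, ofAdd_neg, map_inv, this,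
    mul_inv_cancel]
  rfl

/-- [G-PSI] -/
theorem prChar_ne_one (ψ : Multiplicative F →* ℂˣ) (hψ : ψ ≠ 1) (j : Fin k) :
    (prChar ψ j : Multiplicative (Fin k → F) →* ℂˣ) ≠ 1 := by
  obtain ⟨b, hb⟩ := GPsi.exists_apply_ne_one ψ hψ
  intro h
  apply hb
  have := DFunLike.congr_fun h (Multiplicative.ofAdd (Pi.single j b))
  simpa [prChar] using this

/-- [G-PSI] -/
theorem prChar_inj (ψ ψ' : Multiplicative F →* ℂˣ) (hψ : ψ ≠ 1) (j j' : Fin k)
    (h : (prChar ψ j : Multiplicative (Fin k → F) →* ℂˣ) = prChar ψ' j') : ψ = ψ' ∧ j = j' := by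
  have hj : j = j' := by
    by_contra hne
    obtain ⟨b, hb⟩ := GPsi.exists_apply_ne_one ψ hψ
    apply hb
    have := DFunLike.congr_fun h (Multiplicative.ofAdd (Pi.single j b))
    simp only [prChar, MonoidHom.coe_mk, OneHom.coe_mk, toAdd_ofAdd, Pi.single_eq_same] at this
    rw [this, Pi.single_eq_of_ne (Ne.symm hne)]
    exact ψ'.map_one
  refine ⟨?_, hj⟩
  subst hj
  apply MonoidHom.ext
  intro a
  have := DFunLike.congr_fun h (Multiplicative.ofAdd (Pi.single j a.toAdd))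
  simp only [prChar, MonoidHom.coe_mk, OneHom.coe_mk, toAdd_ofAdd, Pi.single_eq_same] at this
  exact this

/-- [G-PSI] -/
theorem qChar_ne_one (ψ : Multiplicative F →* ℂˣ) (hψ : ψ ≠ 1) (j : Fin k) :
    (qChar ψ j : Multiplicative (F × (Fin k → F)) →* ℂˣ) ≠ 1 := by
  obtain ⟨b, hb⟩ := GPsi.exists_apply_ne_one ψ hψ
  intro h
  apply hb
  have := DFunLike.congr_fun h (Multiplicative.ofAdd ((0 : F), Pi.single j b))
  simpa [qChar] using this

/-- [G-PSI] -/
theorem sChar_ne_one (ψ : Multiplicative F →* ℂˣ) (hψ : ψ ≠ 1) :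
    (sChar ψ : Multiplicative (F × (Fin k → F)) →* ℂˣ) ≠ 1 := by
  obtain ⟨b, hb⟩ := GPsi.exists_apply_ne_one ψ hψ
  intro h
  apply hb
  have := DFunLike.congr_fun h (Multiplicative.ofAdd (b, (0 : Fin k → F)))
  simpa [sChar] using this

end chars

end Cfsg.Agent.Lib.Helper32.SLMD
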