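import Mathlib
import Cfsg.Agent.Lib.Helper32.SLMD.Defs2

/-!
# SLMD-[N-NONTRIV] in `_of` form (helper65): `cQ ρ < finrank V` for irreducible `ρ` of degree `≥ 2`,
with the statement of [N-GEN] as a hypothesis.
-/

set_option autoImplicit false
set_option linter.unusedSectionVars false
set_option linter.unusedVariables false

namespace Cfsg.Agent.Lib.Helper32.SLMD

open Matrix Cfsg.Agent.Lib.Helper41 Cfsg.Agent.Lib.Helper39 Module
open scoped LinearAlgebra.Projectivization

variable {F : Type*} [Field F] [Fintype F] [DecidableEq F] {k : ℕ}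

section gg

variable {V : Type*} [AddCommGroup V] [Module ℂ V] [FiniteDimensional ℂ V]

namespace NNontriv

/-- a representation all of whose operators are the identity and which is irreducible has
dimension at most one -/
theorem finrank_le_one_of_trivial {G : Type*} [Group G] (ρ : Representation ℂ G V)
    (hρ : ρ.IsIrreducible) (htriv : ∀ g : G, ρ g = 1) : finrank ℂ V ≤ 1 := by
  by_contra hlt
  push Not at hlt
  have hpos : 0 < finrank ℂ V := by omega
  have : Nontrivial V := Module.finrank_pos_iff.mp hpos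
  obtain ⟨v, hv⟩ := exists_ne (0 : V)
  let S : Subrepresentation ρ :=
    { toSubmodule := Submodule.span ℂ {v}
      apply_mem_toSubmodule := by
        intro g w hw
        rw [htriv g]
        exact hw }
  have hS := hρ.eq_bot_or_eq_top S
  rcases hS with hS | hS
  · have h1 : S.toSubmodule = (⊥ : Subrepresentation ρ).toSubmodule := by rw [hS]
    have h2 : Submodule.span ℂ {v} = ⊥ := h1
    rw [Submodule.span_singleton_eq_bot] at h2
    exact hv h2
  · have h1 : S.toSubmodule = (⊤ : Subrepresentation ρ).toSubmodule := by rw [hS]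
    have h2 : Submodule.span ℂ {v} = ⊤ := h1
    have h3 : finrank ℂ ↥(Submodule.span ℂ {v}) = finrank ℂ V := by
      rw [h2, finrank_top]
    rw [finrank_span_singleton hv] at h3
    omega

/-- `x12 1` lies in `Q` -/
theorem x12_one_eq_qHom : (x12 (1 : F) : GG F k) = qHom (Multiplicative.ofAdd ((1 : F), (0 : Fin k → F))) := by
  rw [qHom_apply]
  show x12 (1 : F) = qEl 1 0
  unfold qEl
  have : (a1El (0 : Fin k → F) : GG F k) = 1 := a1Hom.map_one
  rw [this, mul_one]

end NNontriv

/-- [N-NONTRIV], with the statement of [N-GEN] as a hypothesis -/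
theorem cQ_lt_finrank_of [NeZero k]
    (hgen : ∀ (K : Subgroup (GG F k)) [K.Normal], (x12 (1 : F) : GG F k) ∈ K → K = ⊤)
    (ρ : Representation ℂ (GG F k) V) (hρ : ρ.IsIrreducible)
    (h2 : 2 ≤ finrank ℂ V) : cQ ρ < finrank ℂ V := by
  have hle : cQ ρ ≤ finrank ℂ V := Submodule.finrank_le _
  rcases lt_or_eq_of_le hle with h | h
  · exact h
  exfalso
  have htop : eigenSub ρ (qHom : _ →* GG F k) 1 = ⊤ := Submodule.eq_top_of_finrank_eq h
  have hx : ρ (x12 (1 : F)) = 1 := by
    apply LinearMap.ext
    intro v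
    have hv : v ∈ eigenSub ρ (qHom : _ →* GG F k) 1 := by rw [htop]; trivial
    rw [mem_eigenSub] at hv
    have := hv (Multiplicative.ofAdd ((1 : F), (0 : Fin k → F)))
    rw [← NNontriv.x12_one_eq_qHom] at this
    rw [this]
    simp
  have hker : (x12 (1 : F) : GG F k) ∈ (ρ : GG F k →* (V →ₗ[ℂ] V)).ker := by
    rw [MonoidHom.mem_ker]; exact hx
  have hK := hgen _ hker
  have htriv : ∀ g : GG F k, ρ g = 1 := by
    intro g
    have : g ∈ (ρ : GG F k →* (V →ₗ[ℂ] V)).ker := by rw [hK]; trivial
    exact MonoidHom.mem_ker.mp this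
  have := NNontriv.finrank_le_one_of_trivial ρ hρ htriv
  omega

end gg

end Cfsg.Agent.Lib.Helper32.SLMD
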