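import Mathlib
import Cfsg.Agent.Lib.Helper32.SLMD.Defs2
import Cfsg.Agent.Lib.Helper6.SlmdNGen
import Cfsg.Agent.Lib.Helper65.SlmdNNontrivOf

/-!
# SLMD-[N-NONTRIV] (helper65): `cQ ρ < finrank V` for irreducible `ρ` of degree `≥ 2`
-/

set_option autoImplicit false
set_option linter.unusedSectionVars false
set_option linter.unusedVariables false

namespace Cfsg.Agent.Lib.Helper32.SLMD

open Matrix Cfsg.Agent.Lib.Helper41 Cfsg.Agent.Lib.Helper39 Module
open scoped LinearAlgebra.Projectivization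

variable {F : Type*} [Field F] [Fintype F] [DecidableEq F] {k : ℕ}

section gg

variable {V : Type*} [AddCommGroup V] [Module ℂ V] [FiniteDimensional ℂ V]

/-- [N-NONTRIV] -/
theorem cQ_lt_finrank [NeZero k] (ρ : Representation ℂ (GG F k) V) (hρ : ρ.IsIrreducible)
    (h2 : 2 ≤ finrank ℂ V) : cQ ρ < finrank ℂ V :=
  cQ_lt_finrank_of (fun K _ h => normal_eq_top_of_x12_mem K h) ρ hρ h2

end gg

end Cfsg.Agent.Lib.Helper32.SLMD
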