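import Mathlib
import Cfsg.Agent.Lib.Helper29.OddProdDefs
import Cfsg.Agent.Lib.Helper29.OddProdIns
import Cfsg.Agent.Lib.Helper29.OddProdSpec

/-!
# S3265 module [EMB]: transport of a solution along an embedding `Fin m ↪ α`
-/

set_option autoImplicit false
set_option linter.unusedSectionVars false

namespace Cfsg.Agent.Lib.Helper65.OddProd
open Equiv Cfsg.Agent.Lib.Helper29.OddProd

variable {α : Type*} [DecidableEq α] [Fintype α]

theorem viaEmbeddingHom_swap {β : Type*} [DecidableEq β] (ι : β ↪ α) (i j : β) :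
    Perm.viaEmbeddingHom ι (swap i j) = swap (ι i) (ι j) := by
  ext b
  rw [Perm.viaEmbeddingHom_apply]
  by_cases hb : b ∈ Set.range ι
  · obtain ⟨a, rfl⟩ := hb
    rw [Perm.viaEmbedding_apply]
    by_cases h1 : a = i
    · subst h1
      rw [Equiv.swap_apply_left, Equiv.swap_apply_left]
    · by_cases h2 : a = j
      · subst h2
        rw [Equiv.swap_apply_right, Equiv.swap_apply_right]
      · rw [Equiv.swap_apply_of_ne_of_ne h1 h2,
          Equiv.swap_apply_of_ne_of_ne (fun h => h1 (ι.injective h))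
            (fun h => h2 (ι.injective h))]
  · rw [Perm.viaEmbedding_apply_of_notMem _ _ _ hb]
    have h1 : b ≠ ι i := fun h => hb ⟨i, h.symm⟩
    have h2 : b ≠ ι j := fun h => hb ⟨j, h.symm⟩
    rw [Equiv.swap_apply_of_ne_of_ne h1 h2]

theorem support_viaEmbeddingHom {β : Type*} [DecidableEq β] [Fintype β] (ι : β ↪ α)
    (e : Perm β) : (Perm.viaEmbeddingHom ι e).support = e.support.map ι := by
  ext b
  rw [Perm.mem_support, Finset.mem_map, Perm.viaEmbeddingHom_apply]
  constructor
  · intro h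
    by_cases hb : b ∈ Set.range ι
    · obtain ⟨a, rfl⟩ := hb
      rw [Perm.viaEmbedding_apply] at h
      exact ⟨a, Perm.mem_support.mpr (fun h' => h (by rw [h'])), rfl⟩
    · exact absurd (Perm.viaEmbedding_apply_of_notMem e ι b hb) h
  · rintro ⟨a, ha, rfl⟩
    rw [Perm.viaEmbedding_apply]
    exact fun h => Perm.mem_support.mp ha (ι.injective h)

theorem card_support_viaEmbeddingHom {β : Type*} [DecidableEq β] [Fintype β] (ι : β ↪ α)
    (e : Perm β) : (Perm.viaEmbeddingHom ι e).support.card = e.support.card := by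
  rw [support_viaEmbeddingHom, Finset.card_map]

theorem orderOf_viaEmbeddingHom {β : Type*} (ι : β ↪ α) (e : Perm β) :
    orderOf (Perm.viaEmbeddingHom ι e) = orderOf e :=
  orderOf_injective _ (Perm.viaEmbeddingHom_injective ι) e

theorem sol_transfer {m : ℕ} (ι : Fin m ↪ α) (E₀ : Finset (Fin m)) (x₀ y₀ z₀ : Perm (Fin m))
    (hz : z₀ * z₀ = 1) (hs : z₀.support ⊆ x₀.support ∪ y₀.support ∪ E₀)
    (hc : z₀.support.card = x₀.support.card)
    (h1 : Odd (orderOf (x₀ * z₀))) (h2 : Odd (orderOf (z₀ * y₀))) :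
    Sol (E₀.map ι) (Perm.viaEmbeddingHom ι x₀) (Perm.viaEmbeddingHom ι y₀) := by
  refine ⟨Perm.viaEmbeddingHom ι z₀, ?_, ?_, ?_, ?_, ?_⟩
  · rw [← map_mul, hz, map_one]
  · rw [support_viaEmbeddingHom, support_viaEmbeddingHom, support_viaEmbeddingHom,
      ← Finset.map_union, ← Finset.map_union]
    exact Finset.map_subset_map.mpr hs
  · rw [card_support_viaEmbeddingHom, card_support_viaEmbeddingHom, hc]
  · rw [← map_mul, orderOf_viaEmbeddingHom]
    exact h1
  · rw [← map_mul, orderOf_viaEmbeddingHom]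
    exact h2

end Cfsg.Agent.Lib.Helper65.OddProd
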