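import Mathlib
import Cfsg.Agent.Lib.Helper29.OddProdDefs
import Cfsg.Agent.Lib.Helper29.OddProdIns
import Cfsg.Agent.Lib.Helper29.OddProdSpec

/-!
# S3265 module [EXC]: structure of the exceptional pair
-/

set_option autoImplicit false
set_option linter.unusedSectionVars false

namespace Cfsg.Agent.Lib.Helper65.OddProd
open Equiv Cfsg.Agent.Lib.Helper29.OddProd

variable {α : Type*} [DecidableEq α] [Fintype α]

/-- an involution whose support is `{a, b, c, d}` (distinct points) and which maps `a` to `b`
is `(a b)(c d)` -/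
theorem eq_swap_mul_swap_of_support {σ : Perm α} (hσ : σ * σ = 1) {a b c d : α}
    (hab' : a ≠ b) (hac : a ≠ c) (had : a ≠ d) (hbc : b ≠ c) (hbd : b ≠ d) (hcd : c ≠ d)
    (hs : σ.support = {a, b, c, d}) (hab : σ a = b) :
    σ = swap a b * swap c d := by
  have hba : σ b = a := by
    have := inv_apply_apply hσ a
    rwa [hab] at this
  have hc_mem : c ∈ σ.support := by
    rw [hs]; simp
  have hσc : σ c ∈ σ.support := Perm.apply_mem_support.mpr hc_mem
  have hcc : σ (σ c) = c := inv_apply_apply hσ c
  have hcd' : σ c = d := by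
    rw [hs] at hσc
    simp only [Finset.mem_insert, Finset.mem_singleton] at hσc
    rcases hσc with h | h | h | h
    · exfalso
      rw [h, hab] at hcc
      exact hbc hcc
    · exfalso
      rw [h, hba] at hcc
      exact hac hcc
    · exact absurd h (Perm.mem_support.mp hc_mem)
    · exact h
  have hdc : σ d = c := by
    rw [hcd'] at hcc
    exact hcc
  ext pt
  rw [Perm.mul_apply]
  by_cases h1 : pt = a
  · subst h1
    rw [Equiv.swap_apply_of_ne_of_ne hac had, Equiv.swap_apply_left, hab]
  · by_cases h2 : pt = b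
    · subst h2
      rw [Equiv.swap_apply_of_ne_of_ne hbc hbd, Equiv.swap_apply_right, hba]
    · by_cases h3 : pt = c
      · subst h3
        rw [Equiv.swap_apply_left, Equiv.swap_apply_of_ne_of_ne (Ne.symm had) (Ne.symm hbd), hcd']
      · by_cases h4 : pt = d
        · subst h4
          rw [Equiv.swap_apply_right, Equiv.swap_apply_of_ne_of_ne (Ne.symm hac) (Ne.symm hbc),
            hdc]
        · rw [Equiv.swap_apply_of_ne_of_ne h3 h4, Equiv.swap_apply_of_ne_of_ne h1 h2]
          have : pt ∉ σ.support := by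
            rw [hs]
            simp only [Finset.mem_insert, Finset.mem_singleton, not_or]
            exact ⟨h1, h2, h3, h4⟩
          exact Perm.notMem_support.mp this

theorem exc_struct (x y : Perm α) (hx : x * x = 1) (hy : y * y = 1) (h : Exc x y) (a : α)
    (ha : x a ≠ a) :
    ∃ c d : α, [a, x a, c, d].Nodup ∧ x = swap a (x a) * swap c d ∧
      y = swap a c * swap (x a) d := by
  obtain ⟨hcard, hsupp, hne⟩ := h
  have ha_mem : a ∈ x.support := Perm.mem_support.mpr ha
  have hb_mem : x a ∈ x.support := Perm.apply_mem_support.mpr ha_mem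
  have hb_mem' : x a ∈ x.support.erase a := Finset.mem_erase.mpr ⟨ha, hb_mem⟩
  have hc2 : ((x.support.erase a).erase (x a)).card = 2 := by
    rw [Finset.card_erase_of_mem hb_mem', Finset.card_erase_of_mem ha_mem, hcard]
  obtain ⟨p, q, hpq, hpqs⟩ := Finset.card_eq_two.mp hc2
  have hp_mem : p ∈ (x.support.erase a).erase (x a) := by rw [hpqs]; simp
  have hq_mem : q ∈ (x.support.erase a).erase (x a) := by rw [hpqs]; simp
  have hpb : p ≠ x a := (Finset.mem_erase.mp hp_mem).1
  have hpa : p ≠ a := (Finset.mem_erase.mp (Finset.mem_erase.mp hp_mem).2).1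
  have hqb : q ≠ x a := (Finset.mem_erase.mp hq_mem).1
  have hqa : q ≠ a := (Finset.mem_erase.mp (Finset.mem_erase.mp hq_mem).2).1
  have hs : x.support = {a, x a, p, q} := by
    rw [← Finset.insert_erase ha_mem, ← Finset.insert_erase hb_mem', hpqs]
  have hxe : x = swap a (x a) * swap p q :=
    eq_swap_mul_swap_of_support hx (Ne.symm ha) (Ne.symm hpa) (Ne.symm hqa) (Ne.symm hpb)
      (Ne.symm hqb) hpq hs rfl
  have hya : y a ≠ a := by
    have : a ∈ y.support := by rw [hsupp]; exact ha_mem
    exact Perm.mem_support.mp this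
  have hya_mem : y a ∈ y.support := Perm.apply_mem_support.mpr (Perm.mem_support.mpr hya)
  have hys : y.support = {a, x a, p, q} := by rw [hsupp, hs]
  rw [hys] at hya_mem
  simp only [Finset.mem_insert, Finset.mem_singleton] at hya_mem
  rcases hya_mem with h1 | h1 | h1 | h1
  · exact absurd h1 hya
  · exfalso
    apply hne
    have hye : y = swap a (x a) * swap p q :=
      eq_swap_mul_swap_of_support hy (Ne.symm ha) (Ne.symm hpa) (Ne.symm hqa) (Ne.symm hpb)
        (Ne.symm hqb) hpq hys h1
    rw [hye]
    exact hxe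
  · refine ⟨p, q, ?_, hxe, ?_⟩
    · simp only [List.nodup_cons, List.mem_cons, List.not_mem_nil, or_false, not_or,
        List.nodup_nil, and_true, not_false_eq_true]
      exact ⟨⟨Ne.symm ha, Ne.symm hpa, Ne.symm hqa⟩, ⟨Ne.symm hpb, Ne.symm hqb⟩, hpq⟩
    · have hys' : y.support = {a, p, x a, q} := by
        rw [hys]
        ext t
        simp only [Finset.mem_insert, Finset.mem_singleton]
        tauto
      exact eq_swap_mul_swap_of_support hy (Ne.symm hpa) (Ne.symm ha) (Ne.symm hqa) hpb hpq
        (Ne.symm hqb) hys' h1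
  · refine ⟨q, p, ?_, ?_, ?_⟩
    · simp only [List.nodup_cons, List.mem_cons, List.not_mem_nil, or_false, not_or,
        List.nodup_nil, and_true, not_false_eq_true]
      exact ⟨⟨Ne.symm ha, Ne.symm hqa, Ne.symm hpa⟩, ⟨Ne.symm hqb, Ne.symm hpb⟩, Ne.symm hpq⟩
    · rw [Equiv.swap_comm q p]
      exact hxe
    · have hys' : y.support = {a, q, x a, p} := by
        rw [hys]
        ext t
        simp only [Finset.mem_insert, Finset.mem_singleton]
        tauto
      exact eq_swap_mul_swap_of_support hy (Ne.symm hqa) (Ne.symm ha) (Ne.symm hpa) hqb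
        (Ne.symm hpq) (Ne.symm hpb) hys' h1

end Cfsg.Agent.Lib.Helper65.OddProd
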