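import Mathlib
import Cfsg.Agent.Lib.Helper53.SUReg.Defs
import Cfsg.Agent.Lib.Helper36.HermOrtho

set_option autoImplicit false

/-!
# S2282-[MFORM]: the model form `hM` is sesquilinear, hermitian, non-degenerate and has an
orthonormal basis (over a finite field with a non-trivial involution).
-/

namespace Cfsg.Agent.Lib.Helper53.SUReg

open Matrix

variable {F : Type*} [Field F] {σ : F →+* F} {q : ℕ} {m : ℕ}

theorem hM_add_left (x x' y : MI m → F) : hM σ m (x + x') y = hM σ m x y + hM σ m x' y := by
  unfold hM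
  simp only [Pi.add_apply, add_mul, Finset.sum_add_distrib]
  ring

theorem hM_smul_left (c : F) (x y : MI m → F) : hM σ m (c • x) y = c * hM σ m x y := by
  unfold hM
  simp only [Pi.smul_apply, smul_eq_mul, mul_add, Finset.mul_sum, mul_assoc]

theorem hM_add_right (x y y' : MI m → F) : hM σ m x (y + y') = hM σ m x y + hM σ m x y' := by
  unfold hM
  simp only [Pi.add_apply, map_add, mul_add, Finset.sum_add_distrib]
  ring

theorem hM_smul_right (c : F) (x y : MI m → F) : hM σ m x (c • y) = σ c * hM σ m x y := by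
  unfold hM
  simp only [Pi.smul_apply, smul_eq_mul, map_mul, mul_add, Finset.mul_sum]
  congr 1
  · refine Finset.sum_congr rfl fun i _ => ?_
    ring
  · ring

theorem hM_symm (hσ2 : ∀ x, σ (σ x) = x) (x y : MI m → F) : σ (hM σ m x y) = hM σ m y x := by
  unfold hM
  simp only [map_add, map_sum, map_mul, hσ2]
  congr 1
  · refine Finset.sum_congr rfl fun i _ => ?_
    ring
  · ring

theorem hM_single_inl_h65 (x : MI m → F) (i : Fin m) :
    hM σ m x (Pi.single (Sum.inl i) 1) = x (Sum.inr (Sum.inr i)) := by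
  unfold hM
  simp [Pi.single_apply]

theorem hM_single_inr_h65 (x : MI m → F) (i : Fin m) :
    hM σ m x (Pi.single (Sum.inr (Sum.inr i)) 1) = x (Sum.inl i) := by
  unfold hM
  simp [Pi.single_apply]

theorem hM_single_mid_h65 (x : MI m → F) :
    hM σ m x (Pi.single (Sum.inr (Sum.inl ())) 1) = x (Sum.inr (Sum.inl ())) := by
  unfold hM
  simp

set_option linter.unusedVariables false in
theorem hM_nondeg (hσ2 : ∀ x, σ (σ x) = x) (x : MI m → F) (h : ∀ y, hM σ m x y = 0) : x = 0 := by
  funext k
  rcases k with i | ⟨⟨⟩⟩ | i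
  · rw [← hM_single_inr_h65 (σ := σ) x i]; exact h _
  · rw [← hM_single_mid_h65 (σ := σ) x]; exact h _
  · rw [← hM_single_inl_h65 (σ := σ) x i]; exact h _

/-- the model form as a sesquilinear map (`modelB_h65 x y = hM y x`, semilinear in `x`). -/
noncomputable def modelB_h65 (σ : F →+* F) (m : ℕ) : (MI m → F) →ₛₗ[σ] (MI m → F) →ₗ[F] F :=
  LinearMap.mk₂'ₛₗ σ (RingHom.id F) (fun x y => hM σ m y x)
    (fun x x' y => hM_add_right y x x')
    (fun c x y => by simpa [smul_eq_mul] using hM_smul_right (σ := σ) c y x)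
    (fun x y y' => hM_add_left y y' x)
    (fun c x y => by simpa [smul_eq_mul] using hM_smul_left (σ := σ) c y x)

theorem modelB_apply_h65 (x y : MI m → F) : modelB_h65 σ m x y = hM σ m y x := rfl

theorem finrank_MI_h65 (m : ℕ) : Module.finrank F (MI m → F) = 2 * m + 1 := by
  rw [Module.finrank_pi]
  simp [Fintype.card_sum]
  ring

theorem exists_model_basis [Finite F] (hσ : σ ≠ RingHom.id F) (hσ2 : ∀ x, σ (σ x) = x) (m : ℕ) :
    ∃ b : Fin (2 * m + 1) → (MI m → F),
      (∀ i j, hM σ m (b i) (b j) = if i = j then 1 else 0) ∧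
      (∀ v : MI m → F, v = ∑ i, hM σ m v (b i) • b i) := by
  have hS : (modelB_h65 σ m).IsSymm := ⟨fun x y => by
    rw [modelB_apply_h65, modelB_apply_h65]; exact hM_symm hσ2 y x⟩
  have hN : (modelB_h65 σ m).Nondegenerate := by
    refine ⟨fun x hx => ?_, fun y hy => ?_⟩
    · refine hM_nondeg hσ2 x fun y => ?_
      have := hx y
      rw [modelB_apply_h65] at this
      rw [← hM_symm hσ2 y x, this, map_zero]
    · exact hM_nondeg hσ2 y fun x => by
        have := hy x
        rwa [modelB_apply_h65] at this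
  obtain ⟨b0, hb0⟩ := Cfsg.Agent.Lib.Helper36.exists_orthonormal_basis σ hσ hσ2 (modelB_h65 σ m) hS hN
  have hfr : Module.finrank F (MI m → F) = 2 * m + 1 := finrank_MI_h65 m
  let e : Fin (Module.finrank F (MI m → F)) ≃ Fin (2 * m + 1) := finCongr hfr
  let b := b0.reindex e
  have horth : ∀ i j, hM σ m (b i) (b j) = if i = j then 1 else 0 := by
    intro i j
    have := hb0 (e.symm j) (e.symm i)
    rw [modelB_apply_h65] at this
    simp only [b, Module.Basis.reindex_apply]
    rw [this]
    simp only [EmbeddingLike.apply_eq_iff_eq]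
    by_cases hij : i = j
    · simp [hij]
    · have : ¬ j = i := fun h => hij h.symm
      simp [hij, this]
  refine ⟨b, horth, fun v => ?_⟩
  have hrepr : ∀ j, hM σ m v (b j) = b.repr v j := by
    intro j
    have h1 : hM σ m v (b j) = modelB_h65 σ m (b j) v := rfl
    rw [h1]
    conv_lhs => rw [← b.sum_repr v]
    rw [map_sum]
    simp only [map_smul, smul_eq_mul, modelB_apply_h65, horth]
    simp
  conv_lhs => rw [← b.sum_repr v]
  exact Finset.sum_congr rfl fun j _ => by rw [hrepr j]

end Cfsg.Agent.Lib.Helper53.SUReg
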