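import Mathlib
import Cfsg.Agent.Lib.Helper64.PFElevenStruct
import Cfsg.Agent.Lib.Helper64.PFElevenCoh
import Cfsg.Agent.Lib.Helper97.PFElevenE2
import Cfsg.Agent.Lib.Helper50.PFElevenE3g
import Cfsg.Agent.Lib.Helper65.SibleyBetaGroup

/-!
# PF section 11, module [T4-STRUCT-A] `typeIV_struct` (helper64's sheet #2, `PF11_MODULES2.md`)

`M` of Type IV with `calS M` non-coherent: `U` is an `r`-group, `U/U'` is an elementary abelian
`W₁`-chief factor of order `r^m`, `q ∤ r - 1`, `q ∣ r^m - 1`.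
-/

set_option autoImplicit false
set_option linter.unusedSectionVars false
set_option linter.style.haveILetI false

namespace Cfsg.Agent.Lib.Helper65.PF11T4

open Cfsg Cfsg.Agent.Lib.Helper24.PFCyc Cfsg.Agent.Lib.Helper4.PF Cfsg.Agent.Lib.Helper58.PF9
  Cfsg.Agent.Lib.Helper4.PF9 Cfsg.Agent.Lib.Helper23 Cfsg.Agent.Lib.Helper64.PF11
open scoped commutatorElement

universe u

section GroupLevel

variable {G : Type u} [Group G] [Finite G] {M W₁ U W₂ : Subgroup G}

/-- `W₁` normalizes `U'` -/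
theorem W₁_le_normalizer_der (hP : IsTypePWith M W₁ U W₂) :
    W₁ ≤ Subgroup.normalizer ((⁅U, U⁆ : Subgroup G) : Set G) :=
  Cfsg.Agent.Lib.Helper50.PF11.le_normalizer_of_conj_mem (fun w hw n hn =>
    Cfsg.Agent.Lib.Helper50.PF11.conj_mem_commutator
      (fun a ha => Cfsg.Agent.Lib.Helper50.PF11.conj_mem_of_le_normalizer hP.U_normal hw ha)
      (fun b hb => Cfsg.Agent.Lib.Helper50.PF11.conj_mem_of_le_normalizer hP.U_normal hw hb) n hn)

/-- a `W₁`-invariant subgroup of `U` has order `≡ 1 (mod q)` -/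
theorem card_modEq_one (hP : IsTypePWith M W₁ U W₂) (hq : (Nat.card W₁).Prime)
    (V : Subgroup G) (hVU : V ≤ U) (hWV : W₁ ≤ Subgroup.normalizer (V : Set G)) :
    Nat.card V ≡ 1 [MOD Nat.card W₁] := by
  haveI : Fact (Nat.card W₁).Prime := ⟨hq⟩
  have hpg : IsPGroup (Nat.card W₁) W₁ := IsPGroup.of_card (n := 1) (pow_one _).symm
  obtain ⟨w, hw1⟩ := (Subgroup.ne_bot_iff_exists_ne_one (H := W₁)).1 hP.W₁_ne
  have hw1' : (w : G) ≠ 1 := fun h0 => hw1 (Subtype.ext h0)
  have hbot : V ⊓ Subgroup.centralizer (W₁ : Set G) = ⊥ := by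
    rw [eq_bot_iff]
    intro c hc'
    rw [Subgroup.mem_bot]
    exact W₁_fpf_U hP w.2 hw1' (hVU hc'.1) (Subgroup.mem_centralizer_iff.1 hc'.2 w w.2)
  have h := Cfsg.Agent.Lib.Helper71.card_modEq_card_inf_centralizer W₁ V hpg hWV
  rwa [hbot, Subgroup.card_bot] at h

/-- `U' ≠ 1` if `U` is not abelian -/
theorem der_ne_bot (hnab : ¬ IsMulCommutative U) : (⁅U, U⁆ : Subgroup G) ≠ ⊥ := by
  intro h
  apply hnab
  refine ⟨⟨fun a b => ?_⟩⟩
  apply Subtype.ext
  have h1 : ⁅(a : G), (b : G)⁆ ∈ (⁅U, U⁆ : Subgroup G) :=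
    Subgroup.commutator_mem_commutator a.2 b.2
  rw [h, Subgroup.mem_bot, commutatorElement_eq_one_iff_mul_comm] at h1
  exact h1

/-- `U' < U` for `U` nilpotent, nontrivial -/
theorem der_lt (hnil : Group.IsNilpotent U) (hU : U ≠ ⊥) : (⁅U, U⁆ : Subgroup G) < U := by
  refine lt_of_le_of_ne (Subgroup.commutator_le_self U) ?_
  intro h
  haveI : Nontrivial ↥U := (Subgroup.nontrivial_iff_ne_bot U).mpr hU
  have hlt := Group.IsSolvable.commutator_lt_top_of_nontrivial ↥U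
  have hmap : (commutator ↥U).map U.subtype = ⁅U, U⁆ := by
    rw [commutator_def, Subgroup.map_commutator, ← MonoidHom.range_eq_map, Subgroup.range_subtype]
  apply hlt.ne
  apply Subgroup.map_injective U.subtype_injective
  rw [hmap, h, ← MonoidHom.range_eq_map, Subgroup.range_subtype]

/-- `2q + 1 ≤ |U'|` -/
theorem two_mul_add_one_le_card_der (hP : IsTypePWith M W₁ U W₂) (hq : (Nat.card W₁).Prime)
    (hodd : Odd (Nat.card G)) (hnab : ¬ IsMulCommutative U) :
    2 * Nat.card W₁ + 1 ≤ Nat.card (⁅U, U⁆ : Subgroup G) := by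
  have h1 := card_modEq_one hP hq ⁅U, U⁆ (Subgroup.commutator_le_self U)
    (W₁_le_normalizer_der hP)
  have hqo : Odd (Nat.card W₁) := Odd.of_dvd_nat hodd (Subgroup.card_subgroup_dvd_card W₁)
  have hxo : Odd (Nat.card (⁅U, U⁆ : Subgroup G)) :=
    Odd.of_dvd_nat hodd (Subgroup.card_subgroup_dvd_card _)
  rcases Cfsg.Agent.Lib.Helper50.PF11.eq_one_or_ge_of_modEq hqo hxo h1 with h | h
  · exact absurd (Subgroup.card_eq_one.mp h) (der_ne_bot hnab)
  · exact h

end GroupLevel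

section Translate

variable {G : Type u} [Group G] [Finite G] {M W₁ U W₂ : Subgroup G}

theorem derM_normal (M : Subgroup G) : (derM M).Normal :=
  (Subgroup.normal_subgroupOf_iff_le_normalizer (Subgroup.commutator_le_self M)).2
    (Subgroup.normalizer_commutator_ge_left M M)

theorem HL_normal (M : Subgroup G) : ((fittingHallOf M).subgroupOf M).Normal :=
  (Subgroup.normal_subgroupOf_iff_le_normalizer (fittingHallOf_le M)).2
    (Cfsg.Agent.Lib.Helper50.PF11.le_normalizer_of_conj_mem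
      (fun m hm h hh => conj_mem_fittingHallOf M hm hh))

theorem derM_sup_W₁ (hP : IsTypePWith M W₁ U W₂) : derM M ⊔ W₁.subgroupOf M = ⊤ := by
  rw [eq_top_iff]
  intro x _
  obtain ⟨k, hk, w, hw, hx⟩ := hP.W₁_compl.2.2.2 x x.2
  have hkM : k ∈ M := der_le hP hk
  have hwM : w ∈ M := W₁_le hP hw
  have : x = (⟨k, hkM⟩ : ↥M) * ⟨w, hwM⟩ := Subtype.ext hx
  rw [this]
  exact Subgroup.mul_mem _ (Subgroup.mem_sup_left (Subgroup.mem_subgroupOf.mpr hk))
    (Subgroup.mem_sup_right (Subgroup.mem_subgroupOf.mpr hw))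

theorem card_derM (M : Subgroup G) : Nat.card (derM M) = Nat.card (⁅M, M⁆ : Subgroup G) :=
  Nat.card_congr (Subgroup.subgroupOfEquivOfLe (Subgroup.commutator_le_self M)).toEquiv

theorem coprime_W₁_derM (hP : IsTypePWith M W₁ U W₂) :
    (Nat.card (W₁.subgroupOf M)).Coprime (Nat.card (derM M)) := by
  rw [card_derM, Nat.card_congr (Subgroup.subgroupOfEquivOfLe (W₁_le hP)).toEquiv]
  have hcardM : Nat.card M = Nat.card (⁅M, M⁆ : Subgroup G) * Nat.card W₁ :=
    card_of_isComplIn hP.W₁_compl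
  have h1 := card_mul_relIndex_of_le (W₁_le hP)
  have h2 : W₁.relIndex M = Nat.card (⁅M, M⁆ : Subgroup G) := by
    have : Nat.card W₁ * W₁.relIndex M = Nat.card W₁ * Nat.card (⁅M, M⁆ : Subgroup G) := by
      rw [h1, hcardM, mul_comm]
    exact Nat.eq_of_mul_eq_mul_left Nat.card_pos this
  rw [← h2]
  exact hP.W₁_hall

theorem cent_W₁ (hP : IsTypePWith M W₁ U W₂) :
    ∀ w ∈ W₁.subgroupOf M, w ≠ 1 → ∀ k ∈ derM M, w * k = k * w → k ∈ W₂.subgroupOf M := by
  intro w hw hw1 k hk hwk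
  rw [Subgroup.mem_subgroupOf] at hw hk ⊢
  have hw1' : (w : G) ≠ 1 := fun h => hw1 (Subtype.ext h)
  rw [← hP.W₂_centralizer (w : G) hw hw1']
  refine ⟨hk, Subgroup.mem_centralizer_iff.2 ?_⟩
  intro y hy
  rw [Set.mem_singleton_iff] at hy
  rw [hy]
  have := congrArg Subtype.val hwk
  simpa using this

theorem commutator_derM (M : Subgroup G) :
    ⁅derM M, derM M⁆ = (⁅⁅M, M⁆, ⁅M, M⁆⁆).subgroupOf M := by
  have hKM : ⁅M, M⁆ ≤ M := Subgroup.commutator_le_self M
  apply Subgroup.map_injective M.subtype_injective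
  rw [Subgroup.map_commutator, Subgroup.map_subgroupOf_eq_of_le hKM,
    Subgroup.map_subgroupOf_eq_of_le ((Subgroup.commutator_le_self _).trans hKM)]

theorem W₂_le_commutator (hP : IsTypePWith M W₁ U W₂) :
    W₂.subgroupOf M ≤ ⁅derM M, derM M⁆ := by
  rw [commutator_derM]
  intro x hx
  rw [Subgroup.mem_subgroupOf] at hx ⊢
  exact (hP.W₂_le hx).2

/-- the Frobenius condition for `↥M / M''` -/
theorem hfrob_derM (hP : IsTypePWith M W₁ U W₂) :
    ∀ k ∈ derM M, k ∉ ⁅derM M, derM M⁆ → ∀ x : ↥M,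
      x * k * x⁻¹ * k⁻¹ ∈ ⁅derM M, derM M⁆ → x ∈ derM M := by
  haveI := derM_normal M
  exact Cfsg.Agent.Lib.Helper65.SibleyBeta.hfrob_of_cent (derM M) (W₁.subgroupOf M)
    (W₂.subgroupOf M) (derM_sup_W₁ hP) (coprime_W₁_derM hP) (cent_W₁ hP) (W₂_le_commutator hP)

end Translate

section Indices

variable {G : Type u} [Group G] [Finite G] {M W₁ U W₂ : Subgroup G}

theorem card_der (hP : IsTypePWith M W₁ U W₂) :
    Nat.card (⁅M, M⁆ : Subgroup G) = Nat.card (fittingHallOf M) * Nat.card U :=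
  card_of_isComplIn hP.U_compl

theorem index_derM (hP : IsTypePWith M W₁ U W₂) : (derM M).index = Nat.card W₁ := by
  show (⁅M, M⁆).relIndex M = _
  have h1 := card_mul_relIndex_of_le (der_le hP)
  have hcardM : Nat.card M = Nat.card (⁅M, M⁆ : Subgroup G) * Nat.card W₁ :=
    card_of_isComplIn hP.W₁_compl
  rw [hcardM] at h1
  exact Nat.eq_of_mul_eq_mul_left Nat.card_pos h1

theorem relIndex_H_der (hP : IsTypePWith M W₁ U W₂) :
    (fittingHallOf M).relIndex ⁅M, M⁆ = Nat.card U := by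
  have h1 := card_mul_relIndex_of_le (H_le_der hP)
  rw [card_der hP] at h1
  exact Nat.eq_of_mul_eq_mul_left Nat.card_pos h1

theorem relIndex_HL (hP : IsTypePWith M W₁ U W₂) :
    ((fittingHallOf M).subgroupOf M).relIndex (derM M) = Nat.card U := by
  rw [Subgroup.relIndex_subgroupOf (der_le hP)]
  exact relIndex_H_der hP

theorem HL_le_derM (hP : IsTypePWith M W₁ U W₂) :
    (fittingHallOf M).subgroupOf M ≤ derM M := by
  intro x hx
  rw [Subgroup.mem_subgroupOf] at hx ⊢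
  exact H_le_der hP hx

theorem derM_lt_top (hP : IsTypePWith M W₁ U W₂) : derM M < ⊤ := by
  rw [lt_top_iff_ne_top]
  intro htop
  apply hP.W₁_ne
  rw [eq_bot_iff]
  intro w hw
  have hwM : w ∈ M := W₁_le hP hw
  have : (⟨w, hwM⟩ : ↥M) ∈ derM M := by rw [htop]; trivial
  rw [Subgroup.mem_subgroupOf] at this
  have hmem : w ∈ ⁅M, M⁆ ⊓ W₁ := ⟨this, hw⟩
  rwa [der_inf_W₁ hP] at hmem

/-- `M'/H ≅ U` is nilpotent -/
theorem isNilpotent_quot (hP : IsTypePWith M W₁ U W₂)
    [hn : (((fittingHallOf M).subgroupOf M).subgroupOf (derM M)).Normal] :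
    Group.IsNilpotent (↥(derM M) ⧸ ((fittingHallOf M).subgroupOf M).subgroupOf (derM M)) := by
  haveI := hP.U_nilpotent
  let ι : ↥U →* ↥(derM M) :=
    (Subgroup.inclusion (U_le hP)).codRestrict (derM M)
      (fun u => Subgroup.mem_subgroupOf.mpr (U_le_der hP u.2))
  let φ : ↥U →* ↥(derM M) ⧸ ((fittingHallOf M).subgroupOf M).subgroupOf (derM M) :=
    (QuotientGroup.mk' _).comp ι
  have hφ : Function.Surjective φ := by
    intro x
    obtain ⟨k, rfl⟩ := QuotientGroup.mk'_surjective _ x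
    obtain ⟨h, hh, u, hu, hk⟩ := hP.U_compl.2.2.2 (k : G) (Subgroup.mem_subgroupOf.mp k.2)
    refine ⟨⟨u, hu⟩, ?_⟩
    show (QuotientGroup.mk' _) (ι ⟨u, hu⟩) = (QuotientGroup.mk' _) k
    rw [QuotientGroup.mk'_apply, QuotientGroup.mk'_apply, QuotientGroup.eq,
      Subgroup.mem_subgroupOf, Subgroup.mem_subgroupOf]
    show (u : G)⁻¹ * ((k : ↥M) : G) ∈ fittingHallOf M
    rw [hk]
    have := conj_mem_fittingHallOf M (M.inv_mem (U_le hP hu)) hh
    simpa [mul_assoc] using this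
  exact Group.nilpotent_of_surjective φ hφ

end Indices

section Struct

variable {G : Type u} [Group G] [Fintype G] {M W₁ U W₂ : Subgroup G} [Fintype M]

/-- `M'' = H U'` in `↥M` -/
theorem commutator_derM_eq (S : Struct34 M W₁ U W₂) :
    ⁅derM M, derM M⁆ = (fittingHallOf M ⊔ ⁅U, U⁆).subgroupOf M := by
  rw [commutator_derM, S.hK2, S.hCU]

theorem HL_le_commutator (S : Struct34 M W₁ U W₂) :
    (fittingHallOf M).subgroupOf M ≤ ⁅derM M, derM M⁆ := by
  rw [commutator_derM_eq S]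
  intro x hx
  rw [Subgroup.mem_subgroupOf] at hx ⊢
  exact Subgroup.mem_sup_left hx

theorem sup_HL_eq (S : Struct34 M W₁ U W₂) :
    ⁅derM M, derM M⁆ ⊔ (fittingHallOf M).subgroupOf M = ⁅derM M, derM M⁆ :=
  sup_eq_left.mpr (HL_le_commutator S)

theorem HL_lt_derM (hP : IsTypePWith M W₁ U W₂) (hU : U ≠ ⊥) :
    (fittingHallOf M).subgroupOf M < derM M := by
  refine lt_of_le_of_ne (HL_le_derM hP) ?_
  intro h
  have h1 := relIndex_HL hP
  rw [h, Subgroup.relIndex_self] at h1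
  exact hU (Subgroup.card_eq_one.mp h1.symm)

theorem commutator_derM_lt (hP : IsTypePWith M W₁ U W₂) (hU : U ≠ ⊥) :
    ⁅derM M, derM M⁆ < derM M := by
  have hsolv : Group.IsSolvable ↥(derM M) := isSolvable_derM hP
  have hK1 : derM M ≠ ⊥ := by
    intro h
    have := HL_lt_derM hP hU
    rw [h] at this
    exact not_lt_bot this
  refine lt_of_le_of_ne (Subgroup.commutator_le_self _) ?_
  intro h
  have hnt : Nontrivial ↥(derM M) := (Subgroup.nontrivial_iff_ne_bot _).mpr hK1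
  have hlt := Group.IsSolvable.commutator_lt_top_of_nontrivial ↥(derM M)
  have hmap : (commutator ↥(derM M)).map (derM M).subtype = ⁅derM M, derM M⁆ := by
    rw [commutator_def, Subgroup.map_commutator, ← MonoidHom.range_eq_map, Subgroup.range_subtype]
  apply hlt.ne
  apply Subgroup.map_injective (derM M).subtype_injective
  rw [hmap, h, ← MonoidHom.range_eq_map, Subgroup.range_subtype]

theorem odd_card_M (S : Struct34 M W₁ U W₂) : Odd (Nat.card M) :=
  Odd.of_dvd_nat S.hodd (Subgroup.card_subgroup_dvd_card M)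

/-- (i): `S(H)` is not coherent -/
theorem not_coherent_HL (S : Struct34 M W₁ U W₂) (hnab : ¬ IsMulCommutative U)
    (hbig : 4 * Nat.card W₁ ^ 2 + 1 <
      (⁅fittingHallOf M, fittingHallOf M⁆).relIndex (fittingHallOf M))
    (τ : (↥M → ℂ) → (G → ℂ)) (R : (↥M → ℂ) → Finset (G → ℂ))
    (hS : IsCoherenceSystem (inducedIrrAbove (derM M) ⊥) τ R)
    (hnc : ¬ IsCoherent (inducedIrrAbove (derM M) ⊥) {1}ᶜ τ) :
    ¬ IsCoherent (inducedIrrAbove (derM M) ((fittingHallOf M).subgroupOf M)) {1}ᶜ τ := by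
  intro hcoh
  haveI := HL_normal M
  have h1 := Cfsg.Agent.Lib.Helper97.PF11.bounded_proper_coherent S.hP S.hU S.hq (odd_card_M S)
    hbig τ R hS hnc ((fittingHallOf M).subgroupOf M) (HL_lt_derM S.hP S.hU) hcoh
  have h2 : ((fittingHallOf M).subgroupOf M).relIndex (Cfsg.Agent.Lib.Helper97.PF11.derM M) =
      Nat.card U := relIndex_HL S.hP
  have h3 : Cfsg.Agent.Lib.Helper97.PF11.CU M U = ⁅U, U⁆ := S.hCU
  rw [h2, h3] at h1
  have h4 := two_mul_add_one_le_card_der S.hP S.hq S.hodd hnab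
  have h5 := card_mul_relIndex_of_le (Subgroup.commutator_le_self U)
  have h6 : 2 ≤ (⁅U, U⁆ : Subgroup G).relIndex U := by
    have hne1 : (⁅U, U⁆ : Subgroup G).relIndex U ≠ 1 := by
      intro h
      rw [Subgroup.relIndex_eq_one] at h
      exact absurd h (not_le_of_gt (der_lt S.hP.U_nilpotent S.hU))
    have hne0 : (⁅U, U⁆ : Subgroup G).relIndex U ≠ 0 :=
      Subgroup.index_ne_zero_of_finite (H := (⁅U, U⁆ : Subgroup G).subgroupOf U)
    omega
  rw [← h5] at h1
  have h7 := Nat.mul_le_mul_right ((⁅U, U⁆ : Subgroup G).relIndex U) h4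
  nlinarith

/-- (ii): the contrapositive of `S1521` with `M := H` -/
theorem facts (S : Struct34 M W₁ U W₂) (hnab : ¬ IsMulCommutative U)
    (hbig : 4 * Nat.card W₁ ^ 2 + 1 <
      (⁅fittingHallOf M, fittingHallOf M⁆).relIndex (fittingHallOf M))
    (τ : (↥M → ℂ) → (G → ℂ)) (R : (↥M → ℂ) → Finset (G → ℂ))
    (hS : IsCoherenceSystem (inducedIrrAbove (derM M) ⊥) τ R)
    (hnc : ¬ IsCoherent (inducedIrrAbove (derM M) ⊥) {1}ᶜ τ) :
    (¬ ∃ N : Subgroup ↥M, N.Normal ∧ ⁅derM M, derM M⁆ < N ∧ N < derM M) ∧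
    (∃ p m : ℕ, p.Prime ∧ Nat.card U = p ^ m) ∧
    (∀ p m : ℕ, p.Prime → Nat.card U = p ^ m → ¬ Nat.card W₁ ∣ p - 1) := by
  haveI := derM_normal M
  haveI := HL_normal M
  haveI hn2 : (((fittingHallOf M).subgroupOf M).subgroupOf (derM M)).Normal := inferInstance
  have key := not_coherent_facts (derM M) (isSolvable_derM S.hP) τ R hS (odd_card_M S)
    ((fittingHallOf M).subgroupOf M) (HL_le_derM S.hP) (isNilpotent_quot S.hP)
    (by rw [sup_HL_eq S]; exact commutator_derM_lt S.hP S.hU) (derM_lt_top S.hP)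
    (by rw [sup_HL_eq S]; exact hfrob_derM S.hP)
    (not_coherent_HL S hnab hbig τ R hS hnc)
  rw [sup_HL_eq S, relIndex_HL S.hP, index_derM S.hP] at key
  exact ⟨key.1, key.2.2.1, key.2.2.2.2⟩

end Struct

section Chief

variable {G : Type u} [Group G] [Fintype G] {M W₁ U W₂ : Subgroup G} [Fintype M]

theorem card_H_sup (hP : IsTypePWith M W₁ U W₂) (N : Subgroup G) (hNU : N ≤ U) :
    Nat.card (fittingHallOf M ⊔ N : Subgroup G) = Nat.card (fittingHallOf M) * Nat.card N := by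
  apply Cfsg.Agent.Lib.Helper54.card_sup_of_le_normalizer
  · exact (hNU.trans (U_le hP)).trans
      (Cfsg.Agent.Lib.Helper50.PF11.le_normalizer_of_conj_mem
        (fun m hm h hh => conj_mem_fittingHallOf M hm hh))
  · rw [eq_bot_iff, ← H_inf_U hP]
    exact inf_le_inf_left _ hNU

theorem eq_of_H_sup_eq (hP : IsTypePWith M W₁ U W₂) (N₁ N₂ : Subgroup G) (h12 : N₁ ≤ N₂)
    (hN₂ : N₂ ≤ U) (h : fittingHallOf M ⊔ N₁ = fittingHallOf M ⊔ N₂) : N₁ = N₂ := by
  have h1 := card_H_sup hP N₁ (h12.trans hN₂)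
  have h2 := card_H_sup hP N₂ hN₂
  rw [h] at h1
  rw [h1] at h2
  have h3 : Nat.card N₁ = Nat.card N₂ := Nat.eq_of_mul_eq_mul_left Nat.card_pos h2
  exact Subgroup.eq_of_le_of_card_ge h12 h3.symm.le

/-- `U/U'` is a `W₁`-chief factor -/
theorem chief_of_no_normal (S : Struct34 M W₁ U W₂)
    (hno : ¬ ∃ N : Subgroup ↥M, N.Normal ∧ ⁅derM M, derM M⁆ < N ∧ N < derM M) :
    ∀ N : Subgroup G, ⁅U, U⁆ ≤ N → N ≤ U → W₁ ≤ Subgroup.normalizer (N : Set G) →
      N = ⁅U, U⁆ ∨ N = U := by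
  intro N hU'N hNU hWN
  by_contra hcon
  push Not at hcon
  obtain ⟨hne1, hne2⟩ := hcon
  have hP := S.hP
  apply hno
  set H := fittingHallOf M with hHdef
  have hHM : H ≤ M := fittingHallOf_le M
  have hHNM : H ⊔ N ≤ M := sup_le hHM (hNU.trans (U_le hP))
  have hHNK : H ⊔ N ≤ ⁅M, M⁆ := sup_le (H_le_der hP) (hNU.trans (U_le_der hP))
  -- conjugation
  have hcW : ∀ w ∈ W₁, ∀ x ∈ H ⊔ N, w * x * w⁻¹ ∈ H ⊔ N := fun w hw =>
    Cfsg.Agent.Lib.Helper97.PF11.conj_mem_sup_of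
      (fun x hx => conj_mem_fittingHallOf M (W₁_le hP hw) hx)
      (fun x hx => Cfsg.Agent.Lib.Helper50.PF11.conj_mem_of_le_normalizer hWN hw hx)
  have hcU : ∀ u ∈ U, ∀ x ∈ H ⊔ N, u * x * u⁻¹ ∈ H ⊔ N := fun u hu =>
    Cfsg.Agent.Lib.Helper97.PF11.conj_mem_sup_of
      (fun x hx => conj_mem_fittingHallOf M (U_le hP hu) hx)
      (fun x hx => by
        have h1 : ⁅u, x⁆ ∈ (⁅U, U⁆ : Subgroup G) :=
          Subgroup.commutator_mem_commutator hu (hNU hx)
        have h2 : u * x * u⁻¹ = ⁅u, x⁆ * x := by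
          rw [commutatorElement_def]; group
        rw [h2]
        exact N.mul_mem (hU'N h1) hx)
  have hcH : ∀ h ∈ H, ∀ x ∈ H ⊔ N, h * x * h⁻¹ ∈ H ⊔ N := fun h hh x hx =>
    (H ⊔ N).mul_mem ((H ⊔ N).mul_mem (Subgroup.mem_sup_left hh) hx)
      ((H ⊔ N).inv_mem (Subgroup.mem_sup_left hh))
  have hnorm : M ≤ Subgroup.normalizer ((H ⊔ N : Subgroup G) : Set G) := by
    apply Cfsg.Agent.Lib.Helper50.PF11.le_normalizer_of_conj_mem
    intro m hm x hx
    obtain ⟨k, hk, w, hw, rfl⟩ := hP.W₁_compl.2.2.2 m hm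
    obtain ⟨h, hh, u, hu, rfl⟩ := hP.U_compl.2.2.2 k hk
    have h1 := hcH h hh _ (hcU u hu _ (hcW w hw x hx))
    have h2 : h * u * w * x * (h * u * w)⁻¹ = h * (u * (w * x * w⁻¹) * u⁻¹) * h⁻¹ := by group
    rw [h2]
    exact h1
  refine ⟨(H ⊔ N).subgroupOf M, (Subgroup.normal_subgroupOf_iff_le_normalizer hHNM).2 hnorm, ?_, ?_⟩
  · rw [commutator_derM_eq S]
    refine lt_of_le_of_ne ?_ ?_
    · intro x hx
      rw [Subgroup.mem_subgroupOf] at hx ⊢
      exact sup_le_sup_left hU'N H hx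
    · intro heq
      have h1 := congrArg (Subgroup.map M.subtype) heq
      rw [Subgroup.map_subgroupOf_eq_of_le hHNM, Subgroup.map_subgroupOf_eq_of_le
        (sup_le hHM ((Subgroup.commutator_le_self U).trans (U_le hP)))] at h1
      exact hne1 (eq_of_H_sup_eq hP _ _ hU'N hNU h1).symm
  · refine lt_of_le_of_ne ?_ ?_
    · intro x hx
      rw [Subgroup.mem_subgroupOf] at hx ⊢
      exact hHNK hx
    · intro heq
      have h1 := congrArg (Subgroup.map M.subtype) heq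
      rw [Subgroup.map_subgroupOf_eq_of_le hHNM, Subgroup.map_subgroupOf_eq_of_le
        (der_le hP), Cfsg.Agent.Lib.Helper97.PF11.der_eq_sup hP] at h1
      exact hne2 (eq_of_H_sup_eq hP _ _ hNU le_rfl h1)

end Chief

section Power

variable {G : Type u} [Group G]

theorem commutator_map_subtype (U : Subgroup G) :
    (commutator ↥U).map U.subtype = ⁅U, U⁆ := by
  rw [commutator_def, Subgroup.map_commutator, ← MonoidHom.range_eq_map, Subgroup.range_subtype]

theorem mem_commutator_iff (U : Subgroup G) (u : ↥U) :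
    u ∈ commutator ↥U ↔ (u : G) ∈ (⁅U, U⁆ : Subgroup G) := by
  rw [← commutator_map_subtype U]
  exact (Subgroup.mem_map_iff_mem U.subtype_injective).symm

/-- the subgroup of the `u ∈ U` with `u ^ r ∈ U'` -/
theorem exists_powSubgroup (U : Subgroup G) (r : ℕ) :
    ∃ N : Subgroup G, ∀ n, n ∈ N ↔ n ∈ U ∧ n ^ r ∈ (⁅U, U⁆ : Subgroup G) := by
  let f : ↥U →* Abelianization ↥U := Abelianization.of
  let g : Abelianization ↥U →* Abelianization ↥U := powMonoidHom r
  refine ⟨((g.comp f).ker).map U.subtype, ?_⟩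
  intro n
  have key : ∀ u : ↥U, u ∈ (g.comp f).ker ↔ ((u : G) ^ r ∈ (⁅U, U⁆ : Subgroup G)) := by
    intro u
    rw [MonoidHom.mem_ker, MonoidHom.comp_apply]
    show (f u) ^ r = 1 ↔ _
    rw [← map_pow, ← MonoidHom.mem_ker]
    show u ^ r ∈ (Abelianization.of : ↥U →* Abelianization ↥U).ker ↔ _
    rw [Abelianization.ker_of, mem_commutator_iff]
    rfl
  constructor
  · rintro ⟨u, hu, rfl⟩
    exact ⟨u.2, (key u).mp hu⟩
  · rintro ⟨hn, hnr⟩
    exact ⟨⟨n, hn⟩, (key ⟨n, hn⟩).mpr hnr, rfl⟩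

end Power

section Final

variable {G : Type u} [Group G] [Fintype G] {M W₁ U W₂ : Subgroup G} [Fintype M]

/-- MODULE [T4-STRUCT-A] -/
theorem typeIV_struct (S : Struct34 M W₁ U W₂) (hnab : ¬ IsMulCommutative U)
    (hbig : 4 * Nat.card W₁ ^ 2 + 1 <
      (⁅fittingHallOf M, fittingHallOf M⁆).relIndex (fittingHallOf M))
    (τ : (↥M → ℂ) → (G → ℂ)) (R : (↥M → ℂ) → Finset (G → ℂ))
    (hS : IsCoherenceSystem (inducedIrrAbove (derM M) ⊥) τ R)
    (hnc : ¬ IsCoherent (inducedIrrAbove (derM M) ⊥) {1}ᶜ τ) :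
    ∃ r m : ℕ, r.Prime ∧ IsPGroup r U ∧ (⁅U, U⁆).relIndex U = r ^ m ∧
      ¬ Nat.card W₁ ∣ r - 1 ∧ Nat.card W₁ ∣ r ^ m - 1 ∧
      (∀ u ∈ U, u ^ r ∈ ⁅U, U⁆) ∧
      (∀ N : Subgroup G, ⁅U, U⁆ ≤ N → N ≤ U → W₁ ≤ Subgroup.normalizer (N : Set G) →
        N = ⁅U, U⁆ ∨ N = U) := by
  obtain ⟨hno, ⟨r, m', hr, hcard⟩, hq⟩ := facts S hnab hbig τ R hS hnc
  have hP := S.hP
  have hchief := chief_of_no_normal S hno
  haveI : Fact r.Prime := ⟨hr⟩
  have hUr : IsPGroup r U := IsPGroup.of_card hcard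
  have hU'U : (⁅U, U⁆ : Subgroup G) ≤ U := Subgroup.commutator_le_self U
  have hmul := card_mul_relIndex_of_le hU'U
  have hdvd : (⁅U, U⁆ : Subgroup G).relIndex U ∣ r ^ m' := by
    rw [← hcard, ← hmul]; exact dvd_mul_left _ _
  obtain ⟨m, -, hrel⟩ := (Nat.dvd_prime_pow hr).mp hdvd
  have hlt := der_lt hP.U_nilpotent S.hU
  have hm1 : 1 ≤ m := by
    by_contra h
    have : m = 0 := by omega
    rw [this, pow_zero, Subgroup.relIndex_eq_one] at hrel
    exact absurd hrel (not_le_of_gt hlt)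
  refine ⟨r, m, hr, hUr, hrel, hq r m' hr hcard, ?_, ?_, hchief⟩
  · -- `q ∣ r ^ m - 1`
    have h1 := card_modEq_one hP S.hq U le_rfl hP.U_normal
    have h2 := card_modEq_one hP S.hq ⁅U, U⁆ hU'U (W₁_le_normalizer_der hP)
    have h3 : r ^ m ≡ 1 [MOD Nat.card W₁] := by
      have h4 : r ^ m * Nat.card (⁅U, U⁆ : Subgroup G) ≡ r ^ m * 1 [MOD Nat.card W₁] :=
        Nat.ModEq.mul_left _ h2
      have h5 : r ^ m * Nat.card (⁅U, U⁆ : Subgroup G) = Nat.card U := by
        rw [← hrel, mul_comm]; exact hmul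
      rw [mul_one, h5] at h4
      exact h4.symm.trans h1
    exact (Nat.modEq_iff_dvd' (Nat.one_le_pow _ _ hr.pos)).mp h3.symm
  · -- exponent `r`
    obtain ⟨N, hN⟩ := exists_powSubgroup U r
    have hU'N : (⁅U, U⁆ : Subgroup G) ≤ N := by
      intro x hx
      rw [hN]
      exact ⟨hU'U hx, Subgroup.pow_mem _ hx r⟩
    have hNU : N ≤ U := fun x hx => ((hN x).mp hx).1
    have hWN : W₁ ≤ Subgroup.normalizer (N : Set G) := by
      apply Cfsg.Agent.Lib.Helper50.PF11.le_normalizer_of_conj_mem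
      intro w hw n hn
      rw [hN] at hn ⊢
      refine ⟨Cfsg.Agent.Lib.Helper50.PF11.conj_mem_of_le_normalizer hP.U_normal hw hn.1, ?_⟩
      rw [conj_pow]
      exact Cfsg.Agent.Lib.Helper50.PF11.conj_mem_of_le_normalizer (W₁_le_normalizer_der hP)
        hw hn.2
    rcases hchief N hU'N hNU hWN with h | h
    · exfalso
      have hsub : (⁅U, U⁆ : Subgroup G).subgroupOf U = commutator ↥U := by
        ext u
        rw [Subgroup.mem_subgroupOf, mem_commutator_iff]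
      have hidx : Nat.card (Abelianization ↥U) = r ^ m := by
        rw [← hrel]
        show (commutator ↥U).index = ((⁅U, U⁆ : Subgroup G).subgroupOf U).index
        rw [hsub]
      have hdvdr : r ∣ Nat.card (Abelianization ↥U) := by
        rw [hidx]; exact dvd_pow_self r (by omega)
      obtain ⟨x, hx⟩ := exists_prime_orderOf_dvd_card' r hdvdr
      obtain ⟨u, hu⟩ := QuotientGroup.mk_surjective x
      have h0 : x ^ r = 1 := by
        rw [← hx]; exact pow_orderOf_eq_one _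
      have h1 : ((u : ↥U ⧸ commutator ↥U)) ^ r = 1 := by
        rw [hu]; exact h0
      rw [← QuotientGroup.mk_pow, QuotientGroup.eq_one_iff, mem_commutator_iff] at h1
      have h2 : (u : G) ∈ N := (hN _).mpr ⟨u.2, by simpa using h1⟩
      rw [h, ← mem_commutator_iff, ← QuotientGroup.eq_one_iff] at h2
      have hx1 : x = 1 := by
        rw [← hu]; exact h2
      rw [hx1, orderOf_one] at hx
      exact hr.one_lt.ne hx
    · intro u hu
      have : u ∈ N := by rw [h]; exact hu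
      exact ((hN u).mp this).2

end Final

end Cfsg.Agent.Lib.Helper65.PF11T4
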