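/-
helper65: project S2363 (helper40), module S2363-[EXC-C]: the order bounds for the Suzuki and Ree families.
-/
import Mathlib
import Cfsg.Agent.Lib.Helper40.LieBound

set_option autoImplicit false

open Cfsg.Agent.Lib.Helper40.LieBound

namespace Cfsg.Agent.Lib.Helper65.LieBound

theorem sz_bound {m g : ℕ}
    (hg : g = (2 ^ (2 * m + 1)) ^ 2 * (2 ^ (2 * m + 1) - 1) * ((2 ^ (2 * m + 1)) ^ 2 + 1)) :
    g < 2 ^ (3 * g.factorization 2) ∧ g ^ 3 < 2 ^ (8 * g.factorization 2) := by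
  have hp : Nat.Prime 2 := Nat.prime_two
  have hf : 1 ≤ 2 * m + 1 := by omega
  have hq2 : 2 ≤ 2 ^ (2 * m + 1) := by
    calc 2 = 2 ^ 1 := (pow_one 2).symm
      _ ≤ 2 ^ (2 * m + 1) := Nat.pow_le_pow_right (by norm_num) hf
  have h1 : ¬ 2 ∣ 2 ^ (2 * m + 1) - 1 := by
    have := not_dvd_pow_sub_one hp hf (le_refl 1)
    rwa [pow_one] at this
  have h2 : ¬ 2 ∣ (2 ^ (2 * m + 1)) ^ 2 + 1 := not_dvd_pow_add_one hp hf (by norm_num)
  have hM : ¬ 2 ∣ (2 ^ (2 * m + 1) - 1) * ((2 ^ (2 * m + 1)) ^ 2 + 1) := by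
    intro h
    rcases (Nat.Prime.dvd_mul hp).mp h with h | h
    · exact h1 h
    · exact h2 h
  have hMe : (2 ^ (2 * m + 1) - 1) * ((2 ^ (2 * m + 1)) ^ 2 + 1) < 1 * (2 ^ (2 * m + 1)) ^ 3 := by
    have := pair_lt hq2 (a := 1) (b := 2) (by norm_num)
    rw [pow_one] at this
    rw [one_mul]
    exact this
  exact card_bounds (N := 2) (e := 3) (d := 1) hp (by norm_num) hM (by rw [hg]; ring) hMe
    (by norm_num) (by norm_num)

theorem twoF4_bound {m g : ℕ}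
    (hg : g = (2 ^ (2 * m + 1)) ^ 12 * (2 ^ (2 * m + 1) - 1) * ((2 ^ (2 * m + 1)) ^ 3 + 1) *
      ((2 ^ (2 * m + 1)) ^ 4 - 1) * ((2 ^ (2 * m + 1)) ^ 6 + 1)) :
    g < 2 ^ (3 * g.factorization 2) ∧ g ^ 3 < 2 ^ (8 * g.factorization 2) := by
  have hp : Nat.Prime 2 := Nat.prime_two
  have hf : 1 ≤ 2 * m + 1 := by omega
  have hq2 : 2 ≤ 2 ^ (2 * m + 1) := by
    calc 2 = 2 ^ 1 := (pow_one 2).symm
      _ ≤ 2 ^ (2 * m + 1) := Nat.pow_le_pow_right (by norm_num) hf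
  have h1 : ¬ 2 ∣ 2 ^ (2 * m + 1) - 1 := by
    have := not_dvd_pow_sub_one hp hf (le_refl 1)
    rwa [pow_one] at this
  have h2 : ¬ 2 ∣ (2 ^ (2 * m + 1)) ^ 3 + 1 := not_dvd_pow_add_one hp hf (by norm_num)
  have h3 : ¬ 2 ∣ (2 ^ (2 * m + 1)) ^ 4 - 1 := not_dvd_pow_sub_one hp hf (by norm_num)
  have h4 : ¬ 2 ∣ (2 ^ (2 * m + 1)) ^ 6 + 1 := not_dvd_pow_add_one hp hf (by norm_num)
  have hM : ¬ 2 ∣ ((2 ^ (2 * m + 1) - 1) * ((2 ^ (2 * m + 1)) ^ 3 + 1)) *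
      (((2 ^ (2 * m + 1)) ^ 4 - 1) * ((2 ^ (2 * m + 1)) ^ 6 + 1)) := by
    intro h
    rcases (Nat.Prime.dvd_mul hp).mp h with h | h
    · rcases (Nat.Prime.dvd_mul hp).mp h with h | h
      · exact h1 h
      · exact h2 h
    · rcases (Nat.Prime.dvd_mul hp).mp h with h | h
      · exact h3 h
      · exact h4 h
  have hMe : ((2 ^ (2 * m + 1) - 1) * ((2 ^ (2 * m + 1)) ^ 3 + 1)) *
      (((2 ^ (2 * m + 1)) ^ 4 - 1) * ((2 ^ (2 * m + 1)) ^ 6 + 1)) < 1 * (2 ^ (2 * m + 1)) ^ 14 := by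
    have e1 := pair_lt hq2 (a := 1) (b := 3) (by norm_num)
    rw [pow_one] at e1
    have e2 := pair_lt hq2 (a := 4) (b := 6) (by norm_num)
    rw [one_mul]
    calc _ < (2 ^ (2 * m + 1)) ^ (1 + 3) * (2 ^ (2 * m + 1)) ^ (4 + 6) := Nat.mul_lt_mul'' e1 e2
      _ = (2 ^ (2 * m + 1)) ^ 14 := by rw [← pow_add]
  exact card_bounds (N := 12) (e := 14) (d := 1) hp (by norm_num) hM (by rw [hg]; ring) hMe
    (by norm_num) (by norm_num)

theorem twoG2_bound {m g : ℕ}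
    (hg : g = (3 ^ (2 * m + 1)) ^ 3 * (3 ^ (2 * m + 1) - 1) * ((3 ^ (2 * m + 1)) ^ 3 + 1)) :
    g < 3 ^ (3 * g.factorization 3) ∧ g ^ 3 < 3 ^ (8 * g.factorization 3) := by
  have hp : Nat.Prime 3 := Nat.prime_three
  have hf : 1 ≤ 2 * m + 1 := by omega
  have hq2 : 2 ≤ 3 ^ (2 * m + 1) := by
    calc 2 ≤ 3 ^ 1 := by norm_num
      _ ≤ 3 ^ (2 * m + 1) := Nat.pow_le_pow_right (by norm_num) hf
  have h1 : ¬ 3 ∣ 3 ^ (2 * m + 1) - 1 := by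
    have := not_dvd_pow_sub_one hp hf (le_refl 1)
    rwa [pow_one] at this
  have h2 : ¬ 3 ∣ (3 ^ (2 * m + 1)) ^ 3 + 1 := not_dvd_pow_add_one hp hf (by norm_num)
  have hM : ¬ 3 ∣ (3 ^ (2 * m + 1) - 1) * ((3 ^ (2 * m + 1)) ^ 3 + 1) := by
    intro h
    rcases (Nat.Prime.dvd_mul hp).mp h with h | h
    · exact h1 h
    · exact h2 h
  have hMe : (3 ^ (2 * m + 1) - 1) * ((3 ^ (2 * m + 1)) ^ 3 + 1) < 1 * (3 ^ (2 * m + 1)) ^ 4 := by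
    have := pair_lt hq2 (a := 1) (b := 3) (by norm_num)
    rw [pow_one] at this
    rw [one_mul]
    exact this
  exact card_bounds (N := 3) (e := 4) (d := 1) hp (by norm_num) hM (by rw [hg]; ring) hMe
    (by norm_num) (by norm_num)

end Cfsg.Agent.Lib.Helper65.LieBound
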