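/-
helper65: project S2363 (helper40), module S2363-[PMINUS]: the order bounds for the minus-type orthogonal groups.
-/
import Mathlib
import Cfsg.Agent.Lib.Helper40.LieBound

set_option autoImplicit false

open Cfsg.Agent.Lib.Helper40.LieBound

namespace Cfsg.Agent.Lib.Helper65.LieBound

/-- `∏_{i<k} (q^(2(i+1)) - 1) ≤ q^(k(k+1))` -/
theorem prod_even_le {q : ℕ} (k : ℕ) :
    ∏ i ∈ Finset.range k, (q ^ (2 * (i + 1)) - 1) ≤ q ^ (k * (k + 1)) := by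
  induction k with
  | zero => simp
  | succ k ih =>
    rw [Finset.prod_range_succ]
    calc (∏ i ∈ Finset.range k, (q ^ (2 * (i + 1)) - 1)) * (q ^ (2 * (k + 1)) - 1)
        ≤ q ^ (k * (k + 1)) * q ^ (2 * (k + 1)) := Nat.mul_le_mul ih (Nat.sub_le _ _)
      _ = q ^ ((k + 1) * (k + 1 + 1)) := by rw [← pow_add]; congr 1; ring

theorem pminus_bound {p f q m g : ℕ} (hp : p.Prime) (hf : 1 ≤ f) (hq : q = p ^ f) (hm : 4 ≤ m)
    (hg : Nat.gcd 4 (q ^ m + 1) * g =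
      q ^ (m * (m - 1)) * (q ^ m + 1) * ∏ i ∈ Finset.range (m - 1), (q ^ (2 * (i + 1)) - 1)) :
    g < p ^ (3 * g.factorization p) ∧ g ^ 3 < p ^ (8 * g.factorization p) := by
  subst hq
  obtain ⟨k, rfl⟩ : ∃ k, m = k + 4 := ⟨m - 4, by omega⟩
  have hk1 : k + 4 - 1 = k + 3 := by omega
  rw [hk1] at hg
  have hq2 : 2 ≤ p ^ f := by
    calc 2 ≤ p := hp.two_le
      _ = p ^ 1 := (pow_one p).symm
      _ ≤ p ^ f := Nat.pow_le_pow_right hp.pos hf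
  have hqpos : 0 < p ^ f := by omega
  have hd : ¬ p ∣ Nat.gcd 4 ((p ^ f) ^ (k + 4) + 1) := by
    intro h
    exact not_dvd_pow_add_one hp hf (by omega) (h.trans (Nat.gcd_dvd_right _ _))
  have hM : ¬ p ∣ ((p ^ f) ^ (k + 4) + 1) *
      ∏ i ∈ Finset.range (k + 3), ((p ^ f) ^ (2 * (i + 1)) - 1) := by
    intro h
    rcases (Nat.Prime.dvd_mul hp).mp h with h | h
    · exact not_dvd_pow_add_one hp hf (by omega) h
    · exact not_dvd_prod hp _ _ (fun i _ => not_dvd_pow_sub_one hp hf (by omega)) h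
  have hdpos : 1 ≤ Nat.gcd 4 ((p ^ f) ^ (k + 4) + 1) :=
    Nat.gcd_pos_of_pos_left _ (by norm_num)
  have hMe : ((p ^ f) ^ (k + 4) + 1) *
      ∏ i ∈ Finset.range (k + 3), ((p ^ f) ^ (2 * (i + 1)) - 1) <
      Nat.gcd 4 ((p ^ f) ^ (k + 4) + 1) * (p ^ f) ^ ((k + 4) ^ 2 + 1) := by
    have e1 : (p ^ f) ^ (k + 4) + 1 < (p ^ f) ^ (k + 4 + 1) := pow_add_one_lt hq2 (by omega)
    have e2 := prod_even_le (q := p ^ f) (k + 3)
    calc ((p ^ f) ^ (k + 4) + 1) * ∏ i ∈ Finset.range (k + 3), ((p ^ f) ^ (2 * (i + 1)) - 1)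
        ≤ ((p ^ f) ^ (k + 4) + 1) * (p ^ f) ^ ((k + 3) * (k + 3 + 1)) := Nat.mul_le_mul_left _ e2
      _ < (p ^ f) ^ (k + 4 + 1) * (p ^ f) ^ ((k + 3) * (k + 3 + 1)) :=
          Nat.mul_lt_mul_of_pos_right e1 (pow_pos hqpos _)
      _ = (p ^ f) ^ ((k + 4) ^ 2 + 1) := by rw [← pow_add]; congr 1; ring
      _ = 1 * (p ^ f) ^ ((k + 4) ^ 2 + 1) := (one_mul _).symm
      _ ≤ Nat.gcd 4 ((p ^ f) ^ (k + 4) + 1) * (p ^ f) ^ ((k + 4) ^ 2 + 1) :=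
          Nat.mul_le_mul_right _ hdpos
  have hg' : Nat.gcd 4 ((p ^ f) ^ (k + 4) + 1) * g = (p ^ f) ^ ((k + 4) * (k + 3)) *
      (((p ^ f) ^ (k + 4) + 1) * ∏ i ∈ Finset.range (k + 3), ((p ^ f) ^ (2 * (i + 1)) - 1)) := by
    rw [hg, mul_assoc]
  exact card_bounds (N := (k + 4) * (k + 3)) (e := (k + 4) ^ 2 + 1) hp hd hM hg' hMe
    (by nlinarith) (by nlinarith)

end Cfsg.Agent.Lib.Helper65.LieBound
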