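import Cfsg.Agent.Lib.Helper65.Suz2Basic
import Cfsg.Agent.Lib.Helper37.Suz2B3

/-!
# Project SUZ2 (helper85), module [B4]: the pure elements at `τ` fill the whole field (helper65)
-/

set_option autoImplicit false

namespace Cfsg.Agent.Lib.Helper65.Suz2

open Cfsg.Agent.Lib.Helper19.Suz Cfsg.Agent.Lib.Helper85.Suz2

universe u

variable {P : Type u} [Group P] {Y : Subgroup (MulAut P)}
variable {F : Type} [Field F] [Fintype F] {aZ : P → F} {κ : MulAut P → F}
  {σ : MulAut P → (F ≃+* F)} {c : (F ≃+* F) → P → F}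

/-- an additive subgroup consisting of `0` and the values of a subgroup of units -/
theorem card_insert_zero {K : Type*} [Field K] [Finite K] (A : AddSubgroup K) (S : Subgroup Kˣ)
    (h : ∀ x : K, x ∈ A ↔ x = 0 ∨ ∃ w ∈ S, (w : K) = x) : Nat.card A = Nat.card S + 1 := by
  have hset : (A : Set K) = insert 0 (Units.val '' (S : Set Kˣ)) := by
    ext x
    rw [SetLike.mem_coe, h x, Set.mem_insert_iff, Set.mem_image]
    rfl
  have h0 : (0 : K) ∉ Units.val '' (S : Set Kˣ) := by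
    rintro ⟨w, -, hw⟩
    exact w.ne_zero hw
  calc Nat.card A = (A : Set K).ncard := Nat.card_coe_set_eq _
    _ = (Units.val '' (S : Set Kˣ)).ncard + 1 := by
      rw [hset, Set.ncard_insert_of_notMem h0 (Set.toFinite _)]
    _ = (S : Set Kˣ).ncard + 1 := by rw [Set.ncard_image_of_injective _ Units.val_injective]
    _ = Nat.card S + 1 := by rw [← Nat.card_coe_set_eq]; rfl

/-- the arithmetic core of [B4] -/
theorem b4_arith (k m r t n : ℕ) (hk : k + 1 = 2 ^ r) (hm : m + 1 = 2 ^ t)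
    (hkm : k * m + 1 = 2 ^ n) (hk1 : 1 ≤ k) (hm1 : 1 ≤ m) (hlt : k + 1 < 2 ^ n) :
    k = 1 ∧ m + 1 = 2 ^ n := by
  have key : k = 1 := by
    rcases Nat.lt_or_ge r 2 with hr | hr
    · interval_cases r
      · omega
      · omega
    rcases Nat.lt_or_ge t 2 with ht | ht
    · interval_cases t
      · omega
      · have hm1' : m = 1 := by omega
        rw [hm1', mul_one] at hkm
        omega
    exfalso
    obtain ⟨r', rfl⟩ : ∃ r', r = r' + 2 := ⟨r - 2, by omega⟩
    obtain ⟨t', rfl⟩ : ∃ t', t = t' + 2 := ⟨t - 2, by omega⟩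
    rw [pow_add] at hk hm
    have hk4 : k % 4 = 3 := by omega
    have hm4 : m % 4 = 3 := by omega
    have hkm4 : (k * m) % 4 = 1 := by rw [Nat.mul_mod, hk4, hm4]
    have hk3 : 3 ≤ k := by omega
    have hm3 : 3 ≤ m := by omega
    have h9 : 9 ≤ k * m := Nat.mul_le_mul hk3 hm3
    rcases Nat.lt_or_ge n 2 with hn | hn
    · interval_cases n <;> omega
    obtain ⟨n', rfl⟩ : ∃ n', n = n' + 2 := ⟨n - 2, by omega⟩
    rw [pow_add] at hkm
    omega
  refine ⟨key, ?_⟩
  rw [key, one_mul] at hkm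
  exact hkm

/-- [B4] -/
theorem CHyp.pure_full (H : CHyp P Y F aZ κ σ c)
    {τ : F ≃+* F} (hτ : τ ≠ 1) {g₀ : P} (hp : IsPure c τ g₀) (hne : c τ g₀ ≠ 0) :
    (∀ x : F, τ x = x → x = 0 ∨ x = 1) ∧ ∀ u : F, ∃ g : P, IsPure c τ g ∧ c τ g = u := by
  classical
  have hchar := H.zc.char2
  -- the set of values of pure elements
  let D : AddSubgroup F :=
    { carrier := {u | ∃ g : P, IsPure c τ g ∧ c τ g = u}
      zero_mem' := ⟨1, fun τ' _ => CHyp.c_one H τ', CHyp.c_one H τ⟩
      add_mem' := by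
        rintro u u' ⟨g, hg, rfl⟩ ⟨g', hg', rfl⟩
        refine ⟨g * g', fun τ' hτ' => ?_, H.c_mul τ g g'⟩
        rw [H.c_mul, hg τ' hτ', hg' τ' hτ', add_zero]
      neg_mem' := by
        rintro u ⟨g, hg, rfl⟩
        exact ⟨g, hg, (CharTwo.neg_eq _).symm⟩ }
  have hD : ∀ u : F, u ∈ D ↔ ∃ g : P, IsPure c τ g ∧ c τ g = u := fun u => Iff.rfl
  -- the fixed field
  let Fx : AddSubgroup F :=
    { carrier := {x | τ x = x}
      zero_mem' := map_zero τ
      add_mem' := by
        intro a b ha hb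
        show τ (a + b) = a + b
        rw [map_add, ha, hb]
      neg_mem' := by
        intro a ha
        show τ (-a) = -a
        rw [map_neg, ha] }
  have hFx : ∀ x : F, x ∈ Fx ↔ τ x = x := fun x => Iff.rfl
  -- the homomorphism `w ↦ w / τ w`
  let φ : Fˣ →* Fˣ :=
    { toFun := fun w => w / Units.map (τ : F →* F) w
      map_one' := by rw [map_one, div_one]
      map_mul' := fun a b => by rw [map_mul, mul_div_mul_comm] }
  have hφ : ∀ w : Fˣ, ((φ w : Fˣ) : F) = (w : F) * (τ (w : F))⁻¹ := by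
    intro w
    show ((w / Units.map (τ : F →* F) w : Fˣ) : F) = _
    rw [Units.val_div_eq_div_val, Units.coe_map, div_eq_mul_inv]
    rfl
  have hker : ∀ w : Fˣ, w ∈ φ.ker ↔ τ (w : F) = w := by
    intro w
    rw [MonoidHom.mem_ker]
    constructor
    · intro h
      have h1 := congrArg Units.val h
      rw [hφ, Units.val_one] at h1
      have h2 : τ (w : F) ≠ 0 := by
        rw [Ne, map_eq_zero_iff τ τ.injective]; exact w.ne_zero
      field_simp at h1
      exact h1.symm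
    · intro h
      apply Units.ext
      rw [hφ, Units.val_one, h]
      exact mul_inv_cancel₀ w.ne_zero
  -- values of `φ` are coordinates of pure elements
  obtain ⟨v₀, hv₀, hcv₀⟩ := (Cfsg.Agent.Lib.Helper37.Suz2.CHyp.pure_facts H hp hne).2.2
  have hτv₀ : τ v₀ ≠ 0 := by rw [Ne, map_eq_zero_iff τ τ.injective]; exact hv₀
  have hc₀ : c τ g₀ = v₀ * (τ v₀)⁻¹ := (eq_mul_inv_iff_mul_eq₀ hτv₀).mpr hcv₀
  have hrange : ∀ w : Fˣ, ((φ w : Fˣ) : F) ∈ D := by
    intro w
    obtain ⟨z₀, hz₀, haz₀⟩ := H.zc.aZ_surj v₀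
    obtain ⟨z, hz, haz⟩ := H.zc.aZ_surj (w : F)
    have hz₀1 : z₀ ≠ 1 := by
      rintro rfl
      rw [CHyp.aZ_one H] at haz₀
      exact hv₀ haz₀.symm
    have hz1 : z ≠ 1 := by
      rintro rfl
      rw [CHyp.aZ_one H] at haz
      exact w.ne_zero haz.symm
    obtain ⟨k, hkY, hkz⟩ := H.suz.trans z₀ z hz₀1 hz₀.2 hz1 hz.2
    have hact := H.zc.act k hkY z₀ hz₀
    rw [hkz, haz, haz₀] at hact
    -- `hact : w = κ k * σ k v₀`
    rw [hD]
    refine ⟨k g₀, fun τ' hτ' => ?_, ?_⟩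
    · rw [H.c_act τ' k hkY, hp τ' hτ', map_zero, mul_zero]
    · rw [H.c_act τ k hkY, hc₀, hφ, hact, map_mul, map_mul, map_inv₀, ringEquiv_comm (σ k) τ v₀,
        mul_inv]
      ring
  have hrange' : ∀ u : F, u ∈ D → u ≠ 0 → ∃ w : Fˣ, ((φ w : Fˣ) : F) = u := by
    intro u hu hu0
    obtain ⟨g, hg, rfl⟩ := (hD u).mp hu
    obtain ⟨v, hv, hcv⟩ := (Cfsg.Agent.Lib.Helper37.Suz2.CHyp.pure_facts H hg hu0).2.2
    have hτv : τ v ≠ 0 := by rw [Ne, map_eq_zero_iff τ τ.injective]; exact hv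
    refine ⟨Units.mk0 v hv, ?_⟩
    rw [hφ, Units.val_mk0]
    exact ((eq_mul_inv_iff_mul_eq₀ hτv).mpr hcv).symm
  -- cardinalities
  have hcFx : Nat.card Fx = Nat.card φ.ker + 1 := by
    apply card_insert_zero
    intro x
    rw [hFx]
    constructor
    · intro hx
      by_cases hx0 : x = 0
      · exact Or.inl hx0
      · exact Or.inr ⟨Units.mk0 x hx0, (hker _).mpr hx, rfl⟩
    · rintro (rfl | ⟨w, hw, rfl⟩)
      · exact map_zero τ
      · exact (hker w).mp hw
  have hcD : Nat.card D = Nat.card φ.range + 1 := by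
    apply card_insert_zero
    intro x
    constructor
    · intro hx
      by_cases hx0 : x = 0
      · exact Or.inl hx0
      · obtain ⟨w, hw⟩ := hrange' x hx hx0
        exact Or.inr ⟨φ w, ⟨w, rfl⟩, hw⟩
    · rintro (rfl | ⟨w, ⟨w', rfl⟩, rfl⟩)
      · exact D.zero_mem
      · exact hrange w'
  have hprod : Nat.card φ.ker * Nat.card φ.range + 1 = Nat.card F := by
    have h1 : Nat.card φ.ker * φ.ker.index = Nat.card Fˣ := Subgroup.card_mul_index _
    rw [Subgroup.index_ker] at h1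
    rw [h1, Nat.card_units]
    have : 0 < Nat.card F := Nat.card_pos
    omega
  obtain ⟨n, hn⟩ : ∃ n : ℕ, Nat.card F = 2 ^ n := by
    obtain ⟨n, -, hn⟩ := FiniteField.card F 2
    exact ⟨n, by rw [Nat.card_eq_fintype_card]; exact hn⟩
  obtain ⟨r, -, hr⟩ := (Nat.dvd_prime_pow Nat.prime_two).mp
    (hn ▸ AddSubgroup.card_addSubgroup_dvd_card Fx)
  obtain ⟨t, -, ht⟩ := (Nat.dvd_prime_pow Nat.prime_two).mp
    (hn ▸ AddSubgroup.card_addSubgroup_dvd_card D)
  have hlt : Nat.card φ.ker + 1 < 2 ^ n := by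
    rw [← hcFx, ← hn]
    have hle : Nat.card Fx ≤ Nat.card F := Nat.card_le_card_of_injective _ Subtype.val_injective
    rcases Nat.lt_or_ge (Nat.card Fx) (Nat.card F) with h | h
    · exact h
    · exfalso
      have htop : Fx = ⊤ := (AddSubgroup.card_eq_iff_eq_top Fx).mp (le_antisymm hle h)
      apply hτ
      ext x
      have : x ∈ Fx := by rw [htop]; exact AddSubgroup.mem_top x
      exact (hFx x).mp this
  have hk1 : 1 ≤ Nat.card φ.ker := Nat.card_pos
  have hm1 : 1 ≤ Nat.card φ.range := Nat.card_pos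
  obtain ⟨hk, hm⟩ := b4_arith _ _ r t n (hcFx ▸ hr) (hcD ▸ ht) (hn ▸ hprod) hk1 hm1 hlt
  constructor
  · intro x hx
    by_cases hx0 : x = 0
    · exact Or.inl hx0
    · right
      have hbot : φ.ker = ⊥ := Subgroup.card_eq_one.mp hk
      have hmem : Units.mk0 x hx0 ∈ φ.ker := (hker _).mpr hx
      rw [hbot, Subgroup.mem_bot] at hmem
      have := congrArg Units.val hmem
      simpa using this
  · intro u
    by_cases hu0 : u = 0
    · rw [hu0]; exact (hD 0).mp D.zero_mem
    · have htop : φ.range = ⊤ := by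
        apply (Subgroup.card_eq_iff_eq_top _).mp
        rw [Nat.card_units]
        omega
      have hmem : Units.mk0 u hu0 ∈ φ.range := by rw [htop]; exact Subgroup.mem_top _
      obtain ⟨w, hw⟩ := hmem
      have h1 := hrange w
      rw [hw, Units.val_mk0] at h1
      exact (hD u).mp h1

end Cfsg.Agent.Lib.Helper65.Suz2
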