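/-
Power computations in metacyclic p-groups, p odd (helper65).  Builds on helper64's Metacyclic.lean.
-/
import Mathlib
import Cfsg.Prelude
import Cfsg.Agent.Lib.Helper64.Metacyclic

set_option autoImplicit false

namespace Cfsg.Agent.Lib.Helper65

open Cfsg.Agent.Lib.Helper64

section pow
variable {G : Type*} [Group G]

/-- Power formula: if `g a g⁻¹ = a^c` then `(a^x g)^n = a^(x (1 + c + ⋯ + c^(n-1))) g^n`. -/
theorem mul_pow_of_conj_eq_pow {g a : G} {c : ℕ} (h : g * a * g⁻¹ = a ^ c) (x n : ℕ) :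
    (a ^ x * g) ^ n = a ^ (x * ∑ i ∈ Finset.range n, c ^ i) * g ^ n := by
  induction n with
  | zero => simp
  | succ n ih =>
    have hconj : g ^ n * a ^ x * (g ^ n)⁻¹ = a ^ (x * c ^ n) := by
      rw [← conj_pow, pow_conj_eq_pow_pow h n, ← pow_mul, mul_comm]
    have hmove : g ^ n * a ^ x = a ^ (x * c ^ n) * g ^ n := by
      rw [← hconj]; group
    rw [pow_succ, ih, Finset.sum_range_succ, mul_add, pow_add, pow_succ g n]
    calc a ^ (x * ∑ i ∈ Finset.range n, c ^ i) * g ^ n * (a ^ x * g)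
        = a ^ (x * ∑ i ∈ Finset.range n, c ^ i) * (g ^ n * a ^ x) * g := by group
      _ = a ^ (x * ∑ i ∈ Finset.range n, c ^ i) * (a ^ (x * c ^ n) * g ^ n) * g := by rw [hmove]
      _ = a ^ (x * ∑ i ∈ Finset.range n, c ^ i) * a ^ (x * c ^ n) * (g ^ n * g) := by group

/-- Killing the `p^s`-th power: if `g a g⁻¹ = a^c` with `c ≡ 1 (mod p)`, `p` odd, `a` of order `p^m`
and `g^(p^s) = a^d` with `p^s ∣ d`, then `(a^x g)^(p^s) = 1` for a suitable `x`. -/
theorem exists_mul_pow_eq_one {p : ℕ} [hp : Fact p.Prime] (hp2 : p ≠ 2) {g a : G} {c : ℕ}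
    (hc0 : 0 < c) (hc : p ∣ c - 1) (h : g * a * g⁻¹ = a ^ c) {m s d : ℕ}
    (ha : orderOf a = p ^ m) (hg : g ^ p ^ s = a ^ d) (hd : p ^ s ∣ d) :
    ∃ x : ℕ, (a ^ x * g) ^ p ^ s = 1 := by
  have hpp : p.Prime := hp.out
  obtain ⟨d₁, rfl⟩ := hd
  -- the geometric sum is `p^s * w` with `w` prime to `p`
  have hS1 : p ^ s ∣ ∑ i ∈ Finset.range (p ^ s), c ^ i :=
    (pow_dvd_geom_sum_iff hp2 hc0 hc s (p ^ s)).mpr dvd_rfl
  obtain ⟨w, hw⟩ := hS1
  have hwp : ¬ p ∣ w := by
    intro hpw
    have h1 : p ^ (s + 1) ∣ ∑ i ∈ Finset.range (p ^ s), c ^ i := by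
      rw [hw, pow_succ]; exact Nat.mul_dvd_mul_left _ hpw
    have h2 := (pow_dvd_geom_sum_iff hp2 hc0 hc (s + 1) (p ^ s)).mp h1
    have h3 := (Nat.pow_dvd_pow_iff_le_right hpp.one_lt).mp h2
    omega
  have hcop : Nat.Coprime w (p ^ m) :=
    Nat.Coprime.pow_right m ((Nat.Prime.coprime_iff_not_dvd hpp).mpr hwp).symm
  -- solve `x * w + d₁ ≡ 0 (mod p^m)`
  obtain ⟨x, hx⟩ : ∃ x : ℕ, p ^ m ∣ x * w + d₁ := by
    refine ⟨((-(d₁ : ZMod (p ^ m))) * (w : ZMod (p ^ m))⁻¹).val, ?_⟩
    rw [← ZMod.natCast_eq_zero_iff]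
    push_cast
    rw [ZMod.natCast_zmod_val, mul_assoc, ZMod.inv_mul_of_unit _ ((ZMod.isUnit_iff_coprime w (p ^ m)).mpr hcop)]
    ring
  refine ⟨x, ?_⟩
  rw [mul_pow_of_conj_eq_pow h, hg, ← pow_add, hw]
  have e : x * (p ^ s * w) + p ^ s * d₁ = p ^ s * (x * w + d₁) := by ring
  rw [e]
  apply orderOf_dvd_iff_pow_eq_one.mp
  rw [ha]
  exact Dvd.dvd.mul_left hx _

end pow


section factor
variable {G : Type*} [Group G] [Finite G] {p : ℕ} [hp : Fact p.Prime]

/-- Data of a metacyclic `p`-group in convenient form. -/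
theorem exists_metacyclic_data (hG : IsPGroup p G) (hmc : Cfsg.IsMetacyclic G) :
    ∃ (N : Subgroup G) (_ : N.Normal) (a b : G) (c m t d : ℕ), N = Subgroup.zpowers a ∧
      N ⊔ Subgroup.zpowers b = ⊤ ∧ 0 < c ∧ p ∣ c - 1 ∧ b * a * b⁻¹ = a ^ c ∧ orderOf a = p ^ m ∧
      N.index = p ^ t ∧ b ^ p ^ t = a ^ d ∧ Nat.card G = p ^ m * p ^ t := by
  obtain ⟨N, hNn, a, b, hN, hgen⟩ := exists_gens_of_isMetacyclic hmc
  have hba : b * a * b⁻¹ ∈ Subgroup.zpowers a := by
    rw [← hN]
    exact hNn.conj_mem a (by rw [hN]; exact Subgroup.mem_zpowers a) b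
  obtain ⟨c, hc0, hc, hconj⟩ := exists_conj_eq_pow hG b a hba
  obtain ⟨m, hm⟩ := (IsPGroup.iff_orderOf.mp hG) a
  obtain ⟨t, ht⟩ := hG.index N
  have hbN : b ^ p ^ t ∈ N := (pow_mem_iff_index_dvd N b hgen (p ^ t)).mpr (by rw [ht])
  rw [hN, ← mem_powers_iff_mem_zpowers, Submonoid.mem_powers_iff] at hbN
  obtain ⟨d, hd⟩ := hbN
  refine ⟨N, hNn, a, b, c, m, t, d, hN, hgen, hc0, hc, hconj, hm, ht, hd.symm, ?_⟩
  rw [← Subgroup.card_mul_index N, ht, hN, Nat.card_zpowers, hm]

omit hp in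
/-- If `y^j ∈ N ↔ p^s ∣ j` and `y^(p^s) = 1` then `y` has order `p^s` and `⟨y⟩ ∩ N = 1`. -/
theorem order_and_inf_of_pow_mem_iff (N : Subgroup G) (y : G) (s : ℕ)
    (hiff : ∀ j : ℕ, y ^ j ∈ N ↔ p ^ s ∣ j) (hy : y ^ p ^ s = 1) :
    orderOf y = p ^ s ∧ Subgroup.zpowers y ⊓ N = ⊥ := by
  constructor
  · apply Nat.dvd_antisymm (orderOf_dvd_of_pow_eq_one hy)
    rw [← hiff, pow_orderOf_eq_one]
    exact N.one_mem
  · rw [eq_bot_iff]
    intro z hz
    have hz1 : z ∈ Subgroup.zpowers y := (Subgroup.mem_inf.mp hz).1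
    have hz2 : z ∈ N := (Subgroup.mem_inf.mp hz).2
    rw [← mem_powers_iff_mem_zpowers, Submonoid.mem_powers_iff] at hz1
    obtain ⟨j, rfl⟩ := hz1
    obtain ⟨k, rfl⟩ := (hiff j).mp hz2
    rw [Subgroup.mem_bot, pow_mul, hy, one_pow]


/-- A metacyclic `p`-group, `p` odd, is the product of two cyclic subgroups with trivial intersection. -/
theorem metacyclic_factorization (hp2 : p ≠ 2) (hG : IsPGroup p G) (hmc : Cfsg.IsMetacyclic G) :
    ∃ A B : Subgroup G, IsCyclic ↥A ∧ IsCyclic ↥B ∧ A ⊓ B = ⊥ ∧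
      Nat.card ↥A * Nat.card ↥B = Nat.card G := by
  have hpp : p.Prime := hp.out
  obtain ⟨N, hNn, a, b, c, m, t, d, hN, hgen, hc0, hc, hconj, hm, ht, hd, hcard⟩ :=
    exists_metacyclic_data hG hmc
  have hmemN : ∀ j : ℕ, b ^ j ∈ N ↔ p ^ t ∣ j := fun j => by
    rw [pow_mem_iff_index_dvd N b hgen j, ht]
  have hNcard : Nat.card ↥N = p ^ m := by rw [hN, Nat.card_zpowers, hm]
  have hNcyc : IsCyclic ↥N := by rw [hN]; infer_instance
  by_cases had : a ^ d = 1
  · -- split case
    rw [had] at hd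
    obtain ⟨hord, hinf⟩ := order_and_inf_of_pow_mem_iff N b t hmemN hd
    refine ⟨N, Subgroup.zpowers b, hNcyc, inferInstance, ?_, ?_⟩
    · rw [inf_comm]; exact hinf
    · rw [hNcard, Nat.card_zpowers, hord, hcard]
  · have hd0 : d ≠ 0 := by rintro rfl; exact had (pow_zero a)
    have hud : p ^ padicValNat p d ∣ d := pow_padicValNat_dvd
    have hum : padicValNat p d < m := by
      by_contra hle
      push Not at hle
      apply had
      rw [← orderOf_dvd_iff_pow_eq_one, hm]
      exact (pow_dvd_pow p hle).trans hud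
    have hud' : ¬ p ^ (padicValNat p d + 1) ∣ d := pow_succ_padicValNat_not_dvd hd0
    have hst : min t (padicValNat p d) ≤ t := min_le_left _ _
    have hsu : min t (padicValNat p d) ≤ padicValNat p d := min_le_right _ _
    have hgconj : b ^ p ^ (t - min t (padicValNat p d)) * a *
        (b ^ p ^ (t - min t (padicValNat p d)))⁻¹ =
        a ^ (c ^ p ^ (t - min t (padicValNat p d))) := pow_conj_eq_pow_pow hconj _
    have hγ0 : 0 < c ^ p ^ (t - min t (padicValNat p d)) := pow_pos hc0 _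
    have hγ : p ∣ c ^ p ^ (t - min t (padicValNat p d)) - 1 := by
      have h1 : c ≡ 1 [MOD p] := ((Nat.modEq_iff_dvd' hc0).mpr hc).symm
      have h2 : c ^ p ^ (t - min t (padicValNat p d)) ≡ 1 [MOD p] := by
        simpa using h1.pow (p ^ (t - min t (padicValNat p d)))
      exact (Nat.modEq_iff_dvd' hγ0).mp h2.symm
    have hgpow : (b ^ p ^ (t - min t (padicValNat p d))) ^ p ^ min t (padicValNat p d) = a ^ d := by
      rw [← pow_mul, ← pow_add, Nat.sub_add_cancel hst, hd]
    obtain ⟨x, hx⟩ := exists_mul_pow_eq_one hp2 hγ0 hγ hgconj hm hgpow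
      ((pow_dvd_pow p hsu).trans hud)
    have hyiff : ∀ j : ℕ, (a ^ x * b ^ p ^ (t - min t (padicValNat p d))) ^ j ∈ N ↔
        p ^ min t (padicValNat p d) ∣ j := by
      intro j
      rw [mul_pow_of_conj_eq_pow hgconj]
      have haN : a ^ (x * ∑ i ∈ Finset.range j, (c ^ p ^ (t - min t (padicValNat p d))) ^ i) ∈ N := by
        rw [hN]; exact Subgroup.pow_mem _ (Subgroup.mem_zpowers a) _
      rw [Subgroup.mul_mem_cancel_left N haN, ← pow_mul, hmemN]
      constructor
      · intro h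
        have h' : p ^ (t - min t (padicValNat p d)) * p ^ min t (padicValNat p d) ∣
            p ^ (t - min t (padicValNat p d)) * j := by
          rw [← pow_add, Nat.sub_add_cancel hst]; exact h
        exact Nat.dvd_of_mul_dvd_mul_left (pow_pos hpp.pos _) h'
      · intro h
        have h' : p ^ (t - min t (padicValNat p d)) * p ^ min t (padicValNat p d) ∣
            p ^ (t - min t (padicValNat p d)) * j := Nat.mul_dvd_mul_left _ h
        rwa [← pow_add, Nat.sub_add_cancel hst] at h'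
    obtain ⟨hyord, hyinf⟩ := order_and_inf_of_pow_mem_iff N _ _ hyiff hx
    rcases Nat.lt_or_ge (padicValNat p d) t with hut | hut
    · -- `u < t`: take `⟨b⟩` and `⟨y⟩`
      have hsu' : min t (padicValNat p d) = padicValNat p d := min_eq_right hut.le
      have hord_ad : orderOf (a ^ d) = p ^ (m - padicValNat p d) := by
        obtain ⟨k, hk⟩ : ∃ k, m - padicValNat p d = k + 1 := ⟨m - padicValNat p d - 1, by omega⟩
        rw [hk]
        apply orderOf_eq_prime_pow
        · rw [← pow_mul, ← orderOf_dvd_iff_pow_eq_one, hm]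
          intro hdvd
          apply hud'
          have h' : p ^ (padicValNat p d + 1) * p ^ k ∣ d * p ^ k := by
            rw [← pow_add]
            have e : padicValNat p d + 1 + k = m := by omega
            rw [e]; exact hdvd
          exact Nat.dvd_of_mul_dvd_mul_right (pow_pos hpp.pos _) h'
        · rw [← pow_mul, ← orderOf_dvd_iff_pow_eq_one, hm, ← hk]
          have e : p ^ m = p ^ padicValNat p d * p ^ (m - padicValNat p d) := by
            rw [← pow_add]; congr 1; omega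
          rw [e]
          exact Nat.mul_dvd_mul_right hud _
      have hpt : p ^ t ∣ orderOf b := by
        rw [← hmemN, pow_orderOf_eq_one]; exact N.one_mem
      have hordb : orderOf b = p ^ t * p ^ (m - padicValNat p d) := by
        have h1 := orderOf_pow_of_dvd (x := b) (n := p ^ t) (pow_pos hpp.pos t).ne' hpt
        rw [hd, hord_ad] at h1
        rw [h1, Nat.mul_div_cancel' hpt]
      refine ⟨Subgroup.zpowers b, Subgroup.zpowers (a ^ x * b ^ p ^ (t - min t (padicValNat p d))),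
        inferInstance, inferInstance, ?_, ?_⟩
      · by_contra hne
        have hK : Subgroup.zpowers b ⊓
            Subgroup.zpowers (a ^ x * b ^ p ^ (t - min t (padicValNat p d))) ≤ Subgroup.zpowers b :=
          inf_le_left
        have hM : Subgroup.zpowers (b ^ p ^ t) ≤ Subgroup.zpowers b :=
          Subgroup.zpowers_le.mpr (Subgroup.pow_mem _ (Subgroup.mem_zpowers b) _)
        have hMN : Subgroup.zpowers (b ^ p ^ t) ≤ N := by
          rw [Subgroup.zpowers_le, hd, hN]
          exact Subgroup.pow_mem _ (Subgroup.mem_zpowers a) _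
        rcases Nat.le_total
          (Nat.card ↥(Subgroup.zpowers b ⊓
            Subgroup.zpowers (a ^ x * b ^ p ^ (t - min t (padicValNat p d)))))
          (Nat.card ↥(Subgroup.zpowers (b ^ p ^ t))) with h | h
        · have hle := le_of_card_le_of_le_zpowers hG b _ _ hK hM h
          apply hne
          rw [eq_bot_iff, ← hyinf]
          exact le_inf inf_le_right (hle.trans hMN)
        · have hle := le_of_card_le_of_le_zpowers hG b _ _ hM hK h
          apply had
          have hbot : Subgroup.zpowers (b ^ p ^ t) ≤ ⊥ := by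
            rw [← hyinf]
            exact le_inf (hle.trans inf_le_right) hMN
          have := hbot (Subgroup.mem_zpowers (b ^ p ^ t))
          rw [Subgroup.mem_bot, hd] at this
          exact this
      · rw [Nat.card_zpowers, Nat.card_zpowers, hordb, hyord, hsu', hcard]
        have e : p ^ (m - padicValNat p d) * p ^ padicValNat p d = p ^ m := by
          rw [← pow_add]; congr 1; omega
        rw [mul_assoc, e, mul_comm]
    · -- `t ≤ u`: take `N` and `⟨y⟩`
      have hst' : min t (padicValNat p d) = t := min_eq_left hut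
      refine ⟨N, Subgroup.zpowers (a ^ x * b ^ p ^ (t - min t (padicValNat p d))), hNcyc,
        inferInstance, ?_, ?_⟩
      · rw [inf_comm]; exact hyinf
      · rw [hNcard, Nat.card_zpowers, hyord, hst', hcard]

end factor

end Cfsg.Agent.Lib.Helper65
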