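import Mathlib
import Cfsg.Agent.Lib.Helper12.SemilinField
import Cfsg.Prelude.Def_Perm

/-!
# Module D for S0732: a transitive group of degree `p + 1` and order `(p+1) p d`, `d < p - 1`,
with a regular normal subgroup is a group of semi-affine maps of `GF(2^q)`.
-/

set_option autoImplicit false

namespace Cfsg.Agent.Lib.Helper65.AffineP1

open Cfsg.Agent.Lib.Helper12

universe u

section StageB

variable {M : Type u} [CommGroup M] [hexpF : Fact (∀ m : M, m ^ 2 = 1)]

/-- the `ZMod 2`-module structure on `Additive M` for `M` of exponent 2 -/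
local instance modTwo : Module (ZMod 2) (Additive M) :=
  AddCommGroup.zmodModule (n := 2) (fun v => by
    exact congrArg Additive.ofMul (hexpF.out (Additive.toMul v)))

/-- a multiplicative automorphism as a `ZMod 2`-linear automorphism -/
def toLin (f : MulAut M) : Additive M ≃ₗ[ZMod 2] Additive M :=
  { MulEquiv.toAdditive f with
    map_smul' := fun r v => ZMod.map_smul (MulEquiv.toAdditive f) r v }

theorem toLin_apply (f : MulAut M) (v : Additive M) :
    toLin f v = Additive.ofMul (f (Additive.toMul v)) := rfl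

/-- the representation on `Additive M` -/
def rho {K : Type*} [Group K] (c : K →* MulAut M) : K →* (Additive M ≃ₗ[ZMod 2] Additive M) where
  toFun k := toLin (c k)
  map_one' := by
    apply LinearEquiv.ext
    intro v
    rw [toLin_apply, map_one]
    rfl
  map_mul' k k' := by
    apply LinearEquiv.ext
    intro v
    rw [toLin_apply, map_mul]
    rfl

theorem rho_apply {K : Type*} [Group K] (c : K →* MulAut M) (k : K) (v : Additive M) :
    rho c k v = Additive.ofMul (c k (Additive.toMul v)) := rfl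

end StageB

theorem stageB {M : Type u} [CommGroup M] [Finite M] [Nontrivial M] (hexp : ∀ m : M, m ^ 2 = 1)
    {K : Type*} [Group K] (c : K →* MulAut M) (P : Subgroup K) [hPn : P.Normal]
    (hPc : ∀ y ∈ P, ∀ z ∈ P, y * z = z * y)
    (htr : ∀ m m' : M, m ≠ 1 → m' ≠ 1 → ∃ y ∈ P, c y m = m') :
    ∃ (F : Type) (_ : Field F) (_ : Fintype F) (e : M ≃ F),
      (∀ m m' : M, e (m * m') = e m + e m') ∧
      ∀ k : K, ∃ (a : F) (σ : F ≃+* F), ∀ m : M, e (c k m) = a * σ (e m) := by
  classical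
  have : Fact (∀ m : M, m ^ 2 = 1) := ⟨hexp⟩
  let _iM : Module (ZMod 2) (Additive M) := modTwo
  set ρ : K →* (Additive M ≃ₗ[ZMod 2] Additive M) := rho c with hρ
  set H : Subgroup (Additive M ≃ₗ[ZMod 2] Additive M) := ρ.range with hH
  set A : Subgroup H := P.map ρ.rangeRestrict with hA
  have hAn : A.Normal := Subgroup.Normal.map hPn _ ρ.rangeRestrict_surjective
  have hAc : IsMulCommutative A := by
    refine ⟨⟨?_⟩⟩
    rintro ⟨a, ha⟩ ⟨b, hb⟩
    obtain ⟨y, hy, rfl⟩ := ha
    obtain ⟨z, hz, rfl⟩ := hb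
    apply Subtype.ext
    show ρ.rangeRestrict y * ρ.rangeRestrict z = ρ.rangeRestrict z * ρ.rangeRestrict y
    rw [← map_mul, ← map_mul, hPc y hy z hz]
  have hirr : ∀ W : Submodule (ZMod 2) (Additive M),
      (∀ a ∈ A, ∀ v ∈ W, ((a : H) : Additive M ≃ₗ[ZMod 2] Additive M) v ∈ W) → W = ⊥ ∨ W = ⊤ := by
    intro W hW
    by_cases hbot : W = ⊥
    · exact Or.inl hbot
    · right
      obtain ⟨w, hwW, hw0⟩ := (Submodule.ne_bot_iff W).mp hbot
      rw [eq_top_iff]
      intro v _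
      by_cases hv0 : v = 0
      · rw [hv0]; exact W.zero_mem
      · have hw1 : Additive.toMul w ≠ 1 := fun h => hw0 (by
          have : w = Additive.ofMul 1 := by rw [← h]; rfl
          rw [this]; rfl)
        have hv1 : Additive.toMul v ≠ 1 := fun h => hv0 (by
          have : v = Additive.ofMul 1 := by rw [← h]; rfl
          rw [this]; rfl)
        obtain ⟨y, hy, hyw⟩ := htr _ _ hw1 hv1
        have hmem : ρ.rangeRestrict y ∈ A := Subgroup.mem_map_of_mem _ hy
        have := hW _ hmem w hwW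
        have h2 : ((ρ.rangeRestrict y : H) : Additive M ≃ₗ[ZMod 2] Additive M) w = v := by
          show ρ y w = v
          rw [hρ, rho_apply, hyw]
          rfl
        rw [h2] at this
        exact this
  obtain ⟨F, iF, iFt, e₀, hsemi⟩ := SemilinField.exists_semilinear (p := 2) H A hAn hAc hirr
  refine ⟨F, iF, iFt, Additive.ofMul.trans e₀.toEquiv, ?_, ?_⟩
  · intro m m'
    show e₀ (Additive.ofMul (m * m')) = e₀ (Additive.ofMul m) + e₀ (Additive.ofMul m')
    rw [ofMul_mul, map_add]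
  · intro k
    obtain ⟨a, σ, h⟩ := hsemi (ρ.rangeRestrict k)
    refine ⟨a, σ, fun m => ?_⟩
    exact h (Additive.ofMul m)


section StageA

open MulAction

variable {Γ α : Type*} [Group Γ] [Finite Γ] [MulAction Γ α] [FaithfulSMul Γ α] [Fintype α]

/-- the point stabiliser has order `p * d`, and its Sylow `p`-subgroup is normal, abelian and
transitive on the remaining `p` points -/
theorem stageA {p d : ℕ} (hp : p.Prime) (hα : Fintype.card α = p + 1)
    (hΓ : Nat.card Γ = (p + 1) * p * d) (hd1 : d < p - 1)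
    (N : Subgroup Γ) (hNt : ∀ a b : α, ∃ n ∈ N, n • a = b) (a₀ : α) :
    Nat.card (stabilizer Γ a₀) = p * d ∧
    ∃ P : Subgroup (stabilizer Γ a₀), P.Normal ∧ (∀ y ∈ P, ∀ z ∈ P, y * z = z * y) ∧
      (∀ b c : α, b ≠ a₀ → c ≠ a₀ → ∃ y ∈ P, ((y : stabilizer Γ a₀) : Γ) • b = c) := by
  classical
  have hpF : Fact p.Prime := ⟨hp⟩
  have hd0 : d ≠ 0 := by
    rintro rfl
    rw [mul_zero] at hΓ
    exact (Nat.card_pos (α := Γ)).ne' hΓ
  have htrans : IsPretransitive Γ α := by
    refine ⟨fun a b => ?_⟩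
    obtain ⟨n, _, hn⟩ := hNt a b
    exact ⟨n, hn⟩
  set K := stabilizer Γ a₀ with hK
  have hKcard : Nat.card K = p * d := by
    have h1 := index_stabilizer_of_transitive Γ a₀
    have h2 := Subgroup.index_mul_card K
    rw [h1, Nat.card_eq_fintype_card, hα, hΓ, mul_assoc] at h2
    exact Nat.eq_of_mul_eq_mul_left (Nat.succ_pos p) h2
  refine ⟨hKcard, ?_⟩
  obtain ⟨P⟩ := (inferInstance : Nonempty (Sylow p K))
  have hpd : ¬ p ∣ d := fun h => by
    have := Nat.le_of_dvd (Nat.pos_of_ne_zero hd0) h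
    omega
  have hfac : (Nat.card K).factorization p = 1 := by
    rw [hKcard, Nat.factorization_mul hp.ne_zero hd0]
    simp [hp.factorization_self, Nat.factorization_eq_zero_of_not_dvd hpd]
  have hPcard : Nat.card P = p := by
    rw [P.card_eq_multiplicity, hfac, pow_one]
  have hPidx : (P : Subgroup K).index = d := by
    have h2 := Subgroup.index_mul_card (P : Subgroup K)
    rw [hPcard, hKcard, mul_comm] at h2
    exact Nat.eq_of_mul_eq_mul_left hp.pos h2
  have hsub : Subsingleton (Sylow p K) := by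
    have h1 : Nat.card (Sylow p K) ≡ 1 [MOD p] := card_sylow_modEq_one p K
    have h2 : Nat.card (Sylow p K) ∣ d := hPidx ▸ P.card_dvd_index
    have h3 : Nat.card (Sylow p K) ≤ d := Nat.le_of_dvd (Nat.pos_of_ne_zero hd0) h2
    have h4 : Nat.card (Sylow p K) = 1 := by
      have h5 : Nat.card (Sylow p K) % p = 1 % p := h1
      rw [Nat.mod_eq_of_lt (by omega), Nat.mod_eq_of_lt hp.one_lt] at h5
      exact h5
    exact (Nat.card_eq_one_iff_unique.mp h4).1
  have hPn : (P : Subgroup K).Normal := Sylow.normal_of_subsingleton P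
  refine ⟨(P : Subgroup K), hPn, ?_, ?_⟩
  · intro y hy z hz
    have hcyc : IsCyclic ↥(P : Subgroup K) := isCyclic_of_prime_card hPcard
    have := (IsCyclic.commGroup (α := ↥(P : Subgroup K))).mul_comm ⟨y, hy⟩ ⟨z, hz⟩
    exact congrArg Subtype.val this
  · -- transitivity on the other points
    have hPnt : Nontrivial ↥(P : Subgroup K) := by
      rw [← Finite.one_lt_card_iff_nontrivial, hPcard]
      exact hp.one_lt
    obtain ⟨y₀, hy₀⟩ := exists_ne (1 : ↥(P : Subgroup K))
    have hy₀Γ : (((y₀ : ↥(P : Subgroup K)) : K) : Γ) ≠ 1 := by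
      intro h
      apply hy₀
      apply Subtype.ext
      apply Subtype.ext
      exact h
    obtain ⟨b, hb⟩ : ∃ b : α, (((y₀ : ↥(P : Subgroup K)) : K) : Γ) • b ≠ b := by
      by_contra hcon
      push Not at hcon
      apply hy₀Γ
      apply FaithfulSMul.eq_of_smul_eq_smul (α := α)
      intro a
      rw [hcon a, one_smul]
    have hfixa : ∀ y : ↥(P : Subgroup K), ((y : K) : Γ) • a₀ = a₀ := fun y => (y : K).2
    have hba : b ≠ a₀ := by
      rintro rfl
      exact hb (hfixa y₀)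
    -- free action at b
    have hfree : ∀ y : ↥(P : Subgroup K), ((y : K) : Γ) • b = b → y = 1 := by
      intro y hy
      by_contra hy1
      have htop : Subgroup.zpowers y = ⊤ := zpowers_eq_top_of_prime_card hPcard hy1
      have hmem : y₀ ∈ Subgroup.zpowers y := by rw [htop]; exact Subgroup.mem_top _
      obtain ⟨k, hk⟩ := Subgroup.mem_zpowers_iff.mp hmem
      apply hb
      rw [← hk]
      have : ∀ k : ℤ, (((y ^ k : ↥(P : Subgroup K)) : K) : Γ) • b = b := by
        intro k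
        have h1 : (((y ^ k : ↥(P : Subgroup K)) : K) : Γ) = (((y : K) : Γ)) ^ k := by
          push_cast
          rfl
        rw [h1]
        have hmem : ((y : K) : Γ) ∈ stabilizer Γ b := hy
        exact (stabilizer Γ b).zpow_mem hmem k
      exact this k
    let f : ↥(P : Subgroup K) → {c : α // c ≠ a₀} := fun y =>
      ⟨((y : K) : Γ) • b, fun h => hba (by
        have h2 := hfixa y
        rw [← h2] at h
        exact smul_left_cancel _ h)⟩
    have hfinj : Function.Injective f := by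
      intro y z hyz
      have h1 : ((y : K) : Γ) • b = ((z : K) : Γ) • b := congrArg Subtype.val hyz
      have h2 : (((z⁻¹ * y : ↥(P : Subgroup K)) : K) : Γ) • b = b := by
        have : (((z⁻¹ * y : ↥(P : Subgroup K)) : K) : Γ) = ((z : K) : Γ)⁻¹ * ((y : K) : Γ) := by
          push_cast
          rfl
        rw [this, mul_smul, h1, inv_smul_smul]
      have := hfree _ h2
      rw [inv_mul_eq_one] at this
      exact this.symm
    have hcardc : Nat.card {c : α // c ≠ a₀} = p := by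
      rw [Nat.card_eq_fintype_card, Fintype.card_subtype_compl, hα]
      simp
    have hfbij : Function.Bijective f :=
      hfinj.bijective_of_nat_card_le (by rw [hcardc, hPcard])
    intro b' c' hb' hc'
    obtain ⟨y₁, hy₁⟩ := hfbij.2 ⟨b', hb'⟩
    obtain ⟨y₂, hy₂⟩ := hfbij.2 ⟨c', hc'⟩
    have h1 : ((y₁ : K) : Γ) • b = b' := congrArg Subtype.val hy₁
    have h2 : ((y₂ : K) : Γ) • b = c' := congrArg Subtype.val hy₂
    refine ⟨(y₂ * y₁⁻¹ : ↥(P : Subgroup K)), (y₂ * y₁⁻¹ : ↥(P : Subgroup K)).2, ?_⟩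
    have : (((y₂ * y₁⁻¹ : ↥(P : Subgroup K)) : K) : Γ) = ((y₂ : K) : Γ) * ((y₁ : K) : Γ)⁻¹ := by
      push_cast
      rfl
    rw [this, mul_smul, ← h1, inv_smul_smul, h2]

end StageA


section StageA2

open MulAction

variable {Γ α : Type*} [Group Γ] [MulAction Γ α]

/-- the bijection between a regular subgroup and the points -/
noncomputable def beta (N : Subgroup Γ) (hNt : ∀ a b : α, ∃ n ∈ N, n • a = b)
    (hNs : ∀ n ∈ N, ∀ a : α, n • a = a → n = 1) (a₀ : α) : N ≃ α :=
  Equiv.ofBijective (fun n : N => (n : Γ) • a₀) (by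
    constructor
    · intro n m hnm
      have h1 : (n : Γ) • a₀ = (m : Γ) • a₀ := hnm
      have h2 : ((m : Γ)⁻¹ * (n : Γ)) • a₀ = a₀ := by rw [mul_smul, h1, inv_smul_smul]
      have h3 := hNs _ (N.mul_mem (N.inv_mem m.2) n.2) a₀ h2
      rw [inv_mul_eq_one] at h3
      exact Subtype.ext h3.symm
    · intro b
      obtain ⟨n, hn, hnb⟩ := hNt a₀ b
      exact ⟨⟨n, hn⟩, hnb⟩)

theorem beta_apply (N : Subgroup Γ) (hNt : ∀ a b : α, ∃ n ∈ N, n • a = b)
    (hNs : ∀ n ∈ N, ∀ a : α, n • a = a → n = 1) (a₀ : α) (n : N) :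
    beta N hNt hNs a₀ n = (n : Γ) • a₀ := rfl

/-- conjugation by the transitive subgroup of the stabiliser is transitive on `N \ {1}` -/
theorem conj_trans (N : Subgroup Γ) [hNn : N.Normal]
    (hNs : ∀ n ∈ N, ∀ a : α, n • a = a → n = 1) (a₀ : α)
    (P : Subgroup (stabilizer Γ a₀))
    (hPtr : ∀ b c : α, b ≠ a₀ → c ≠ a₀ → ∃ y ∈ P, ((y : stabilizer Γ a₀) : Γ) • b = c)
    {n m : Γ} (hn : n ∈ N) (hm : m ∈ N) (hn1 : n ≠ 1) (hm1 : m ≠ 1) :
    ∃ y ∈ P, ((y : stabilizer Γ a₀) : Γ) * n * ((y : stabilizer Γ a₀) : Γ)⁻¹ = m := by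
  have hna : n • a₀ ≠ a₀ := fun h => hn1 (hNs n hn a₀ h)
  have hma : m • a₀ ≠ a₀ := fun h => hm1 (hNs m hm a₀ h)
  obtain ⟨y, hy, hyb⟩ := hPtr _ _ hna hma
  refine ⟨y, hy, ?_⟩
  have hya : ((y : stabilizer Γ a₀) : Γ) • a₀ = a₀ := y.2
  have hya' : ((y : stabilizer Γ a₀) : Γ)⁻¹ • a₀ = a₀ := by rw [inv_smul_eq_iff, hya]
  have hmem : m⁻¹ * (((y : stabilizer Γ a₀) : Γ) * n * ((y : stabilizer Γ a₀) : Γ)⁻¹) ∈ N :=
    N.mul_mem (N.inv_mem hm) (hNn.conj_mem n hn _)
  have hfix : (m⁻¹ * (((y : stabilizer Γ a₀) : Γ) * n * ((y : stabilizer Γ a₀) : Γ)⁻¹)) • a₀ = a₀ := by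
    rw [mul_smul, mul_smul, mul_smul, hya', hyb, inv_smul_smul]
  have := hNs _ hmem a₀ hfix
  rw [inv_mul_eq_one] at this
  exact this.symm

/-- `N` is an elementary abelian `2`-group of order `2 ^ q = p + 1`, `q` prime -/
theorem elemAb [Finite Γ] [Fintype α] {p : ℕ} (hp : p.Prime) (hp3 : 3 ≤ p)
    (hα : Fintype.card α = p + 1)
    (N : Subgroup Γ) [hNn : N.Normal] (hNt : ∀ a b : α, ∃ n ∈ N, n • a = b)
    (hNs : ∀ n ∈ N, ∀ a : α, n • a = a → n = 1) (a₀ : α)
    (P : Subgroup (stabilizer Γ a₀))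
    (hPtr : ∀ b c : α, b ≠ a₀ → c ≠ a₀ → ∃ y ∈ P, ((y : stabilizer Γ a₀) : Γ) • b = c) :
    (∀ n ∈ N, ∀ m ∈ N, n * m = m * n) ∧ (∀ n ∈ N, n ^ 2 = 1) ∧
      ∃ q : ℕ, q.Prime ∧ p + 1 = 2 ^ q ∧ Nat.card N = 2 ^ q := by
  classical
  have hNcard : Nat.card N = p + 1 := by
    rw [Nat.card_congr (beta N hNt hNs a₀), Nat.card_eq_fintype_card, hα]
  have hNnt : Nontrivial N := by
    rw [← Finite.one_lt_card_iff_nontrivial, hNcard]
    omega
  have hcard1 : 1 < Nat.card N := Finite.one_lt_card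
  set r := (Nat.card N).minFac with hr
  have hrp : r.Prime := Nat.minFac_prime (by omega)
  have hrF : Fact r.Prime := ⟨hrp⟩
  obtain ⟨y, hy⟩ := exists_prime_orderOf_dvd_card' (G := N) r (Nat.minFac_dvd _)
  have hy1 : (y : Γ) ≠ 1 := by
    intro h
    have : y = 1 := Subtype.ext h
    rw [this, orderOf_one] at hy
    exact hrp.one_lt.ne hy
  have hyr : (y : Γ) ^ r = 1 := by
    have := pow_orderOf_eq_one y
    rw [hy] at this
    exact_mod_cast congrArg Subtype.val this
  have hexp : ∀ x ∈ N, x ^ r = 1 := by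
    intro x hx
    by_cases hx1 : x = 1
    · rw [hx1, one_pow]
    · obtain ⟨g, _, hg⟩ := conj_trans N hNs a₀ P hPtr y.2 hx hy1 hx1
      rw [← hg, conj_pow, hyr]
      group
  have hNp : IsPGroup r N := by
    intro x
    refine ⟨1, ?_⟩
    rw [pow_one]
    exact Subtype.ext (hexp x x.2)
  have hZ : Subgroup.center N ≠ ⊥ := (hNp.bot_lt_center).ne'
  obtain ⟨z, hzZ, hz1⟩ : ∃ z : N, z ∈ Subgroup.center N ∧ z ≠ 1 := by
    obtain ⟨z, hz⟩ := (Subgroup.ne_bot_iff_exists_ne_one).mp hZ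
    exact ⟨(z : N), z.2, fun h => hz (Subtype.ext h)⟩
  have hzΓ1 : (z : Γ) ≠ 1 := fun h => hz1 (Subtype.ext h)
  have hzc : ∀ m ∈ N, (z : Γ) * m = m * (z : Γ) := by
    intro m hm
    have := (Subgroup.mem_center_iff.mp hzZ) ⟨m, hm⟩
    have h3 := congrArg Subtype.val this
    simpa using h3.symm
  have hcomm : ∀ n ∈ N, ∀ m ∈ N, n * m = m * n := by
    intro n hn m hm
    by_cases hn1 : n = 1
    · rw [hn1, one_mul, mul_one]
    · obtain ⟨g, _, hg⟩ := conj_trans N hNs a₀ P hPtr z.2 hn hzΓ1 hn1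
      set g' : Γ := ((g : stabilizer Γ a₀) : Γ) with hg'
      have hm' : g'⁻¹ * m * g' ∈ N := by
        have := hNn.conj_mem m hm g'⁻¹
        rwa [inv_inv] at this
      have h1 := hzc _ hm'
      rw [← hg]
      calc g' * (z : Γ) * g'⁻¹ * m = g' * ((z : Γ) * (g'⁻¹ * m * g')) * g'⁻¹ := by group
        _ = g' * ((g'⁻¹ * m * g') * (z : Γ)) * g'⁻¹ := by rw [h1]
        _ = m * (g' * (z : Γ) * g'⁻¹) := by group
  obtain ⟨k, hk⟩ := IsPGroup.iff_card.mp hNp
  have hk' : r ^ k = p + 1 := by rw [← hk, hNcard]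
  have hk0 : k ≠ 0 := by
    rintro rfl
    rw [pow_zero] at hk'
    omega
  have hpodd : p % 2 = 1 := by
    rcases hp.eq_two_or_odd with h | h
    · omega
    · exact h
  have hr2 : r = 2 := by
    have h2 : 2 ∣ r ^ k := by rw [hk']; omega
    have h3 : 2 ∣ r := Nat.Prime.dvd_of_dvd_pow Nat.prime_two h2
    exact ((Nat.prime_dvd_prime_iff_eq Nat.prime_two hrp).mp h3).symm
  rw [hr2] at hk' hexp hk
  have hk1 : k ≠ 1 := by
    rintro rfl
    rw [pow_one] at hk'
    omega
  have hpk : (2 ^ k - 1).Prime := by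
    have : 2 ^ k - 1 = p := by omega
    rw [this]; exact hp
  have hkp := (Nat.prime_of_pow_sub_one_prime hk1 hpk).2
  exact ⟨hcomm, hexp, k, hkp, hk'.symm, hk⟩

end StageA2


section StageC

open MulAction

/-- `GF(2^q)` has exactly `q` ring automorphisms -/
theorem card_ringAut_galoisField (q : ℕ) (hq : q ≠ 0) :
    Nat.card (GaloisField 2 q ≃+* GaloisField 2 q) = q := by
  have e : (GaloisField 2 q ≃+* GaloisField 2 q) ≃
      (GaloisField 2 q ≃ₐ[ZMod 2] GaloisField 2 q) :=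
    { toFun := fun f => AlgEquiv.ofRingEquiv (f := f) (fun x => by
        have : f.toRingHom.comp (algebraMap (ZMod 2) (GaloisField 2 q)) =
            algebraMap (ZMod 2) (GaloisField 2 q) := Subsingleton.elim _ _
        exact RingHom.congr_fun this x)
      invFun := fun g => g.toRingEquiv
      left_inv := fun f => by ext x; rfl
      right_inv := fun g => by ext x; rfl }
  rw [Nat.card_congr e, IsGalois.card_aut_eq_finrank, GaloisField.finrank 2 hq]

variable {Γ α : Type*} [Group Γ] [Finite Γ] [MulAction Γ α] [FaithfulSMul Γ α] [Fintype α]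

theorem main_abstract {p d : ℕ} (hp : p.Prime) (hα : Fintype.card α = p + 1)
    (hΓ : Nat.card Γ = (p + 1) * p * d) (hd1 : d < p - 1)
    (N : Subgroup Γ) [hNn : N.Normal] (hNt : ∀ a b : α, ∃ n ∈ N, n • a = b)
    (hNs : ∀ n ∈ N, ∀ a : α, n • a = a → n = 1) :
    ∃ q : ℕ, q.Prime ∧ p + 1 = 2 ^ q ∧ (d = 1 ∨ d = q) ∧
      ∃ e : α ≃ GaloisField 2 q, ∀ g : Γ, ∃ (a : (GaloisField 2 q)ˣ) (b : GaloisField 2 q)
        (φ : GaloisField 2 q ≃+* GaloisField 2 q),
        ∀ x, e (g • e.symm x) = (a : GaloisField 2 q) * φ x + b := by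
  classical
  have hαne : Nonempty α := by
    rw [← Fintype.card_pos_iff, hα]; omega
  obtain ⟨a₀⟩ := hαne
  have hd0 : d ≠ 0 := by
    rintro rfl
    rw [mul_zero] at hΓ
    exact (Nat.card_pos (α := Γ)).ne' hΓ
  have hp3 : 3 ≤ p := by omega
  obtain ⟨hKcard, P, hPn, hPc, hPtr⟩ := stageA hp hα hΓ hd1 N hNt a₀
  obtain ⟨hcomm, hexp, q, hqp, hpq, hNcard⟩ := elemAb hp hp3 hα N hNt hNs a₀ P hPtr
  have hq0 : q ≠ 0 := hqp.ne_zero
  let iN : CommGroup N :=
    { (inferInstance : Group N) with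
      mul_comm := fun a b => Subtype.ext (hcomm a a.2 b b.2) }
  have hNnt : Nontrivial N := by
    rw [← Finite.one_lt_card_iff_nontrivial, hNcard]
    exact Nat.one_lt_two_pow hq0
  have hexpN : ∀ m : N, m ^ 2 = 1 := fun m => Subtype.ext (by
    have := hexp m m.2
    simpa using this)
  let c := (MulAut.conjNormal (H := N)).comp (stabilizer Γ a₀).subtype
  have hc : ∀ (k : stabilizer Γ a₀) (n : N),
      ((c k n : N) : Γ) = (k : Γ) * (n : Γ) * (k : Γ)⁻¹ := fun k n => rfl
  have htr : ∀ m m' : N, m ≠ 1 → m' ≠ 1 → ∃ y ∈ P, c y m = m' := by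
    intro m m' hm hm'
    obtain ⟨y, hy, hym⟩ := conj_trans N hNs a₀ P hPtr m.2 m'.2
      (fun h => hm (Subtype.ext h)) (fun h => hm' (Subtype.ext h))
    exact ⟨y, hy, Subtype.ext (by rw [hc]; exact hym)⟩
  obtain ⟨F, iF, iFt, e₁, hadd, hsemi⟩ := stageB (M := N) hexpN c P hPc htr
  have hFcard : Fintype.card F = 2 ^ q := by
    rw [← Nat.card_eq_fintype_card, ← Nat.card_congr e₁, hNcard]
  let _iGF : Fintype (GaloisField 2 q) := Fintype.ofFinite _
  let ψ : F ≃+* GaloisField 2 q := FiniteField.ringEquivOfCardEq (by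
    rw [hFcard, ← Nat.card_eq_fintype_card, GaloisField.card 2 q hq0])
  let e₂ : N ≃ GaloisField 2 q := e₁.trans ψ.toEquiv
  have he₂ : ∀ m : N, e₂ m = ψ (e₁ m) := fun m => rfl
  have hadd₂ : ∀ m m' : N, e₂ (m * m') = e₂ m + e₂ m' := fun m m' => by
    rw [he₂, he₂, he₂, hadd, map_add]
  have hsemi₂ : ∀ k : stabilizer Γ a₀, ∃ (a : GaloisField 2 q)
      (σ : GaloisField 2 q ≃+* GaloisField 2 q), ∀ m : N, e₂ (c k m) = a * σ (e₂ m) := by
    intro k
    obtain ⟨a, σ, h⟩ := hsemi k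
    refine ⟨ψ a, (ψ.symm.trans σ).trans ψ, fun m => ?_⟩
    show ψ (e₁ (c k m)) = ψ a * ψ (σ (ψ.symm (ψ (e₁ m))))
    rw [h, map_mul, RingEquiv.symm_apply_apply]
  have he₂one : e₂ 1 = 0 := by
    have := hadd₂ 1 1
    rw [mul_one] at this
    exact left_eq_add.mp this |>.symm ▸ rfl
  let β := beta N hNt hNs a₀
  have hβ : ∀ n : N, β n = (n : Γ) • a₀ := fun n => rfl
  let e : α ≃ GaloisField 2 q := β.symm.trans e₂
  refine ⟨q, hqp, hpq, ?_, e, ?_⟩
  · -- `d ∣ q`
    set n₁ : N := e₂.symm 1 with hn₁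
    have hen₁ : e₂ n₁ = 1 := e₂.apply_symm_apply 1
    set b₁ : α := β n₁ with hb₁
    have hn₁1 : n₁ ≠ 1 := by
      intro h
      rw [h, he₂one] at hen₁
      exact zero_ne_one hen₁
    have hb₁a : b₁ ≠ a₀ := by
      intro h
      apply hn₁1
      apply β.injective
      rw [← hb₁, h, hβ, OneMemClass.coe_one, one_smul]
    -- the stabiliser of `b₁` in the point stabiliser has order `d`
    have horb : orbit (stabilizer Γ a₀) b₁ = {x : α | x ≠ a₀} := by
      ext x
      constructor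
      · rintro ⟨k, rfl⟩ hk
        apply hb₁a
        have h1 : (k : Γ) • b₁ = a₀ := hk
        have h2 : (k : Γ) • a₀ = a₀ := k.2
        exact smul_left_cancel _ (h1.trans h2.symm)
      · intro hx
        obtain ⟨y, _, hy⟩ := hPtr b₁ x hb₁a hx
        exact ⟨y, hy⟩
    have hK₁card : Nat.card (stabilizer (stabilizer Γ a₀) b₁) = d := by
      have h1 := index_stabilizer (stabilizer Γ a₀) b₁
      have h2 := Subgroup.index_mul_card (stabilizer (stabilizer Γ a₀) b₁)
      have h3 : ({x : α | x ≠ a₀} : Set α).ncard = p := by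
        have : ({x : α | x ≠ a₀} : Set α) = ({a₀} : Set α)ᶜ := by
          ext x; simp
        rw [this, Set.ncard_compl, Set.ncard_singleton, Nat.card_eq_fintype_card, hα]
        simp
      rw [h1, horb, h3, hKcard] at h2
      exact Nat.eq_of_mul_eq_mul_left hp.pos h2
    -- elements of that stabiliser act as field automorphisms
    have hfix : ∀ k : stabilizer (stabilizer Γ a₀) b₁, c (k : stabilizer Γ a₀) n₁ = n₁ := by
      intro k
      apply β.injective
      rw [hβ, hβ, hc, mul_smul, mul_smul]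
      have h2 : ((k : stabilizer Γ a₀) : Γ)⁻¹ • a₀ = a₀ := by
        rw [inv_smul_eq_iff]; exact ((k : stabilizer Γ a₀).2).symm
      rw [h2]
      have h3 : ((k : stabilizer Γ a₀) : Γ) • b₁ = b₁ := k.2
      rw [← hβ n₁, ← hb₁, h3]
    have hauto : ∀ k : stabilizer (stabilizer Γ a₀) b₁,
        ∃ σ : GaloisField 2 q ≃+* GaloisField 2 q,
          ∀ m : N, e₂ (c (k : stabilizer Γ a₀) m) = σ (e₂ m) := by
      intro k
      obtain ⟨a, σ, h⟩ := hsemi₂ (k : stabilizer Γ a₀)
      have h1 := h n₁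
      rw [hfix k, hen₁, map_one, mul_one] at h1
      refine ⟨σ, fun m => ?_⟩
      rw [h m, ← h1, one_mul]
    choose Φ hΦ using hauto
    have hΦx : ∀ (k : stabilizer (stabilizer Γ a₀) b₁) (x : GaloisField 2 q),
        Φ k x = e₂ (c (k : stabilizer Γ a₀) (e₂.symm x)) := by
      intro k x
      rw [hΦ k, Equiv.apply_symm_apply]
    let Φh : stabilizer (stabilizer Γ a₀) b₁ →* (GaloisField 2 q ≃+* GaloisField 2 q) :=
      MonoidHom.mk' Φ (by
        intro k k'
        apply RingEquiv.ext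
        intro x
        rw [RingAut.mul_apply, hΦx, hΦx k, hΦx k', Equiv.symm_apply_apply,
          Subgroup.coe_mul, map_mul, MulAut.mul_apply])
    have hinj : Function.Injective Φh := by
      rw [injective_iff_map_eq_one]
      intro k hk
      have hk' : ∀ m : N, c (k : stabilizer Γ a₀) m = m := by
        intro m
        apply e₂.injective
        rw [hΦ k]
        have : Φ k = 1 := hk
        rw [this]
        rfl
      apply Subtype.ext
      apply Subtype.ext
      apply FaithfulSMul.eq_of_smul_eq_smul (α := α)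
      intro x
      obtain ⟨m, rfl⟩ := β.surjective x
      rw [hβ, OneMemClass.coe_one, OneMemClass.coe_one, one_smul]
      have h1 := congrArg Subtype.val (hk' m)
      rw [hc] at h1
      have h2 : ((k : stabilizer Γ a₀) : Γ)⁻¹ • a₀ = a₀ := by
        rw [inv_smul_eq_iff]; exact ((k : stabilizer Γ a₀).2).symm
      calc ((k : stabilizer Γ a₀) : Γ) • (m : Γ) • a₀
          = (((k : stabilizer Γ a₀) : Γ) * (m : Γ) * ((k : stabilizer Γ a₀) : Γ)⁻¹) • a₀ := by
            rw [mul_smul, mul_smul, h2]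
        _ = (m : Γ) • a₀ := by rw [h1]
    have hdvd := Subgroup.card_dvd_of_injective Φh hinj
    rw [hK₁card, card_ringAut_galoisField q hq0] at hdvd
    exact (Nat.dvd_prime hqp).mp hdvd
  · intro g
    set n₀ : N := β.symm (g • a₀) with hn₀
    have hn₀a : (n₀ : Γ) • a₀ = g • a₀ := by
      rw [← hβ, hn₀, Equiv.apply_symm_apply]
    let k : stabilizer Γ a₀ := ⟨(n₀ : Γ)⁻¹ * g, by
      show ((n₀ : Γ)⁻¹ * g) • a₀ = a₀
      rw [mul_smul, ← hn₀a, inv_smul_smul]⟩
    have hk : (k : Γ) = (n₀ : Γ)⁻¹ * g := rfl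
    obtain ⟨a, σ, h⟩ := hsemi₂ k
    have ha0 : a ≠ 0 := by
      intro ha
      have h1 := h ((c k).symm (e₂.symm 1))
      rw [MulEquiv.apply_symm_apply, Equiv.apply_symm_apply, ha, zero_mul] at h1
      exact one_ne_zero h1
    refine ⟨Units.mk0 a ha0, e₂ n₀, σ, fun x => ?_⟩
    set n : N := e₂.symm x with hn
    have hex : e.symm x = (n : Γ) • a₀ := rfl
    have hka : (k : Γ)⁻¹ • a₀ = a₀ := by
      rw [inv_smul_eq_iff]; exact (k.2).symm
    have h2 : g • ((n : Γ) • a₀) = β (n₀ * c k n) := by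
      rw [hβ, Subgroup.coe_mul, hc, hk]
      rw [mul_smul, mul_smul, mul_smul, ← hk, hka, hk, mul_smul, smul_inv_smul]
    rw [hex, h2]
    show e₂ (β.symm (β (n₀ * c k n))) = _
    rw [Equiv.symm_apply_apply, hadd₂, h, hn, Equiv.apply_symm_apply, Units.val_mk0, add_comm]

end StageC


/-- **Module D of S0732**: a transitive permutation group of degree `p + 1` and order
`(p + 1) p d` with `d < p - 1` which has a regular normal subgroup is a group of semi-affine
maps of the field with `2 ^ q = p + 1` elements, `q` prime, and `d ∈ {1, q}`. -/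
theorem affine_case {α : Type*} [Fintype α] [DecidableEq α] {p d : ℕ} (hp : p.Prime)
    (hα : Fintype.card α = p + 1) (G : Subgroup (Equiv.Perm α)) [MulAction.IsPretransitive G α]
    (hG : Nat.card G = (p + 1) * p * d) (hd1 : d < p - 1) (N : Subgroup G) (hNn : N.Normal)
    (hNt : ∀ a b : α, ∃ n ∈ N, n • a = b) (hNs : ∀ n ∈ N, ∀ a : α, n • a = a → n = 1) :
    ∃ q : ℕ, q.Prime ∧ p + 1 = 2 ^ q ∧ (d = 1 ∨ d = q) ∧
      ∃ e : α ≃ GaloisField 2 q, ∀ g : G,
        (e.symm.trans (((g : Equiv.Perm α)).trans e)) ∈ Cfsg.semiaffineGroup (GaloisField 2 q) := by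
  obtain ⟨q, hqp, hpq, hdq, e, he⟩ := main_abstract (Γ := G) (α := α) hp hα hG hd1 N hNt hNs
  refine ⟨q, hqp, hpq, hdq, e, fun g => ?_⟩
  obtain ⟨a, b, φ, h⟩ := he g
  exact ⟨a, b, φ, fun x => h x⟩

end Cfsg.Agent.Lib.Helper65.AffineP1
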