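/-
Baer's theorem: in a finite group, a left Engel element lies in the Fitting subgroup (helper65).
-/
import Mathlib
import Cfsg.Prelude.Def_Solvable
import Cfsg.Agent.Lib.Helper71.Fitting
import Cfsg.Agent.Lib.Helper65.NilpBasic

set_option autoImplicit false

namespace Cfsg.Agent.Lib.Helper65

section eng
variable {G : Type*} [Group G]

/-- The iterated commutator `[x, a, a, …, a]` (`n` entries `a`), with `[u, v] = u v u⁻¹ v⁻¹`. -/
def eng (a x : G) (n : ℕ) : G := (fun y => y * a * y⁻¹ * a⁻¹)^[n] x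

@[simp] theorem eng_zero (a x : G) : eng a x 0 = x := rfl

theorem eng_succ (a x : G) (n : ℕ) : eng a x (n + 1) = eng a x n * a * (eng a x n)⁻¹ * a⁻¹ := by
  unfold eng
  rw [Function.iterate_succ_apply']

theorem eng_succ' (a x : G) (n : ℕ) : eng a x (n + 1) = eng a (x * a * x⁻¹ * a⁻¹) n := by
  unfold eng
  rw [Function.iterate_succ_apply]

theorem eng_one (a : G) (n : ℕ) : eng a 1 n = 1 := by
  induction n with
  | zero => rfl
  | succ n ih => rw [eng_succ, ih]; group

/-- The statement's `foldl` form of the iterated commutator. -/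
theorem foldl_replicate_eq_eng (a x : G) (n : ℕ) :
    (List.replicate n a).foldl (fun u v => u * v * u⁻¹ * v⁻¹) x = eng a x n := by
  induction n generalizing x with
  | zero => rfl
  | succ n ih =>
    rw [List.replicate_succ, List.foldl_cons, ih, eng_succ']

/-- `a` is a left Engel element. -/
def IsLE (a : G) : Prop := ∀ x : G, ∃ n : ℕ, eng a x n = 1

theorem eng_map {H : Type*} [Group H] (f : G →* H) (a x : G) (n : ℕ) :
    f (eng a x n) = eng (f a) (f x) n := by
  induction n with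
  | zero => rfl
  | succ n ih => rw [eng_succ, eng_succ, map_mul, map_mul, map_mul, map_inv, map_inv, ih]

theorem IsLE.conj {a : G} (h : IsLE a) (t : G) : IsLE (t * a * t⁻¹) := by
  intro x
  obtain ⟨n, hn⟩ := h (t⁻¹ * x * t)
  refine ⟨n, ?_⟩
  have := eng_map (MulAut.conj t).toMonoidHom a (t⁻¹ * x * t) n
  simp only [MulEquiv.coe_toMonoidHom, MulAut.conj_apply] at this
  rw [hn] at this
  have e : t * (t⁻¹ * x * t) * t⁻¹ = x := by group
  rw [e] at this
  rw [← this]; group

theorem IsLE.subgroup {a : G} (h : IsLE a) (H : Subgroup G) (ha : a ∈ H) : IsLE (⟨a, ha⟩ : ↥H) := by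
  intro x
  obtain ⟨n, hn⟩ := h (x : G)
  refine ⟨n, ?_⟩
  apply Subtype.ext
  have := eng_map H.subtype ⟨a, ha⟩ x n
  simp only [Subgroup.subtype_apply] at this
  rw [this, hn]; rfl

end eng


section normalizing

/-- In a finite nilpotent group `N`, let `S` be a conjugation-invariant subset and `I` a subgroup generated
by `S ∩ I` and not containing `S`. Then some element of `S` outside `I` normalizes `I`. -/
theorem exists_mem_normalizer_of_nilpotent {N : Type*} [Group N] [Finite N] [hN : Group.IsNilpotent N]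
    (S : Set N) (hS : ∀ s ∈ S, ∀ t : N, t * s * t⁻¹ ∈ S) (I : Subgroup N)
    (hI : Subgroup.closure (S ∩ (I : Set N)) = I) (hSI : ¬ S ⊆ (I : Set N)) :
    ∃ x ∈ S, x ∉ I ∧ x ∈ Subgroup.normalizer (I : Set N) := by
  have hfin : ({J : Subgroup N | I ≤ J ∧ S ∩ (J : Set N) ⊆ (I : Set N)}).Finite := Set.toFinite _
  have hImem : I ∈ {J : Subgroup N | I ≤ J ∧ S ∩ (J : Set N) ⊆ (I : Set N)} :=
    ⟨le_rfl, Set.inter_subset_right⟩
  obtain ⟨J, hIJ, ⟨hJI, hJS⟩, hJmax⟩ := hfin.exists_le_maximal hImem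
  have hJtop : J < ⊤ := by
    rw [lt_top_iff_ne_top]
    rintro rfl
    apply hSI
    intro s hs
    exact hJS ⟨hs, trivial⟩
  have hlt := Group.normalizerCondition_of_isNilpotent J hJtop
  -- closure (S ∩ J) = I
  have hclJ : Subgroup.closure (S ∩ (J : Set N)) = I := by
    apply le_antisymm
    · rw [Subgroup.closure_le]; exact hJS
    · conv_lhs => rw [← hI]
      apply Subgroup.closure_mono
      exact Set.inter_subset_inter_right _ (fun x hx => hJI hx)
  -- elements of the normalizer of `J` conjugate `I` into itself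
  have hconj : ∀ y ∈ Subgroup.normalizer (J : Set N), ∀ h ∈ I, y * h * y⁻¹ ∈ I := by
    intro y hy h hh
    have h1 : (Subgroup.closure (S ∩ (J : Set N))).map (MulAut.conj y).toMonoidHom ≤
        Subgroup.closure (S ∩ (J : Set N)) := by
      rw [MonoidHom.map_closure, Subgroup.closure_le]
      rintro _ ⟨s, ⟨hsS, hsJ⟩, rfl⟩
      apply Subgroup.subset_closure
      refine ⟨hS s hsS y, ?_⟩
      exact (Subgroup.mem_set_normalizer_iff.mp hy s).mp hsJ
    rw [hclJ] at h1
    exact h1 ⟨h, hh, rfl⟩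
  -- an element of `S` in the normalizer of `J` outside `I`
  have hex : ∃ x ∈ S, x ∈ Subgroup.normalizer (J : Set N) ∧ x ∉ I := by
    by_contra hne
    push Not at hne
    have hmem : Subgroup.normalizer (J : Set N) ∈
        {J : Subgroup N | I ≤ J ∧ S ∩ (J : Set N) ⊆ (I : Set N)} :=
      ⟨hJI.trans hlt.le, fun x hx => hne x hx.1 hx.2⟩
    exact absurd (hJmax hmem hlt.le) (not_le_of_gt hlt)
  obtain ⟨x, hxS, hxN, hxI⟩ := hex
  refine ⟨x, hxS, hxI, ?_⟩
  rw [Subgroup.mem_set_normalizer_iff]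
  intro h
  constructor
  · intro hh; exact hconj x hxN h hh
  · intro hh
    have := hconj x⁻¹ (Subgroup.inv_mem _ hxN) _ hh
    have e : x⁻¹ * (x * h * x⁻¹) * x⁻¹⁻¹ = h := by group
    rwa [e] at this

end normalizing


section ctx
variable {G : Type*} [Group G]

/-- The situation of a minimal counterexample to Baer's theorem. -/
structure BaerCtx (X : Set G) : Prop where
  conj : ∀ s ∈ X, ∀ t : G, t * s * t⁻¹ ∈ X
  nilp : ∀ S : Set G, S ⊆ X → Subgroup.closure S ≠ ⊤ → Group.IsNilpotent ↥(Subgroup.closure S)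
  notin : ∀ N : Subgroup G, N.Normal → Group.IsNilpotent ↥N → ∀ x ∈ X, x ∉ N
  top : Subgroup.closure X = ⊤
  nonempty : X.Nonempty
  le : ∀ x ∈ X, IsLE x

/-- `U` is a nilpotent subgroup generated by elements of `X`. -/
def XN (X : Set G) (U : Subgroup G) : Prop :=
  Group.IsNilpotent ↥U ∧ Subgroup.closure (X ∩ (U : Set G)) = U

theorem BaerCtx.one_notin {X : Set G} (h : BaerCtx X) : (1 : G) ∉ X := fun h1 =>
  h.notin ⊥ inferInstance inferInstance 1 h1 (Subgroup.one_mem _)

theorem BaerCtx.XN_ne_top {X : Set G} (h : BaerCtx X) {U : Subgroup G} (hU : XN X U) : U ≠ ⊤ := by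
  rintro rfl
  obtain ⟨x, hx⟩ := h.nonempty
  exact h.notin ⊤ inferInstance hU.1 x hx trivial

theorem XN_closure {X : Set G} (h : BaerCtx X) (S : Set G) (hS : S ⊆ X)
    (hne : Subgroup.closure S ≠ ⊤) : XN X (Subgroup.closure S) := by
  refine ⟨h.nilp S hS hne, le_antisymm ?_ ?_⟩
  · rw [Subgroup.closure_le]; exact Set.inter_subset_right
  · apply Subgroup.closure_mono
    exact fun s hs => ⟨hS hs, Subgroup.subset_closure hs⟩

theorem XN_zpowers {X : Set G} (h : BaerCtx X) (x : G) (hx : x ∈ X) : XN X (Subgroup.zpowers x) := by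
  have hne : Subgroup.closure ({x} : Set G) ≠ ⊤ := by
    intro htop
    have hcomm : IsMulCommutative ↥(Subgroup.closure ({x} : Set G)) := by
      rw [← Subgroup.zpowers_eq_closure]; infer_instance
    have hnil : Group.IsNilpotent ↥(Subgroup.closure ({x} : Set G)) := by
      let _ : CommGroup ↥(Subgroup.closure ({x} : Set G)) :=
        { (inferInstance : Group ↥(Subgroup.closure ({x} : Set G))) with
          mul_comm := hcomm.is_comm.comm }
      infer_instance
    rw [htop] at hnil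
    exact h.notin ⊤ inferInstance hnil x hx trivial
  have := XN_closure h {x} (Set.singleton_subset_iff.mpr hx) hne
  rwa [← Subgroup.zpowers_eq_closure] at this

theorem XN_map_conj {X : Set G} (h : BaerCtx X) {U : Subgroup G} (hU : XN X U) (t : G) :
    XN X (U.map (MulAut.conj t).toMonoidHom) := by
  refine ⟨?_, ?_⟩
  · have := hU.1
    exact Group.nilpotent_of_mulEquiv (U.equivMapOfInjective _ (MulAut.conj t).injective)
  · conv_rhs => rw [← hU.2, MonoidHom.map_closure]
    congr 1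
    ext y
    constructor
    · rintro ⟨hyX, u, hu, rfl⟩
      refine ⟨u, ⟨?_, hu⟩, rfl⟩
      have := h.conj _ hyX t⁻¹
      simp only [MulEquiv.coe_toMonoidHom, MulAut.conj_apply] at this
      have e : t⁻¹ * (t * u * t⁻¹) * t⁻¹⁻¹ = u := by group
      rwa [e] at this
    · rintro ⟨u, ⟨huX, hu⟩, rfl⟩
      exact ⟨by simpa using h.conj u huX t, u, hu, rfl⟩


theorem exists_normalizing [Finite G] {X : Set G} (h : BaerCtx X) {U I : Subgroup G} (hU : XN X U)
    (hIU : I ≤ U) (hI : Subgroup.closure (X ∩ (I : Set G)) = I)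
    (hne : ¬ (X ∩ (U : Set G) ⊆ (I : Set G))) :
    ∃ u ∈ X, u ∈ U ∧ u ∉ I ∧ u ∈ Subgroup.normalizer (I : Set G) := by
  have hnil := hU.1
  have hcl : Subgroup.closure ((((↑) : ↥U → G) ⁻¹' X) ∩ ((I.subgroupOf U : Subgroup ↥U) : Set ↥U)) =
      I.subgroupOf U := by
    apply Subgroup.map_injective U.subtype_injective
    rw [MonoidHom.map_closure, Subgroup.map_subgroupOf_eq_of_le hIU]
    conv_rhs => rw [← hI]
    congr 1
    ext y
    constructor
    · rintro ⟨s, ⟨hsX, hsI⟩, rfl⟩
      exact ⟨hsX, hsI⟩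
    · rintro ⟨hyX, hyI⟩
      exact ⟨⟨y, hIU hyI⟩, ⟨hyX, hyI⟩, rfl⟩
  have hne' : ¬ ((((↑) : ↥U → G) ⁻¹' X) ⊆ ((I.subgroupOf U : Subgroup ↥U) : Set ↥U)) := by
    intro hsub
    apply hne
    rintro y ⟨hyX, hyU⟩
    exact hsub (a := ⟨y, hyU⟩) hyX
  obtain ⟨x, hxS, hxI, hxN⟩ := exists_mem_normalizer_of_nilpotent (N := ↥U) (((↑) : ↥U → G) ⁻¹' X)
    (fun s hs t => h.conj _ hs _) (I.subgroupOf U) hcl hne'
  refine ⟨x, hxS, x.2, hxI, ?_⟩
  rw [Subgroup.mem_set_normalizer_iff] at hxN ⊢
  intro g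
  constructor
  · intro hg
    exact (hxN ⟨g, hIU hg⟩).mp hg
  · intro hg
    have hgU : g ∈ U := by
      have h1 := hIU hg
      have h2 : g = (x : G)⁻¹ * ((x : G) * g * (x : G)⁻¹) * (x : G) := by group
      rw [h2]
      exact U.mul_mem (U.mul_mem (U.inv_mem x.2) h1) x.2
    exact (hxN ⟨g, hgU⟩).mpr hg

theorem exists_maximal_ge [Finite G] {X : Set G} {U : Subgroup G} (hU : XN X U) :
    ∃ W, U ≤ W ∧ Maximal (XN X) W := by
  have hfin : ({W : Subgroup G | XN X W}).Finite := Set.toFinite _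
  obtain ⟨W, hUW, hW⟩ := hfin.exists_le_maximal (a := U) hU
  exact ⟨W, hUW, hW⟩


/-- Distinct maximal `X`-generated nilpotent subgroups share no element of `X`. -/
theorem BaerCtx.disjoint [Finite G] {X : Set G} (h : BaerCtx X) {U V : Subgroup G}
    (hU : Maximal (XN X) U) (hV : Maximal (XN X) V) (hUV : U ≠ V) {x : G} (hx : x ∈ X)
    (hxU : x ∈ U) (hxV : x ∈ V) : False := by
  -- the type of pairs of distinct maximal elements
  let P := {p : Subgroup G × Subgroup G // Maximal (XN X) p.1 ∧ Maximal (XN X) p.2 ∧ p.1 ≠ p.2}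
  have : Nonempty P := ⟨⟨(U, V), hU, hV, hUV⟩⟩
  obtain ⟨⟨⟨U₀, V₀⟩, hU₀, hV₀, hne₀⟩, hmax⟩ := Finite.exists_max
    (fun p : P => Nat.card (Subgroup.closure (X ∩ (p.1.1 : Set G) ∩ (p.1.2 : Set G))))
  simp only at hU₀ hV₀ hne₀ hmax
  set I := Subgroup.closure (X ∩ (U₀ : Set G) ∩ (V₀ : Set G)) with hIdef
  have hIU : I ≤ U₀ := by
    rw [hIdef, Subgroup.closure_le]; exact fun y hy => hy.1.2
  have hIV : I ≤ V₀ := by
    rw [hIdef, Subgroup.closure_le]; exact fun y hy => hy.2
  have hXI : X ∩ (I : Set G) = X ∩ (U₀ : Set G) ∩ (V₀ : Set G) := by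
    ext y
    constructor
    · rintro ⟨hyX, hyI⟩; exact ⟨⟨hyX, hIU hyI⟩, hIV hyI⟩
    · rintro hy; exact ⟨hy.1.1, Subgroup.subset_closure hy⟩
  have hI : Subgroup.closure (X ∩ (I : Set G)) = I := by rw [hXI]
  have hIbot : I = ⊥ := by
    have hneU : ¬ (X ∩ (U₀ : Set G) ⊆ (I : Set G)) := by
      intro hsub
      have h1 : U₀ ≤ V₀ := by
        rw [← hU₀.1.2]
        exact ((Subgroup.closure_le I).mpr hsub).trans hIV
      exact hne₀ (le_antisymm h1 (hU₀.2 hV₀.1 h1))
    have hneV : ¬ (X ∩ (V₀ : Set G) ⊆ (I : Set G)) := by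
      intro hsub
      have h1 : V₀ ≤ U₀ := by
        rw [← hV₀.1.2]
        exact ((Subgroup.closure_le I).mpr hsub).trans hIU
      exact hne₀ (le_antisymm (hV₀.2 hU₀.1 h1) h1)
    obtain ⟨u, huX, huU, huI, huN⟩ := exists_normalizing h hU₀.1 hIU hI hneU
    obtain ⟨v, hvX, hvV, hvI, hvN⟩ := exists_normalizing h hV₀.1 hIV hI hneV
    have hsubX : (X ∩ (I : Set G)) ∪ {u, v} ⊆ X := by
      rintro y (hy | hy | hy)
      · exact hy.1
      · rw [hy]; exact huX
      · rw [Set.mem_singleton_iff.mp hy]; exact hvX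
    have hJN : Subgroup.closure ((X ∩ (I : Set G)) ∪ {u, v}) ≤ Subgroup.normalizer (I : Set G) := by
      rw [Subgroup.closure_le]
      rintro y (hy | hy | hy)
      · exact Subgroup.le_normalizer hy.2
      · rw [hy]; exact huN
      · rw [Set.mem_singleton_iff.mp hy]; exact hvN
    have hIJ : I ≤ Subgroup.closure ((X ∩ (I : Set G)) ∪ {u, v}) := by
      conv_lhs => rw [← hI]
      exact Subgroup.closure_mono Set.subset_union_left
    have huJ : u ∈ Subgroup.closure ((X ∩ (I : Set G)) ∪ {u, v}) :=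
      Subgroup.subset_closure (Or.inr (Or.inl rfl))
    have hvJ : v ∈ Subgroup.closure ((X ∩ (I : Set G)) ∪ {u, v}) :=
      Subgroup.subset_closure (Or.inr (Or.inr rfl))
    have hJtop : Subgroup.closure ((X ∩ (I : Set G)) ∪ {u, v}) = ⊤ := by
      by_contra hJ
      have hJX := XN_closure h _ hsubX hJ
      obtain ⟨W, hJW, hW⟩ := exists_maximal_ge hJX
      -- a maximal `W ≥ J` must be equal to both `U₀` and `V₀`
      have key : ∀ (T : Subgroup G), Maximal (XN X) T → I ≤ T →
          Nat.card (Subgroup.closure (X ∩ (W : Set G) ∩ (T : Set G))) ≤ Nat.card I →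
          ∀ t ∈ X, t ∈ W → t ∈ T → t ∈ I := by
        intro T hT hIT hcard t htX htW htT
        have hle : I ≤ Subgroup.closure (X ∩ (W : Set G) ∩ (T : Set G)) := by
          conv_lhs => rw [← hI]
          apply Subgroup.closure_mono
          rintro y ⟨hyX, hyI⟩
          exact ⟨⟨hyX, hJW (hIJ hyI)⟩, hIT hyI⟩
        have heq := Subgroup.eq_of_le_of_card_ge hle hcard
        rw [heq]
        exact Subgroup.subset_closure ⟨⟨htX, htW⟩, htT⟩
      have hWU : W = U₀ := by
        by_contra hWU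
        exact huI (key U₀ hU₀ hIU (hmax ⟨(W, U₀), hW, hU₀, hWU⟩) u huX (hJW huJ) huU)
      have hWV : W = V₀ := by
        by_contra hWV
        exact hvI (key V₀ hV₀ hIV (hmax ⟨(W, V₀), hW, hV₀, hWV⟩) v hvX (hJW hvJ) hvV)
      exact hne₀ (hWU.symm.trans hWV)
    have hNtop : Subgroup.normalizer (I : Set G) = ⊤ := by
      rw [eq_top_iff, ← hJtop]; exact hJN
    have hInormal : I.Normal := Subgroup.normalizer_eq_top_iff.mp hNtop
    have hInil : Group.IsNilpotent ↥I := isNilpotent_of_le hIU hU₀.1.1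
    have hempty : X ∩ (I : Set G) = ∅ := by
      ext y
      simp only [Set.mem_inter_iff, Set.mem_empty_iff_false, iff_false, not_and]
      intro hyX hyI
      exact h.notin I hInormal hInil y hyX hyI
    rw [← hI, hempty, Subgroup.closure_empty]
  have hle := hmax ⟨(U, V), hU, hV, hUV⟩
  simp only at hle
  rw [hIbot] at hle
  have hx1 : x ∈ Subgroup.closure (X ∩ (U : Set G) ∩ (V : Set G)) :=
    Subgroup.subset_closure ⟨⟨hx, hxU⟩, hxV⟩
  have hbot : Subgroup.closure (X ∩ (U : Set G) ∩ (V : Set G)) = ⊥ := by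
    rw [← Subgroup.card_le_one_iff_eq_bot]
    simpa using hle
  rw [hbot, Subgroup.mem_bot] at hx1
  rw [hx1] at hx
  exact h.one_notin hx


theorem BaerCtx.le_of_mem [Finite G] {X : Set G} (h : BaerCtx X) {U W : Subgroup G}
    (hU : Maximal (XN X) U) (hW : XN X W) {x : G} (hx : x ∈ X) (hxW : x ∈ W) (hxU : x ∈ U) :
    W ≤ U := by
  obtain ⟨W', hWW', hW'⟩ := exists_maximal_ge hW
  by_cases heq : W' = U
  · rw [← heq]; exact hWW'
  · exact (h.disjoint hW' hU heq hx (hWW' hxW) hxU).elim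

theorem BaerCtx.mem_normalizer_of_conj_mem [Finite G] {X : Set G} (h : BaerCtx X) {U : Subgroup G}
    (hU : Maximal (XN X) U) {u t : G} (hu : u ∈ X) (huU : u ∈ U) (ht : t * u * t⁻¹ ∈ U) :
    t ∈ Subgroup.normalizer (U : Set G) := by
  have hU' := XN_map_conj h hU.1 t
  have hmem : t * u * t⁻¹ ∈ U.map (MulAut.conj t).toMonoidHom := ⟨u, huU, by simp⟩
  have hle : U.map (MulAut.conj t).toMonoidHom ≤ U :=
    h.le_of_mem hU hU' (h.conj u hu t) hmem ht
  have hcard : Nat.card U ≤ Nat.card (U.map (MulAut.conj t).toMonoidHom) := by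
    rw [Nat.card_congr (U.equivMapOfInjective (MulAut.conj t).toMonoidHom (MulAut.conj t).injective).toEquiv]
  have heq := Subgroup.eq_of_le_of_card_ge hle hcard
  rw [Subgroup.mem_set_normalizer_iff]
  intro g
  constructor
  · intro hg
    rw [← heq]
    exact ⟨g, hg, by simp⟩
  · intro hg
    rw [← heq] at hg
    obtain ⟨g', hg', hgg'⟩ := hg
    simp only [MulEquiv.coe_toMonoidHom, MulAut.conj_apply] at hgg'
    have : g' = g := by
      have := congrArg (fun z => t⁻¹ * z * t) hgg'
      simpa [mul_assoc] using this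
    rwa [← this]

theorem BaerCtx.mem_of_mem_normalizer [Finite G] {X : Set G} (h : BaerCtx X) {U : Subgroup G}
    (hU : Maximal (XN X) U) {u c : G} (hu : u ∈ X) (huU : u ∈ U) (hc : c ∈ X)
    (hcN : c ∈ Subgroup.normalizer (U : Set G)) : c ∈ U := by
  have hsubX : (X ∩ (U : Set G)) ∪ {c} ⊆ X := by
    rintro y (hy | hy)
    · exact hy.1
    · rw [Set.mem_singleton_iff.mp hy]; exact hc
  have hKN : Subgroup.closure ((X ∩ (U : Set G)) ∪ {c}) ≤ Subgroup.normalizer (U : Set G) := by
    rw [Subgroup.closure_le]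
    rintro y (hy | hy)
    · exact Subgroup.le_normalizer hy.2
    · rw [Set.mem_singleton_iff.mp hy]; exact hcN
  have hUK : U ≤ Subgroup.closure ((X ∩ (U : Set G)) ∪ {c}) := by
    conv_lhs => rw [← hU.1.2]
    exact Subgroup.closure_mono Set.subset_union_left
  have hcK : c ∈ Subgroup.closure ((X ∩ (U : Set G)) ∪ {c}) :=
    Subgroup.subset_closure (Or.inr rfl)
  by_cases hK : Subgroup.closure ((X ∩ (U : Set G)) ∪ {c}) = ⊤
  · have hNtop : Subgroup.normalizer (U : Set G) = ⊤ := by
      rw [eq_top_iff, ← hK]; exact hKN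
    have hUnormal : U.Normal := Subgroup.normalizer_eq_top_iff.mp hNtop
    exact (h.notin U hUnormal hU.1.1 u hu huU).elim
  · have hKX := XN_closure h _ hsubX hK
    exact hU.2 hKX hUK hcK

/-- The configuration of a minimal counterexample to Baer's theorem is contradictory. -/
theorem BaerCtx.false [Finite G] {X : Set G} (h : BaerCtx X) : False := by
  obtain ⟨u, hu⟩ := h.nonempty
  obtain ⟨U, hzU, hU⟩ := exists_maximal_ge (XN_zpowers h u hu)
  have huU : u ∈ U := hzU (Subgroup.mem_zpowers u)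
  have hUtop := h.XN_ne_top hU.1
  have hex : ∃ v ∈ X, v ∉ U := by
    by_contra hne
    push Not at hne
    apply hUtop
    rw [eq_top_iff, ← h.top, Subgroup.closure_le]
    exact hne
  obtain ⟨v, hvX, hvU⟩ := hex
  obtain ⟨n, hn⟩ := h.le u hu v
  have hstep : ∀ i, eng u v (i + 1) ∈ Subgroup.normalizer (U : Set G) →
      eng u v i ∈ Subgroup.normalizer (U : Set G) := by
    intro i hi
    have hcX : eng u v i * u * (eng u v i)⁻¹ ∈ X := h.conj u hu _
    have hcN : eng u v i * u * (eng u v i)⁻¹ ∈ Subgroup.normalizer (U : Set G) := by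
      have e : eng u v i * u * (eng u v i)⁻¹ = eng u v (i + 1) * u := by
        rw [eng_succ]; group
      rw [e]
      exact Subgroup.mul_mem _ hi (Subgroup.le_normalizer huU)
    have hcU := h.mem_of_mem_normalizer hU hu huU hcX hcN
    exact h.mem_normalizer_of_conj_mem hU hu huU hcU
  have hall : ∀ m, eng u v m ∈ Subgroup.normalizer (U : Set G) →
      eng u v 0 ∈ Subgroup.normalizer (U : Set G) := by
    intro m
    induction m with
    | zero => exact id
    | succ m ih => exact fun hm => ih (hstep m hm)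
  have hv0 : v ∈ Subgroup.normalizer (U : Set G) := by
    have := hall n (by rw [hn]; exact Subgroup.one_mem _)
    simpa using this
  exact hvU (h.mem_of_mem_normalizer hU hu huU hvX hv0)

end ctx


section main

universe u

theorem closure_nilpotent_of_IH {G : Type*} [Group G] [Finite G] (H : Subgroup G)
    (IH : ∀ b : ↥H, IsLE b → b ∈ Cfsg.fittingSubgroup ↥H) (S : Set G) (hSH : S ⊆ (H : Set G))
    (hS : ∀ s ∈ S, IsLE s) : Group.IsNilpotent ↥(Subgroup.closure S) := by
  have hF : Group.IsNilpotent ↥((Cfsg.fittingSubgroup ↥H).map H.subtype) := by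
    have := Cfsg.Agent.Lib.Helper71.fittingSubgroup_isNilpotent (G := ↥H)
    exact Group.nilpotent_of_mulEquiv
      ((Cfsg.fittingSubgroup ↥H).equivMapOfInjective H.subtype H.subtype_injective)
  refine isNilpotent_of_le ?_ hF
  rw [Subgroup.closure_le]
  intro s hs
  exact ⟨⟨s, hSH hs⟩, IH _ ((hS s hs).subgroup H (hSH hs)), rfl⟩

theorem baer_step {G : Type*} [Group G] [Finite G]
    (IH : ∀ H : Subgroup G, H ≠ ⊤ → ∀ b : ↥H, IsLE b → b ∈ Cfsg.fittingSubgroup ↥H)
    (a : G) (ha : IsLE a) : a ∈ Cfsg.fittingSubgroup G := by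
  by_contra hna
  have hXle : ∀ x ∈ {y : G | ∃ t : G, y = t * a * t⁻¹}, IsLE x := by
    rintro _ ⟨t, rfl⟩; exact ha.conj t
  have hXconj : ∀ s ∈ {y : G | ∃ t : G, y = t * a * t⁻¹}, ∀ t : G,
      t * s * t⁻¹ ∈ {y : G | ∃ t : G, y = t * a * t⁻¹} := by
    rintro _ ⟨r, rfl⟩ t
    exact ⟨t * r, by group⟩
  have haX : a ∈ {y : G | ∃ t : G, y = t * a * t⁻¹} := ⟨1, by group⟩
  have hnilp : ∀ S : Set G, S ⊆ {y : G | ∃ t : G, y = t * a * t⁻¹} → Subgroup.closure S ≠ ⊤ →
      Group.IsNilpotent ↥(Subgroup.closure S) := by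
    intro S hSX hne
    exact closure_nilpotent_of_IH _ (IH _ hne) S Subgroup.subset_closure
      (fun s hs => hXle s (hSX hs))
  have hnotin : ∀ N : Subgroup G, N.Normal → Group.IsNilpotent ↥N →
      ∀ x ∈ {y : G | ∃ t : G, y = t * a * t⁻¹}, x ∉ N := by
    rintro N hN hNnil _ ⟨t, rfl⟩ hmem
    apply hna
    have haN : a ∈ N := by
      have := hN.conj_mem _ hmem t⁻¹
      have e : t⁻¹ * (t * a * t⁻¹) * t⁻¹⁻¹ = a := by group
      rwa [e] at this
    exact (le_sSup (show N ∈ {N : Subgroup G | N.Normal ∧ Group.IsNilpotent N} from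
      ⟨hN, hNnil⟩)) haN
  have htop : Subgroup.closure {y : G | ∃ t : G, y = t * a * t⁻¹} = ⊤ := by
    by_contra hne
    have hnil := hnilp _ subset_rfl hne
    have hnormal : (Subgroup.closure {y : G | ∃ t : G, y = t * a * t⁻¹}).Normal := by
      constructor
      intro n hn g
      have hle : (Subgroup.closure {y : G | ∃ t : G, y = t * a * t⁻¹}).map
          (MulAut.conj g).toMonoidHom ≤ Subgroup.closure {y : G | ∃ t : G, y = t * a * t⁻¹} := by
        rw [MonoidHom.map_closure, Subgroup.closure_le]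
        rintro _ ⟨s, hs, rfl⟩
        exact Subgroup.subset_closure (by simpa using hXconj s hs g)
      exact hle ⟨n, hn, by simp⟩
    exact hnotin _ hnormal hnil a haX (Subgroup.subset_closure haX)
  exact BaerCtx.false ⟨hXconj, hnilp, hnotin, htop, ⟨a, haX⟩, hXle⟩

theorem mem_fittingSubgroup_of_isLE_aux : ∀ (n : ℕ) (G : Type u) [Group G] [Finite G],
    Nat.card G = n → ∀ a : G, IsLE a → a ∈ Cfsg.fittingSubgroup G := by
  intro n
  induction n using Nat.strong_induction_on with
  | _ n ih =>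
    intro G _ _ hcard a ha
    apply baer_step _ a ha
    intro H hH b hb
    have hlt : Nat.card H < n := by
      rw [← hcard]
      apply lt_of_le_of_ne (Subgroup.card_le_card_group H)
      intro heq
      exact hH (Subgroup.eq_top_of_card_eq H heq)
    exact ih (Nat.card H) hlt ↥H rfl b hb

/-- **Baer's theorem**: a left Engel element of a finite group lies in the Fitting subgroup. -/
theorem mem_fittingSubgroup_of_isLE {G : Type*} [Group G] [Finite G] (a : G) (ha : IsLE a) :
    a ∈ Cfsg.fittingSubgroup G :=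
  mem_fittingSubgroup_of_isLE_aux (Nat.card G) G rfl a ha

/-- Elements of a normal nilpotent subgroup are left Engel elements. -/
theorem exists_eng_eq_one_of_mem {G : Type*} [Group G] (F : Subgroup G) [hF : F.Normal]
    (hnil : Group.IsNilpotent ↥F) {g : G} (hg : g ∈ F) (x : G) : ∃ n, eng g x n = 1 := by
  obtain ⟨c, hc⟩ := (Subgroup.isNilpotent_iff_lowerCentralSeries F).mp hnil
  have key : ∀ y ∈ F, ∀ k, eng g y k ∈ F.lowerCentralSeries k := by
    intro y hy k
    induction k with
    | zero => exact hy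
    | succ k ih =>
      rw [eng_succ, Subgroup.lowerCentralSeries_succ]
      have := Subgroup.commutator_mem_commutator ih hg
      rwa [commutatorElement_def] at this
  refine ⟨c + 1, ?_⟩
  rw [eng_succ']
  have hy : x * g * x⁻¹ * g⁻¹ ∈ F := F.mul_mem (hF.conj_mem g hg x) (F.inv_mem hg)
  have := key _ hy c
  rwa [hc, Subgroup.mem_bot] at this

/-- Baer's characterization of the Fitting subgroup of a finite group. -/
theorem mem_fittingSubgroup_iff_isLE {G : Type*} [Group G] [Finite G] (a : G) :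
    a ∈ Cfsg.fittingSubgroup G ↔ IsLE a :=
  ⟨fun h x => exists_eng_eq_one_of_mem (Cfsg.fittingSubgroup G)
    Cfsg.Agent.Lib.Helper71.fittingSubgroup_isNilpotent h x, mem_fittingSubgroup_of_isLE a⟩

end main

end Cfsg.Agent.Lib.Helper65
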