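import Mathlib
import Cfsg.Prelude.Def_GeometricClasses
import Cfsg.Prelude.Def_ClassicalGeometry
import Cfsg.Agent.Lib.Helper37.BHRSU.Defs
import Cfsg.Agent.Lib.Helper13.Herm

set_option autoImplicit false

/-!
# BHRSU-[C6-ISO]: an `r`-group of similitudes of the hermitian form, `r ∤ q - 1`, consists of isometries.
-/

namespace Cfsg.Agent.Lib.Helper37.BHRSU

open Cfsg Cfsg.Geo Cfsg.Agent.Lib.Helper70.AschU
open scoped MatrixGroups Matrix Kronecker

variable {F : Type*} [Field F] [Fintype F] {n q : ℕ}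

/-- BHRSU-[C6-ISO]  medium.  (row S5856 wants `R ≤ GU`.)  The multiplier `c` of `x ∈ R` (`f(x u, x v) = c f(u,v)`) satisfies `c^q = c`
(`f(u,u)^q = f(u,u)`, take `u = e_0`), so `c^(q−1) = 1`; `x^(r^k) = 1` gives `c^(r^k) = 1`; `gcd(r^k, q − 1) = 1` gives `c = 1`. -/
theorem le_GU_of_pGroup (hF : Fintype.card F = q ^ 2) (hn : 1 ≤ n) (r : ℕ) (hr : r.Prime) (hrq : ¬ r ∣ q - 1)
    (R : Subgroup (GL (Fin n) F)) (hR : IsPGroup r R) (hsim : R ≤ similarityGroup (hermForm n F q)) :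
    R ≤ GU n F q := by
  intro x hx
  obtain ⟨c, hc⟩ := hsim hx
  have hq2 : 2 ≤ q := Cfsg.Agent.Lib.Helper13.two_le_of_card_eq_sq hF
  let i0 : Fin n := ⟨0, by omega⟩
  let e0 : Fin n → F := Pi.single i0 1
  have he0 : hermForm n F q e0 e0 = 1 := by
    rw [Cfsg.Agent.Lib.Helper13.hermForm_single_left]
    simp [e0]
  have hc0 : hermForm n F q ((x : Matrix (Fin n) (Fin n) F) *ᵥ e0)
      ((x : Matrix (Fin n) (Fin n) F) *ᵥ e0) = c := by
    rw [hc, he0, mul_one]
  have hcq : (c : F) ^ q = c := by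
    rw [← hc0]
    exact Cfsg.Agent.Lib.Helper13.hermForm_conj hF _ _
  have hcne : (c : F) ≠ 0 := c.ne_zero
  have hcq1 : (c : F) ^ (q - 1) = 1 := by
    have h1 : (c : F) ^ (q - 1) * c = c := by
      rw [← pow_succ]
      have : q - 1 + 1 = q := by omega
      rw [this, hcq]
    exact mul_right_cancel₀ hcne (by rw [h1, one_mul])
  have hpow : ∀ m : ℕ, ∀ u v : Fin n → F,
      hermForm n F q (((x ^ m : GL (Fin n) F) : Matrix (Fin n) (Fin n) F) *ᵥ u)
        (((x ^ m : GL (Fin n) F) : Matrix (Fin n) (Fin n) F) *ᵥ v)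
        = (c : F) ^ m * hermForm n F q u v := by
    intro m
    induction m with
    | zero => intro u v; simp
    | succ m ih =>
      intro u v
      rw [pow_succ', Units.val_mul, ← Matrix.mulVec_mulVec, ← Matrix.mulVec_mulVec, hc, ih, pow_succ']
      ring
  obtain ⟨k, hk⟩ := hR ⟨x, hx⟩
  have hxk : x ^ (r ^ k) = 1 := by
    have := congrArg Subtype.val hk
    simpa using this
  have hck : (c : F) ^ (r ^ k) = 1 := by
    have := hpow (r ^ k) e0 e0
    rw [hxk] at this
    simp only [Units.val_one, Matrix.one_mulVec, he0, mul_one] at this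
    exact this.symm
  have hcop : Nat.Coprime (r ^ k) (q - 1) :=
    Nat.Coprime.pow_left k ((Nat.Prime.coprime_iff_not_dvd hr).2 hrq)
  have hc1 : (c : F) = 1 := by
    have := pow_gcd_eq_one.2 ⟨hck, hcq1⟩
    rwa [hcop.gcd_eq_one, pow_one] at this
  intro u v
  have := hc u v
  rw [hc1, one_mul] at this
  exact this

end Cfsg.Agent.Lib.Helper37.BHRSU
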