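import Mathlib
import Cfsg.Prelude.Def_GeometricClasses
import Cfsg.Prelude.Def_ClassicalGeometry
import Cfsg.Agent.Lib.Helper37.BHRSU.Defs
import Cfsg.Agent.Lib.Helper37.BHRSU.Kit
import Cfsg.Agent.Lib.Helper13.Herm
import Cfsg.Agent.Lib.Helper13.SubfieldBasic
import Cfsg.Agent.Lib.Helper65.BhrsuP3

set_option autoImplicit false

/-!
# BHRSU-[P5-ODD]: `SU_n(q)` (n ≥ 3) lies in no subfield subgroup of odd prime index.
-/

namespace Cfsg.Agent.Lib.Helper65.BhrsuP5Odd

open Cfsg Cfsg.Geo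
open scoped MatrixGroups Matrix Kronecker

variable {F : Type*} [Field F] [Fintype F] {n q : ℕ}

/-- a subfield of odd prime index does not contain the fixed field of `x ↦ x ^ q`. -/
theorem exists_fixed_not_mem (hF : Fintype.card F = q ^ 2) (F₀ : Subfield F) (r : ℕ) (hr : r.Prime)
    (hodd : Odd r) (hcard : Fintype.card F = Nat.card F₀ ^ r) : ∃ y : F, y ^ q = y ∧ y ∉ F₀ := by
  classical
  by_contra hcon
  push Not at hcon
  have hq : 2 ≤ q := Cfsg.Agent.Lib.Helper13.two_le_of_card_eq_sq hF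
  obtain ⟨ζ, hζ⟩ := IsCyclic.exists_generator (α := Fˣ)
  have hord : orderOf ζ = q ^ 2 - 1 := by
    rw [orderOf_eq_card_of_forall_mem_zpowers hζ, Nat.card_eq_fintype_card, Fintype.card_units, hF]
  have hζ1 : ζ ^ (q ^ 2 - 1) = 1 := by rw [← hord]; exact pow_orderOf_eq_one ζ
  set η : Fˣ := ζ ^ (q + 1) with hη
  have hηq : η ^ q = η := by
    rw [hη, ← pow_mul]
    have : (q + 1) * q = (q ^ 2 - 1) + (q + 1) := by
      have : 1 ≤ q ^ 2 := Nat.one_le_pow _ _ (by omega)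
      zify [this]
      ring
    rw [this, pow_add, hζ1, one_mul]
  have hηF₀ : ((η : Fˣ) : F) ∈ F₀ := by
    apply hcon
    rw [← Units.val_pow_eq_pow_val, hηq]
  set m := Nat.card F₀ with hm
  have hm' : m = Fintype.card F₀ := Nat.card_eq_fintype_card
  have hm2 : 2 ≤ m := by
    rw [hm']
    exact Fintype.one_lt_card
  have hηm : η ^ (m - 1) = 1 := by
    apply Units.ext
    rw [Units.val_pow_eq_pow_val, Units.val_one]
    have hx0 : (⟨(η : F), hηF₀⟩ : F₀) ≠ 0 := by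
      intro h
      have := congrArg Subtype.val h
      exact η.ne_zero this
    have := FiniteField.pow_card_sub_one_eq_one (⟨(η : F), hηF₀⟩ : F₀) hx0
    rw [← hm'] at this
    have := congrArg Subtype.val this
    simpa using this
  have hdvd : q ^ 2 - 1 ∣ (q + 1) * (m - 1) := by
    rw [← hord]
    apply orderOf_dvd_of_pow_eq_one
    rw [pow_mul, ← hη, hηm]
  have hfac : q ^ 2 - 1 = (q + 1) * (q - 1) := by
    have h1 : 1 ≤ q ^ 2 := Nat.one_le_pow _ _ (by omega)
    have h2 : 1 ≤ q := by omega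
    zify [h1, h2]
    ring
  rw [hfac] at hdvd
  have hdvd' : q - 1 ∣ m - 1 := Nat.dvd_of_mul_dvd_mul_left (by omega) hdvd
  have hle : q - 1 ≤ m - 1 := Nat.le_of_dvd (by omega) hdvd'
  have hqm : q ≤ m := by omega
  have hr3 : 3 ≤ r := by
    rcases hodd with ⟨k, hk⟩
    have := hr.two_le
    omega
  have h1 : m ^ 3 ≤ m ^ r := Nat.pow_le_pow_right (by omega) hr3
  have h2 : m ^ r = q ^ 2 := by rw [← hcard, hF]
  have h3 : q ^ 2 ≤ m ^ 2 := Nat.pow_le_pow_left hqm 2
  have h4 : m ^ 3 ≤ m ^ 2 := by omega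
  have h5 : m ^ 2 * 2 ≤ m ^ 3 := by
    calc m ^ 2 * 2 ≤ m ^ 2 * m := Nat.mul_le_mul_left _ hm2
      _ = m ^ 3 := by ring
  have h6 : 0 < m ^ 2 := by positivity
  omega

omit [Fintype F] in
/-- if `1 + c • (a bᵀ) = μ • A` with `A` over `F₀`, `a bᵀ ≠ 0`, `n ≥ 3`, then `μ ∈ F₀`. -/
theorem mu_mem (hn : 3 ≤ n) (F₀ : Subfield F) (a b : Fin n → F) (hM : ∃ i j, a i * b j ≠ 0)
    (c : F) (hc : c ≠ 0) (μ : F) (hμ : μ ≠ 0) (A : Matrix (Fin n) (Fin n) F₀)
    (h : ∀ i j, (if i = j then (1 : F) else 0) + c * (a i * b j) = μ * (A i j : F)) : μ ∈ F₀ := by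
  have hA : ∀ i j, (A i j : F) = μ⁻¹ * ((if i = j then 1 else 0) + c * (a i * b j)) := by
    intro i j
    rw [h]
    field_simp
  suffices hl : μ⁻¹ ∈ F₀ by simpa using F₀.inv_mem hl
  by_cases hoff : ∃ i j, i ≠ j ∧ a i * b j ≠ 0
  · obtain ⟨i, j, hij, hne⟩ := hoff
    obtain ⟨l, hli, hlj⟩ : ∃ l, l ≠ i ∧ l ≠ j := by
      have hlt : ({i, j} : Finset (Fin n)).card < (Finset.univ : Finset (Fin n)).card := by
        calc ({i, j} : Finset (Fin n)).card ≤ 2 := Finset.card_le_two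
          _ < n := hn
          _ = _ := by simp
      obtain ⟨l, -, hl⟩ := Finset.exists_mem_notMem_of_card_lt_card hlt
      simp only [Finset.mem_insert, Finset.mem_singleton, not_or] at hl
      exact ⟨l, hl.1, hl.2⟩
    have hAij : (A i j : F) ≠ 0 := by
      rw [hA, if_neg hij, zero_add]
      exact mul_ne_zero (inv_ne_zero hμ) (mul_ne_zero hc hne)
    have hai : a i ≠ 0 := left_ne_zero_of_mul hne
    have hbj : b j ≠ 0 := right_ne_zero_of_mul hne
    have : μ⁻¹ = (A l l : F) - (A l j : F) * (A i l : F) / (A i j : F) := by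
      rw [hA l l, hA l j, hA i l, hA i j, if_pos rfl, if_neg hlj, if_neg (Ne.symm hli), if_neg hij]
      field_simp
      ring
    rw [this]
    exact F₀.sub_mem (SetLike.coe_mem _)
      (F₀.div_mem (F₀.mul_mem (SetLike.coe_mem _) (SetLike.coe_mem _)) (SetLike.coe_mem _))
  · push Not at hoff
    obtain ⟨i, j, hne⟩ := hM
    have hij : i = j := by
      by_contra h
      exact hne (hoff i j h)
    subst hij
    have hai : a i ≠ 0 := left_ne_zero_of_mul hne
    obtain ⟨l, hli⟩ : ∃ l : Fin n, l ≠ i := by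
      have : Nontrivial (Fin n) := Fin.nontrivial_iff_two_le.2 (by omega)
      exact exists_ne i
    have hbl : b l = 0 := by
      have := hoff i l (Ne.symm hli)
      rcases mul_eq_zero.1 this with h | h
      · exact absurd h hai
      · exact h
    have : μ⁻¹ = (A l l : F) := by
      rw [hA l l, if_pos rfl, hbl]
      ring
    rw [this]
    exact SetLike.coe_mem _

end Cfsg.Agent.Lib.Helper65.BhrsuP5Odd

namespace Cfsg.Agent.Lib.Helper37.BHRSU

open Cfsg Cfsg.Geo Cfsg.Agent.Lib.Helper70.AschU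
open scoped MatrixGroups Matrix Kronecker

variable {F : Type*} [Field F] [Fintype F] {n q : ℕ}

/-- BHRSU-[P5-ODD] -/
theorem not_SUg_le_subfieldSubgroup_odd (hF : Fintype.card F = q ^ 2) (hn : 3 ≤ n) (F₀ : Subfield F) (r : ℕ)
    (hr : r.Prime) (hodd : Odd r) (hcard : Fintype.card F = Nat.card F₀ ^ r) (P : GL (Fin n) F) :
    ¬ SUg n F q ≤ subfieldSubgroup F₀ P := by
  intro hle
  obtain ⟨y, hyq, hyF₀⟩ :=
    Cfsg.Agent.Lib.Helper65.BhrsuP5Odd.exists_fixed_not_mem hF F₀ r hr hodd hcard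
  apply hyF₀
  by_cases hy0 : y = 0
  · rw [hy0]; exact F₀.zero_mem
  obtain ⟨v, hv, hv0⟩ := exists_isotropic (F := F) (n := n) (q := q) hF (by omega)
  obtain ⟨c₀, hc₀, hc₀L⟩ := Cfsg.Agent.Lib.Helper65.BhrsuP3.exists_trace_zero_ne (F := F) (q := q) hF
  have hq : 2 ≤ q := Cfsg.Agent.Lib.Helper13.two_le_of_card_eq_sq hF
  set Pm : Matrix (Fin n) (Fin n) F := (P : Matrix (Fin n) (Fin n) F) with hPm
  set Pi' : Matrix (Fin n) (Fin n) F := ((P⁻¹ : GL (Fin n) F) : Matrix (Fin n) (Fin n) F) with hPi'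
  have hPiP : Pi' * Pm = 1 := by rw [hPi', hPm, ← Units.val_mul, inv_mul_cancel, Units.val_one]
  have hPPi : Pm * Pi' = 1 := by rw [hPi', hPm, ← Units.val_mul, mul_inv_cancel, Units.val_one]
  set w : Fin n → F := fun j => v j ^ q with hw
  set a : Fin n → F := Pi' *ᵥ v with ha
  set b : Fin n → F := w ᵥ* Pm with hb
  have ha0 : a ≠ 0 := by
    intro h
    apply hv
    calc v = (Pm * Pi') *ᵥ v := by rw [hPPi, Matrix.one_mulVec]
      _ = Pm *ᵥ a := by rw [ha, Matrix.mulVec_mulVec]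
      _ = 0 := by rw [h, Matrix.mulVec_zero]
  have hw0 : w ≠ 0 := by
    intro h
    apply hv
    funext i
    have := congrFun h i
    simp only [hw, Pi.zero_apply] at this
    exact pow_eq_zero_iff (by omega) |>.1 this
  have hb0 : b ≠ 0 := by
    intro h
    apply hw0
    calc w = w ᵥ* (Pm * Pi') := by rw [hPPi, Matrix.vecMul_one]
      _ = b ᵥ* Pi' := by rw [hb, Matrix.vecMul_vecMul]
      _ = 0 := by rw [h, Matrix.zero_vecMul]
  have hM : ∃ i j, a i * b j ≠ 0 := by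
    obtain ⟨i, hi⟩ : ∃ i, a i ≠ 0 := by
      by_contra hcon
      push Not at hcon
      exact ha0 (funext hcon)
    obtain ⟨j, hj⟩ : ∃ j, b j ≠ 0 := by
      by_contra hcon
      push Not at hcon
      exact hb0 (funext hcon)
    exact ⟨i, j, mul_ne_zero hi hj⟩
  have key : ∀ c : F, c ≠ 0 → c + c ^ q = 0 → ∀ i j, c * (a i * b j) ∈ F₀ := by
    intro c hc hcL
    obtain ⟨τ, hτ, hτm⟩ := exists_tv hF v hv0 c hcL
    obtain ⟨A, μ, hA⟩ := (Cfsg.Agent.Lib.Helper13.mem_subfieldSubgroup_iff F₀ P τ).1 (hle hτ)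
    have hconj : Pi' * ((τ : Matrix (Fin n) (Fin n) F) * Pm)
        = (μ : F) • (A : Matrix (Fin n) (Fin n) F₀).map F₀.subtype := by
      rw [hA, Matrix.mul_smul, ← Matrix.mul_assoc, hPiP, Matrix.one_mul]
    have hconj2 : Pi' * ((τ : Matrix (Fin n) (Fin n) F) * Pm)
        = 1 + c • Matrix.vecMulVec a b := by
      rw [hτm]
      unfold Cfsg.unitaryTransvection
      rw [Matrix.add_mul, Matrix.one_mul, Matrix.mul_add, hPiP, Matrix.smul_mul, Matrix.mul_smul,
        Matrix.vecMulVec_mul, Matrix.mul_vecMulVec]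
    have hent : ∀ i j, (if i = j then (1 : F) else 0) + c * (a i * b j)
        = (μ : F) * ((A : Matrix (Fin n) (Fin n) F₀) i j : F) := by
      intro i j
      have := congrFun (congrFun (hconj2.symm.trans hconj) i) j
      simpa [Matrix.one_apply, Matrix.vecMulVec_apply] using this
    have hμ := Cfsg.Agent.Lib.Helper65.BhrsuP5Odd.mu_mem hn F₀ a b hM c hc (μ : F) μ.ne_zero
      (A : Matrix (Fin n) (Fin n) F₀) hent
    intro i j
    have h1 : c * (a i * b j)
        = (μ : F) * ((A : Matrix (Fin n) (Fin n) F₀) i j : F) - (if i = j then (1 : F) else 0) := by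
      rw [← hent i j]; ring
    rw [h1]
    refine F₀.sub_mem (F₀.mul_mem hμ (SetLike.coe_mem _)) ?_
    split_ifs
    · exact F₀.one_mem
    · exact F₀.zero_mem
  obtain ⟨i, j, hne⟩ := hM
  have h1 := key c₀ hc₀ hc₀L i j
  have h2 := key (y * c₀) (mul_ne_zero hy0 hc₀)
    (by rw [mul_pow, hyq, ← mul_add, hc₀L, mul_zero]) i j
  have : y = (y * c₀ * (a i * b j)) / (c₀ * (a i * b j)) := by
    rw [eq_div_iff (mul_ne_zero hc₀ hne)]
    ring
  rw [this]
  exact F₀.div_mem h2 h1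

end Cfsg.Agent.Lib.Helper37.BHRSU
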