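import Mathlib
import Cfsg.Prelude

/-!
Burnside's lemma for a conjugation-invariant subset `S` of a finite group:
`#{(x, y) | x ∈ S, xy = yx} = (number of classes meeting S) * |G|`.
-/

set_option autoImplicit false

namespace Cfsg.Agent.Lib.Helper65

section ClassCount

variable {G : Type*} [Group G]

/-- a conjugation-invariant subset as a `SubMulAction` for conjugation -/
def conjInvSubMulAction (S : Set G) (hS : ∀ c x : G, x ∈ S → c * x * c⁻¹ ∈ S) :
    SubMulAction (ConjAct G) G where
  carrier := S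
  smul_mem' := by
    intro c x hx
    show c • x ∈ S
    rw [ConjAct.smul_def]
    exact hS _ x hx

/-- orbits on a conjugation-invariant subset are the classes meeting it -/
noncomputable def orbitsEquivClasses (S : Set G) (hS : ∀ c x : G, x ∈ S → c * x * c⁻¹ ∈ S) :
    Quotient (MulAction.orbitRel (ConjAct G) ↥(conjInvSubMulAction S hS)) ≃
      {C : ConjClasses G // ∃ x ∈ S, ConjClasses.mk x = C} := by
  refine Equiv.ofBijective
    (Quotient.lift (fun x : ↥(conjInvSubMulAction S hS) =>
      (⟨ConjClasses.mk x.1, x.1, x.2, rfl⟩ : {C : ConjClasses G // ∃ x ∈ S, ConjClasses.mk x = C})) ?_)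
    ⟨?_, ?_⟩
  · intro x y hxy
    apply Subtype.ext
    show ConjClasses.mk x.1 = ConjClasses.mk y.1
    rw [ConjClasses.mk_eq_mk_iff_isConj]
    have h1 : x ∈ MulAction.orbit (ConjAct G) y := hxy
    obtain ⟨c, hc⟩ := h1
    have h2 : c • y.1 = x.1 := by
      have := congrArg Subtype.val hc
      simpa using this
    rw [ConjAct.smul_def] at h2
    exact (isConj_iff.mpr ⟨_, h2⟩).symm
  · intro a b
    refine Quotient.inductionOn₂ a b ?_
    intro x y hxy
    have h1 : ConjClasses.mk x.1 = ConjClasses.mk y.1 := congrArg Subtype.val hxy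
    rw [ConjClasses.mk_eq_mk_iff_isConj, isConj_iff] at h1
    obtain ⟨c, hc⟩ := h1
    apply Quotient.sound
    show x ∈ MulAction.orbit (ConjAct G) y
    refine ⟨ConjAct.toConjAct c⁻¹, ?_⟩
    apply Subtype.ext
    show ConjAct.toConjAct c⁻¹ • y.1 = x.1
    rw [ConjAct.smul_def, ConjAct.ofConjAct_toConjAct, ← hc]
    group
  · rintro ⟨C, x, hx, rfl⟩
    exact ⟨Quotient.mk _ ⟨x, hx⟩, rfl⟩

/-- **Burnside's lemma on a conjugation-invariant subset**: the number of commuting pairs `(x, y)` with
`x ∈ S` is `(number of classes meeting S) * |G|`. -/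
theorem card_commPairs_of_conjInvariant [Finite G] (S : Set G)
    (hS : ∀ c x : G, x ∈ S → c * x * c⁻¹ ∈ S) :
    Nat.card {p : G × G // p.1 ∈ S ∧ Commute p.1 p.2} =
      Nat.card {C : ConjClasses G // ∃ x ∈ S, ConjClasses.mk x = C} * Nat.card G := by
  classical
  have e1 : {p : G × G // p.1 ∈ S ∧ Commute p.1 p.2} ≃
      (Σ a : ConjAct G, MulAction.fixedBy ↥(conjInvSubMulAction S hS) a) :=
    { toFun := fun p => ⟨ConjAct.toConjAct p.1.2, ⟨⟨p.1.1, p.2.1⟩, by
        rw [MulAction.mem_fixedBy]
        apply Subtype.ext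
        show ConjAct.toConjAct p.1.2 • p.1.1 = p.1.1
        rw [ConjAct.smul_def, ConjAct.ofConjAct_toConjAct, ← p.2.2.eq]
        group⟩⟩
      invFun := fun s => ⟨(s.2.1.1, ConjAct.ofConjAct s.1), s.2.1.2, by
        have h1 := s.2.2
        rw [MulAction.mem_fixedBy] at h1
        have h2 : s.1 • s.2.1.1 = s.2.1.1 := congrArg Subtype.val h1
        rw [ConjAct.smul_def] at h2
        show s.2.1.1 * ConjAct.ofConjAct s.1 = ConjAct.ofConjAct s.1 * s.2.1.1
        rw [mul_inv_eq_iff_eq_mul] at h2
        exact h2.symm⟩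
      left_inv := fun p => rfl
      right_inv := fun s => rfl }
  rw [Nat.card_congr e1,
    Nat.card_congr (MulAction.sigmaFixedByEquivOrbitsProdGroup (ConjAct G)
      ↥(conjInvSubMulAction S hS)),
    Nat.card_prod, Nat.card_congr (orbitsEquivClasses S hS)]
  rfl

end ClassCount

end Cfsg.Agent.Lib.Helper65
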