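/-
helper65: project DSQW (S5248), modules DSQW-[W-ASTR]: the automorphisms of the homocyclic subgroup
`A = ⟨x, y⟩ ≃ C_{2^n} × C_{2^n}` of a wreathed 2-group: `wrA_move`, `wrA_rigid`.

Abstract part: `Tri B a b c` = a commutative finite 2-group with exactly three involutions; an automorphism of odd
order `≠ 1` permutes them cyclically; the automorphisms fixing them form a normal 2-subgroup `fixN`.
-/
import Mathlib
import Cfsg.Agent.Lib.Helper84.DSQW.Defs
import Cfsg.Agent.Lib.Helper38.WreathedInv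
import Cfsg.Agent.Lib.Helper38.WreathedMore
import Cfsg.Agent.Lib.Helper98.OddAutTwoGroups

set_option autoImplicit false

namespace Cfsg.Agent.Lib.Helper65.DSQWWrA

open Cfsg Cfsg.FusionSystem Cfsg.Agent.Lib.Helper84.DSQW Cfsg.Agent.Lib.Helper38

/-! ### abstract part -/

/-- A commutative finite 2-group with exactly three involutions `a`, `b`, `c = a * b`. -/
structure Tri (B : Type*) [Group B] (a b c : B) : Prop where
  comm : ∀ s t : B, s * t = t * s
  two : ∀ s : B, ∃ k : ℕ, s ^ 2 ^ k = 1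
  fin : Finite B
  a1 : a ≠ 1
  b1 : b ≠ 1
  ab : a ≠ b
  aa : a * a = 1
  bb : b * b = 1
  c_eq : c = a * b
  inv : ∀ t : B, t * t = 1 → t = 1 ∨ t = a ∨ t = b ∨ t = c

theorem pow_swap {B : Type*} [Group B] (α : MulAut B) {s t : B} (hs : α s = t) (ht : α t = s)
    {m : ℕ} (hm : Odd m) : (α ^ m) s = t := by
  obtain ⟨k, rfl⟩ := hm
  have h2 : (α ^ 2) t = t := by rw [pow_two, MulAut.mul_apply, ht, hs]
  have h3 := Cfsg.Agent.Lib.Helper98.OddAut.pow_apply_of_fixed (α ^ 2) t h2 k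
  rw [pow_succ, MulAut.mul_apply, hs, pow_mul]
  exact h3

/-- the automorphisms fixing `a` and `b` -/
def fixN {B : Type*} [Group B] (a b : B) : Subgroup (MulAut B) where
  carrier := {α | α a = a ∧ α b = b}
  one_mem' := ⟨rfl, rfl⟩
  mul_mem' := by
    rintro α β ⟨h1, h2⟩ ⟨h3, h4⟩
    exact ⟨by rw [MulAut.mul_apply, h3, h1], by rw [MulAut.mul_apply, h4, h2]⟩
  inv_mem' := by
    rintro α ⟨h1, h2⟩
    refine ⟨?_, ?_⟩
    · conv_lhs => rw [← h1]
      exact MulAut.inv_apply_self _ _ _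
    · conv_lhs => rw [← h2]
      exact MulAut.inv_apply_self _ _ _

theorem mem_fixN {B : Type*} [Group B] {a b : B} {α : MulAut B} :
    α ∈ fixN a b ↔ α a = a ∧ α b = b := Iff.rfl

namespace Tri

variable {B : Type*} [Group B] {a b c : B}

theorem cc (T : Tri B a b c) : c * c = 1 := by
  rw [T.c_eq]
  calc a * b * (a * b) = a * (b * a) * b := by group
    _ = a * (a * b) * b := by rw [T.comm b a]
    _ = (a * a) * (b * b) := by group
    _ = 1 := by rw [T.aa, T.bb, one_mul]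

theorem b_inv (T : Tri B a b c) : b⁻¹ = b := inv_eq_of_mul_eq_one_left T.bb

theorem c1 (T : Tri B a b c) : c ≠ 1 := by
  intro h
  rw [T.c_eq] at h
  have h1 : a = b⁻¹ := eq_inv_of_mul_eq_one_left h
  rw [T.b_inv] at h1
  exact T.ab h1

theorem ca (T : Tri B a b c) : c ≠ a := by
  intro h
  rw [T.c_eq] at h
  apply T.b1
  have : a * b = a * 1 := by rw [mul_one]; exact h
  exact mul_left_cancel this

theorem cb (T : Tri B a b c) : c ≠ b := by
  intro h
  rw [T.c_eq] at h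
  apply T.a1
  have : a * b = 1 * b := by rw [one_mul]; exact h
  exact mul_right_cancel this

theorem a_mul_c (T : Tri B a b c) : a * c = b := by rw [T.c_eq, ← mul_assoc, T.aa, one_mul]

theorem c_mul_b (T : Tri B a b c) : c * b = a := by rw [T.c_eq, mul_assoc, T.bb, mul_one]

theorem b_mul_c (T : Tri B a b c) : b * c = a := by rw [T.comm b c]; exact T.c_mul_b

theorem c_mul_a (T : Tri B a b c) : c * a = b := by rw [T.comm c a]; exact T.a_mul_c

theorem b_mul_a (T : Tri B a b c) : b * a = c := by rw [T.comm b a, ← T.c_eq]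

theorem map_mem (T : Tri B a b c) (α : MulAut B) {t : B} (ht : t * t = 1) (ht1 : t ≠ 1) :
    α t = a ∨ α t = b ∨ α t = c := by
  have h1 : α t * α t = 1 := by rw [← map_mul, ht, map_one]
  have h2 : α t ≠ 1 := fun h => ht1 (by
    have := α.injective (h.trans (map_one α).symm)
    exact this)
  rcases T.inv _ h1 with h | h | h | h
  · exact absurd h h2
  · exact Or.inl h
  · exact Or.inr (Or.inl h)
  · exact Or.inr (Or.inr h)

theorem map_c (T : Tri B a b c) (α : MulAut B) : α c = α a * α b := by rw [T.c_eq, map_mul]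

/-- an automorphism permutes the three involutions -/
theorem cases6 (T : Tri B a b c) (α : MulAut B) :
    (α a = a ∧ α b = b ∧ α c = c) ∨ (α a = b ∧ α b = a ∧ α c = c) ∨
    (α a = a ∧ α b = c ∧ α c = b) ∨ (α a = c ∧ α b = b ∧ α c = a) ∨
    (α a = b ∧ α b = c ∧ α c = a) ∨ (α a = c ∧ α b = a ∧ α c = b) := by
  have hc := T.map_c α
  have hinj : α a ≠ α b := fun h => T.ab (α.injective h)
  rcases T.map_mem α T.aa T.a1 with ha | ha | ha <;>
    rcases T.map_mem α T.bb T.b1 with hb | hb | hb <;> rw [ha, hb] at hc hinj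
  · exact absurd rfl hinj
  · rw [← T.c_eq] at hc; exact Or.inl ⟨ha, hb, hc⟩
  · rw [T.a_mul_c] at hc; exact Or.inr (Or.inr (Or.inl ⟨ha, hb, hc⟩))
  · rw [T.b_mul_a] at hc; exact Or.inr (Or.inl ⟨ha, hb, hc⟩)
  · exact absurd rfl hinj
  · rw [T.b_mul_c] at hc; exact Or.inr (Or.inr (Or.inr (Or.inr (Or.inl ⟨ha, hb, hc⟩))))
  · rw [T.c_mul_a] at hc; exact Or.inr (Or.inr (Or.inr (Or.inr (Or.inr ⟨ha, hb, hc⟩))))
  · rw [T.c_mul_b] at hc; exact Or.inr (Or.inr (Or.inr (Or.inl ⟨ha, hb, hc⟩)))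
  · exact absurd rfl hinj

/-- an automorphism `≠ 1` of odd order permutes the three involutions cyclically -/
theorem three_cycle (T : Tri B a b c) (α : MulAut B) {m : ℕ} (hm : Odd m) (hαm : α ^ m = 1)
    (hα : α ≠ 1) : (α a = b ∧ α b = c ∧ α c = a) ∨ (α a = c ∧ α b = a ∧ α c = b) := by
  rcases T.cases6 α with h | h | h | h | h | h
  · exfalso
    apply hα
    have hinv : ∀ t ∈ (⊤ : Subgroup B), t * t = 1 → α t = t := by
      intro t _ ht
      rcases T.inv t ht with h1 | h1 | h1 | h1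
      · rw [h1, map_one]
      · rw [h1]; exact h.1
      · rw [h1]; exact h.2.1
      · rw [h1]; exact h.2.2
    have key := Cfsg.Agent.Lib.Helper98.OddAut.fixes_of_fixes_involutions α m hm hαm ⊤
      (fun s _ t _ => T.comm s t) (fun _ _ => Subgroup.mem_top _) hinv
    ext s
    obtain ⟨k, hk⟩ := T.two s
    exact key k s (Subgroup.mem_top _) hk
  · exfalso
    have := pow_swap α h.1 h.2.1 hm
    rw [hαm] at this
    exact T.ab this
  · exfalso
    have := pow_swap α h.2.1 h.2.2 hm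
    rw [hαm] at this
    exact T.cb this.symm
  · exfalso
    have := pow_swap α h.1 h.2.2 hm
    rw [hαm] at this
    exact T.ca this.symm
  · exact Or.inl h
  · exact Or.inr h

theorem cycle_sq {σ : MulAut B} (h : σ a = c ∧ σ b = a ∧ σ c = b) :
    (σ ^ 2) a = b ∧ (σ ^ 2) b = c ∧ (σ ^ 2) c = a := by
  refine ⟨?_, ?_, ?_⟩
  · rw [pow_two, MulAut.mul_apply, h.1, h.2.2]
  · rw [pow_two, MulAut.mul_apply, h.2.1, h.1]
  · rw [pow_two, MulAut.mul_apply, h.2.2, h.2.1]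

theorem fixN_fix (T : Tri B a b c) {β : MulAut B} (hβ : β ∈ fixN a b) {t : B} (ht : t * t = 1) :
    β t = t := by
  rcases T.inv t ht with h1 | h1 | h1 | h1
  · rw [h1, map_one]
  · rw [h1]; exact hβ.1
  · rw [h1]; exact hβ.2
  · rw [h1, T.c_eq, map_mul, hβ.1, hβ.2]

theorem fixN_normal (T : Tri B a b c) : (fixN a b).Normal := by
  constructor
  intro β hβ γ
  have key : ∀ t : B, t * t = 1 → (γ * β * γ⁻¹) t = t := by
    intro t ht
    have h1 : (γ⁻¹ t) * (γ⁻¹ t) = 1 := by rw [← map_mul, ht, map_one]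
    rw [MulAut.mul_apply, MulAut.mul_apply, T.fixN_fix hβ h1, MulAut.apply_inv_self]
  exact ⟨key a T.aa, key b T.bb⟩

theorem fixN_isPGroup (T : Tri B a b c) : IsPGroup 2 (fixN a b) := by
  have := T.fin
  rintro ⟨β, hβ⟩
  obtain ⟨k, m, hm, hkm⟩ := Nat.exists_eq_two_pow_mul_odd (orderOf_pos β).ne'
  refine ⟨k, ?_⟩
  have hγm : (β ^ 2 ^ k) ^ m = 1 := by rw [← pow_mul, ← hkm, pow_orderOf_eq_one]
  have hγN : β ^ 2 ^ k ∈ fixN a b := (fixN a b).pow_mem hβ _
  have h1 : β ^ 2 ^ k = 1 := by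
    by_contra hne
    rcases T.three_cycle _ hm hγm hne with h | h
    · exact T.ab (hγN.1.symm.trans h.1)
    · exact T.ca (h.1.symm.trans hγN.1)
  apply Subtype.ext
  rw [Subgroup.coe_pow]
  exact h1

/-- under the Sylow hypothesis the normal 2-subgroup `fixN` meets `K` trivially -/
theorem fixN_inf (T : Tri B a b c) (τ : MulAut B) (hτ : τ a = b) (U K : Subgroup (MulAut B))
    (hU : ∀ u ∈ U, u = 1 ∨ u = τ) (hs : ∃ R : Sylow 2 K, (R : Subgroup K) = U.subgroupOf K) :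
    ∀ β ∈ K, β ∈ fixN a b → β = 1 := by
  obtain ⟨R, hR⟩ := hs
  intro β hβK hβN
  have := T.fixN_normal
  have hN' : IsPGroup 2 ((fixN a b).subgroupOf K) := T.fixN_isPGroup.comap_subtype
  have hsup : IsPGroup 2 ((R : Subgroup K) ⊔ (fixN a b).subgroupOf K : Subgroup K) :=
    IsPGroup.to_sup_of_normal_right R.isPGroup' hN'
  have hmax := R.is_maximal' hsup le_sup_left
  have hβR : (⟨β, hβK⟩ : K) ∈ (R : Subgroup K) := by
    rw [← hmax]
    exact Subgroup.mem_sup_right (Subgroup.mem_subgroupOf.mpr hβN)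
  rw [hR, Subgroup.mem_subgroupOf] at hβR
  rcases hU β hβR with h | h
  · exact h
  · exfalso
    rw [h] at hβN
    exact T.ab (hβN.1.symm.trans hτ)

/-- a subgroup of automorphisms which is not a 2-group contains a cyclic permutation of the involutions -/
theorem exists_cycle (T : Tri B a b c) (K : Subgroup (MulAut B)) (hK : ¬ IsPGroup 2 K) :
    ∃ σ ∈ K, σ a = b ∧ σ b = c ∧ σ c = a := by
  have := T.fin
  unfold IsPGroup at hK
  push Not at hK
  obtain ⟨⟨g, hgK⟩, hg⟩ := hK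
  obtain ⟨k, m, hm, hkm⟩ := Nat.exists_eq_two_pow_mul_odd (orderOf_pos g).ne'
  have hγm : (g ^ 2 ^ k) ^ m = 1 := by rw [← pow_mul, ← hkm, pow_orderOf_eq_one]
  have hne : g ^ 2 ^ k ≠ 1 := by
    intro h
    apply hg k
    apply Subtype.ext
    rw [Subgroup.coe_pow]
    exact h
  rcases T.three_cycle _ hm hγm hne with h | h
  · exact ⟨g ^ 2 ^ k, K.pow_mem hgK _, h⟩
  · exact ⟨(g ^ 2 ^ k) ^ 2, K.pow_mem (K.pow_mem hgK _) _, cycle_sq h⟩

theorem exists_move (T : Tri B a b c) (K : Subgroup (MulAut B)) (hK : ¬ IsPGroup 2 K) :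
    ∃ α ∈ K, α a = c := by
  obtain ⟨σ, hσK, h⟩ := T.exists_cycle K hK
  refine ⟨σ ^ 2, K.pow_mem hσK _, ?_⟩
  rw [pow_two, MulAut.mul_apply, h.1, h.2.1]

theorem tau_c (T : Tri B a b c) {τ : MulAut B} (hτa : τ a = b) (hτb : τ b = a) : τ c = c := by
  rw [T.map_c, hτa, hτb, T.b_mul_a]

/-- `K₁` is generated by `τ` and `σ` -/
theorem le_of_cycle (T : Tri B a b c) (τ σ : MulAut B) (hτa : τ a = b) (hτb : τ b = a)
    (hσ : σ a = b ∧ σ b = c ∧ σ c = a) (K₁ K₂ : Subgroup (MulAut B))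
    (hN : ∀ β ∈ K₁, β ∈ fixN a b → β = 1) (hτ₁ : τ ∈ K₁) (hσ₁ : σ ∈ K₁) (hτ₂ : τ ∈ K₂)
    (hσ₂ : σ ∈ K₂) : K₁ ≤ K₂ := by
  intro k hk
  have hτc : τ c = c := T.tau_c hτa hτb
  have key : ∀ l : MulAut B, l ∈ K₁ → l ∈ K₂ → l a = k a → l b = k b → k ∈ K₂ := by
    intro l hl1 hl2 ha hb
    have h1 : l⁻¹ * k = 1 := hN _ (K₁.mul_mem (K₁.inv_mem hl1) hk)
      ⟨by rw [MulAut.mul_apply, ← ha, MulAut.inv_apply_self],
        by rw [MulAut.mul_apply, ← hb, MulAut.inv_apply_self]⟩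
    have h2 : k = l := by
      rw [inv_mul_eq_one] at h1
      exact h1.symm
    rw [h2]
    exact hl2
  rcases T.cases6 k with h | h | h | h | h | h
  · exact key 1 K₁.one_mem K₂.one_mem (by rw [h.1]; rfl) (by rw [h.2.1]; rfl)
  · exact key τ hτ₁ hτ₂ (by rw [h.1, hτa]) (by rw [h.2.1, hτb])
  · exact key (τ * σ) (K₁.mul_mem hτ₁ hσ₁) (K₂.mul_mem hτ₂ hσ₂)
      (by rw [MulAut.mul_apply, hσ.1, hτb, h.1]) (by rw [MulAut.mul_apply, hσ.2.1, hτc, h.2.1])
  · exact key (τ * σ * σ) (K₁.mul_mem (K₁.mul_mem hτ₁ hσ₁) hσ₁) (K₂.mul_mem (K₂.mul_mem hτ₂ hσ₂) hσ₂)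
      (by rw [MulAut.mul_apply, MulAut.mul_apply, hσ.1, hσ.2.1, hτc, h.1])
      (by rw [MulAut.mul_apply, MulAut.mul_apply, hσ.2.1, hσ.2.2, hτa, h.2.1])
  · exact key σ hσ₁ hσ₂ (by rw [hσ.1, h.1]) (by rw [hσ.2.1, h.2.1])
  · exact key (σ * σ) (K₁.mul_mem hσ₁ hσ₁) (K₂.mul_mem hσ₂ hσ₂)
      (by rw [MulAut.mul_apply, hσ.1, hσ.2.1, h.1]) (by rw [MulAut.mul_apply, hσ.2.1, hσ.2.2, h.2.1])

end Tri

/-! ### the subgroup `A` of a wreathed 2-group -/

section Concrete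

variable {X : Type*} [Group X] {x y z : X} {n : ℕ}

/-- `x^(2^(n-1))` as an element of `A` -/
def x0 (h : IsWr x y z n) : h.A := ⟨al x y ((2 ^ (n - 1) : ℕ) : ℤ) 0, h.al_mem_A _ _⟩

/-- `y^(2^(n-1))` as an element of `A` -/
def y0 (h : IsWr x y z n) : h.A := ⟨al x y 0 ((2 ^ (n - 1) : ℕ) : ℤ), h.al_mem_A _ _⟩

/-- `(x*y)^(2^(n-1))` as an element of `A` -/
def z0 (h : IsWr x y z n) : h.A :=
  ⟨al x y ((2 ^ (n - 1) : ℕ) : ℤ) ((2 ^ (n - 1) : ℕ) : ℤ), h.al_mem_A _ _⟩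

/-- `x * y` as an element of `A` -/
def w0 (h : IsWr x y z n) : h.A := ⟨al x y 1 1, h.al_mem_A _ _⟩

theorem x0_coe (h : IsWr x y z n) : ((x0 h : h.A) : X) = x ^ 2 ^ (n - 1) := by
  change al x y _ 0 = _
  unfold al
  rw [zpow_zero, mul_one, zpow_natCast]

theorem z0_coe (h : IsWr x y z n) : ((z0 h : h.A) : X) = (x * y) ^ 2 ^ (n - 1) := by
  change al x y _ _ = _
  rw [IsWr.xy_eq, h.al_pow, one_mul]

theorem w0_coe (h : IsWr x y z n) : ((w0 h : h.A) : X) = x * y := by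
  change al x y 1 1 = _
  rw [IsWr.xy_eq]

theorem tri (h : IsWr x y z n) : Tri h.A (x0 h) (y0 h) (z0 h) := by
  have hfin := h.finite
  refine ⟨fun s t => Subtype.ext (h.A_comm s.2 t.2), fun s => ⟨2 * n, ?_⟩, inferInstance,
    ?_, ?_, ?_, ?_, ?_, ?_, ?_⟩
  · rw [← h.card_A]; exact pow_card_eq_one'
  · intro h1
    have h2 := congrArg Subtype.val h1
    change al x y _ 0 = 1 at h2
    rw [h.al_eq_one_iff] at h2
    exact h.not_N_dvd_M h2.1
  · intro h1
    have h2 := congrArg Subtype.val h1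
    change al x y 0 _ = 1 at h2
    rw [h.al_eq_one_iff] at h2
    exact h.not_N_dvd_M h2.2
  · intro h1
    have h2 := congrArg Subtype.val h1
    change al x y _ 0 = al x y 0 _ at h2
    rw [h.al_eq_al_iff, sub_zero] at h2
    exact h.not_N_dvd_M h2.1
  · apply Subtype.ext
    change al x y _ 0 * al x y _ 0 = 1
    rw [h.al_mul_al, h.al_eq_one_iff]
    refine ⟨?_, by simp⟩
    rw [h.N_eq]
    exact ⟨1, by ring⟩
  · apply Subtype.ext
    change al x y 0 _ * al x y 0 _ = 1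
    rw [h.al_mul_al, h.al_eq_one_iff]
    refine ⟨by simp, ?_⟩
    rw [h.N_eq]
    exact ⟨1, by ring⟩
  · apply Subtype.ext
    change al x y _ _ = al x y _ 0 * al x y 0 _
    rw [h.al_mul_al, add_zero, zero_add]
  · rintro ⟨t, ht⟩ htt
    obtain ⟨i, j, rfl⟩ := (h.mem_A t).mp ht
    have h1 := congrArg Subtype.val htt
    change al x y i j * al x y i j = 1 at h1
    rw [h.al_mul_al, h.al_eq_one_iff] at h1
    have hi : ((2 ^ (n - 1) : ℕ) : ℤ) ∣ i :=
      (h.N_dvd_two_mul_iff i).mp (by rw [two_mul]; exact h1.1)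
    have hj : ((2 ^ (n - 1) : ℕ) : ℤ) ∣ j :=
      (h.N_dvd_two_mul_iff j).mp (by rw [two_mul]; exact h1.2)
    rcases h.dvd_or_dvd_sub hi with hi' | hi' <;> rcases h.dvd_or_dvd_sub hj with hj' | hj'
    · left
      apply Subtype.ext
      change al x y i j = 1
      rw [h.al_eq_one_iff]
      exact ⟨hi', hj'⟩
    · right; right; left
      apply Subtype.ext
      change al x y i j = al x y 0 _
      rw [h.al_eq_al_iff]
      exact ⟨by simpa using hi', hj'⟩
    · right; left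
      apply Subtype.ext
      change al x y i j = al x y _ 0
      rw [h.al_eq_al_iff]
      exact ⟨hi', by simpa using hj'⟩
    · right; right; right
      apply Subtype.ext
      change al x y i j = al x y _ _
      rw [h.al_eq_al_iff]
      exact ⟨hi', hj'⟩

/-- conjugation by `z` on `A` -/
noncomputable def tau (h : IsWr x y z n) : MulAut h.A :=
  haveI := h.A_normal
  MulAut.conjNormal z

theorem tau_coe (h : IsWr x y z n) (s : h.A) : ((tau h s : h.A) : X) = z * s * z⁻¹ := by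
  have := h.A_normal
  exact MulAut.conjNormal_apply z s

theorem conj_z_al (h : IsWr x y z n) (i j : ℤ) : z * al x y i j * z⁻¹ = al x y j i := by
  have := h.conj_al_by_alz 0 0 i j
  rwa [IsWr.al_zero_zero, one_mul] at this

theorem tau_x0 (h : IsWr x y z n) : tau h (x0 h) = y0 h := by
  apply Subtype.ext
  rw [tau_coe]
  exact conj_z_al h _ _

theorem tau_y0 (h : IsWr x y z n) : tau h (y0 h) = x0 h := by
  apply Subtype.ext
  rw [tau_coe]
  exact conj_z_al h _ _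

theorem tau_w0 (h : IsWr x y z n) : tau h (w0 h) = w0 h := by
  apply Subtype.ext
  rw [tau_coe]
  exact conj_z_al h _ _

theorem tau_mul_tau (h : IsWr x y z n) : tau h * tau h = 1 := by
  refine MulEquiv.ext fun s => Subtype.ext ?_
  rw [MulAut.mul_apply, MulAut.one_apply, tau_coe, tau_coe, h.z_inv]
  calc z * (z * (s : X) * z) * z = (z * z) * s * (z * z) := by group
    _ = s := by rw [h.z_mul_z, one_mul, mul_one]

theorem tau_mem (h : IsWr x y z n) : tau h ∈ autInducedBy ⊤ h.A :=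
  Subgroup.subset_closure ⟨z, Subgroup.mem_top z, fun s => tau_coe h s⟩

/-- the automorphisms of `A` induced by `X` are `1` and the conjugation by `z` -/
theorem mem_autInduced (h : IsWr x y z n) : ∀ u ∈ autInducedBy ⊤ h.A, u = 1 ∨ u = tau h := by
  intro u hu
  unfold autInducedBy at hu
  induction hu using Subgroup.closure_induction with
  | mem α hα =>
    obtain ⟨g, -, hg⟩ := hα
    by_cases hgA : g ∈ h.A
    · left
      refine MulEquiv.ext fun s => Subtype.ext ?_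
      rw [hg s, MulAut.one_apply, h.A_comm hgA s.2, mul_inv_cancel_right]
    · right
      obtain ⟨i, j, rfl⟩ := h.notMem_A hgA
      refine MulEquiv.ext fun s => Subtype.ext ?_
      obtain ⟨k, l, hs⟩ := (h.mem_A _).mp s.2
      rw [hg s, tau_coe, hs, h.conj_al_by_alz, conj_z_al h]
  | one => exact Or.inl rfl
  | mul α β _ _ ha hb =>
    rcases ha with rfl | rfl <;> rcases hb with rfl | rfl
    · left; rw [mul_one]
    · right; rw [one_mul]
    · right; rw [mul_one]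
    · left; exact tau_mul_tau h
  | inv α _ ha =>
    rcases ha with rfl | rfl
    · left; rw [inv_one]
    · right; exact inv_eq_of_mul_eq_one_left (tau_mul_tau h)

/-- **DSQW-[W-ASTR]**, first half. -/
theorem wrA_move (h : IsWr x y z n) (K : Subgroup (MulAut h.A)) (hK : ¬ IsPGroup 2 K) :
    ∃ α ∈ K, ∃ u : h.A, (u : X) = x ^ 2 ^ (n - 1) ∧ ((α u : h.A) : X) = (x * y) ^ 2 ^ (n - 1) := by
  obtain ⟨α, hαK, hα⟩ := (tri h).exists_move K hK
  exact ⟨α, hαK, x0 h, x0_coe h, by rw [hα]; exact z0_coe h⟩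

/-- **DSQW-[W-ASTR]**, second half. -/
theorem wrA_rigid (h : IsWr x y z n) (K₁ K₂ : Subgroup (MulAut h.A))
    (h₁ : autInducedBy ⊤ h.A ≤ K₁) (h₂ : autInducedBy ⊤ h.A ≤ K₂)
    (hs₁ : ∃ R : Sylow 2 K₁, (R : Subgroup K₁) = (autInducedBy ⊤ h.A).subgroupOf K₁)
    (hs₂ : ∃ R : Sylow 2 K₂, (R : Subgroup K₂) = (autInducedBy ⊤ h.A).subgroupOf K₂)
    (σ : MulAut h.A) (hσ₁ : σ ∈ K₁) (hσ₂ : σ ∈ K₂) (hσ : orderOf σ = 3) : K₁ = K₂ := by
  have T := tri h
  have hτa := tau_x0 h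
  have hτb := tau_y0 h
  have hσ3 : σ ^ 3 = 1 := by rw [← hσ]; exact pow_orderOf_eq_one σ
  have hσ1 : σ ≠ 1 := by
    intro h1
    rw [h1, orderOf_one] at hσ
    omega
  obtain ⟨ρ, hρ₁, hρ₂, hρ⟩ : ∃ ρ : MulAut h.A, ρ ∈ K₁ ∧ ρ ∈ K₂ ∧
      (ρ (x0 h) = y0 h ∧ ρ (y0 h) = z0 h ∧ ρ (z0 h) = x0 h) := by
    rcases T.three_cycle σ (⟨1, by norm_num⟩ : Odd 3) hσ3 hσ1 with h' | h'
    · exact ⟨σ, hσ₁, hσ₂, h'⟩
    · exact ⟨σ ^ 2, K₁.pow_mem hσ₁ _, K₂.pow_mem hσ₂ _, Tri.cycle_sq h'⟩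
  have hN₁ := T.fixN_inf (tau h) hτa _ K₁ (mem_autInduced h) hs₁
  have hN₂ := T.fixN_inf (tau h) hτa _ K₂ (mem_autInduced h) hs₂
  exact le_antisymm
    (T.le_of_cycle (tau h) ρ hτa hτb hρ K₁ K₂ hN₁ (h₁ (tau_mem h)) hρ₁ (h₂ (tau_mem h)) hρ₂)
    (T.le_of_cycle (tau h) ρ hτa hτb hρ K₂ K₁ hN₂ (h₂ (tau_mem h)) hρ₂ (h₁ (tau_mem h)) hρ₁)

end Concrete

end Cfsg.Agent.Lib.Helper65.DSQWWrA
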