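/-
helper65: project DSQW (S5248), module DSQW-[W-NORM]: normal form of a subgroup `K ≃ S₃` of automorphisms of the
homocyclic subgroup `A` of a wreathed 2-group: `wr_norm`.
-/
import Mathlib
import Cfsg.Agent.Lib.Helper84.DSQW.Defs
import Cfsg.Agent.Lib.Helper38.WreathedInv
import Cfsg.Agent.Lib.Helper38.WreathedMore
import Cfsg.Agent.Lib.Helper65.DSQWWrA

set_option autoImplicit false

namespace Cfsg.Agent.Lib.Helper65.DSQWWrA

open Cfsg Cfsg.FusionSystem Cfsg.Agent.Lib.Helper84.DSQW Cfsg.Agent.Lib.Helper38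

namespace Tri

variable {B : Type*} [Group B] {a b c : B}

theorem cube_eq_one (σ : MulAut B) (K : Subgroup (MulAut B))
    (hN : ∀ β ∈ K, β ∈ fixN a b → β = 1) (hσK : σ ∈ K) (hσ : σ a = b ∧ σ b = c ∧ σ c = a) :
    σ ^ 3 = 1 := by
  apply hN _ (K.pow_mem hσK 3)
  constructor
  · rw [pow_succ, pow_two, MulAut.mul_apply, MulAut.mul_apply, hσ.1, hσ.2.1, hσ.2.2]
  · rw [pow_succ, pow_two, MulAut.mul_apply, MulAut.mul_apply, hσ.2.1, hσ.2.2, hσ.1]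

theorem apply3 {σ : MulAut B} (h3 : σ ^ 3 = 1) (s : B) : σ (σ (σ s)) = s := by
  have h : (σ ^ 3) s = s := by rw [h3]; rfl
  rwa [pow_succ, pow_two, MulAut.mul_apply, MulAut.mul_apply] at h

/-- a cyclic permutation of the involutions has no fixed point `≠ 1` -/
theorem eq_one_of_fixed (T : Tri B a b c) (σ : MulAut B) (hσ : σ a = b ∧ σ b = c ∧ σ c = a) {s : B}
    (hs : σ s = s) : s = 1 := by
  by_contra hne
  classical
  have hex := T.two s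
  obtain ⟨k, hk1, hmin⟩ : ∃ k, s ^ 2 ^ k = 1 ∧ ∀ j < k, s ^ 2 ^ j ≠ 1 :=
    ⟨Nat.find hex, Nat.find_spec hex, fun j hj => Nat.find_min hex hj⟩
  have hk0 : k ≠ 0 := by
    intro h0
    rw [h0, pow_zero, pow_one] at hk1
    exact hne hk1
  obtain ⟨k', rfl⟩ := Nat.exists_eq_succ_of_ne_zero hk0
  have ht1 : s ^ 2 ^ k' ≠ 1 := hmin k' (Nat.lt_succ_self k')
  have htt : s ^ 2 ^ k' * s ^ 2 ^ k' = 1 := by
    rw [← pow_two, ← pow_mul, ← pow_succ]
    exact hk1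
  have hσt : σ (s ^ 2 ^ k') = s ^ 2 ^ k' := by rw [map_pow, hs]
  rcases T.inv _ htt with h1 | h1 | h1 | h1
  · exact ht1 h1
  · rw [h1, hσ.1] at hσt
    exact T.ab hσt.symm
  · rw [h1, hσ.2.1] at hσt
    exact T.cb hσt
  · rw [h1, hσ.2.2] at hσt
    exact T.ca hσt.symm

theorem mul_mul_eq_one (T : Tri B a b c) (σ : MulAut B) (hσ : σ a = b ∧ σ b = c ∧ σ c = a)
    (h3 : σ ^ 3 = 1) (s : B) : s * σ s * σ (σ s) = 1 := by
  apply T.eq_one_of_fixed σ hσ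
  rw [map_mul, map_mul, apply3 h3 s, T.comm (σ s * σ (σ s)) s, mul_assoc]

/-- the abstract core of `wr_norm` -/
theorem norm_core (T : Tri B a b c) (τ σ : MulAut B) (hτa : τ a = b) (hτb : τ b = a)
    (hττ : τ * τ = 1) (K : Subgroup (MulAut B)) (hN : ∀ β ∈ K, β ∈ fixN a b → β = 1)
    (hτK : τ ∈ K) (hσK : σ ∈ K) (hσ : σ a = b ∧ σ b = c ∧ σ c = a) (w : B) (hw : τ w = w) :
    orderOf σ = 3 ∧ σ (σ w) = τ (σ w) ∧ σ (τ (σ w)) = (σ w)⁻¹ * (τ (σ w))⁻¹ ∧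
      ∀ i j : ℤ, (σ w) ^ i = (τ (σ w)) ^ j → (σ w) ^ i = 1 := by
  have hτc : τ c = c := T.tau_c hτa hτb
  have h3 : σ ^ 3 = 1 := cube_eq_one σ K hN hσK hσ
  have hσ1 : σ ≠ 1 := by
    intro h1
    rw [h1] at hσ
    exact T.ab hσ.1
  have hord : orderOf σ = 3 := by
    have : Fact (Nat.Prime 3) := ⟨by norm_num⟩
    exact orderOf_eq_prime h3 hσ1
  have h1 : τ * σ * τ * σ = 1 := by
    apply hN _ (K.mul_mem (K.mul_mem (K.mul_mem hτK hσK) hτK) hσK)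
    constructor
    · rw [MulAut.mul_apply, MulAut.mul_apply, MulAut.mul_apply, hσ.1, hτb, hσ.1, hτb]
    · rw [MulAut.mul_apply, MulAut.mul_apply, MulAut.mul_apply, hσ.2.1, hτc, hσ.2.2, hτa]
  have hτinv : τ⁻¹ = τ := inv_eq_of_mul_eq_one_left hττ
  have h2 : τ * σ = σ⁻¹ * τ := by
    have h1' : (τ * σ) * (τ * σ) = 1 := by rw [← h1]; group
    have := eq_inv_of_mul_eq_one_left h1'
    rw [mul_inv_rev, hτinv] at this
    exact this
  have hanti : ∀ s : B, τ (σ s) = σ⁻¹ (τ s) := by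
    intro s
    have := congrArg (fun f : MulAut B => f s) h2
    simpa only [MulAut.mul_apply] using this
  have hx'y' : σ (σ w) = τ (σ w) := by
    rw [hanti, hw]
    apply σ.injective
    rw [apply3 h3 w, MulAut.apply_inv_self]
  refine ⟨hord, hx'y', ?_, ?_⟩
  · rw [← hx'y', apply3 h3 w]
    have h5 := T.mul_mul_eq_one σ hσ h3 w
    rw [mul_assoc] at h5
    calc w = (σ w * σ (σ w))⁻¹ := eq_inv_of_mul_eq_one_left h5
      _ = (σ w)⁻¹ * (σ (σ w))⁻¹ := by rw [mul_inv_rev, T.comm]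
  · intro i j hij
    have e1 : (σ w) ^ i = σ (w ^ i) := (map_zpow σ w i).symm
    have e2 : (τ (σ w)) ^ j = σ (σ (w ^ j)) := by rw [← hx'y', ← map_zpow, ← map_zpow]
    rw [e1, e2] at hij
    have h6 : w ^ i = σ (w ^ j) := σ.injective hij
    have hτi : τ (w ^ i) = w ^ i := by rw [map_zpow, hw]
    have hτj : τ (w ^ j) = w ^ j := by rw [map_zpow, hw]
    have h7 : w ^ i = σ⁻¹ (w ^ j) := by
      calc w ^ i = τ (w ^ i) := hτi.symm
        _ = τ (σ (w ^ j)) := by rw [← h6]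
        _ = σ⁻¹ (τ (w ^ j)) := hanti _
        _ = σ⁻¹ (w ^ j) := by rw [hτj]
    have h8 : σ (w ^ i) = w ^ j := by rw [h7, MulAut.apply_inv_self]
    have h9 : σ (w ^ i) = w ^ i := by
      have h := apply3 h3 (w ^ i)
      rw [h8, ← h6] at h
      exact h
    have h10 : w ^ i = 1 := T.eq_one_of_fixed σ hσ h9
    rw [e1, h10, map_one]

end Tri

section Concrete

variable {X : Type*} [Group X] {x y z : X} {n : ℕ}

/-- **DSQW-[W-NORM]**. -/
theorem wr_norm (h : IsWr x y z n) (K : Subgroup (MulAut h.A)) (hU : autInducedBy ⊤ h.A ≤ K)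
    (hs : ∃ R : Sylow 2 K, (R : Subgroup K) = (autInducedBy ⊤ h.A).subgroupOf K) (hK : ¬ IsPGroup 2 K)
    (_hc : ∀ σ ∈ K, (∀ τ ∈ autInducedBy ⊤ h.A, σ * τ = τ * σ) → σ ∈ autInducedBy ⊤ h.A) :
    ∃ (x' : X) (σ : MulAut h.A), IsWr x' (z * x' * z⁻¹) z n ∧ σ ∈ K ∧ orderOf σ = 3 ∧
      ∀ u v : h.A, (u : X) = x' → (v : X) = z * x' * z⁻¹ →
        ((σ u : h.A) : X) = z * x' * z⁻¹ ∧ ((σ v : h.A) : X) = x'⁻¹ * (z * x' * z⁻¹)⁻¹ := by
  have T := tri h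
  have hN := T.fixN_inf (tau h) (tau_x0 h) _ K (mem_autInduced h) hs
  obtain ⟨σ, hσK, hσ⟩ := T.exists_cycle K hK
  obtain ⟨hord, hxy, hσy, hinf⟩ := T.norm_core (tau h) σ (tau_x0 h) (tau_y0 h) (tau_mul_tau h) K hN
    (hU (tau_mem h)) hσK hσ (w0 h) (tau_w0 h)
  have hy' : z * ((σ (w0 h) : h.A) : X) * z⁻¹ = ((tau h (σ (w0 h)) : h.A) : X) :=
    (tau_coe h _).symm
  refine ⟨((σ (w0 h) : h.A) : X), σ, ?_, hσK, hord, ?_⟩
  · refine ⟨h.hn, h.card, ?_, ?_, ?_, h.hz, rfl⟩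
    · rw [Subgroup.orderOf_coe, MulEquiv.orderOf_eq, ← Subgroup.orderOf_coe, w0_coe, h.orderOf_xy]
    · rw [hy']
      exact h.A_comm (σ (w0 h)).2 (tau h (σ (w0 h))).2
    · rw [Subgroup.eq_bot_iff_forall]
      intro g hg
      rw [Subgroup.mem_inf, Subgroup.mem_zpowers_iff, Subgroup.mem_zpowers_iff] at hg
      obtain ⟨⟨i, hi⟩, ⟨j, hj⟩⟩ := hg
      rw [hy'] at hj
      have hij : (σ (w0 h)) ^ i = (tau h (σ (w0 h))) ^ j := by
        apply Subtype.ext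
        rw [Subgroup.coe_zpow, Subgroup.coe_zpow, hi, hj]
      have h1 := hinf i j hij
      rw [← hi, ← Subgroup.coe_zpow, h1]
      rfl
  · intro u v hu hv
    have hu' : u = σ (w0 h) := Subtype.ext hu
    have hv' : v = tau h (σ (w0 h)) := Subtype.ext (by rw [hv, hy'])
    rw [hu', hv', hxy, hσy, hy']
    refine ⟨rfl, ?_⟩
    rw [Subgroup.coe_mul, Subgroup.coe_inv, Subgroup.coe_inv]

end Concrete

end Cfsg.Agent.Lib.Helper65.DSQWWrA
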