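import Cfsg.Agent.Lib.Helper45.PSLAut.Unitri

/-!
# Opposite Sylow 2-subgroups of `SL_n(2)`

`UU n (ZMod 2)` is the upper unitriangular subgroup.  For `m : SL_n(2)` with
`UU ⊓ m UU m⁻¹ = ⊥` (`Opp m`) we show `m ∈ UU * w0 * UU` (big Bruhat cell); hence two such elements
lie in the same `(UU, UU)` double coset.
-/

set_option autoImplicit false

namespace Cfsg.Agent.Lib.Helper65.FlagF2

open Matrix Cfsg.Agent.Lib.Helper45.PSLAut

variable {n : ℕ}

theorem zmod2_eq_one {x : ZMod 2} (h : x ≠ 0) : x = 1 := by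
  revert x; decide

/-- `v` lies in the span of the first `k` basis vectors. -/
def Below (k : ℕ) (v : Fin n → ZMod 2) : Prop := ∀ i : Fin n, k ≤ i.val → v i = 0

/-- `UU ⊓ m UU m⁻¹ = ⊥`. -/
def Opp (m : SpecialLinearGroup (Fin n) (ZMod 2)) : Prop :=
  ∀ u ∈ UU n (ZMod 2), m * u * m⁻¹ ∈ UU n (ZMod 2) → u = 1

theorem sl_mul_inv_coe (m : SpecialLinearGroup (Fin n) (ZMod 2)) :
    (m : Matrix (Fin n) (Fin n) (ZMod 2)) * ((m⁻¹ : SpecialLinearGroup (Fin n) (ZMod 2)) :
      Matrix (Fin n) (Fin n) (ZMod 2)) = 1 := by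
  rw [← Matrix.SpecialLinearGroup.coe_mul, mul_inv_cancel, Matrix.SpecialLinearGroup.coe_one]

theorem sl_inv_mul_coe (m : SpecialLinearGroup (Fin n) (ZMod 2)) :
    ((m⁻¹ : SpecialLinearGroup (Fin n) (ZMod 2)) : Matrix (Fin n) (Fin n) (ZMod 2)) *
      (m : Matrix (Fin n) (Fin n) (ZMod 2)) = 1 := by
  rw [← Matrix.SpecialLinearGroup.coe_mul, inv_mul_cancel, Matrix.SpecialLinearGroup.coe_one]

theorem dot_eq_zero_of_compat {v φ : Fin n → ZMod 2}
    (hc : ∀ i j : Fin n, j ≤ i → v i * φ j = 0) : φ ⬝ᵥ v = 0 := by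
  rw [dotProduct]
  apply Finset.sum_eq_zero
  intro i _
  rw [mul_comm]
  exact hc i i le_rfl

theorem tvAux_mem_UU {v φ : Fin n → ZMod 2} (hc : ∀ i j : Fin n, j ≤ i → v i * φ j = 0)
    (h : φ ⬝ᵥ v = 0) : tvAux v φ h ∈ UU n (ZMod 2) := by
  rw [mem_UU]
  intro i j hji
  show tvMat v φ i j = _
  rw [tvMat_apply, hc i j hji, add_zero]

theorem conj_tvAux (m : SpecialLinearGroup (Fin n) (ZMod 2)) {v φ : Fin n → ZMod 2}
    (h : φ ⬝ᵥ v = 0)
    (h' : (φ ᵥ* (m : Matrix (Fin n) (Fin n) (ZMod 2))) ⬝ᵥ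
      (((m⁻¹ : SpecialLinearGroup (Fin n) (ZMod 2)) : Matrix (Fin n) (Fin n) (ZMod 2)) *ᵥ v) = 0) :
    m * tvAux (((m⁻¹ : SpecialLinearGroup (Fin n) (ZMod 2)) : Matrix (Fin n) (Fin n) (ZMod 2)) *ᵥ v)
      (φ ᵥ* (m : Matrix (Fin n) (Fin n) (ZMod 2))) h' * m⁻¹ = tvAux v φ h := by
  apply sl_ext
  rw [Matrix.SpecialLinearGroup.coe_mul, Matrix.SpecialLinearGroup.coe_mul]
  show (m : Matrix (Fin n) (Fin n) (ZMod 2)) * tvMat _ _ * _ = tvMat v φ
  rw [tvMat, tvMat, mul_add, add_mul, mul_one, sl_mul_inv_coe, mul_vecMulVec, vecMulVec_mul,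
    mulVec_mulVec, vecMul_vecMul, sl_mul_inv_coe, one_mulVec, vecMul_one]

theorem exists_top {v : Fin n → ZMod 2} (hv : v ≠ 0) :
    ∃ p : Fin n, v p ≠ 0 ∧ ∀ i, p < i → v i = 0 := by
  classical
  have hne : (Finset.univ.filter (fun i => v i ≠ 0)).Nonempty := by
    by_contra h
    rw [Finset.not_nonempty_iff_eq_empty] at h
    apply hv
    funext i
    by_contra hi
    have hi' : v i ≠ 0 := by simpa using hi
    have : i ∈ Finset.univ.filter (fun i => v i ≠ 0) := by simp [hi']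
    rw [h] at this
    simp at this
  refine ⟨(Finset.univ.filter (fun i => v i ≠ 0)).max' hne, ?_, ?_⟩
  · have := Finset.max'_mem _ hne
    simpa using this
  · intro i hi
    by_contra hvi
    have : i ∈ Finset.univ.filter (fun i => v i ≠ 0) := by simp [hvi]
    have := Finset.le_max' _ i this
    exact absurd hi (not_lt.mpr this)

theorem compat_of {v φ : Fin n → ZMod 2} (p : Fin n) (hv : ∀ i, p < i → v i = 0) (hvp : v p ≠ 0)
    (hφ : ∀ j, j < p → φ j = 0) (hdot : φ ⬝ᵥ v = 0) :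
    ∀ i j : Fin n, j ≤ i → v i * φ j = 0 := by
  have hφp : φ p = 0 := by
    rw [dotProduct, Finset.sum_eq_single p] at hdot
    · rcases mul_eq_zero.mp hdot with h | h
      · exact h
      · exact absurd h hvp
    · intro i _ hip
      rcases lt_or_gt_of_ne hip with h | h
      · rw [hφ i h, zero_mul]
      · rw [hv i h, mul_zero]
    · intro h; exact absurd (Finset.mem_univ p) h
  intro i j hji
  by_cases hi : p < i
  · rw [hv i hi, zero_mul]
  · have hjp : j ≤ p := hji.trans (not_lt.mp hi)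
    rcases lt_or_eq_of_le hjp with h | h
    · rw [hφ j h, mul_zero]
    · rw [h, hφp, mul_zero]

theorem opp_flag {m : SpecialLinearGroup (Fin n) (ZMod 2)} (hm : Opp m) (v : Fin n → ZMod 2)
    (a b : ℕ) (hab : a + b ≤ n) (ha : Below a v)
    (hb : Below b (((m⁻¹ : SpecialLinearGroup (Fin n) (ZMod 2)) :
      Matrix (Fin n) (Fin n) (ZMod 2)) *ᵥ v)) : v = 0 := by
  by_contra hv
  set M : Matrix (Fin n) (Fin n) (ZMod 2) := (m : Matrix (Fin n) (Fin n) (ZMod 2)) with hM
  set Mi : Matrix (Fin n) (Fin n) (ZMod 2) :=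
    ((m⁻¹ : SpecialLinearGroup (Fin n) (ZMod 2)) : Matrix (Fin n) (Fin n) (ZMod 2)) with hMi
  set w := Mi *ᵥ v with hw
  have hMw : M *ᵥ w = v := by rw [hw, mulVec_mulVec, sl_mul_inv_coe, one_mulVec]
  have hw0 : w ≠ 0 := by
    intro h; apply hv; rw [← hMw, h, mulVec_zero]
  obtain ⟨p, hvp, hpv⟩ := exists_top hv
  obtain ⟨q, hwq, hqw⟩ := exists_top hw0
  have hpa : p.val < a := by
    by_contra h; exact hvp (ha p (not_lt.mp h))
  have hqb : q.val < b := by
    by_contra h; exact hwq (hb q (not_lt.mp h))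
  let L : (Fin n → ZMod 2) →ₗ[ZMod 2] ((Fin p.val ⊕ (Fin q.val ⊕ Unit)) → ZMod 2) :=
    { toFun := fun φ s => Sum.elim (fun j : Fin p.val => φ ⟨j.val, j.isLt.trans p.isLt⟩)
        (Sum.elim (fun j : Fin q.val => (φ ᵥ* M) ⟨j.val, j.isLt.trans q.isLt⟩)
          (fun _ => φ ⬝ᵥ v)) s
      map_add' := by
        intro φ ψ; funext s
        rcases s with j | j | u <;> simp [add_vecMul, add_dotProduct]
      map_smul' := by
        intro c φ; funext s
        rcases s with j | j | u <;> simp [smul_vecMul, smul_dotProduct] }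
  have hker : LinearMap.ker L ≠ ⊥ := by
    apply LinearMap.ker_ne_bot_of_finrank_lt
    rw [Module.finrank_fintype_fun_eq_card, Module.finrank_fintype_fun_eq_card]
    simp only [Fintype.card_sum, Fintype.card_fin, Fintype.card_unit]
    omega
  obtain ⟨φ, hφker, hφ0⟩ := Submodule.exists_mem_ne_zero_of_ne_bot hker
  rw [LinearMap.mem_ker] at hφker
  have h1 : ∀ j : Fin n, j < p → φ j = 0 := by
    intro j hj
    have := congrFun hφker (Sum.inl ⟨j.val, hj⟩)
    simpa [L] using this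
  have h2 : ∀ j : Fin n, j < q → (φ ᵥ* M) j = 0 := by
    intro j hj
    have := congrFun hφker (Sum.inr (Sum.inl ⟨j.val, hj⟩))
    simpa [L] using this
  have h3 : φ ⬝ᵥ v = 0 := by
    have := congrFun hφker (Sum.inr (Sum.inr ()))
    simpa [L] using this
  have h3' : (φ ᵥ* M) ⬝ᵥ w = 0 := by
    rw [← dotProduct_mulVec, hMw, h3]
  have hc1 := compat_of p hpv hvp h1 h3
  have hc2 := compat_of q hqw hwq h2 h3'
  have ht : tvAux v φ h3 ∈ UU n (ZMod 2) := tvAux_mem_UU hc1 h3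
  have hu : tvAux w (φ ᵥ* M) h3' ∈ UU n (ZMod 2) := tvAux_mem_UU hc2 h3'
  have hconj := conj_tvAux m h3 h3'
  have hu1 := hm _ hu (by rw [hconj]; exact ht)
  have h4 : vecMulVec w (φ ᵥ* M) = 0 := by
    have := congrArg (fun s : SpecialLinearGroup (Fin n) (ZMod 2) =>
      (s : Matrix (Fin n) (Fin n) (ZMod 2))) hu1
    simp only [Matrix.SpecialLinearGroup.coe_one] at this
    have h5 : tvMat w (φ ᵥ* M) = 1 := this
    rw [tvMat] at h5
    simpa using h5
  rcases vecMulVec_eq_zero_iff.mp h4 with h | h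
  · exact hw0 h
  · apply hφ0
    have : (φ ᵥ* M) ᵥ* Mi = φ := by rw [vecMul_vecMul, sl_mul_inv_coe, vecMul_one]
    rw [← this, h, zero_vecMul]

/-- Extension by zero of a vector on the first `k` coordinates. -/
def extLin (k : ℕ) : (Fin k → ZMod 2) →ₗ[ZMod 2] (Fin n → ZMod 2) where
  toFun x := fun l => if h : l.val < k then x ⟨l.val, h⟩ else 0
  map_add' x y := by
    funext l
    by_cases h : l.val < k <;> simp [h]
  map_smul' c x := by
    funext l
    by_cases h : l.val < k <;> simp [h]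

theorem extLin_apply_of_lt (k : ℕ) (x : Fin k → ZMod 2) (l : Fin n) (h : l.val < k) :
    extLin (n := n) k x l = x ⟨l.val, h⟩ := by
  show (if h : l.val < k then x ⟨l.val, h⟩ else 0) = _
  rw [dif_pos h]

theorem extLin_apply_of_le (k : ℕ) (x : Fin k → ZMod 2) (l : Fin n) (h : k ≤ l.val) :
    extLin (n := n) k x l = 0 := by
  show (if h : l.val < k then x ⟨l.val, h⟩ else 0) = _
  rw [dif_neg (not_lt.mpr h)]

theorem exists_col {m : SpecialLinearGroup (Fin n) (ZMod 2)} (hm : Opp m) (i : Fin n) :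
    ∃ c : Fin n → ZMod 2, Below (i.val + 1) c ∧ c i = 1 ∧
      Below (n - i.val) (((m⁻¹ : SpecialLinearGroup (Fin n) (ZMod 2)) :
        Matrix (Fin n) (Fin n) (ZMod 2)) *ᵥ c) := by
  set Mi : Matrix (Fin n) (Fin n) (ZMod 2) :=
    ((m⁻¹ : SpecialLinearGroup (Fin n) (ZMod 2)) : Matrix (Fin n) (Fin n) (ZMod 2)) with hMi
  have hidx : ∀ j : Fin i.val, n - i.val + j.val < n := by
    intro j
    have := j.isLt
    have := i.isLt
    omega
  let idx : Fin i.val → Fin n := fun j => ⟨n - i.val + j.val, hidx j⟩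
  let L : (Fin (i.val + 1) → ZMod 2) →ₗ[ZMod 2] (Fin i.val → ZMod 2) :=
    (LinearMap.funLeft (ZMod 2) (ZMod 2) idx) ∘ₗ (Matrix.mulVecLin Mi) ∘ₗ (extLin (n := n) (i.val + 1))
  have hker : LinearMap.ker L ≠ ⊥ := by
    apply LinearMap.ker_ne_bot_of_finrank_lt
    rw [Module.finrank_fin_fun, Module.finrank_fin_fun]
    omega
  obtain ⟨x, hxker, hx0⟩ := Submodule.exists_mem_ne_zero_of_ne_bot hker
  rw [LinearMap.mem_ker] at hxker
  set c : Fin n → ZMod 2 := extLin (n := n) (i.val + 1) x with hc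
  have hc0 : c ≠ 0 := by
    intro h
    apply hx0
    funext j
    have hj : (⟨j.val, j.isLt.trans_le i.isLt⟩ : Fin n).val < i.val + 1 := j.isLt
    have := extLin_apply_of_lt (n := n) (i.val + 1) x ⟨j.val, j.isLt.trans_le i.isLt⟩ hj
    rw [← hc, h] at this
    simpa using this.symm
  have hbelow : Below (i.val + 1) c := fun l hl => extLin_apply_of_le _ x l hl
  have hbelow' : Below (n - i.val) (Mi *ᵥ c) := by
    intro l hl
    have hl' : l.val - (n - i.val) < i.val := by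
      have := l.isLt
      have := i.isLt
      omega
    have := congrFun hxker ⟨l.val - (n - i.val), hl'⟩
    have hidxl : idx ⟨l.val - (n - i.val), hl'⟩ = l := by
      apply Fin.ext
      show n - i.val + (l.val - (n - i.val)) = l.val
      omega
    have h2 : L x ⟨l.val - (n - i.val), hl'⟩ = (Mi *ᵥ c) (idx ⟨l.val - (n - i.val), hl'⟩) := rfl
    rw [h2, hidxl] at this
    simpa using this
  refine ⟨c, hbelow, ?_, hbelow'⟩
  apply zmod2_eq_one
  intro hci
  apply hc0
  apply opp_flag hm c i.val (n - i.val) (by have := i.isLt; omega) ?_ hbelow'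
  intro l hl
  rcases eq_or_lt_of_le hl with h | h
  · have : l = i := Fin.ext h.symm
    rw [this]; exact hci
  · exact hbelow l h

/-- The antidiagonal permutation matrix. -/
def w0Mat (n : ℕ) : Matrix (Fin n) (Fin n) (ZMod 2) :=
  (1 : Matrix (Fin n) (Fin n) (ZMod 2)).submatrix id (Fin.revPerm : Equiv.Perm (Fin n))

theorem det_w0Mat : (w0Mat n).det = 1 := by
  rw [w0Mat, Matrix.det_permute', Matrix.det_one, mul_one]
  rcases Int.units_eq_one_or (Equiv.Perm.sign (Fin.revPerm : Equiv.Perm (Fin n))) with h | h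
  · rw [h]; simp
  · rw [h]; simp

/-- The longest Weyl group element in `SL_n(2)`. -/
def w0 (n : ℕ) : SpecialLinearGroup (Fin n) (ZMod 2) := ⟨w0Mat n, det_w0Mat⟩

theorem mul_w0Mat_apply (A : Matrix (Fin n) (Fin n) (ZMod 2)) (l k : Fin n) :
    (A * w0Mat n) l k = A l (Fin.rev k) := by
  rw [w0Mat, Matrix.mul_apply, Finset.sum_eq_single (Fin.rev k)]
  · rw [Matrix.submatrix_apply, Fin.revPerm_apply, id, Matrix.one_apply_eq, mul_one]
  · intro b _ hb
    rw [Matrix.submatrix_apply, Fin.revPerm_apply, id, Matrix.one_apply_ne hb, mul_zero]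
  · intro h; exact absurd (Finset.mem_univ _) h

theorem exists_bruhat {m : SpecialLinearGroup (Fin n) (ZMod 2)} (hm : Opp m) :
    ∃ u ∈ UU n (ZMod 2), m⁻¹ * u * w0 n ∈ UU n (ZMod 2) := by
  classical
  choose c hc1 hc2 hc3 using exists_col hm
  set U : Matrix (Fin n) (Fin n) (ZMod 2) := Matrix.of (fun l i => c i l) with hU
  have hUle : ∀ i j : Fin n, j ≤ i → U i j = (1 : Matrix (Fin n) (Fin n) (ZMod 2)) i j := by
    intro i j hji
    rcases eq_or_lt_of_le hji with h | h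
    · rw [h, Matrix.one_apply_eq]
      exact hc2 i
    · rw [Matrix.one_apply_ne (ne_of_gt h)]
      exact hc1 j i h
  have hUdet : U.det = 1 := by
    rw [det_of_isUpperTriangular]
    · apply Finset.prod_eq_one
      intro i _
      rw [hUle i i le_rfl, Matrix.one_apply_eq]
    · intro i j hji
      have hji' : j < i := hji
      rw [hUle i j hji'.le, Matrix.one_apply_ne (ne_of_gt hji')]
  set u : SpecialLinearGroup (Fin n) (ZMod 2) := ⟨U, hUdet⟩ with hu
  have huU : u ∈ UU n (ZMod 2) := by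
    rw [mem_UU]
    exact hUle
  refine ⟨u, huU, ?_⟩
  set T : SpecialLinearGroup (Fin n) (ZMod 2) := m⁻¹ * u * w0 n with hT
  have hTcoe : (T : Matrix (Fin n) (Fin n) (ZMod 2)) =
      ((m⁻¹ : SpecialLinearGroup (Fin n) (ZMod 2)) : Matrix (Fin n) (Fin n) (ZMod 2)) * U *
        w0Mat n := by
    rw [hT, Matrix.SpecialLinearGroup.coe_mul, Matrix.SpecialLinearGroup.coe_mul]
    rfl
  have hTlow : ∀ i j : Fin n, j < i → (T : Matrix (Fin n) (Fin n) (ZMod 2)) i j = 0 := by
    intro i j hji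
    rw [hTcoe, mul_w0Mat_apply, Matrix.mul_apply]
    have h1 := hc3 (Fin.rev j) i (by
      rw [Fin.val_rev]
      have : j.val < i.val := hji
      have := i.isLt
      omega)
    rw [Matrix.mulVec, dotProduct] at h1
    exact h1
  have hTdet : (T : Matrix (Fin n) (Fin n) (ZMod 2)).det = 1 := T.2
  have hTtri : (T : Matrix (Fin n) (Fin n) (ZMod 2)).BlockTriangular id := by
    intro i j hji
    exact hTlow i j hji
  rw [det_of_isUpperTriangular hTtri] at hTdet
  rw [mem_UU]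
  intro i j hji
  rcases eq_or_lt_of_le hji with h | h
  · rw [h, Matrix.one_apply_eq]
    apply zmod2_eq_one
    intro h0
    have : ∏ i : Fin n, (T : Matrix (Fin n) (Fin n) (ZMod 2)) i i = 0 :=
      Finset.prod_eq_zero (Finset.mem_univ i) h0
    rw [this] at hTdet
    exact zero_ne_one hTdet
  · rw [Matrix.one_apply_ne (ne_of_gt h)]
    exact hTlow i j h

theorem opp_double_coset {m m' : SpecialLinearGroup (Fin n) (ZMod 2)} (hm : Opp m) (hm' : Opp m') :
    ∃ a ∈ UU n (ZMod 2), ∃ b ∈ UU n (ZMod 2), m' = a * m * b := by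
  obtain ⟨u, hu, hT⟩ := exists_bruhat hm
  obtain ⟨u', hu', hT'⟩ := exists_bruhat hm'
  refine ⟨u' * u⁻¹, mul_mem hu' (inv_mem hu), (m⁻¹ * u * w0 n) * (m'⁻¹ * u' * w0 n)⁻¹,
    mul_mem hT (inv_mem hT'), ?_⟩
  group

end Cfsg.Agent.Lib.Helper65.FlagF2
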