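import Mathlib

/-!
# The Fong–Wong lemma (S3211): abstract isolation of the involution `j` (helper65)

`FWHyp L₁ L₂ j n` packages the configuration `C_G(j) = (L₁ ∘ L₂)⟨n⟩`, `L₁ ∩ L₂ = ⟨j⟩`, `n² = j`,
`n` interchanging `L₁` and `L₂`, together with the three facts on `SL₂(q)`, `q` odd, that are used:
`j` is the only involution of `Lᵢ`; an element inverting a square root `a` of `j` is itself a
square root of `j`; every square root of `j` is inverted by some element.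

Main result `FWHyp.isolated`: `j` commutes with no other conjugate of itself.  The proof is the
"exponent trick": for an involution `u ≠ j` of `C_G(j)` put `X = C(j) ∩ C(u)`,
`B = ⟨involutions of X⟩`, `A = ⟨g ∈ B : g² ≠ 1⟩` (symmetric in `j`, `u`); then
`g ^ (exp A / 2) ∈ {1, j}` for all `g ∈ A`.
-/

set_option autoImplicit false

namespace Cfsg.Agent.Lib.Helper65.FongWong

variable {G : Type*} [Group G]

/-- the abstract Fong–Wong configuration -/
structure FWHyp (L₁ L₂ : Subgroup G) (j n : G) : Prop where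
  comm : ∀ x ∈ L₁, ∀ y ∈ L₂, x * y = y * x
  j_ne : j ≠ 1
  j_sq : j * j = 1
  j_mem₁ : j ∈ L₁
  j_mem₂ : j ∈ L₂
  inter : ∀ x, x ∈ L₁ → x ∈ L₂ → x = 1 ∨ x = j
  cent₁ : ∀ x ∈ L₁, x * j = j * x
  cent₂ : ∀ y ∈ L₂, y * j = j * y
  cover : ∀ c : G, c * j = j * c →
    (∃ x ∈ L₁, ∃ y ∈ L₂, c = x * y) ∨ (∃ x ∈ L₁, ∃ y ∈ L₂, c = n * (x * y))
  n_comm : n * j = j * n
  n_sq : n * n = j
  swap₁ : ∀ x ∈ L₁, n * x * n⁻¹ ∈ L₂
  swap₂ : ∀ y ∈ L₂, n * y * n⁻¹ ∈ L₁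
  inv₁ : ∀ t ∈ L₁, t * t = 1 → t = 1 ∨ t = j
  inv₂ : ∀ t ∈ L₂, t * t = 1 → t = 1 ∨ t = j
  quat₁ : ∀ a ∈ L₁, a * a = j → ∀ x ∈ L₁, x * a * x⁻¹ = a⁻¹ → x * x = j
  quat₂ : ∀ a ∈ L₂, a * a = j → ∀ x ∈ L₂, x * a * x⁻¹ = a⁻¹ → x * x = j
  ex₁ : ∀ a ∈ L₁, a * a = j → ∃ x ∈ L₁, x * a * x⁻¹ = a⁻¹
  ex₂ : ∀ a ∈ L₂, a * a = j → ∃ x ∈ L₂, x * a * x⁻¹ = a⁻¹

variable {L₁ L₂ : Subgroup G} {j n : G}

/-- the configuration is invariant under automorphisms -/
theorem FWHyp.map (h : FWHyp L₁ L₂ j n) (φ : G ≃* G) :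
    FWHyp (L₁.map φ.toMonoidHom) (L₂.map φ.toMonoidHom) (φ j) (φ n) := by
  have hinj : Function.Injective φ := φ.injective
  have hmem : ∀ (L : Subgroup G) (x : G), x ∈ L → φ x ∈ L.map φ.toMonoidHom :=
    fun L x hx => ⟨x, hx, rfl⟩
  refine
    { comm := ?_, j_ne := ?_, j_sq := ?_, j_mem₁ := hmem _ _ h.j_mem₁, j_mem₂ := hmem _ _ h.j_mem₂,
      inter := ?_, cent₁ := ?_, cent₂ := ?_, cover := ?_, n_comm := ?_, n_sq := ?_, swap₁ := ?_,
      swap₂ := ?_, inv₁ := ?_, inv₂ := ?_, quat₁ := ?_, quat₂ := ?_, ex₁ := ?_, ex₂ := ?_ }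
  · rintro _ ⟨x, hx, rfl⟩ _ ⟨y, hy, rfl⟩
    show φ x * φ y = φ y * φ x
    rw [← map_mul, ← map_mul, h.comm x hx y hy]
  · intro e
    exact h.j_ne (hinj (e.trans (map_one φ).symm))
  · rw [← map_mul, h.j_sq, map_one]
  · rintro _ ⟨x, hx, rfl⟩ ⟨y, hy, hyx⟩
    have hyx' : y = x := hinj hyx
    subst hyx'
    show φ y = 1 ∨ φ y = φ j
    rcases h.inter y hx hy with h1 | h1
    · left; rw [h1, map_one]
    · right; rw [h1]
  · rintro _ ⟨x, hx, rfl⟩
    show φ x * φ j = φ j * φ x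
    rw [← map_mul, ← map_mul, h.cent₁ x hx]
  · rintro _ ⟨x, hx, rfl⟩
    show φ x * φ j = φ j * φ x
    rw [← map_mul, ← map_mul, h.cent₂ x hx]
  · intro c hc
    obtain ⟨c', rfl⟩ := φ.surjective c
    have hc' : c' * j = j * c' := by
      apply hinj
      rw [map_mul, map_mul]; exact hc
    rcases h.cover c' hc' with ⟨x, hx, y, hy, hxy⟩ | ⟨x, hx, y, hy, hxy⟩
    · left
      exact ⟨φ x, hmem _ _ hx, φ y, hmem _ _ hy, by rw [hxy, map_mul]⟩
    · right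
      exact ⟨φ x, hmem _ _ hx, φ y, hmem _ _ hy, by rw [hxy, map_mul, map_mul]⟩
  · rw [← map_mul, ← map_mul, h.n_comm]
  · rw [← map_mul, h.n_sq]
  · rintro _ ⟨x, hx, rfl⟩
    have := hmem _ _ (h.swap₁ x hx)
    rw [map_mul, map_mul, map_inv] at this
    exact this
  · rintro _ ⟨x, hx, rfl⟩
    have := hmem _ _ (h.swap₂ x hx)
    rw [map_mul, map_mul, map_inv] at this
    exact this
  · rintro _ ⟨t, ht, rfl⟩ ht2
    have ht2' : t * t = 1 := by
      apply hinj; rw [map_mul, map_one]; exact ht2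
    show φ t = 1 ∨ φ t = φ j
    rcases h.inv₁ t ht ht2' with h1 | h1
    · left; rw [h1, map_one]
    · right; rw [h1]
  · rintro _ ⟨t, ht, rfl⟩ ht2
    have ht2' : t * t = 1 := by
      apply hinj; rw [map_mul, map_one]; exact ht2
    show φ t = 1 ∨ φ t = φ j
    rcases h.inv₂ t ht ht2' with h1 | h1
    · left; rw [h1, map_one]
    · right; rw [h1]
  · rintro _ ⟨a, ha, rfl⟩ ha2 _ ⟨x, hx, rfl⟩ hxa
    have ha2' : a * a = j := by
      apply hinj; rw [map_mul]; exact ha2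
    have hxa' : x * a * x⁻¹ = a⁻¹ := by
      apply hinj; rw [map_mul, map_mul, map_inv, map_inv]; exact hxa
    show φ x * φ x = φ j
    rw [← map_mul, h.quat₁ a ha ha2' x hx hxa']
  · rintro _ ⟨a, ha, rfl⟩ ha2 _ ⟨x, hx, rfl⟩ hxa
    have ha2' : a * a = j := by
      apply hinj; rw [map_mul]; exact ha2
    have hxa' : x * a * x⁻¹ = a⁻¹ := by
      apply hinj; rw [map_mul, map_mul, map_inv, map_inv]; exact hxa
    show φ x * φ x = φ j
    rw [← map_mul, h.quat₂ a ha ha2' x hx hxa']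
  · rintro _ ⟨a, ha, rfl⟩ ha2
    have ha2' : a * a = j := by
      apply hinj; rw [map_mul]; exact ha2
    obtain ⟨x, hx, hxa⟩ := h.ex₁ a ha ha2'
    refine ⟨φ x, hmem _ _ hx, ?_⟩
    show φ x * φ a * (φ x)⁻¹ = (φ a)⁻¹
    rw [← map_inv, ← map_mul, ← map_mul, hxa, map_inv]
  · rintro _ ⟨a, ha, rfl⟩ ha2
    have ha2' : a * a = j := by
      apply hinj; rw [map_mul]; exact ha2
    obtain ⟨x, hx, hxa⟩ := h.ex₂ a ha ha2'
    refine ⟨φ x, hmem _ _ hx, ?_⟩
    show φ x * φ a * (φ x)⁻¹ = (φ a)⁻¹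
    rw [← map_inv, ← map_mul, ← map_mul, hxa, map_inv]

/-- the configuration is invariant under conjugation -/
theorem FWHyp.conj (h : FWHyp L₁ L₂ j n) (g : G) :
    FWHyp (L₁.map (MulAut.conj g).toMonoidHom) (L₂.map (MulAut.conj g).toMonoidHom)
      (g * j * g⁻¹) (g * n * g⁻¹) :=
  h.map (MulAut.conj g)

/-- `j⁻¹ = j` -/
theorem FWHyp.j_inv (h : FWHyp L₁ L₂ j n) : j⁻¹ = j := inv_eq_of_mul_eq_one_left h.j_sq

/-- the involutions of `C_G(j)` -/
theorem FWHyp.invol (h : FWHyp L₁ L₂ j n) (t : G) (htj : t * j = j * t) (ht : t * t = 1) :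
    t = 1 ∨ t = j ∨ ∃ a ∈ L₁, ∃ b ∈ L₂, a * a = j ∧ b * b = j ∧ t = a * b := by
  rcases h.cover t htj with ⟨x, hx, y, hy, rfl⟩ | ⟨x, hx, y, hy, rfl⟩
  · have e : (x * x) * (y * y) = 1 := by
      calc (x * x) * (y * y) = x * (x * y) * y := by group
        _ = x * (y * x) * y := by rw [h.comm x hx y hy]
        _ = (x * y) * (x * y) := by group
        _ = 1 := ht
    have hxx : x * x ∈ L₂ := by
      have : x * x = (y * y)⁻¹ := eq_inv_of_mul_eq_one_left e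
      rw [this]; exact L₂.inv_mem (L₂.mul_mem hy hy)
    rcases h.inter _ (L₁.mul_mem hx hx) hxx with h1 | h1
    · have hyy : y * y = 1 := by rw [h1, one_mul] at e; exact e
      rcases h.inv₁ x hx h1 with hx1 | hx1 <;> rcases h.inv₂ y hy hyy with hy1 | hy1
      · left; rw [hx1, hy1, one_mul]
      · right; left; rw [hx1, hy1, one_mul]
      · right; left; rw [hx1, hy1, mul_one]
      · left; rw [hx1, hy1]; exact h.j_sq
    · have hyy : y * y = j := by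
        rw [h1] at e
        have : y * y = j⁻¹ := eq_inv_of_mul_eq_one_right e
        rw [this, h.j_inv]
      right; right; exact ⟨x, hx, y, hy, h1, hyy, rfl⟩
  · exfalso
    have hcx2 : n * x * n⁻¹ ∈ L₂ := h.swap₁ x hx
    have hcy1 : n * y * n⁻¹ ∈ L₁ := h.swap₂ y hy
    have e1 : n * (x * y) * (n * (x * y))
        = (n * x * n⁻¹) * (n * y * n⁻¹) * (n * n) * x * y := by group
    rw [h.n_sq] at e1
    have c1 := h.comm _ hcy1 _ hcx2
    have c2 := h.comm x hx _ hcx2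
    have c3 := h.comm j h.j_mem₁ _ hcx2
    have c4 := h.cent₁ x hx
    have e2 : (n * x * n⁻¹) * (n * y * n⁻¹) * j * x * y
        = ((n * y * n⁻¹) * x * j) * ((n * x * n⁻¹) * y) := by
      calc (n * x * n⁻¹) * (n * y * n⁻¹) * j * x * y
          = ((n * x * n⁻¹) * (n * y * n⁻¹)) * j * x * y := by group
        _ = ((n * y * n⁻¹) * (n * x * n⁻¹)) * j * x * y := by rw [c1]
        _ = (n * y * n⁻¹) * ((n * x * n⁻¹) * j) * x * y := by group
        _ = (n * y * n⁻¹) * (j * (n * x * n⁻¹)) * x * y := by rw [c3]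
        _ = (n * y * n⁻¹) * j * ((n * x * n⁻¹) * x) * y := by group
        _ = (n * y * n⁻¹) * j * (x * (n * x * n⁻¹)) * y := by rw [c2]
        _ = (n * y * n⁻¹) * (j * x) * ((n * x * n⁻¹) * y) := by group
        _ = (n * y * n⁻¹) * (x * j) * ((n * x * n⁻¹) * y) := by rw [c4]
        _ = ((n * y * n⁻¹) * x * j) * ((n * x * n⁻¹) * y) := by group
    have e3 : ((n * y * n⁻¹) * x * j) * ((n * x * n⁻¹) * y) = 1 := by
      rw [← e2, ← e1]; exact ht
    have hh1 : (n * y * n⁻¹) * x * j ∈ L₁ := L₁.mul_mem (L₁.mul_mem hcy1 hx) h.j_mem₁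
    have hh2 : (n * x * n⁻¹) * y ∈ L₂ := L₂.mul_mem hcx2 hy
    have hh1' : (n * y * n⁻¹) * x * j ∈ L₂ := by
      have : (n * y * n⁻¹) * x * j = ((n * x * n⁻¹) * y)⁻¹ := eq_inv_of_mul_eq_one_left e3
      rw [this]; exact L₂.inv_mem hh2
    have hnn : n⁻¹ * n⁻¹ = j := by
      rw [← mul_inv_rev, h.n_sq, h.j_inv]
    have cy := h.cent₂ y hy
    have cyi : y⁻¹ * j = j * y⁻¹ := h.cent₂ _ (L₂.inv_mem hy)
    rcases h.inter _ hh1 hh1' with h1 | h1
    · -- `cy * x * j = 1`, so `cx * y = 1`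
      rw [h1, one_mul] at e3
      -- `x = n⁻¹ * y⁻¹ * n`
      have hx' : x = n⁻¹ * y⁻¹ * n := by
        have : n * x * n⁻¹ = y⁻¹ := eq_inv_of_mul_eq_one_left e3
        calc x = n⁻¹ * (n * x * n⁻¹) * n := by group
          _ = n⁻¹ * y⁻¹ * n := by rw [this]
      have : (n * y * n⁻¹) * x * j = j := by
        rw [hx']
        calc n * y * n⁻¹ * (n⁻¹ * y⁻¹ * n) * j = n * y * (n⁻¹ * n⁻¹) * y⁻¹ * n * j := by group
          _ = n * (y * j) * y⁻¹ * n * j := by rw [hnn]; group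
          _ = n * (j * y) * y⁻¹ * n * j := by rw [cy]
          _ = (n * j) * n * j := by group
          _ = (j * n) * n * j := by rw [h.n_comm]
          _ = j * (n * n) * j := by group
          _ = j := by rw [h.n_sq, h.j_sq, one_mul]
      rw [this] at h1
      exact h.j_ne h1
    · -- `cy * x * j = j`, so `cy * x = 1` and `cx * y = j`
      have hcyx : (n * y * n⁻¹) * x = 1 := by
        have := congrArg (fun t => t * j⁻¹) h1
        simpa [mul_assoc] using this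
      rw [h1] at e3
      have hx' : x = n * y⁻¹ * n⁻¹ := by
        have : x = (n * y * n⁻¹)⁻¹ := eq_inv_of_mul_eq_one_right hcyx
        rw [this]; group
      have : (n * x * n⁻¹) * y = 1 := by
        rw [hx']
        calc n * (n * y⁻¹ * n⁻¹) * n⁻¹ * y = (n * n) * y⁻¹ * (n⁻¹ * n⁻¹) * y := by group
          _ = j * y⁻¹ * j * y := by rw [h.n_sq, hnn]
          _ = j * (y⁻¹ * j) * y := by group
          _ = j * (j * y⁻¹) * y := by rw [cyi]
          _ = (j * j) := by group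
          _ = 1 := h.j_sq
      rw [this, mul_one] at e3
      exact h.j_ne e3

/-- the product set `L₁L₂` of two elementwise commuting subgroups, as a subgroup -/
def prodSub (L₁ L₂ : Subgroup G) (hc : ∀ x ∈ L₁, ∀ y ∈ L₂, x * y = y * x) : Subgroup G where
  carrier := {g | ∃ x ∈ L₁, ∃ y ∈ L₂, g = x * y}
  one_mem' := ⟨1, L₁.one_mem, 1, L₂.one_mem, (mul_one 1).symm⟩
  mul_mem' := by
    rintro _ _ ⟨x, hx, y, hy, rfl⟩ ⟨x', hx', y', hy', rfl⟩
    refine ⟨x * x', L₁.mul_mem hx hx', y * y', L₂.mul_mem hy hy', ?_⟩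
    calc x * y * (x' * y') = x * (y * x') * y' := by group
      _ = x * (x' * y) * y' := by rw [hc x' hx' y hy]
      _ = x * x' * (y * y') := by group
  inv_mem' := by
    rintro _ ⟨x, hx, y, hy, rfl⟩
    refine ⟨x⁻¹, L₁.inv_mem hx, y⁻¹, L₂.inv_mem hy, ?_⟩
    rw [mul_inv_rev, hc x⁻¹ (L₁.inv_mem hx) y⁻¹ (L₂.inv_mem hy)]

theorem mem_prodSub {L₁ L₂ : Subgroup G} {hc : ∀ x ∈ L₁, ∀ y ∈ L₂, x * y = y * x} {g : G} :
    g ∈ prodSub L₁ L₂ hc ↔ ∃ x ∈ L₁, ∃ y ∈ L₂, g = x * y := Iff.rfl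

/-- `X = C(s) ∩ C(t)` -/
def fwX (s t : G) : Subgroup G := Subgroup.centralizer {s} ⊓ Subgroup.centralizer {t}

theorem mem_fwX {s t x : G} : x ∈ fwX s t ↔ x * s = s * x ∧ x * t = t * x := by
  unfold fwX
  rw [Subgroup.mem_inf, Subgroup.mem_centralizer_iff, Subgroup.mem_centralizer_iff]
  constructor
  · rintro ⟨h1, h2⟩
    exact ⟨(h1 s rfl).symm, (h2 t rfl).symm⟩
  · rintro ⟨h1, h2⟩
    refine ⟨?_, ?_⟩
    · rintro y rfl; exact h1.symm
    · rintro y rfl; exact h2.symm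

/-- the subgroup generated by the elements of square one of `X` -/
def fwB (s t : G) : Subgroup G := Subgroup.closure {x | x ∈ fwX s t ∧ x * x = 1}

/-- the subgroup generated by the elements of `B` whose square is not one -/
def fwA (s t : G) : Subgroup G := Subgroup.closure {x | x ∈ fwB s t ∧ x * x ≠ 1}

theorem fwA_comm (s t : G) : fwA s t = fwA t s := by
  unfold fwA fwB fwX
  rw [inf_comm]

/-- conjugating `ab` by `xy` -/
theorem FWHyp.conj_prod (h : FWHyp L₁ L₂ j n) {a b x y : G} (ha : a ∈ L₁) (hb : b ∈ L₂)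
    (hx : x ∈ L₁) (hy : y ∈ L₂) :
    (x * y) * (a * b) * (x * y)⁻¹ = (x * a * x⁻¹) * (y * b * y⁻¹) := by
  have c1 := h.comm x⁻¹ (L₁.inv_mem hx) (y * b * y⁻¹) (L₂.mul_mem (L₂.mul_mem hy hb) (L₂.inv_mem hy))
  have c2 := h.comm a ha y hy
  calc (x * y) * (a * b) * (x * y)⁻¹ = x * (y * a) * b * y⁻¹ * x⁻¹ := by group
    _ = x * (a * y) * b * y⁻¹ * x⁻¹ := by rw [c2]
    _ = x * a * ((y * b * y⁻¹) * x⁻¹) := by group
    _ = x * a * (x⁻¹ * (y * b * y⁻¹)) := by rw [c1]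
    _ = (x * a * x⁻¹) * (y * b * y⁻¹) := by group

/-- the key one-sided lemma (the "exponent trick") -/
theorem FWHyp.key [Finite G] (h : FWHyp L₁ L₂ j n) (u : G) (huj : u * j = j * u)
    (hu2 : u * u = 1) (hu1 : u ≠ 1) (hune : u ≠ j) :
    2 ∣ Monoid.exponent ↥(fwA j u) ∧
      ∀ g ∈ fwA j u, g ^ (Monoid.exponent ↥(fwA j u) / 2) = 1 ∨
        g ^ (Monoid.exponent ↥(fwA j u) / 2) = j := by
  classical
  obtain ⟨a, ha, b, hb, haa, hbb, rfl⟩ :
      ∃ a ∈ L₁, ∃ b ∈ L₂, a * a = j ∧ b * b = j ∧ u = a * b := by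
    rcases h.invol u huj hu2 with h1 | h1 | h1
    · exact absurd h1 hu1
    · exact absurd h1 hune
    · exact h1
  have hainv : a⁻¹ = a * j := by
    apply inv_eq_of_mul_eq_one_right
    rw [← mul_assoc, haa, h.j_sq]
  have hbinv : b⁻¹ = b * j := by
    apply inv_eq_of_mul_eq_one_right
    rw [← mul_assoc, hbb, h.j_sq]
  have habinv : a⁻¹ * b⁻¹ = a * b := by
    rw [hainv, hbinv]
    calc a * j * (b * j) = a * (j * b) * j := by group
      _ = a * (b * j) * j := by rw [h.cent₂ b hb]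
      _ = a * b * (j * j) := by group
      _ = a * b := by rw [h.j_sq, mul_one]
  -- elements of `L₁L₂` commute with `j`
  have hMj : ∀ x ∈ L₁, ∀ y ∈ L₂, (x * y) * j = j * (x * y) := by
    intro x hx y hy
    calc (x * y) * j = x * (y * j) := by group
      _ = x * (j * y) := by rw [h.cent₂ y hy]
      _ = (x * j) * y := by group
      _ = (j * x) * y := by rw [h.cent₁ x hx]
      _ = j * (x * y) := by group
  -- [C1]
  have hC1 : ∀ x ∈ L₁, ∀ y ∈ L₂, (x * y) * (a * b) = (a * b) * (x * y) →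
      (x * a = a * x ∧ y * b = b * y) ∨ (x * a * x⁻¹ = a⁻¹ ∧ y * b * y⁻¹ = b⁻¹) := by
    intro x hx y hy hcomm
    have hpr : (x * a * x⁻¹) * (y * b * y⁻¹) = a * b := by
      rw [← h.conj_prod ha hb hx hy, hcomm]; group
    have hp1 : a⁻¹ * (x * a * x⁻¹) ∈ L₁ :=
      L₁.mul_mem (L₁.inv_mem ha) (L₁.mul_mem (L₁.mul_mem hx ha) (L₁.inv_mem hx))
    have hp2 : a⁻¹ * (x * a * x⁻¹) ∈ L₂ := by
      have : a⁻¹ * (x * a * x⁻¹) = b * (y * b * y⁻¹)⁻¹ := by
        have := congrArg (fun t => a⁻¹ * t * (y * b * y⁻¹)⁻¹) hpr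
        simp only [mul_assoc, mul_inv_cancel, mul_one, inv_mul_cancel_left] at this
        simpa [mul_assoc] using this
      rw [this]
      exact L₂.mul_mem hb (L₂.inv_mem (L₂.mul_mem (L₂.mul_mem hy hb) (L₂.inv_mem hy)))
    rcases h.inter _ hp1 hp2 with h1 | h1
    · left
      have hxa : x * a * x⁻¹ = a := by
        have := congrArg (fun t => a * t) h1
        simpa [mul_assoc] using this
      have hyb : y * b * y⁻¹ = b := by
        rw [hxa] at hpr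
        exact mul_left_cancel hpr
      refine ⟨?_, ?_⟩
      · calc x * a = (x * a * x⁻¹) * x := by group
          _ = a * x := by rw [hxa]
      · calc y * b = (y * b * y⁻¹) * y := by group
          _ = b * y := by rw [hyb]
    · right
      have hxa : x * a * x⁻¹ = a⁻¹ := by
        have := congrArg (fun t => a * t) h1
        rw [← hainv] at this
        simpa [mul_assoc] using this
      refine ⟨hxa, ?_⟩
      rw [hxa, ← habinv] at hpr
      exact mul_left_cancel hpr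
  -- [C2]
  have hC2 : ∀ x ∈ L₁, ∀ y ∈ L₂, x * a * x⁻¹ = a⁻¹ → y * b * y⁻¹ = b⁻¹ →
      (x * y) * (x * y) = 1 := by
    intro x hx y hy hxa hyb
    calc (x * y) * (x * y) = x * (y * x) * y := by group
      _ = x * (x * y) * y := by rw [h.comm x hx y hy]
      _ = (x * x) * (y * y) := by group
      _ = 1 := by rw [h.quat₁ a ha haa x hx hxa, h.quat₂ b hb hbb y hy hyb, h.j_sq]
  -- inverting pairs lie in `X` and in `B`
  have hIX : ∀ x ∈ L₁, ∀ y ∈ L₂, x * a * x⁻¹ = a⁻¹ → y * b * y⁻¹ = b⁻¹ →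
      x * y ∈ fwB j (a * b) := by
    intro x hx y hy hxa hyb
    apply Subgroup.subset_closure
    refine ⟨mem_fwX.mpr ⟨hMj x hx y hy, ?_⟩, hC2 x hx y hy hxa hyb⟩
    have := h.conj_prod ha hb hx hy
    rw [hxa, hyb, habinv] at this
    calc (x * y) * (a * b) = ((x * y) * (a * b) * (x * y)⁻¹) * (x * y) := by group
      _ = (a * b) * (x * y) := by rw [this]
  -- `B ≤ L₁L₂ ∩ X`
  have hBX : fwB j (a * b) ≤ fwX j (a * b) := by
    unfold fwB
    rw [Subgroup.closure_le]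
    intro t ht
    exact ht.1
  have hBM : fwB j (a * b) ≤ prodSub L₁ L₂ h.comm := by
    unfold fwB
    rw [Subgroup.closure_le]
    intro t ht
    rcases h.invol t (mem_fwX.mp ht.1).1 ht.2 with h1 | h1 | ⟨a', ha', b', hb', -, -, h1⟩
    · rw [h1]; exact Subgroup.one_mem _
    · exact ⟨j, h.j_mem₁, 1, L₂.one_mem, by rw [h1, mul_one]⟩
    · exact ⟨a', ha', b', hb', h1⟩
  -- the subgroups `K₁`, `K₂`
  have hKcomm : ∀ x ∈ L₁ ⊓ Subgroup.centralizer {a}, ∀ y ∈ L₂ ⊓ Subgroup.centralizer {b},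
      x * y = y * x := fun x hx y hy => h.comm x hx.1 y hy.1
  have hmemK₁ : ∀ x, x ∈ L₁ ⊓ Subgroup.centralizer {a} ↔ x ∈ L₁ ∧ x * a = a * x := by
    intro x
    rw [Subgroup.mem_inf, Subgroup.mem_centralizer_iff]
    constructor
    · rintro ⟨h1, h2⟩; exact ⟨h1, (h2 a rfl).symm⟩
    · rintro ⟨h1, h2⟩; exact ⟨h1, by rintro y rfl; exact h2.symm⟩
  have hmemK₂ : ∀ x, x ∈ L₂ ⊓ Subgroup.centralizer {b} ↔ x ∈ L₂ ∧ x * b = b * x := by
    intro x
    rw [Subgroup.mem_inf, Subgroup.mem_centralizer_iff]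
    constructor
    · rintro ⟨h1, h2⟩; exact ⟨h1, (h2 b rfl).symm⟩
    · rintro ⟨h1, h2⟩; exact ⟨h1, by rintro y rfl; exact h2.symm⟩
  -- `A ≤ K₁K₂`
  have hAKK : fwA j (a * b) ≤ prodSub _ _ hKcomm := by
    unfold fwA
    rw [Subgroup.closure_le]
    intro g hg
    obtain ⟨x, hx, y, hy, rfl⟩ := hBM hg.1
    rcases hC1 x hx y hy (mem_fwX.mp (hBX hg.1)).2 with ⟨h1, h2⟩ | ⟨h1, h2⟩
    · exact ⟨x, (hmemK₁ x).mpr ⟨hx, h1⟩, y, (hmemK₂ y).mpr ⟨hy, h2⟩, rfl⟩
    · exact absurd (hC2 x hx y hy h1 h2) hg.2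
  -- `K₁, K₂ ≤ B`
  obtain ⟨y₁, hy₁, hy₁a⟩ := h.ex₁ a ha haa
  obtain ⟨y₂, hy₂, hy₂b⟩ := h.ex₂ b hb hbb
  have hw : y₁ * y₂ ∈ fwB j (a * b) := hIX y₁ hy₁ y₂ hy₂ hy₁a hy₂b
  have hK₁B : ∀ x ∈ L₁, x * a = a * x → x ∈ fwB j (a * b) := by
    intro x hx hxa
    have h1 : (y₁ * x) * a * (y₁ * x)⁻¹ = a⁻¹ := by
      calc (y₁ * x) * a * (y₁ * x)⁻¹ = y₁ * (x * a) * x⁻¹ * y₁⁻¹ := by group
        _ = y₁ * (a * x) * x⁻¹ * y₁⁻¹ := by rw [hxa]
        _ = y₁ * a * y₁⁻¹ := by group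
        _ = a⁻¹ := hy₁a
    have hw' : (y₁ * x) * y₂ ∈ fwB j (a * b) := hIX _ (L₁.mul_mem hy₁ hx) y₂ hy₂ h1 hy₂b
    have e : x = (y₁ * y₂)⁻¹ * ((y₁ * x) * y₂) := by
      calc x = y₂⁻¹ * (y₂ * x) := by group
        _ = y₂⁻¹ * (x * y₂) := by rw [h.comm x hx y₂ hy₂]
        _ = (y₁ * y₂)⁻¹ * ((y₁ * x) * y₂) := by group
    rw [e]
    exact Subgroup.mul_mem _ (Subgroup.inv_mem _ hw) hw'
  have hK₂B : ∀ y ∈ L₂, y * b = b * y → y ∈ fwB j (a * b) := by
    intro y hy hyb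
    have h1 : (y₂ * y) * b * (y₂ * y)⁻¹ = b⁻¹ := by
      calc (y₂ * y) * b * (y₂ * y)⁻¹ = y₂ * (y * b) * y⁻¹ * y₂⁻¹ := by group
        _ = y₂ * (b * y) * y⁻¹ * y₂⁻¹ := by rw [hyb]
        _ = y₂ * b * y₂⁻¹ := by group
        _ = b⁻¹ := hy₂b
    have hw' : y₁ * (y₂ * y) ∈ fwB j (a * b) := hIX y₁ hy₁ _ (L₂.mul_mem hy₂ hy) hy₁a h1
    have e : y = (y₁ * y₂)⁻¹ * (y₁ * (y₂ * y)) := by group
    rw [e]
    exact Subgroup.mul_mem _ (Subgroup.inv_mem _ hw) hw'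
  -- `a, b, j ∈ A`
  have haA : a ∈ fwA j (a * b) := by
    apply Subgroup.subset_closure
    exact ⟨hK₁B a ha rfl, by rw [haa]; exact h.j_ne⟩
  have hjA : j ∈ fwA j (a * b) := by
    have h1 : a * a ∈ fwA j (a * b) := Subgroup.mul_mem _ haA haA
    rwa [haa] at h1
  have hK₁A : ∀ x ∈ L₁, x * a = a * x → x ∈ fwA j (a * b) := by
    intro x hx hxa
    by_cases hxx : x * x = 1
    · rcases h.inv₁ x hx hxx with h1 | h1
      · rw [h1]; exact Subgroup.one_mem _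
      · rw [h1]; exact hjA
    · exact Subgroup.subset_closure ⟨hK₁B x hx hxa, hxx⟩
  have hK₂A : ∀ y ∈ L₂, y * b = b * y → y ∈ fwA j (a * b) := by
    intro y hy hyb
    by_cases hyy : y * y = 1
    · rcases h.inv₂ y hy hyy with h1 | h1
      · rw [h1]; exact Subgroup.one_mem _
      · rw [h1]; exact hjA
    · exact Subgroup.subset_closure ⟨hK₂B y hy hyb, hyy⟩
  -- the exponent is even
  have h2e : 2 ∣ Monoid.exponent ↥(fwA j (a * b)) := by
    have ho : orderOf a = 2 ^ (1 + 1) := by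
      have : Fact (Nat.Prime 2) := ⟨Nat.prime_two⟩
      apply orderOf_eq_prime_pow
      · rw [pow_one, pow_two, haa]; exact h.j_ne
      · have : a ^ 2 ^ (1 + 1) = (a * a) * (a * a) := by
          show a ^ 4 = _
          rw [show (4 : ℕ) = 2 + 2 from rfl, pow_add, pow_two]
        rw [this, haa, h.j_sq]
    have h1 : orderOf (⟨a, haA⟩ : ↥(fwA j (a * b))) ∣ Monoid.exponent ↥(fwA j (a * b)) :=
      Monoid.order_dvd_exponent _
    rw [Subgroup.orderOf_mk, ho] at h1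
    exact Dvd.dvd.trans (by norm_num) h1
  refine ⟨h2e, ?_⟩
  intro g hg
  obtain ⟨x, hx, y, hy, rfl⟩ := hAKK hg
  rw [hmemK₁] at hx
  rw [hmemK₂] at hy
  set e := Monoid.exponent ↥(fwA j (a * b)) with he
  have hee : e / 2 + e / 2 = e := by
    obtain ⟨k, hk⟩ := h2e
    omega
  have hxe : x ^ e = 1 := by
    have := Monoid.pow_exponent_eq_one (⟨x, hK₁A x hx.1 hx.2⟩ : ↥(fwA j (a * b)))
    have h1 := congrArg Subtype.val this
    simpa using h1
  have hye : y ^ e = 1 := by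
    have := Monoid.pow_exponent_eq_one (⟨y, hK₂A y hy.1 hy.2⟩ : ↥(fwA j (a * b)))
    have h1 := congrArg Subtype.val this
    simpa using h1
  have hxE : x ^ (e / 2) = 1 ∨ x ^ (e / 2) = j :=
    h.inv₁ _ (L₁.pow_mem hx.1 _) (by rw [← pow_add, hee, hxe])
  have hyE : y ^ (e / 2) = 1 ∨ y ^ (e / 2) = j :=
    h.inv₂ _ (L₂.pow_mem hy.1 _) (by rw [← pow_add, hee, hye])
  have hmul : (x * y) ^ (e / 2) = x ^ (e / 2) * y ^ (e / 2) :=
    Commute.mul_pow (h.comm x hx.1 y hy.1) _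
  rw [hmul]
  rcases hxE with h1 | h1 <;> rcases hyE with h2 | h2 <;> rw [h1, h2]
  · left; exact one_mul 1
  · right; exact one_mul j
  · right; exact mul_one j
  · left; exact h.j_sq

/-- `j` commutes with no other conjugate of itself -/
theorem FWHyp.isolated [Finite G] (h : FWHyp L₁ L₂ j n) (g : G)
    (hc : (g * j * g⁻¹) * j = j * (g * j * g⁻¹)) : g * j * g⁻¹ = j := by
  by_contra hne
  have hu2 : (g * j * g⁻¹) * (g * j * g⁻¹) = 1 := by
    calc (g * j * g⁻¹) * (g * j * g⁻¹) = g * (j * j) * g⁻¹ := by group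
      _ = 1 := by rw [h.j_sq]; group
  have hu1 : g * j * g⁻¹ ≠ 1 := by
    intro e
    apply h.j_ne
    calc j = g⁻¹ * (g * j * g⁻¹) * g := by group
      _ = 1 := by rw [e]; group
  obtain ⟨hd, hk⟩ := h.key (g * j * g⁻¹) hc hu2 hu1 hne
  obtain ⟨-, hk'⟩ := (h.conj g).key j hc.symm h.j_sq h.j_ne (Ne.symm hne)
  rw [fwA_comm (g * j * g⁻¹) j] at hk'
  have hall : ∀ x : ↥(fwA j (g * j * g⁻¹)),
      x ^ (Monoid.exponent ↥(fwA j (g * j * g⁻¹)) / 2) = 1 := by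
    intro x
    apply Subtype.ext
    rw [Subgroup.coe_pow, Subgroup.coe_one]
    rcases hk x x.2 with h1 | h1
    · exact h1
    · rcases hk' x x.2 with h2 | h2
      · exact h2
      · exact absurd (h2.symm.trans h1) hne
  have hdvd := Monoid.exponent_dvd_of_forall_pow_eq_one hall
  have hpos : 0 < Monoid.exponent ↥(fwA j (g * j * g⁻¹)) :=
    Nat.pos_of_ne_zero Monoid.exponent_ne_zero_of_finite
  obtain ⟨k, hk2⟩ := hd
  have hle := Nat.le_of_dvd (by omega) hdvd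
  omega

end Cfsg.Agent.Lib.Helper65.FongWong
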