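import Mathlib
import Cfsg.Agent.Lib.Helper65.FongWong
import Cfsg.Agent.Lib.Helper41.FW.SL2
import Cfsg.Agent.S3210

/-!
# The Fong–Wong lemma (S3211): the concrete hypotheses give the abstract configuration (helper65)
-/

set_option autoImplicit false

namespace Cfsg.Agent.Lib.Helper65.FongWong

open Matrix Cfsg.Agent.Lib.Helper53 Cfsg.Agent.Lib.Helper41.FW

section sl2
variable {F : Type*} [Field F]

/-- an element inverting a square root of the involution is a square root of the involution -/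
theorem sl2_quat (h2 : (2 : F) ≠ 0) (z a x : Matrix.SpecialLinearGroup (Fin 2) F)
    (hz : z * z = 1) (hz1 : z ≠ 1) (ha : a * a = z) (hxa : x * a * x⁻¹ = a⁻¹) : x * x = z := by
  obtain ⟨z00, z01, z10, z11⟩ := invol_entries h2 z hz hz1
  have hta := trace_zero_of_sq h2 z a hz hz1 ha
  have hdeta := sl2_det a
  have hax : a * x * a = x := by
    have h1 : x * a = a⁻¹ * x := by
      calc x * a = (x * a * x⁻¹) * x := by group
        _ = a⁻¹ * x := by rw [hxa]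
    calc a * x * a = a * (x * a) := by group
      _ = a * (a⁻¹ * x) := by rw [h1]
      _ = x := by group
  have e00 := congrArg (fun m : Matrix.SpecialLinearGroup (Fin 2) F => m.1 0 0) hax
  have e11 := congrArg (fun m : Matrix.SpecialLinearGroup (Fin 2) F => m.1 1 1) hax
  simp only [sl2_mul_val] at e00 e11
  simp at e00 e11
  obtain ⟨s00, s01, s10, s11⟩ := sq_entries x
  have htx : x.1 0 0 + x.1 1 1 = 0 := by
    have hs : a.1 1 1 = -a.1 0 0 := by linear_combination hta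
    rw [hs] at e11 hdeta
    have h4 : (2 : F) * (x.1 0 0 + x.1 1 1) = 0 := by
      linear_combination (-1 : F) * e00 + (-1 : F) * e11 - (x.1 0 0 + x.1 1 1) * hdeta
    rcases mul_eq_zero.mp h4 with h | h
    · exact absurd h h2
    · exact h
  apply sl2_ext
  · rw [s00, htx, z00]; ring
  · rw [s01, htx, z01]; ring
  · rw [s10, htx, z10]; ring
  · rw [s11, htx, z11]; ring

/-- every square root of the involution is inverted by some element -/
theorem sl2_ex [Fintype F] (hodd : Fintype.card F % 2 = 1) (h2 : (2 : F) ≠ 0)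
    (z a : Matrix.SpecialLinearGroup (Fin 2) F) (hz : z * z = 1) (hz1 : z ≠ 1) (ha : a * a = z) :
    ∃ x : Matrix.SpecialLinearGroup (Fin 2) F, x * a * x⁻¹ = a⁻¹ := by
  apply conj_of_sq hodd h2 z a a⁻¹ hz hz1 ha
  rw [← _root_.mul_inv_rev, ha]
  exact inv_eq_of_mul_eq_one_left hz

end sl2

/-- transport of the three `SL₂` facts to a subgroup isomorphic to `SL₂(F)` -/
theorem transport {G : Type*} [Group G] {F : Type*} [Field F] [Fintype F]
    (hF : Odd (Fintype.card F)) (L : Subgroup G)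
    (e : ↥L ≃* Matrix.SpecialLinearGroup (Fin 2) F) (j : G) (hjL : j ∈ L) (hj2 : j * j = 1)
    (hj1 : j ≠ 1) :
    (∀ t ∈ L, t * t = 1 → t = 1 ∨ t = j) ∧
    (∀ a ∈ L, a * a = j → ∀ x ∈ L, x * a * x⁻¹ = a⁻¹ → x * x = j) ∧
    (∀ a ∈ L, a * a = j → ∃ x ∈ L, x * a * x⁻¹ = a⁻¹) := by
  have h2 : (2 : F) ≠ 0 := Cfsg.Agent.S3209.two_ne_zero_of_odd_card hF
  have hodd : Fintype.card F % 2 = 1 := Nat.odd_iff.mp hF
  set z := e ⟨j, hjL⟩ with hzdef
  have hz : z * z = 1 := by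
    rw [hzdef, ← map_mul]
    have : (⟨j, hjL⟩ : ↥L) * ⟨j, hjL⟩ = 1 := Subtype.ext hj2
    rw [this, map_one]
  have hz1 : z ≠ 1 := by
    intro h
    apply hj1
    have : (⟨j, hjL⟩ : ↥L) = 1 := e.injective (h.trans (map_one e).symm)
    exact congrArg Subtype.val this
  refine ⟨?_, ?_, ?_⟩
  · intro t ht htt
    have hT : e ⟨t, ht⟩ * e ⟨t, ht⟩ = 1 := by
      rw [← map_mul]
      have : (⟨t, ht⟩ : ↥L) * ⟨t, ht⟩ = 1 := Subtype.ext htt
      rw [this, map_one]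
    by_cases h1 : e ⟨t, ht⟩ = 1
    · left
      have : (⟨t, ht⟩ : ↥L) = 1 := e.injective (h1.trans (map_one e).symm)
      exact congrArg Subtype.val this
    · right
      have := sq_eq_one_unique h2 _ _ hT h1 hz hz1
      have h3 : (⟨t, ht⟩ : ↥L) = ⟨j, hjL⟩ := e.injective this
      exact congrArg Subtype.val h3
  · intro a ha haa x hx hxa
    have hA : e ⟨a, ha⟩ * e ⟨a, ha⟩ = z := by
      rw [← map_mul]
      have : (⟨a, ha⟩ : ↥L) * ⟨a, ha⟩ = ⟨j, hjL⟩ := Subtype.ext haa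
      rw [this]
    have hX : e ⟨x, hx⟩ * e ⟨a, ha⟩ * (e ⟨x, hx⟩)⁻¹ = (e ⟨a, ha⟩)⁻¹ := by
      rw [← map_inv, ← map_inv, ← map_mul, ← map_mul]
      have : (⟨x, hx⟩ : ↥L) * ⟨a, ha⟩ * (⟨x, hx⟩ : ↥L)⁻¹ = (⟨a, ha⟩ : ↥L)⁻¹ := Subtype.ext hxa
      rw [this]
    have := sl2_quat h2 z _ _ hz hz1 hA hX
    rw [← map_mul] at this
    have h3 : (⟨x, hx⟩ : ↥L) * ⟨x, hx⟩ = ⟨j, hjL⟩ := e.injective this
    exact congrArg Subtype.val h3
  · intro a ha haa
    have hA : e ⟨a, ha⟩ * e ⟨a, ha⟩ = z := by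
      rw [← map_mul]
      have : (⟨a, ha⟩ : ↥L) * ⟨a, ha⟩ = ⟨j, hjL⟩ := Subtype.ext haa
      rw [this]
    obtain ⟨X, hX⟩ := sl2_ex hodd h2 z _ hz hz1 hA
    refine ⟨(e.symm X : ↥L), (e.symm X).2, ?_⟩
    have h3 : e.symm X * ⟨a, ha⟩ * (e.symm X)⁻¹ = (⟨a, ha⟩ : ↥L)⁻¹ := by
      apply e.injective
      rw [map_mul, map_mul, map_inv, map_inv, e.apply_symm_apply, hX]
    exact congrArg Subtype.val h3

/-- a subgroup isomorphic to `SL₂(F)` has an element whose square is not one -/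
theorem exists_sq_ne_one {G : Type*} [Group G] {F : Type*} [Field F] [Fintype F]
    (hF : Odd (Fintype.card F)) (L : Subgroup G)
    (e : ↥L ≃* Matrix.SpecialLinearGroup (Fin 2) F) : ∃ a ∈ L, a * a ≠ 1 := by
  have h2 : (2 : F) ≠ 0 := Cfsg.Agent.S3209.two_ne_zero_of_odd_card hF
  refine ⟨(e.symm Cfsg.Agent.S3210.uMat : ↥L), (e.symm Cfsg.Agent.S3210.uMat).2, ?_⟩
  intro h
  have h1 : e.symm (Cfsg.Agent.S3210.uMat (F := F)) * e.symm Cfsg.Agent.S3210.uMat = 1 :=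
    Subtype.ext h
  have h3 : (Cfsg.Agent.S3210.uMat (F := F)) * Cfsg.Agent.S3210.uMat = 1 := by
    have := congrArg e h1
    rwa [map_mul, e.apply_symm_apply, map_one] at this
  have h4 := Cfsg.Agent.S3210.uMat_sq (F := F)
  rw [h3] at h4
  have h5 := congrFun (congrFun h4 0) 0
  simp at h5
  apply h2
  linear_combination h5

/-- the hypotheses of S3211 give the abstract configuration
(the group-theoretic glue follows helper2's `hyp_of`) -/
theorem fwHyp_of {G : Type*} [Group G] [Finite G]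
    {F₁ : Type*} [Field F₁] [Fintype F₁] {F₂ : Type*} [Field F₂] [Fintype F₂]
    (hF₁ : Odd (Fintype.card F₁)) (hF₂ : Odd (Fintype.card F₂)) (L₁ L₂ : Subgroup G)
    (e₁ : ↥L₁ ≃* Matrix.SpecialLinearGroup (Fin 2) F₁)
    (e₂ : ↥L₂ ≃* Matrix.SpecialLinearGroup (Fin 2) F₂)
    (hc : ∀ x ∈ L₁, ∀ y ∈ L₂, x * y = y * x) (j : G) (hj : orderOf j = 2)
    (hm : L₁ ⊓ L₂ = Subgroup.zpowers j)
    (hle : L₁ ⊔ L₂ ≤ Subgroup.centralizer ({j} : Set G))
    (hi : (L₁ ⊔ L₂).relIndex (Subgroup.centralizer ({j} : Set G)) = 2) (n : G)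
    (hn : n ∈ Subgroup.centralizer ({j} : Set G))
    (hn2 : n ^ 2 = j) (hswap : L₁.map (MulAut.conj n).toMonoidHom = L₂) :
    FWHyp L₁ L₂ j n := by
  have hjj : j * j = 1 := by rw [← pow_two, ← hj, pow_orderOf_eq_one]
  have hj1 : j ≠ 1 := by
    intro h; rw [h, orderOf_one] at hj; omega
  have hjL : j ∈ L₁ ⊓ L₂ := by rw [hm]; exact Subgroup.mem_zpowers j
  have hcent : ∀ k, k ∈ Subgroup.centralizer ({j} : Set G) ↔ k * j = j * k := by
    intro k
    rw [Subgroup.mem_centralizer_singleton_iff]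
  have hc₁ : ∀ x ∈ L₁, x * j = j * x := fun x hx =>
    (hcent x).mp (hle (Subgroup.mem_sup_left hx))
  have hc₂ : ∀ y ∈ L₂, y * j = j * y := fun y hy =>
    (hcent y).mp (hle (Subgroup.mem_sup_right hy))
  have hnj : n * j = j * n := (hcent n).mp hn
  have hnn : n * n = j := by rw [← pow_two, hn2]
  have hinter : ∀ x, x ∈ L₁ → x ∈ L₂ → x = 1 ∨ x = j := by
    intro x hx1 hx2
    have hx : x ∈ Subgroup.zpowers j := by rw [← hm]; exact ⟨hx1, hx2⟩
    obtain ⟨k, rfl⟩ := Subgroup.mem_zpowers_iff.mp hx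
    rcases Int.even_or_odd' k with ⟨m, rfl | rfl⟩
    · left
      rw [_root_.zpow_mul, zpow_two, hjj, _root_.one_zpow]
    · right
      rw [_root_.zpow_add, _root_.zpow_mul, zpow_two, hjj, _root_.one_zpow, one_mul, zpow_one]
  have hsw₁ : ∀ x ∈ L₁, n * x * n⁻¹ ∈ L₂ := by
    intro x hx
    rw [← hswap]
    exact ⟨x, hx, rfl⟩
  have hsw₂ : ∀ y ∈ L₂, n * y * n⁻¹ ∈ L₁ := by
    intro y hy
    rw [← hswap] at hy
    obtain ⟨x, hx, rfl⟩ := hy
    have : n * (MulAut.conj n).toMonoidHom x * n⁻¹ = x := by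
      show n * (n * x * n⁻¹) * n⁻¹ = x
      calc n * (n * x * n⁻¹) * n⁻¹ = (n * n) * x * (n * n)⁻¹ := by group
        _ = j * x * j⁻¹ := by rw [hnn]
        _ = x * j * j⁻¹ := by rw [hc₁ x hx]
        _ = x := by group
    rw [this]; exact hx
  have hprod : ∀ k, k ∈ L₁ ⊔ L₂ → ∃ x ∈ L₁, ∃ y ∈ L₂, k = x * y := by
    intro k hk
    have hle' : L₁ ⊔ L₂ ≤ prodSub L₁ L₂ hc := by
      apply sup_le
      · intro x hx; exact ⟨x, hx, 1, L₂.one_mem, (mul_one x).symm⟩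
      · intro y hy; exact ⟨1, L₁.one_mem, y, hy, (one_mul y).symm⟩
    exact hle' hk
  obtain ⟨hinv₁, hquat₁, hex₁⟩ := transport hF₁ L₁ e₁ j hjL.1 hjj hj1
  obtain ⟨hinv₂, hquat₂, hex₂⟩ := transport hF₂ L₂ e₂ j hjL.2 hjj hj1
  -- `n ∉ L₁ ⊔ L₂`
  have hnL : n ∉ L₁ ⊔ L₂ := by
    intro hnL
    obtain ⟨x, hx, y, hy, hxy⟩ := hprod n hnL
    obtain ⟨a, ha, haa⟩ := exists_sq_ne_one hF₁ L₁ e₁
    have h1 : n * a * n⁻¹ = x * a * x⁻¹ := by
      rw [hxy]
      calc x * y * a * (x * y)⁻¹ = x * (y * a) * y⁻¹ * x⁻¹ := by group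
        _ = x * (a * y) * y⁻¹ * x⁻¹ := by rw [hc a ha y hy]
        _ = x * a * x⁻¹ := by group
    have h2 : n * a * n⁻¹ ∈ L₁ := by
      rw [h1]; exact L₁.mul_mem (L₁.mul_mem hx ha) (L₁.inv_mem hx)
    apply haa
    rcases hinter _ h2 (hsw₁ a ha) with h | h
    · have : a = 1 := by
        calc a = n⁻¹ * (n * a * n⁻¹) * n := by group
          _ = 1 := by rw [h]; group
      rw [this, one_mul]
    · have : a = j := by
        calc a = n⁻¹ * (n * a * n⁻¹) * n := by group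
          _ = n⁻¹ * j * n := by rw [h]
          _ = n⁻¹ * (j * n) := by group
          _ = n⁻¹ * (n * j) := by rw [hnj]
          _ = j := by group
      rw [this, hjj]
  have hcover : ∀ k, k * j = j * k →
      (∃ x ∈ L₁, ∃ y ∈ L₂, k = x * y) ∨ ∃ x ∈ L₁, ∃ y ∈ L₂, k = n * (x * y) := by
    intro k hk
    have hkC : k ∈ Subgroup.centralizer ({j} : Set G) := (hcent k).mpr hk
    by_cases hkL : k ∈ L₁ ⊔ L₂
    · left; exact hprod k hkL
    · right
      have hidx : ((L₁ ⊔ L₂).subgroupOf (Subgroup.centralizer ({j} : Set G))).index = 2 := hi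
      have key := Subgroup.mul_mem_iff_of_index_two hidx
        (a := (⟨n⁻¹, Subgroup.inv_mem _ hn⟩ : ↥(Subgroup.centralizer ({j} : Set G))))
        (b := (⟨k, hkC⟩ : ↥(Subgroup.centralizer ({j} : Set G))))
      simp only [Subgroup.mem_subgroupOf, Subgroup.coe_mul] at key
      have hn' : n⁻¹ ∉ L₁ ⊔ L₂ := fun h => hnL (by simpa using Subgroup.inv_mem _ h)
      have hmem : n⁻¹ * k ∈ L₁ ⊔ L₂ := key.mpr ⟨fun h => absurd h hn', fun h => absurd h hkL⟩
      obtain ⟨x, hx, y, hy, hxy⟩ := hprod _ hmem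
      refine ⟨x, hx, y, hy, ?_⟩
      rw [← hxy]; group
  exact
    { comm := hc
      j_ne := hj1
      j_sq := hjj
      j_mem₁ := hjL.1
      j_mem₂ := hjL.2
      inter := hinter
      cent₁ := hc₁
      cent₂ := hc₂
      cover := hcover
      n_comm := hnj
      n_sq := hnn
      swap₁ := hsw₁
      swap₂ := hsw₂
      inv₁ := hinv₁
      inv₂ := hinv₂
      quat₁ := hquat₁
      quat₂ := hquat₂
      ex₁ := hex₁
      ex₂ := hex₂ }

end Cfsg.Agent.Lib.Helper65.FongWong
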