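import Mathlib
import Cfsg.Prelude.Def_KGroupFacts
import Cfsg.Agent.Lib.Helper76.GOut.GlueDefs
import Cfsg.Agent.Lib.Helper33.SylIn

/-! # GOUT-[GL-KER2] (helper65): automorphisms stabilizing `S` and inducing an inner automorphism
on `E` are inner modulo `C(E)` -/

set_option autoImplicit false
set_option linter.unusedSectionVars false

namespace Cfsg.Agent.Lib.Helper76.GOut

open Cfsg
open scoped Pointwise

/-- If `M` normalizes `K` then every element of `K ⊔ M` is a product `m * k`. -/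
theorem h65_mem_sup_of_normalizes {A : Type*} [Group A] (K M : Subgroup A)
    (hn : ∀ m ∈ M, ∀ k ∈ K, m * k * m⁻¹ ∈ K) {x : A} (hx : x ∈ K ⊔ M) :
    ∃ m ∈ M, ∃ k ∈ K, x = m * k := by
  let T : Subgroup A :=
    { carrier := {x | ∃ m ∈ M, ∃ k ∈ K, x = m * k}
      one_mem' := ⟨1, M.one_mem, 1, K.one_mem, by simp⟩
      mul_mem' := by
        rintro _ _ ⟨m, hm, k, hk, rfl⟩ ⟨m', hm', k', hk', rfl⟩
        refine ⟨m * m', M.mul_mem hm hm', (m'⁻¹ * k * m'⁻¹⁻¹) * k',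
          K.mul_mem (hn _ (M.inv_mem hm') _ hk) hk', ?_⟩
        group
      inv_mem' := by
        rintro _ ⟨m, hm, k, hk, rfl⟩
        refine ⟨m⁻¹, M.inv_mem hm, m * k⁻¹ * m⁻¹, hn _ hm _ (K.inv_mem hk), ?_⟩
        group }
  have hle : K ⊔ M ≤ T :=
    sup_le (fun k hk => ⟨1, M.one_mem, k, hk, by simp⟩) (fun m hm => ⟨m, hm, 1, K.one_mem, by simp⟩)
  exact hle hx

variable {G : Type*} [Group G] [Finite G]

set_option linter.unusedVariables false in
theorem inf_sup_le_inn_sup (S : Sylow 2 G) (E : Subgroup G) (hES : E ≤ (S : Subgroup G))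
    (hchar : stabAut (S : Subgroup G) ≤ stabAut E) :
    stabAut (S : Subgroup G) ⊓ (fixAut E ⊔ (stabAut E ⊓ Inn G)) ≤
      Inn G ⊔ (stabAut (S : Subgroup G) ⊓ fixAut E) := by
  have : Fact (Nat.Prime 2) := ⟨Nat.prime_two⟩
  rintro b ⟨hbS, hb⟩
  -- `stabAut E ⊓ Inn G` normalizes `fixAut E`
  have hnorm : ∀ m ∈ stabAut E ⊓ Inn G, ∀ k ∈ fixAut E, m * k * m⁻¹ ∈ fixAut E := by
    rintro m ⟨hmE, -⟩ k hk e he
    show m (k (m⁻¹ e)) = e
    have h1 : m⁻¹ e ∈ E := (((stabAut E).inv_mem hmE) e).2 he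
    rw [hk _ h1, MulAut.apply_inv_self]
  obtain ⟨m, hm, c, hc, rfl⟩ := h65_mem_sup_of_normalizes (fixAut E) (stabAut E ⊓ Inn G) hnorm hb
  obtain ⟨hmE, g, rfl⟩ := hm
  -- `S` normalizes `E`
  have hconjS : ∀ s ∈ (S : Subgroup G), MulAut.conj s ∈ stabAut (S : Subgroup G) := by
    intro s hs h
    rw [MulAut.conj_apply]
    constructor
    · intro hh
      have := (S : Subgroup G).mul_mem ((S : Subgroup G).mul_mem ((S : Subgroup G).inv_mem hs) hh) hs
      convert this using 1; group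
    · intro hh
      exact (S : Subgroup G).mul_mem ((S : Subgroup G).mul_mem hs hh) ((S : Subgroup G).inv_mem hs)
  have hSE : ∀ s ∈ (S : Subgroup G), ∀ e : G, s * e * s⁻¹ ∈ E ↔ e ∈ E := by
    intro s hs e
    have := hchar (hconjS s hs) e
    rwa [MulAut.conj_apply] at this
  -- `s⁻¹ * c s` centralizes `E`
  have hcent : ∀ s ∈ (S : Subgroup G), s⁻¹ * c s ∈ Subgroup.centralizer (E : Set G) := by
    intro s hs
    rw [Subgroup.mem_centralizer_iff]
    intro e he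
    have he' : s * e * s⁻¹ ∈ E := (hSE s hs e).2 he
    have h1 : c (s * e * s⁻¹) = s * e * s⁻¹ := hc _ he'
    rw [map_mul, map_mul, hc e he, map_inv] at h1
    -- h1 : c s * e * (c s)⁻¹ = s * e * s⁻¹
    have h2 : e * (s⁻¹ * c s) = s⁻¹ * (s * e * s⁻¹) * c s := by group
    rw [h2, ← h1]; group
  -- `S` normalizes `C_G(E)`
  have hSC : ∀ s ∈ (S : Subgroup G), ∀ k ∈ Subgroup.centralizer (E : Set G),
      s * k * s⁻¹ ∈ Subgroup.centralizer (E : Set G) := by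
    intro s hs k hk
    rw [Subgroup.mem_centralizer_iff] at hk ⊢
    intro e he
    have he' : s⁻¹ * e * s⁻¹⁻¹ ∈ E := (hSE s⁻¹ ((S : Subgroup G).inv_mem hs) e).2 he
    have h1 := hk _ he'
    have h2 : e * (s * k * s⁻¹) = s * ((s⁻¹ * e * s⁻¹⁻¹) * k) * s⁻¹ := by group
    rw [h2, h1]; group
  set L : Subgroup G := Subgroup.centralizer (E : Set G) ⊔ (S : Subgroup G) with hL
  have hSL : (S : Subgroup G) ≤ L := le_sup_right
  -- `c • S ≤ L`
  have hcSL : ((c • S : Sylow 2 G) : Subgroup G) ≤ L := by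
    intro x hx
    rw [Sylow.pointwise_smul_def, Subgroup.mem_pointwise_smul_iff_inv_smul_mem, MulAut.smul_def] at hx
    have h1 : x = c (c⁻¹ x) := by rw [MulAut.apply_inv_self]
    have h2 : x = (c⁻¹ x) * ((c⁻¹ x)⁻¹ * c (c⁻¹ x)) := by rw [← h1]; group
    rw [h2]
    exact L.mul_mem (hSL hx) (Subgroup.mem_sup_left (hcent _ hx))
  have hsyl1 := Cfsg.Agent.Lib.Helper33.sylIn_of_sylow_le S hSL
  have hsyl2 := Cfsg.Agent.Lib.Helper33.sylIn_of_sylow_le (c • S) hcSL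
  obtain ⟨l, hlL, hl⟩ := hsyl1.exists_cj_eq hsyl2
  -- `l = s * h`
  obtain ⟨s, hs, h, hh, rfl⟩ := h65_mem_sup_of_normalizes (Subgroup.centralizer (E : Set G))
    (S : Subgroup G) hSC hlL
  rw [Cfsg.Agent.Lib.Helper33.cj_mul] at hl
  have hl2 : Cfsg.Agent.Lib.Helper33.cj h ((c • S : Sylow 2 G) : Subgroup G) = (S : Subgroup G) := by
    have h1 := congrArg (Cfsg.Agent.Lib.Helper33.cj s⁻¹) hl
    rw [Cfsg.Agent.Lib.Helper33.cj_inv_cj,
      Cfsg.Agent.Lib.Helper33.cj_eq_self_of_mem ((S : Subgroup G).inv_mem hs)] at h1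
    exact h1
  -- the automorphism `k x = c⁻¹ (h⁻¹ x h)`
  set k : MulAut G := c⁻¹ * MulAut.conj h⁻¹ with hk
  have hkx : ∀ x : G, k x = c⁻¹ (h⁻¹ * x * h) := by
    intro x
    rw [hk, MulAut.mul_apply, MulAut.conj_apply, inv_inv]
  have hkS : k ∈ stabAut (S : Subgroup G) := by
    intro x
    rw [hkx]
    have h1 : x ∈ (S : Subgroup G) ↔
        h⁻¹ * x * h ∈ ((c • S : Sylow 2 G) : Subgroup G) := by
      rw [← hl2, Cfsg.Agent.Lib.Helper33.mem_cj]
    rw [h1, Sylow.pointwise_smul_def, Subgroup.mem_pointwise_smul_iff_inv_smul_mem, MulAut.smul_def]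
  have hhfix : MulAut.conj h⁻¹ ∈ fixAut E := by
    intro e he
    rw [MulAut.conj_apply, inv_inv]
    have := (Subgroup.mem_centralizer_iff.mp hh) e he
    rw [mul_assoc, this]; group
  have hkE : k ∈ fixAut E := (fixAut E).mul_mem ((fixAut E).inv_mem hc) hhfix
  have hbk : MulAut.conj g * c = MulAut.conj (g * h⁻¹) * k⁻¹ := by
    rw [hk, map_mul, mul_inv_rev, inv_inv]
    group
  rw [hbk]
  exact Subgroup.mul_mem_sup ⟨g * h⁻¹, rfl⟩
    (Subgroup.inv_mem _ (Subgroup.mem_inf.mpr ⟨hkS, hkE⟩))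

end Cfsg.Agent.Lib.Helper76.GOut
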