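import Mathlib
import Cfsg.Prelude.Def_KGroupFacts
import Cfsg.Agent.Lib.Helper76.GOut.GlueDefs
import Cfsg.Agent.Lib.Helper92.GOutSM
import Cfsg.Agent.Lib.Helper65.GOutGLKer2

/-! # GOUT-[GL-C'] (helper65), `_of` form: case (c) assembly, preferred path
([GL-LIN], [GL-PLS] + [GL-CS] taken as hypotheses; [GL-KER2] used). -/

set_option autoImplicit false
set_option linter.unusedSectionVars false

namespace Cfsg.Agent.Lib.Helper76.GOut

open Cfsg

variable {G : Type*} [Group G] [Finite G]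

/-- Case (c), preferred form, from its three inputs:
`hLIN` = [GL-LIN] for `E`, `hK` = [GL-PLS] (for `E = omega S`), `hCS` = [GL-CS]. -/
theorem solvMod_stabAut_inn_of (S : Sylow 2 G) (E : Subgroup G) (hES : E ≤ (S : Subgroup G))
    (hchar : stabAut (S : Subgroup G) ≤ stabAut E)
    (hLIN : SolvMod (stabAut E) (fixAut E ⊔ (stabAut E ⊓ Inn G)))
    (hK : SolvMod (stabAut (S : Subgroup G) ⊓ fixAut E) (fixAut (S : Subgroup G)))
    (hCS : Group.IsSolvable ↥(fixAut (S : Subgroup G))) :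
    SolvMod (stabAut (S : Subgroup G)) (Inn G) := by
  have h1 : SolvMod (stabAut (S : Subgroup G))
      (stabAut (S : Subgroup G) ⊓ (fixAut E ⊔ (stabAut E ⊓ Inn G))) :=
    (hLIN.mono_left hchar).inf_left
  have h2 : SolvMod (stabAut (S : Subgroup G))
      (Inn G ⊔ (stabAut (S : Subgroup G) ⊓ fixAut E)) :=
    h1.mono_right (inf_sup_le_inn_sup S E hES hchar)
  have h3 : SolvMod (stabAut (S : Subgroup G) ⊓ fixAut E) ⊥ :=
    hK.trans (solvMod_of_isSolvable hCS ⊥)
  have h4 : SolvMod (Inn G ⊔ (stabAut (S : Subgroup G) ⊓ fixAut E)) (Inn G ⊔ ⊥) :=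
    SolvMod.sup_left (fun h _ y hy => (innNormal G).conj_mem y hy h) h3
  have h5 := h2.trans h4
  rwa [sup_bot_eq] at h5

end Cfsg.Agent.Lib.Helper76.GOut
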