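import Mathlib
import Cfsg.Prelude.Def_KGroupFacts
import Cfsg.Agent.Lib.Helper76.GOut.GlueDefs
import Cfsg.Agent.Lib.Helper92.GOutSM

/-! # GOUT-[GL-PLS] (helper65), `_of` form: `PL_gen` for `↥S` (helper38's [PL-GEN], taken as a
hypothesis) gives `SolvMod (stabAut S ⊓ fixAut (omega S)) (fixAut S)`. -/

set_option autoImplicit false
set_option linter.unusedSectionVars false

namespace Cfsg.Agent.Lib.Helper76.GOut

open Cfsg

variable {G : Type*} [Group G]

/-- [GL-PLS] with `PL_gen` for `↥S` as a hypothesis (`S` any subgroup). -/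
theorem solvMod_fixAut_omega_of (S : Subgroup G)
    (hPL : Group.IsSolvable ↥(cOmega ↥S)) :
    SolvMod (stabAut S ⊓ fixAut (omega S)) (fixAut S) := by
  set X : Subgroup (MulAut G) := stabAut S ⊓ fixAut (omega S) with hX
  have hXle : X ≤ stabAut S := inf_le_left
  set X' : Subgroup ↥(stabAut S) := X.subgroupOf (stabAut S) with hX'
  -- the image of `X'` under restriction lies in `cOmega ↥S`
  have himg : X'.map (resAut S) ≤ cOmega ↥S := by
    rintro _ ⟨φ, hφ, rfl⟩
    have hφX : (φ : MulAut G) ∈ X := hφ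
    intro x hx
    apply Subtype.ext
    rw [resAut_apply]
    apply hφX.2
    apply Subgroup.subset_closure
    refine ⟨x.2, ?_⟩
    have := congrArg (Subtype.val) hx
    simpa using this
  have hsol : Group.IsSolvable ↥(X'.map (resAut S)) :=
    Group.isSolvable_of_isSolvable_injective (Subgroup.inclusion_injective himg)
  have h1 : SolvMod (X'.map (resAut S)) ⊥ := solvMod_of_isSolvable hsol ⊥
  have h2 : SolvMod X' ((⊥ : Subgroup (MulAut ↥S)).comap (resAut S)) := SolvMod.of_map (resAut S) h1
  have h3 := SolvMod.map (stabAut S).subtype h2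
  rw [hX', Subgroup.map_subgroupOf_eq_of_le hXle] at h3
  refine h3.mono_right ?_
  rintro _ ⟨φ, hφ, rfl⟩
  have hφ' : resAut S φ = 1 := by
    have : φ ∈ (⊥ : Subgroup (MulAut ↥S)).comap (resAut S) := hφ
    rwa [Subgroup.mem_comap, Subgroup.mem_bot] at this
  intro s hs
  have := congrArg (fun ψ : MulAut ↥S => ((ψ ⟨s, hs⟩ : ↥S) : G)) hφ'
  simpa using this

end Cfsg.Agent.Lib.Helper76.GOut
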