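import Mathlib
import Cfsg.Agent.Lib.Helper76.GOut.QFDefs

/-! # GOUT-[QF-C4] (helper65), `_of` form: no element of order four.
Inputs taken as hypotheses: Schur ([QF-K] `comm_bijective`) and "`[V,g]` is a `k`-line"
([QF-SURJ] `commRange_eq_comm_smul`, with `commRange ρ g` unfolded as the range of `1 + ρ g`). -/

set_option autoImplicit false
set_option linter.unusedSectionVars false

namespace Cfsg.Agent.Lib.Helper76.GOut

variable {V : Type*} [AddCommGroup V] [Module (ZMod 2) V]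
variable {R : Type*} [Group R]

theorem end_add_self (a : Module.End (ZMod 2) V) : a + a = 0 := by
  ext v
  simp only [LinearMap.add_apply, LinearMap.zero_apply]
  exact add_self' (a v)

/-- [QF-C4] with Schur and the `k`-line property as hypotheses. -/
theorem sq_eq_one_of_pow_four_of {ρ : R →* (V ≃ₗ[ZMod 2] V)} (han : Aniso ρ)
    (hbij : ∀ a : Module.End (ZMod 2) V, a ∈ Comm ρ → a ≠ 0 → Function.Bijective a)
    (hline : ∀ g : R, g * g = 1 → ρ g ≠ 1 → ∀ v : V,
      v ∈ LinearMap.range ((1 : Module.End (ZMod 2) V) + ((ρ g : V ≃ₗ[ZMod 2] V) : V →ₗ[ZMod 2] V)) →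
      v ≠ 0 → ∀ w : V,
      w ∈ LinearMap.range ((1 : Module.End (ZMod 2) V) + ((ρ g : V ≃ₗ[ZMod 2] V) : V →ₗ[ZMod 2] V)) →
      ∃ a ∈ Comm ρ, w = a v)
    (s : R) (hs : s ^ 4 = 1) : ρ (s ^ 2) = 1 := by
  by_contra ht
  set g : R := s ^ 2 with hg
  have hgg : g * g = 1 := by rw [hg, ← pow_add]; exact hs
  -- `t = S ∘ S`
  have htS : ∀ u : V, ρ g u = ρ s (ρ s u) := by
    intro u
    rw [hg, pow_two, map_mul]; rfl
  have htt : ∀ u : V, ρ g (ρ g u) = u := by
    intro u
    rw [← LinearEquiv.mul_apply, ← map_mul, hgg, map_one]; rfl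
  have hmemI : ∀ u : V, u + ρ g u ∈
      LinearMap.range ((1 : Module.End (ZMod 2) V) + ((ρ g : V ≃ₗ[ZMod 2] V) : V →ₗ[ZMod 2] V)) := by
    intro u
    exact ⟨u, by simp⟩
  have hI : ∀ w : V, w ∈
      LinearMap.range ((1 : Module.End (ZMod 2) V) + ((ρ g : V ≃ₗ[ZMod 2] V) : V →ₗ[ZMod 2] V)) →
      ∃ u : V, w = u + ρ g u := by
    rintro w ⟨u, rfl⟩
    exact ⟨u, by simp⟩
  -- a nonzero vector of `I`
  obtain ⟨u0, hu0⟩ : ∃ u : V, ρ g u ≠ u := by
    by_contra hno
    push Not at hno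
    apply ht
    ext u
    exact hno u
  set v0 : V := u0 + ρ g u0 with hv0
  have hv0ne : v0 ≠ 0 := by
    intro h0
    apply hu0
    have : ρ g u0 = u0 + (u0 + ρ g u0) := by
      rw [← add_assoc, add_self', zero_add]
    rw [this, ← hv0, h0, add_zero]
  -- `S` preserves `I`
  have hSI : ∀ w : V, w ∈
      LinearMap.range ((1 : Module.End (ZMod 2) V) + ((ρ g : V ≃ₗ[ZMod 2] V) : V →ₗ[ZMod 2] V)) →
      ρ s w ∈
      LinearMap.range ((1 : Module.End (ZMod 2) V) + ((ρ g : V ≃ₗ[ZMod 2] V) : V →ₗ[ZMod 2] V)) := by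
    intro w hw
    obtain ⟨u, rfl⟩ := hI w hw
    have : ρ s (u + ρ g u) = ρ s u + ρ g (ρ s u) := by
      rw [map_add, htS u, htS (ρ s u)]
    rw [this]
    exact hmemI _
  obtain ⟨a, ha, hav⟩ := hline g hgg ht v0 (hmemI u0) hv0ne (ρ s v0) (hSI v0 (hmemI u0))
  -- `a⁴ v0 = v0`
  have hSa : ∀ x : V, ρ s (a x) = a (ρ s x) := fun x => (ha s x).symm
  have h2 : ρ g v0 = a (a v0) := by
    rw [htS, hav, hSa, hav]
  have h4 : a (a (a (a v0))) = v0 := by
    have h5 : ρ g (ρ g v0) = a (a (a (a v0))) := by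
      rw [h2, htS, hSa, hSa, hSa, hSa, ← htS, h2]
    rw [← h5]; exact htt v0
  -- `b = a + 1` is not bijective, so `b = 0`
  have hb : a + 1 ∈ Comm ρ := add_mem_comm ha (one_mem_comm ρ)
  have hbb : ∀ x : V, (a + 1) ((a + 1) x) = a (a x) + x := by
    intro x
    simp only [LinearMap.add_apply, Module.End.one_apply, map_add]
    have e1 := add_self' (a x)
    calc a (a x) + a x + (a x + x) = a (a x) + (a x + a x) + x := by abel
      _ = a (a x) + x := by rw [e1, add_zero]
  have hb4 : (a + 1) ((a + 1) ((a + 1) ((a + 1) v0))) = 0 := by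
    rw [hbb, hbb, map_add, map_add, h4]
    have e2 := add_self' (a (a v0))
    calc v0 + a (a v0) + (a (a v0) + v0) = (v0 + v0) + (a (a v0) + a (a v0)) := by abel
      _ = 0 := by rw [e2, add_self', add_zero]
  have hb0 : a + 1 = 0 := by
    by_contra hne
    have hinj := (hbij _ hb hne).1
    have h0 : (a + 1) ((a + 1) ((a + 1) ((a + 1) v0))) = (a + 1) ((a + 1) ((a + 1) ((a + 1) 0))) := by
      rw [hb4]; simp
    exact hv0ne (hinj (hinj (hinj (hinj h0))))
  have ha1 : a = 1 := by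
    have : a = (a + 1) + 1 := by
      rw [add_assoc, end_add_self, add_zero]
    rw [this, hb0, zero_add]
  have hSv0 : ρ s v0 = v0 := by rw [hav, ha1]; rfl
  -- `S` fixes `I` pointwise
  have hSfix : ∀ w : V, w ∈
      LinearMap.range ((1 : Module.End (ZMod 2) V) + ((ρ g : V ≃ₗ[ZMod 2] V) : V →ₗ[ZMod 2] V)) →
      ρ s w = w := by
    intro w hw
    obtain ⟨c, hc, rfl⟩ := hline g hgg ht v0 (hmemI u0) hv0ne w hw
    rw [← hc s v0, hSv0]
  -- every invariant form vanishes on `I`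
  have hq0 : ∀ (q : V → ZMod 2), IsInv ρ q → ∀ u : V, q (u + ρ g u) = 0 := by
    intro q hq u
    set Nu : V := u + ρ g u with hNu
    set Mu : V := u + ρ s u with hMu
    have e1 : q Nu = polar q u Nu := by
      rw [hNu, hq.map_add_apply g u, hq.1.polar_add_right, hq.1.polar_self, zero_add]
    have hMM : Mu + ρ s Mu = Nu := by
      rw [hMu, hNu, map_add, ← htS]
      have := add_self' (ρ s u)
      calc u + ρ s u + (ρ s u + ρ g u) = u + (ρ s u + ρ s u) + ρ g u := by abel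
        _ = u + ρ g u := by rw [this, add_zero]
    have e2 : q Nu = polar q Mu Nu := by
      rw [← hMM, hq.map_add_apply s Mu, hq.1.polar_add_right, hq.1.polar_self, zero_add]
    have hSu : ρ s u = u + Mu := by
      rw [hMu, ← add_assoc, add_self', zero_add]
    have e3 : polar q (ρ s u) Nu = 0 := by
      rw [hSu, hq.1.polar_add_left, ← e1, ← e2, zmod2_add_self]
    have e4 : polar q (ρ s u) Nu = polar q u Nu := by
      have := hq.polar_map s u Nu
      rw [hSfix Nu (hmemI u)] at this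
      exact this
    rw [e1, ← e4, e3]
  -- anisotropy
  apply hu0
  by_contra hne
  have hN : u0 + ρ g u0 ≠ 0 := hv0ne
  obtain ⟨q, hq, hqv⟩ := han _ hN
  exact hqv (hq0 q hq u0)

end Cfsg.Agent.Lib.Helper76.GOut
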