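import Mathlib
import Cfsg.Agent.S0205

/-! # GOUT-[QF-SOLV] (helper65): Sylow 2-subgroups of order ≤ 2 ⇒ solvable (Burnside transfer + FT) -/

set_option autoImplicit false

namespace Cfsg.Agent.Lib.Helper76.GOut

/-- A finite group whose Sylow `2`-subgroups have order at most `2` is solvable. -/
theorem isSolvable_of_card_sylow_two_le {R : Type*} [Group R] [Finite R]
    (h : ∀ P : Sylow 2 R, Nat.card P ≤ 2) : Group.IsSolvable R := by
  have : Fact (Nat.Prime 2) := ⟨Nat.prime_two⟩
  obtain P : Sylow 2 R := default
  have hP2 := h P
  -- `P` is central in its normalizer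
  have hPN : Subgroup.normalizer ((P : Subgroup R) : Set R) ≤ Subgroup.centralizer (P : Set R) := by
    intro n hn
    rw [Subgroup.mem_centralizer_iff]
    intro t ht
    have ht' : t ∈ (P : Subgroup R) := ht
    by_cases ht1 : t = 1
    · subst ht1; simp
    · -- `n t n⁻¹ ∈ P`, `≠ 1`, and `|P| ≤ 2`
      have h1 : n * t * n⁻¹ ∈ (P : Subgroup R) := (Subgroup.mem_normalizer_iff.mp hn t).mp ht'
      have h2 : n * t * n⁻¹ ≠ 1 := by
        intro h3
        apply ht1
        have : t = n⁻¹ * (n * t * n⁻¹) * n := by group
        rw [this, h3]; group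
      have hfin : Finite (P : Subgroup R) := inferInstance
      have hcard : Nat.card (P : Subgroup R) ≤ 2 := hP2
      -- three distinct elements `1, t, n t n⁻¹` would contradict `|P| ≤ 2`
      by_contra hne
      have hne' : n * t * n⁻¹ ≠ t := by
        intro h3
        apply hne
        have : n * t = (n * t * n⁻¹) * n := by group
        rw [this, h3]
      let f : Fin 3 → (P : Subgroup R) := ![⟨1, Subgroup.one_mem _⟩, ⟨t, ht'⟩, ⟨n * t * n⁻¹, h1⟩]
      have hf : Function.Injective f := by
        intro i j hij
        fin_cases i <;> fin_cases j <;> simp [f, Subtype.ext_iff] at hij ⊢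
        all_goals first
          | exact (ht1 hij).elim | exact (ht1 hij.symm).elim | exact (h2 hij).elim
          | exact (h2 hij.symm).elim | exact (hne' hij).elim | exact (hne' hij.symm).elim
      have := Nat.card_le_card_of_injective f hf
      simp at this
      omega
  have hcomp := MonoidHom.ker_transferSylow_isComplement' P hPN
  set K : Subgroup R := (MonoidHom.transferSylow P hPN).ker with hK
  have hcard : Nat.card K * Nat.card (P : Subgroup R) = Nat.card R := hcomp.card_mul_card
  -- `K` has odd order
  have hKodd : Odd (Nat.card K) := by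
    rw [← Nat.not_even_iff_odd]
    intro heven
    have h2K : 2 ∣ Nat.card K := even_iff_two_dvd.mp heven
    have hdvd : 2 * Nat.card (P : Subgroup R) ∣ Nat.card R := by
      rw [← hcard]
      exact Nat.mul_dvd_mul_right h2K _
    have hPc := P.card_eq_multiplicity
    rw [hPc] at hdvd
    have h3 : 2 ^ ((Nat.card R).factorization 2 + 1) ∣ Nat.card R := by
      rw [pow_succ, mul_comm]; exact hdvd
    have hpos : Nat.card R ≠ 0 := Nat.card_pos.ne'
    exact Nat.pow_succ_factorization_not_dvd hpos Nat.prime_two h3
  have hKsol : Group.IsSolvable K := Cfsg.Agent.S0205.result hKodd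
  have hPcomm : IsMulCommutative (P : Subgroup R) :=
    ⟨⟨fun a b => Subtype.ext (hPN (Subgroup.le_normalizer b.2) a a.2)⟩⟩
  have hPsol : Group.IsSolvable (P : Subgroup R) := by
    have : ∀ a b : (P : Subgroup R), a * b = b * a := fun a b => mul_comm' a b
    exact Group.isSolvable_of_comm this
  exact Group.isSolvable_of_ker_le_range K.subtype (MonoidHom.transferSylow P hPN)
    (by rw [Subgroup.range_subtype])
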