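import Mathlib
import Cfsg.Agent.Lib.Helper76.GOut.QFDefs
import Cfsg.Agent.Lib.Helper65.GOutQFSolv

/-! # GOUT-[QF-MAIN] (helper65), `_of` form: block QF from [QF-SYL] (taken as a hypothesis). -/

set_option autoImplicit false
set_option linter.unusedSectionVars false

namespace Cfsg.Agent.Lib.Helper76.GOut

variable {V : Type*} [AddCommGroup V] [Module (ZMod 2) V] [Finite V]
variable {R : Type*} [Group R]

/-- On a space with at most two elements every linear automorphism is the identity. -/
theorem linearEquiv_eq_one_of_card_le_two (hV : Nat.card V ≤ 2) (f : V ≃ₗ[ZMod 2] V) : f = 1 := by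
  ext v
  show f v = v
  by_cases hv : v = 0
  · subst hv; simp
  · by_contra hne
    have hfv : f v ≠ 0 := by
      intro h
      apply hv
      have := f.injective (h.trans (map_zero f).symm)
      exact this
    let g : Fin 3 → V := ![0, v, f v]
    have hg : Function.Injective g := by
      intro i j hij
      fin_cases i <;> fin_cases j <;> simp [g] at hij ⊢
      all_goals first
        | exact (hv hij).elim | exact (hv hij.symm).elim | exact (hfv hij).elim
        | exact (hfv hij.symm).elim | exact (hne hij).elim | exact (hne hij.symm).elim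
    have := Nat.card_le_card_of_injective g hg
    simp at this
    omega

/-- **Block QF**, with [QF-SYL] as a hypothesis. -/
theorem QF_main_of [Finite R] (ρ : R →* (V ≃ₗ[ZMod 2] V)) (hρ : Function.Injective ρ)
    (hirr : Irr ρ) (han : Aniso ρ)
    (hsyl : Hyp ρ → ∀ P : Sylow 2 R, Nat.card P ≤ 2) : Group.IsSolvable R := by
  rcases Nat.lt_or_ge 2 (Nat.card V) with hV | hV
  · exact isSolvable_of_card_sylow_two_le (hsyl ⟨hirr, han, hV⟩)
  · have htriv : ∀ g : R, g = 1 := by
      intro g
      apply hρ
      rw [map_one]
      exact linearEquiv_eq_one_of_card_le_two hV (ρ g)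
    have : Subsingleton R := ⟨fun a b => (htriv a).trans (htriv b).symm⟩
    exact Group.isSolvable_of_comm (fun a b => Subsingleton.elim _ _)

end Cfsg.Agent.Lib.Helper76.GOut
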