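import Mathlib
import Cfsg.Agent.Lib.Helper76.GOut.QFDefs

/-! # GOUT-[QF-SYL] (helper65), `_of` form: from [QF-V4] and [QF-C4] (taken as hypotheses),
a `2`-subgroup of a faithful `R` has order at most `2`. -/

set_option autoImplicit false
set_option linter.unusedSectionVars false

namespace Cfsg.Agent.Lib.Helper76.GOut

variable {V : Type*} [AddCommGroup V] [Module (ZMod 2) V]
variable {R : Type*} [Group R]

/-- [QF-SYL] with [QF-V4] and [QF-C4] as hypotheses. -/
theorem card_sylow_two_le_of [Finite R] {ρ : R →* (V ≃ₗ[ZMod 2] V)}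
    (hV4 : ∀ g₁ g₂ : R, g₁ * g₁ = 1 → g₂ * g₂ = 1 → g₁ * g₂ = g₂ * g₁ → ρ g₁ ≠ 1 → ρ g₂ ≠ 1 →
      ρ g₁ = ρ g₂)
    (hC4 : ∀ s : R, s ^ 4 = 1 → ρ (s ^ 2) = 1)
    (hρ : Function.Injective ρ) (P : Sylow 2 R) : Nat.card P ≤ 2 := by
  classical
  have : Fact (Nat.Prime 2) := ⟨Nat.prime_two⟩
  have hρ1 : ∀ g : R, g ≠ 1 → ρ g ≠ 1 := by
    intro g hg h1
    apply hg
    apply hρ
    rw [h1, map_one]
  -- exponent two
  have hexp : ∀ x : R, x ∈ (P : Subgroup R) → x * x = 1 := by
    intro x hx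
    obtain ⟨k, hk⟩ := (IsPGroup.iff_orderOf.mp P.isPGroup') ⟨x, hx⟩
    have hk' : orderOf x = 2 ^ k := by
      rw [← hk]; exact (Subgroup.orderOf_mk x hx).symm
    rcases Nat.lt_or_ge k 2 with hk2 | hk2
    · have hx2 : x ^ 2 = 1 := by
        apply orderOf_dvd_iff_pow_eq_one.mp
        rw [hk']
        interval_cases k
        · norm_num
        · norm_num
      rw [← pow_two]; exact hx2
    · exfalso
      obtain ⟨j, rfl⟩ : ∃ j, k = j + 2 := ⟨k - 2, by omega⟩
      set y := x ^ (2 ^ j) with hy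
      have hy4 : y ^ 4 = 1 := by
        rw [hy, ← pow_mul, show 2 ^ j * 4 = 2 ^ (j + 2) by ring, ← hk', pow_orderOf_eq_one]
      have h1 := hC4 y hy4
      have h2 : y ^ 2 = 1 := by
        apply hρ; rw [h1, map_one]
      have h3 : x ^ (2 ^ (j + 1)) = 1 := by
        rw [show 2 ^ (j + 1) = 2 ^ j * 2 by ring, pow_mul]; exact h2
      have h4 := orderOf_dvd_of_pow_eq_one h3
      rw [hk'] at h4
      have h5 := Nat.le_of_dvd (by positivity) h4
      have h6 : 2 ^ (j + 1) < 2 ^ (j + 2) := Nat.pow_lt_pow_right (by norm_num) (by omega)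
      omega
  have hcomm : ∀ x y : R, x ∈ (P : Subgroup R) → y ∈ (P : Subgroup R) → x * y = y * x := by
    intro x y hx hy
    have h1 := hexp (x * y) (mul_mem hx hy)
    have h2 := hexp x hx
    have h3 := hexp y hy
    have hxi : x⁻¹ = x := inv_eq_of_mul_eq_one_right h2
    have hyi : y⁻¹ = y := inv_eq_of_mul_eq_one_right h3
    have h4 : (x * y)⁻¹ = x * y := inv_eq_of_mul_eq_one_right h1
    rw [mul_inv_rev, hxi, hyi] at h4
    exact h4.symm
  by_contra hcon
  push Not at hcon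
  -- three distinct elements of `P`
  have hfin : Finite (P : Subgroup R) := inferInstance
  have hfinT : Fintype (P : Subgroup R) := Fintype.ofFinite _
  have hcard : 2 < Fintype.card (P : Subgroup R) := by
    rw [← Nat.card_eq_fintype_card]; exact hcon
  obtain ⟨a, ha1⟩ : ∃ a : (P : Subgroup R), a ≠ 1 :=
    Fintype.exists_ne_of_one_lt_card (by omega) 1
  obtain ⟨b, hb1, hba⟩ : ∃ b : (P : Subgroup R), b ≠ 1 ∧ b ≠ a := by
    by_contra hno
    push Not at hno
    have hsub : (Finset.univ : Finset (P : Subgroup R)) ⊆ {1, a} := by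
      intro x _
      by_cases hx : x = 1
      · simp [hx]
      · simp [hno x hx]
    have := Finset.card_le_card hsub
    have h2 : ({1, a} : Finset (P : Subgroup R)).card ≤ 2 := Finset.card_le_two
    rw [Finset.card_univ] at this
    omega
  have ha1' : (a : R) ≠ 1 := fun h => ha1 (Subtype.ext h)
  have hb1' : (b : R) ≠ 1 := fun h => hb1 (Subtype.ext h)
  have := hV4 (a : R) (b : R) (hexp _ a.2) (hexp _ b.2) (hcomm _ _ a.2 b.2) (hρ1 _ ha1') (hρ1 _ hb1')
  exact hba (Subtype.ext (hρ this).symm)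

end Cfsg.Agent.Lib.Helper76.GOut
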