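import Mathlib

/-!
# Coprime action with nilpotent maximal invariant subgroups: basic invariance lemmas

`Inv A L`: the subgroup `L` of `G` is invariant under the action of `A`.
`Hyp A G`: every maximal `A`-invariant proper subgroup of `G` is nilpotent.
-/

set_option autoImplicit false

namespace Cfsg.Agent.Lib.Helper65.InvMax

theorem nilp_of_inj {X Y : Type*} [Group X] [Group Y] (f : X →* Y)
    (hf : Function.Injective f) (hY : Group.IsNilpotent Y) : Group.IsNilpotent X :=
  (Group.isNilpotent_congr (MonoidHom.ofInjective hf)).mpr inferInstance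

theorem nilp_map {X Y : Type*} [Group X] [Group Y] (f : X →* Y) (C : Subgroup X)
    (hC : Group.IsNilpotent C) : Group.IsNilpotent (C.map f) :=
  Group.nilpotent_of_surjective (f.subgroupMap C) (f.subgroupMap_surjective C)

section
variable (A : Type*) {G : Type*} [Group A] [Group G] [MulDistribMulAction A G]

/-- `L` is `A`-invariant. -/
def Inv (L : Subgroup G) : Prop := ∀ a : A, ∀ x ∈ L, a • x ∈ L

variable (G) in
/-- Every maximal `A`-invariant proper subgroup of `G` is nilpotent. -/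
def Hyp : Prop :=
  ∀ H : Subgroup G, H ≠ ⊤ → Inv A H →
    (∀ K : Subgroup G, H < K → Inv A K → K = ⊤) → Group.IsNilpotent H

variable {A}

theorem inv_iff {M : Subgroup G} (hM : Inv A M) (a : A) (x : G) : a • x ∈ M ↔ x ∈ M := by
  constructor
  · intro h
    have := hM a⁻¹ _ h
    rwa [inv_smul_smul] at this
  · exact hM a x

theorem inv_top : Inv A (⊤ : Subgroup G) := fun _ _ _ => Subgroup.mem_top _

theorem inv_bot : Inv A (⊥ : Subgroup G) := by
  intro a x hx
  rw [Subgroup.mem_bot] at hx ⊢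
  rw [hx, smul_one]

theorem inv_of_characteristic (L : Subgroup G) [hL : L.Characteristic] : Inv A L := by
  intro a x hx
  exact Subgroup.characteristic_iff_map_le.mp hL (MulDistribMulAction.toMulEquiv G a)
    (Subgroup.mem_map_of_mem _ hx)

theorem inv_sup {L₁ L₂ : Subgroup G} (h₁ : Inv A L₁) (h₂ : Inv A L₂) : Inv A (L₁ ⊔ L₂) := by
  intro a x hx
  have hle : L₁ ⊔ L₂ ≤ (L₁ ⊔ L₂).comap (MulDistribMulAction.toMonoidHom G a) := by
    apply sup_le
    · intro y hy
      exact (le_sup_left : L₁ ≤ L₁ ⊔ L₂) (h₁ a y hy)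
    · intro y hy
      exact (le_sup_right : L₂ ≤ L₁ ⊔ L₂) (h₂ a y hy)
  exact hle hx

theorem inv_inf {L₁ L₂ : Subgroup G} (h₁ : Inv A L₁) (h₂ : Inv A L₂) : Inv A (L₁ ⊓ L₂) :=
  fun a x hx => ⟨h₁ a x hx.1, h₂ a x hx.2⟩

theorem inv_normalizer {M : Subgroup G} (hM : Inv A M) :
    Inv A (Subgroup.normalizer (M : Set G)) := by
  intro a x hx
  rw [Subgroup.mem_normalizer_iff] at hx ⊢
  intro m
  have e : a • x * m * (a • x)⁻¹ = a • (x * (a⁻¹ • m) * x⁻¹) := by
    rw [smul_mul', smul_mul', smul_inv', smul_inv_smul]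
  rw [e, inv_iff hM, ← hx, inv_iff hM]

/-- The automorphism of an invariant subgroup induced by `a : A`. -/
def restrictEquiv {L : Subgroup G} (hL : Inv A L) (a : A) : L ≃* L where
  toFun x := ⟨a • (x : G), hL a x x.2⟩
  invFun x := ⟨a⁻¹ • (x : G), hL a⁻¹ x x.2⟩
  left_inv x := by ext; simp
  right_inv x := by ext; simp
  map_mul' x y := by ext; simp [smul_mul']

/-- A characteristic subgroup of an invariant subgroup is invariant. -/
theorem inv_map_subtype_of_characteristic {L : Subgroup G} (hL : Inv A L) (C : Subgroup L)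
    [hC : C.Characteristic] : Inv A (C.map L.subtype) := by
  rintro a _ ⟨y, hy, rfl⟩
  have h1 : restrictEquiv hL a y ∈ C :=
    Subgroup.characteristic_iff_map_le.mp hC (restrictEquiv hL a) (Subgroup.mem_map_of_mem _ hy)
  exact ⟨restrictEquiv hL a y, h1, rfl⟩

theorem exists_max_ge [Finite G] {L : Subgroup G} (hL : Inv A L) (hne : L ≠ ⊤) :
    ∃ M : Subgroup G, L ≤ M ∧ M ≠ ⊤ ∧ Inv A M ∧ ∀ K : Subgroup G, M < K → Inv A K → K = ⊤ := by
  obtain ⟨M, hLM, hM⟩ := Set.Finite.exists_le_maximal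
    (s := {M : Subgroup G | Inv A M ∧ M ≠ ⊤}) (Set.toFinite _) (a := L) ⟨hL, hne⟩
  refine ⟨M, hLM, hM.prop.2, hM.prop.1, ?_⟩
  intro L' hlt hL'
  by_contra hne'
  exact absurd (hM.le_of_ge ⟨hL', hne'⟩ hlt.le) (not_le_of_gt hlt)

/-- Under `Hyp`, every proper invariant subgroup is nilpotent. -/
theorem Hyp.nilpotent_of_inv [Finite G] (h : Hyp A G) {L : Subgroup G} (hL : Inv A L)
    (hne : L ≠ ⊤) : Group.IsNilpotent L := by
  obtain ⟨M, hLM, hMne, hMinv, hMmax⟩ := exists_max_ge hL hne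
  have hM : Group.IsNilpotent M := h M hMne hMinv hMmax
  exact nilp_of_inj (Subgroup.inclusion hLM) (Subgroup.inclusion_injective hLM) hM

end

end Cfsg.Agent.Lib.Helper65.InvMax
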