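import Mathlib
import Cfsg.Agent.Lib.Helper65.InvMaxBasic

/-!
# Induced action on the quotient by an invariant normal subgroup, and transfer of `Hyp`
-/

set_option autoImplicit false

namespace Cfsg.Agent.Lib.Helper65.InvMax

section
variable {A : Type*} {G : Type*} [Group A] [Group G] [MulDistribMulAction A G]

/-- The endomorphism of `G ⧸ N` induced by `a : A`. -/
def quotHom (N : Subgroup G) [N.Normal] (hN : Inv A N) (a : A) : G ⧸ N →* G ⧸ N :=
  QuotientGroup.map N N (MulDistribMulAction.toMonoidHom G a) (fun n hn => hN a n hn)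

theorem quotHom_mk (N : Subgroup G) [N.Normal] (hN : Inv A N) (a : A) (x : G) :
    quotHom N hN a (QuotientGroup.mk x) = QuotientGroup.mk (a • x) := rfl

/-- The action of `A` on `G ⧸ N` by automorphisms, as a homomorphism. -/
def quotAut (N : Subgroup G) [N.Normal] (hN : Inv A N) : A →* MulAut (G ⧸ N) :=
  MonoidHom.mk'
    (fun a => MonoidHom.toMulEquiv (quotHom N hN a) (quotHom N hN a⁻¹)
      (by
        ext q
        simp [quotHom_mk])
      (by
        ext q
        simp [quotHom_mk]))
    (by
      intro a b
      ext q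
      induction q using QuotientGroup.induction_on with
      | H x => simp [quotHom_mk, mul_smul])

theorem quotAut_mk (N : Subgroup G) [N.Normal] (hN : Inv A N) (a : A) (x : G) :
    quotAut N hN a (QuotientGroup.mk x) = QuotientGroup.mk (a • x) := rfl

/-- The induced action of `A` on `G ⧸ N`. -/
@[reducible] def quotAction (N : Subgroup G) [N.Normal] (hN : Inv A N) :
    MulDistribMulAction A (G ⧸ N) :=
  MulDistribMulAction.compHom (G ⧸ N) (quotAut N hN)

theorem quotAction_smul_mk (N : Subgroup G) [N.Normal] (hN : Inv A N) (a : A) (x : G) :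
    (quotAction N hN).smul a (QuotientGroup.mk x : G ⧸ N) = QuotientGroup.mk (a • x) := rfl

/-- Pulling back an invariant subgroup of the quotient. -/
theorem inv_comap_mk (N : Subgroup G) [N.Normal] (hN : Inv A N) (K : Subgroup (G ⧸ N))
    (hK : @Inv A (G ⧸ N) _ _ (quotAction N hN) K) : Inv A (K.comap (QuotientGroup.mk' N)) := by
  intro a x hx
  rw [Subgroup.mem_comap] at hx ⊢
  exact hK a _ hx

/-- Pushing forward an invariant subgroup. -/
theorem inv_map_mk (N : Subgroup G) [N.Normal] (hN : Inv A N) (K : Subgroup G)
    (hK : Inv A K) : @Inv A (G ⧸ N) _ _ (quotAction N hN) (K.map (QuotientGroup.mk' N)) := by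
  rintro a _ ⟨x, hx, rfl⟩
  exact ⟨a • x, hK a x hx, rfl⟩

/-- `Hyp` passes to the quotient by an invariant normal subgroup. -/
theorem Hyp.quot [Finite G] (h : Hyp A G) (N : Subgroup G) [N.Normal] (hN : Inv A N) :
    @Hyp A (G ⧸ N) _ _ (quotAction N hN) := by
  intro H hHne hHinv hHmax
  have hsurj : Function.Surjective (QuotientGroup.mk' N) := QuotientGroup.mk'_surjective N
  set H' : Subgroup G := H.comap (QuotientGroup.mk' N) with hH'
  have hmap : H'.map (QuotientGroup.mk' N) = H := Subgroup.map_comap_eq_self_of_surjective hsurj H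
  have hNH' : N ≤ H' := by
    intro n hn
    rw [hH', Subgroup.mem_comap]
    have : QuotientGroup.mk' N n = 1 := (QuotientGroup.eq_one_iff n).mpr hn
    rw [this]
    exact H.one_mem
  have hH'ne : H' ≠ ⊤ := by
    intro htop
    apply hHne
    rw [← hmap, htop, ← MonoidHom.range_eq_map, MonoidHom.range_eq_top]
    exact hsurj
  have hH'inv : Inv A H' := inv_comap_mk N hN H hHinv
  have hH'max : ∀ K : Subgroup G, H' < K → Inv A K → K = ⊤ := by
    intro K hlt hK
    have hKinv := inv_map_mk N hN K hK
    have hle : H ≤ K.map (QuotientGroup.mk' N) := by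
      rw [← hmap]
      exact Subgroup.map_mono hlt.le
    have hcm : (K.map (QuotientGroup.mk' N)).comap (QuotientGroup.mk' N) = K := by
      apply Subgroup.comap_map_eq_self
      rw [QuotientGroup.ker_mk']
      exact hNH'.trans hlt.le
    have hne : H ≠ K.map (QuotientGroup.mk' N) := by
      intro heq
      have : H' = K := by rw [hH', heq, hcm]
      exact absurd this hlt.ne
    have htop := hHmax _ (lt_of_le_of_ne hle hne) hKinv
    rw [← hcm, htop, Subgroup.comap_top]
  have hnil : Group.IsNilpotent H' := h H' hH'ne hH'inv hH'max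
  have := nilp_map (QuotientGroup.mk' N) H' hnil
  rwa [hmap] at this

end

end Cfsg.Agent.Lib.Helper65.InvMax
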