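import Mathlib
import Cfsg.Agent.Lib.Helper65.InvMaxQuot
import Cfsg.Agent.Lib.Helper24.InvSylow
import Cfsg.Agent.Lib.Helper1.ThompsonFpf
import Cfsg.Agent.Lib.Helper34.NPC
import Cfsg.Agent.S0622
import Cfsg.Agent.S0628

/-!
# Coprime action with nilpotent maximal invariant subgroups: solvability

If the solvable group `A` acts coprimely on `G` and every maximal `A`-invariant proper subgroup of
`G` is nilpotent, then `G` is solvable (via Thompson's normal `p`-complement theorem).
-/

set_option autoImplicit false

namespace Cfsg.Agent.Lib.Helper65.InvMax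

open Cfsg

universe u v

theorem solvable_of_normal_of_quot {G : Type*} [Group G] (W : Subgroup G) [W.Normal]
    (h1 : Group.IsSolvable W) (h2 : Group.IsSolvable (G ⧸ W)) : Group.IsSolvable G :=
  Group.isSolvable_of_ker_le_range W.subtype (QuotientGroup.mk' W)
    (by rw [QuotientGroup.ker_mk', Subgroup.range_subtype])

theorem solvable_aux (A : Type v) [Group A] [Finite A] (hA : Group.IsSolvable A) :
    ∀ (n : ℕ) (G : Type u) [Group G] [Finite G] [MulDistribMulAction A G],
      Nat.card G = n → (Nat.card A).Coprime (Nat.card G) → Hyp A G → Group.IsSolvable G := by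
  intro n
  induction n using Nat.strong_induction_on with
  | _ n ih =>
    intro G _ _ _ hn hcop hyp
    by_cases h2 : ∀ q : ℕ, q.Prime → q ∣ Nat.card G → q = 2
    · have hcard := Nat.eq_prime_pow_of_unique_prime_dvd (Nat.card_pos (α := G)).ne'
        (fun {d} hd hdvd => h2 d hd hdvd)
      have : Fact (Nat.Prime 2) := ⟨Nat.prime_two⟩
      have hP : IsPGroup 2 G := IsPGroup.of_card hcard
      have := hP.isNilpotent
      infer_instance
    · push Not at h2
      obtain ⟨q, hq, hqdvd, hq2⟩ := h2
      have : Fact q.Prime := ⟨hq⟩
      obtain ⟨Q, hQ⟩ := Cfsg.Agent.Lib.Helper24.exists_invariant_sylow_action hcop (Or.inl hA) q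
      have hQinv : Inv A (Q : Subgroup G) := hQ
      have hQne : (Q : Subgroup G) ≠ ⊥ := Q.ne_bot_of_dvd_card hqdvd
      set W : Subgroup G :=
        (stableNormalClosure q ↥(Q : Subgroup G)).map (Q : Subgroup G).subtype with hW
      have hchar : (stableNormalClosure q ↥(Q : Subgroup G)).Characteristic :=
        (Cfsg.Agent.S0622.result (Q.isPGroup')).1
      have hWinv : Inv A W := inv_map_subtype_of_characteristic hQinv _
      have hWne : W ≠ ⊥ := Cfsg.Agent.Lib.Helper1.stableNormalClosure_map_ne_bot q Q hQne
      have hWp : IsPGroup q W := Q.isPGroup'.to_le (Subgroup.map_subtype_le _)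
      by_cases hN : Subgroup.normalizer (W : Set G) = ⊤
      · have hWn : W.Normal := Subgroup.normalizer_eq_top_iff.mp hN
        have hmul : Nat.card G = Nat.card (G ⧸ W) * Nat.card W :=
          Subgroup.card_eq_card_quotient_mul_card_subgroup W
        have hW1 : 1 < Nat.card W := by
          rcases Nat.lt_or_ge 1 (Nat.card W) with h | h
          · exact h
          · exfalso
            have hpos : 0 < Nat.card W := Nat.card_pos
            have : Nat.card W = 1 := by omega
            exact hWne (Subgroup.card_eq_one.mp this)
        have hlt : Nat.card (G ⧸ W) < n := by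
          have hpos : 0 < Nat.card (G ⧸ W) := Nat.card_pos
          rw [← hn, hmul]
          nlinarith
        have hcop' : (Nat.card A).Coprime (Nat.card (G ⧸ W)) :=
          Nat.Coprime.coprime_dvd_right (Dvd.intro _ hmul.symm) hcop
        have hquot : Group.IsSolvable (G ⧸ W) :=
          @ih (Nat.card (G ⧸ W)) hlt (G ⧸ W) _ _ (quotAction W hWinv) rfl hcop' (hyp.quot W hWinv)
        have hWsol : Group.IsSolvable W := by
          have := hWp.isNilpotent
          infer_instance
        exact solvable_of_normal_of_quot W hWsol hquot
      · have hNnil : Group.IsNilpotent ↥(Subgroup.normalizer (W : Set G)) :=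
          hyp.nilpotent_of_inv (inv_normalizer hWinv) hN
        have h1 : HasNormalPComplement q ↥(Subgroup.normalizer (W : Set G)) :=
          Cfsg.Agent.Lib.Helper1.hasNPC_of_isNilpotent q hNnil
        have h3 := Cfsg.Agent.S0628.result hq2 Q h1
        rw [Cfsg.Agent.Lib.Helper34.hasNPC_iff_exists_normal] at h3
        obtain ⟨Y, hYn, hYcop, k, hk⟩ := h3
        have hYinv : Inv A Y := by
          intro a x hx
          have hle : Y.map (MulDistribMulAction.toMonoidHom G a) ≤ Y := by
            apply Cfsg.Agent.Lib.Helper34.le_of_card_coprime_of_index_pow Y hk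
            rw [Subgroup.card_map_of_injective
              (f := MulDistribMulAction.toMonoidHom G a)
              (MulDistribMulAction.toMulEquiv G a).injective]
            exact hYcop
          exact hle ⟨x, hx, rfl⟩
        have hYne : Y ≠ ⊤ := by
          intro h
          rw [h, Subgroup.card_top] at hYcop
          exact (Nat.Prime.coprime_iff_not_dvd hq).mp hYcop.symm hqdvd
        have hYnil : Group.IsNilpotent Y := hyp.nilpotent_of_inv hYinv hYne
        have hQuotP : IsPGroup q (G ⧸ Y) :=
          IsPGroup.of_card (n := k) (by rw [← Subgroup.index_eq_card, hk])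
        have hYsol : Group.IsSolvable Y := inferInstance
        have hqs : Group.IsSolvable (G ⧸ Y) := by
          have := hQuotP.isNilpotent
          infer_instance
        exact solvable_of_normal_of_quot Y hYsol hqs

/-- Solvability: a solvable group `A` acting coprimely on `G` all of whose maximal `A`-invariant
subgroups are nilpotent forces `G` to be solvable. -/
theorem solvable_of_hyp {A : Type v} {G : Type u} [Group A] [Finite A] [Group G] [Finite G]
    [MulDistribMulAction A G] (hA : Group.IsSolvable A)
    (hcop : (Nat.card A).Coprime (Nat.card G)) (hyp : Hyp A G) : Group.IsSolvable G :=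
  solvable_aux A hA (Nat.card G) G rfl hcop hyp

end Cfsg.Agent.Lib.Helper65.InvMax
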