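import Mathlib
import Cfsg.Prelude.Def_Transfer
import Cfsg.Agent.Lib.Helper65.InvMaxBasic
import Cfsg.Agent.Lib.Helper1.ThompsonFpf

/-!
# Coprime action with nilpotent maximal invariant subgroups: the structure of a solvable `G`

If `G` is solvable and not nilpotent, every maximal `A`-invariant subgroup of `G` is nilpotent and
`G` has `A`-invariant Sylow subgroups, then `|G| = p ^ a * q ^ b` and `G` has a normal
`A`-invariant Sylow subgroup.
-/

set_option autoImplicit false

namespace Cfsg.Agent.Lib.Helper65.InvMax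

open Cfsg

universe u v

section pure
variable {G : Type*} [Group G]

/-- A subgroup containing a Sylow subgroup for every prime is everything. -/
theorem eq_top_of_forall_sylow_le [Finite G] (D : Subgroup G)
    (h : ∀ (p : ℕ) [Fact p.Prime], ∃ P : Sylow p G, (P : Subgroup G) ≤ D) : D = ⊤ := by
  rw [← Subgroup.index_eq_one]
  by_contra hne
  obtain ⟨p, hp, hpd⟩ := Nat.exists_prime_and_dvd hne
  have : Fact p.Prime := ⟨hp⟩
  obtain ⟨P, hP⟩ := h p
  exact P.not_dvd_index (hpd.trans (Subgroup.index_dvd_of_le hP))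

theorem pResidual_char (p : ℕ) : (pResidual p G).Characteristic := by
  rw [Subgroup.characteristic_iff_map_le]
  intro ϕ
  unfold pResidual
  rw [MonoidHom.map_closure, Subgroup.closure_le]
  rintro _ ⟨x, hx, rfl⟩
  apply Subgroup.subset_closure
  show Nat.Coprime (orderOf (ϕ.toMonoidHom x)) p
  rw [orderOf_injective ϕ.toMonoidHom ϕ.injective x]
  exact hx

/-- A `q`-subgroup lies in `O^p(G)` for `q ≠ p`. -/
theorem le_pResidual_of_isPGroup {p q : ℕ} (hp : p.Prime) (hq : q.Prime) (hpq : p ≠ q)
    (Q : Subgroup G) (hQ : IsPGroup q Q) : Q ≤ pResidual p G := by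
  intro x hx
  apply Subgroup.subset_closure
  show Nat.Coprime (orderOf x) p
  obtain ⟨k, hk⟩ := hQ ⟨x, hx⟩
  have hk' : x ^ q ^ k = 1 := by
    have := congrArg Subtype.val hk
    simpa using this
  have h1 : orderOf x ∣ q ^ k := orderOf_dvd_of_pow_eq_one hk'
  have h2 : Nat.Coprime (q ^ k) p :=
    Nat.Coprime.pow_left k ((Nat.coprime_primes hq hp).mpr (Ne.symm hpq))
  exact Nat.Coprime.coprime_dvd_left h1 h2

/-- If `O^p(K) = K` then every `p`-subgroup of `K` lies in the commutator subgroup. -/
theorem le_commutator_of_pRes_top {p : ℕ} (hK : pResidual p G = ⊤) {T : Subgroup G}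
    (hT : IsPGroup p T) : T ≤ commutator G := by
  let f : G →* Abelianization G := Abelianization.of
  let D : Subgroup (Abelianization G) :=
    { carrier := {a | ∃ m : ℕ, Nat.Coprime m p ∧ a ^ m = 1}
      one_mem' := ⟨1, Nat.coprime_one_left p, by simp⟩
      mul_mem' := by
        rintro a b ⟨m, hm, ha⟩ ⟨n, hn, hb⟩
        refine ⟨m * n, Nat.Coprime.mul_left hm hn, ?_⟩
        rw [mul_pow, pow_mul, ha, one_pow, mul_comm m n, pow_mul, hb, one_pow, one_mul]
      inv_mem' := by
        rintro a ⟨m, hm, ha⟩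
        exact ⟨m, hm, by rw [inv_pow, ha, inv_one]⟩ }
  have hle : pResidual p G ≤ D.comap f := by
    unfold pResidual
    rw [Subgroup.closure_le]
    intro x hx
    show f x ∈ D
    exact ⟨orderOf x, hx, by rw [← map_pow, pow_orderOf_eq_one, map_one]⟩
  intro t ht
  obtain ⟨k, hk⟩ := hT ⟨t, ht⟩
  have hk' : t ^ p ^ k = 1 := by
    have := congrArg Subtype.val hk
    simpa using this
  have hft : f t ∈ D := hle (hK ▸ Subgroup.mem_top t)
  obtain ⟨m, hm, hftm⟩ := hft
  have h1 : orderOf (f t) ∣ m := orderOf_dvd_of_pow_eq_one hftm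
  have h2 : orderOf (f t) ∣ p ^ k := orderOf_dvd_of_pow_eq_one (by rw [← map_pow, hk', map_one])
  have h3 : orderOf (f t) ∣ Nat.gcd m (p ^ k) := Nat.dvd_gcd h1 h2
  have h4 : Nat.gcd m (p ^ k) = 1 := Nat.Coprime.pow_right k hm
  rw [h4, Nat.dvd_one, orderOf_eq_one_iff] at h3
  rw [← Abelianization.ker_of G]
  exact h3

/-- A nontrivial finite solvable group has a prime `p` with `O^p(G) ≠ G`. -/
theorem exists_pResidual_ne_top [Finite G] [Nontrivial G] (hsol : Group.IsSolvable G) :
    ∃ p : ℕ, p.Prime ∧ pResidual p G ≠ ⊤ := by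
  by_contra hcon
  push Not at hcon
  have htop : commutator G = ⊤ := by
    apply eq_top_of_forall_sylow_le
    intro p hp
    obtain ⟨P⟩ : Nonempty (Sylow p G) := inferInstance
    exact ⟨P, le_commutator_of_pRes_top (hcon p hp.out) P.isPGroup'⟩
  exact (Group.IsSolvable.commutator_lt_top_of_nontrivial G).ne htop

/-- A Sylow subgroup contained in a nilpotent normal subgroup is normal. -/
theorem sylow_normal_of_le_nilpotent_normal [Finite G] {q : ℕ} [Fact q.Prime] (Q : Sylow q G)
    (N : Subgroup G) [N.Normal] (hN : Group.IsNilpotent N) (hQN : (Q : Subgroup G) ≤ N) :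
    (Q : Subgroup G).Normal := by
  have tf := (Group.isNilpotent_of_finite_tfae (G := N)).out 0 3
  have h1 := tf.mp hN q inferInstance (Q.subtype hQN)
  rw [Sylow.coe_subtype] at h1
  exact Cfsg.Agent.Lib.Helper1.normal_of_normal_subgroupOf_of_sylow q Q N hQN h1

/-- If `P ⊔ Q` is nilpotent with `P` a Sylow subgroup of `G`, then `Q` normalizes `P`. -/
theorem le_normalizer_of_sup_nilpotent [Finite G] {p : ℕ} [Fact p.Prime] (P : Sylow p G)
    (Q : Subgroup G) (h : Group.IsNilpotent ((P : Subgroup G) ⊔ Q : Subgroup G)) :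
    Q ≤ Subgroup.normalizer ((P : Subgroup G) : Set G) := by
  set H : Subgroup G := (P : Subgroup G) ⊔ Q with hH
  have hPH : (P : Subgroup G) ≤ H := le_sup_left
  have hQH : Q ≤ H := le_sup_right
  have tf := (Group.isNilpotent_of_finite_tfae (G := H)).out 0 3
  have h1 := tf.mp h p inferInstance (P.subtype hPH)
  rw [Sylow.coe_subtype] at h1
  have key : ∀ y ∈ H, ∀ z ∈ (P : Subgroup G), y * z * y⁻¹ ∈ (P : Subgroup G) := by
    intro y hy z hz
    have hz' : (⟨z, hPH hz⟩ : H) ∈ (P : Subgroup G).subgroupOf H := Subgroup.mem_subgroupOf.mpr hz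
    have := h1.conj_mem _ hz' ⟨y, hy⟩
    exact Subgroup.mem_subgroupOf.mp this
  intro x hx
  rw [Subgroup.mem_normalizer_iff]
  intro z
  constructor
  · intro hz
    exact key x (hQH hx) z hz
  · intro hz
    have := key x⁻¹ (H.inv_mem (hQH hx)) _ hz
    have e : x⁻¹ * (x * z * x⁻¹) * x⁻¹⁻¹ = z := by group
    rwa [e] at this

end pure

/-- The structure theorem for solvable `G`. -/
theorem structure_of_solvable {A : Type v} {G : Type u} [Group A] [Group G] [Finite G]
    [MulDistribMulAction A G] (hsol : Group.IsSolvable G) (hG : ¬ Group.IsNilpotent G)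
    (hyp : Hyp A G)
    (hsyl : ∀ (q : ℕ) [Fact q.Prime], ∃ Q : Sylow q G, Inv A (Q : Subgroup G)) :
    (∃ p q a b : ℕ, p.Prime ∧ q.Prime ∧ p ≠ q ∧ Nat.card G = p ^ a * q ^ b) ∧
      ∃ (p : ℕ) (P : Sylow p G), p.Prime ∧ p ∣ Nat.card G ∧ (P : Subgroup G).Normal ∧
        Inv A (P : Subgroup G) := by
  have hnt : Nontrivial G := by
    by_contra hnt
    rw [not_nontrivial_iff_subsingleton] at hnt
    exact hG inferInstance
  obtain ⟨p, hp, hNne⟩ := exists_pResidual_ne_top hsol
  have : Fact p.Prime := ⟨hp⟩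
  have hNchar : (pResidual p G).Characteristic := pResidual_char p
  have hNn : (pResidual p G).Normal := inferInstance
  have hNinv : Inv A (pResidual p G) := inv_of_characteristic _
  have hNnil : Group.IsNilpotent (pResidual p G) := hyp.nilpotent_of_inv hNinv hNne
  obtain ⟨P, hPinv⟩ := hsyl p
  -- Sylow subgroups for the other primes are normal
  have hnormal : ∀ (q : ℕ) [Fact q.Prime], q ≠ p → ∀ Q : Sylow q G, (Q : Subgroup G).Normal := by
    intro q hq hqp Q
    exact sylow_normal_of_le_nilpotent_normal Q (pResidual p G) hNnil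
      (le_pResidual_of_isPGroup hp hq.out (Ne.symm hqp) _ Q.isPGroup')
  by_cases hex : ∃ (q : ℕ) (_ : Fact q.Prime) (Q : Sylow q G), q ≠ p ∧ Inv A (Q : Subgroup G) ∧
      (P : Subgroup G) ⊔ (Q : Subgroup G) = ⊤
  · obtain ⟨q, hq, Q, hqp, hQinv, hsup⟩ := hex
    have hQn : (Q : Subgroup G).Normal := hnormal q hqp Q
    have hidx : (Q : Subgroup G).index = (Q : Subgroup G).relIndex (P : Subgroup G) := by
      rw [← Subgroup.relIndex_top_right, ← hsup, Subgroup.relIndex_sup_right]
    obtain ⟨n, hn⟩ := P.isPGroup'.exists_card_eq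
    obtain ⟨b, hb⟩ := Q.isPGroup'.exists_card_eq
    have hdvd : (Q : Subgroup G).index ∣ p ^ n := by
      rw [hidx, ← hn]
      exact Subgroup.relIndex_dvd_card _ _
    obtain ⟨a, -, ha⟩ := (Nat.dvd_prime_pow hp).mp hdvd
    have hcard : Nat.card G = p ^ a * q ^ b := by
      rw [← Subgroup.card_mul_index (Q : Subgroup G), hb, ha, mul_comm]
    have hQne : (Q : Subgroup G) ≠ ⊥ := by
      intro hbot
      rw [hbot, sup_bot_eq] at hsup
      apply hG
      have hPG : IsPGroup p G := by
        intro g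
        obtain ⟨k, hk⟩ := P.isPGroup' ⟨g, by rw [hsup]; exact Subgroup.mem_top g⟩
        refine ⟨k, ?_⟩
        have := congrArg Subtype.val hk
        simpa using this
      exact hPG.isNilpotent
    have hqdvd : q ∣ Nat.card G := by
      by_contra hnd
      apply hQne
      have h1 : Nat.card (Q : Subgroup G) = q ^ (Nat.card G).factorization q :=
        Q.card_eq_multiplicity
      rw [Nat.factorization_eq_zero_of_not_dvd hnd, pow_zero] at h1
      exact Subgroup.card_eq_one.mp h1
    exact ⟨⟨p, q, a, b, hp, hq.out, Ne.symm hqp, hcard⟩, q, Q, hq.out, hqdvd, hQn, hQinv⟩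
  · exfalso
    push Not at hex
    apply hG
    -- `P` is normal
    have hPtop : Subgroup.normalizer ((P : Subgroup G) : Set G) = ⊤ := by
      apply eq_top_of_forall_sylow_le
      intro q hq
      by_cases hqp : q = p
      · subst hqp
        exact ⟨P, Subgroup.le_normalizer⟩
      · obtain ⟨Q, hQinv⟩ := hsyl q
        refine ⟨Q, ?_⟩
        have hne : (P : Subgroup G) ⊔ (Q : Subgroup G) ≠ ⊤ := hex q hq Q hqp hQinv
        have hnil : Group.IsNilpotent ((P : Subgroup G) ⊔ (Q : Subgroup G) : Subgroup G) :=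
          hyp.nilpotent_of_inv (inv_sup hPinv hQinv) hne
        exact le_normalizer_of_sup_nilpotent P _ hnil
    have hPn : (P : Subgroup G).Normal := Subgroup.normalizer_eq_top_iff.mp hPtop
    have tf := (Group.isNilpotent_of_finite_tfae (G := G)).out 0 3
    apply tf.mpr
    intro q hq S
    by_cases hqp : q = p
    · subst hqp
      have := Sylow.unique_of_normal P hPn
      rw [Subsingleton.elim S P]
      exact hPn
    · exact hnormal q hqp S

end Cfsg.Agent.Lib.Helper65.InvMax
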