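import Mathlib
import Cfsg.Agent.Lib.Helper65.InvMaxSolv
import Cfsg.Agent.Lib.Helper65.InvMaxStruct

/-!
# Coprime action with nilpotent maximal invariant subgroups: main theorem, conditional on the
Odd Order Theorem (taken as a hypothesis `hFT`, for the two universes of `A` and `G`).
-/

set_option autoImplicit false

namespace Cfsg.Agent.Lib.Helper65.InvMax

open Cfsg

universe u v

theorem main_of_FT {A : Type v} {G : Type u} [Group A] [Group G] [Finite A] [Finite G]
    [MulDistribMulAction A G]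
    (hFTA : Odd (Nat.card A) → Group.IsSolvable A)
    (hFTG : Odd (Nat.card G) → Group.IsSolvable G)
    (hcop : (Nat.card A).Coprime (Nat.card G))
    (hmax : ∀ H : Subgroup G, H ≠ ⊤ → (∀ a : A, ∀ x ∈ H, a • x ∈ H) →
      (∀ K : Subgroup G, H < K → (∀ a : A, ∀ x ∈ K, a • x ∈ K) → K = ⊤) → Group.IsNilpotent H)
    (hG : ¬ Group.IsNilpotent G) :
    Group.IsSolvable G ∧
      (∃ p q a b : ℕ, p.Prime ∧ q.Prime ∧ p ≠ q ∧ Nat.card G = p ^ a * q ^ b) ∧
      ∃ (p : ℕ) (P : Sylow p G), p.Prime ∧ p ∣ Nat.card G ∧ (P : Subgroup G).Normal ∧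
        (∀ a : A, ∀ x ∈ (P : Subgroup G), a • x ∈ (P : Subgroup G)) := by
  have hyp : Hyp A G := hmax
  have hsol : Group.IsSolvable G := by
    rcases Nat.even_or_odd (Nat.card G) with hev | hodd
    · -- `|A|` is odd
      have hAodd : Odd (Nat.card A) := by
        rw [← Nat.not_even_iff_odd]
        intro hAev
        have h2 : 2 ∣ Nat.gcd (Nat.card A) (Nat.card G) :=
          Nat.dvd_gcd hAev.two_dvd hev.two_dvd
        rw [hcop] at h2
        omega
      exact solvable_of_hyp (hFTA hAodd) hcop hyp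
    · exact hFTG hodd
  have hsyl : ∀ (q : ℕ) [Fact q.Prime], ∃ Q : Sylow q G, Inv A (Q : Subgroup G) := by
    intro q hq
    exact Cfsg.Agent.Lib.Helper24.exists_invariant_sylow_action hcop (Or.inr hsol) q
  exact ⟨hsol, structure_of_solvable hsol hG hyp hsyl⟩

end Cfsg.Agent.Lib.Helper65.InvMax
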