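import Mathlib

/-!
`[G, α] = G` implies `[G, α, …, α] = G` for an automorphism `α` of a finite group `G`
(iterated commutator *values* generate), derived from the generalised zipper lemma (statement S3947),
which is taken as an explicit hypothesis `ZipperStatement`.
-/

set_option autoImplicit false

namespace Cfsg.Agent.Lib.Helper65

section IterComm

universe u

/-- the statement of S3947 (generalised zipper lemma) for groups in universe `u` -/
def ZipperStatement : Prop :=
  ∀ (Γ : Type u) [Group Γ] [Finite Γ] (A : Subgroup Γ), Subgroup.normalClosure (A : Set Γ) = ⊤ → A ≠ ⊤ →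
    (sSup {H : Subgroup Γ | A ≤ H ∧ H ≠ ⊤ ∧
        Subgroup.normalClosure ((A.subgroupOf H : Subgroup ↥H) : Set ↥H) = ⊤} = ⊤ ∨
      ∃! M : Subgroup Γ, IsCoatom M ∧ A ≤ M)

variable {G : Type u} [Group G]

/-- `c ↦ [c, α] = c α(c)⁻¹` -/
def commMap (α : MulAut G) (c : G) : G := c * (α c)⁻¹

lemma commMap_of_commute (α β : MulAut G) (h : β * α = α * β) (c : G) :
    commMap α (β c) = β (commMap α c) := by
  have h1 : α (β c) = β (α c) := by
    have := congrArg (fun e : MulAut G => e c) h
    exact this.symm
  simp only [commMap, map_mul, map_inv, h1]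

lemma iterate_commMap_of_commute (α β : MulAut G) (h : β * α = α * β) (k : ℕ) (c : G) :
    (commMap α)^[k] (β c) = β ((commMap α)^[k] c) := by
  induction k generalizing c with
  | zero => rfl
  | succ k ih =>
    rw [Function.iterate_succ_apply, Function.iterate_succ_apply, commMap_of_commute α β h, ih]

lemma map_mem_closure_iterate (α β : MulAut G) (h : β * α = α * β) (k : ℕ) {x : G}
    (hx : x ∈ Subgroup.closure (Set.range ((commMap α)^[k]))) :
    β x ∈ Subgroup.closure (Set.range ((commMap α)^[k])) := by
  induction hx using Subgroup.closure_induction with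
  | mem x hx =>
    obtain ⟨c, rfl⟩ := hx
    exact Subgroup.subset_closure ⟨β c, iterate_commMap_of_commute α β h k c⟩
  | one => rw [map_one]; exact one_mem _
  | mul x y _ _ hx hy => rw [map_mul]; exact mul_mem hx hy
  | inv x _ hx => rw [map_inv]; exact inv_mem hx

lemma map_mem_closure_image (α β : MulAut G) (h : β * α = α * β) (K : Subgroup G)
    (hK : ∀ x ∈ K, β x ∈ K) {x : G}
    (hx : x ∈ Subgroup.closure (commMap α '' (K : Set G))) :
    β x ∈ Subgroup.closure (commMap α '' (K : Set G)) := by
  induction hx using Subgroup.closure_induction with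
  | mem x hx =>
    obtain ⟨c, hc, rfl⟩ := hx
    exact Subgroup.subset_closure ⟨β c, hK c hc, commMap_of_commute α β h c⟩
  | one => rw [map_one]; exact one_mem _
  | mul x y _ _ hx hy => rw [map_mul]; exact mul_mem hx hy
  | inv x _ hx => rw [map_inv]; exact inv_mem hx

lemma commute_of_mem_zpowers (α : MulAut G) {β : MulAut G} (hβ : β ∈ Subgroup.zpowers α) :
    β * α = α * β := by
  obtain ⟨i, rfl⟩ := Subgroup.mem_zpowers_iff.mp hβ
  exact (Commute.zpow_self α i).eq

lemma commute_of_mem_zpowers' (α : MulAut G) {β γ : MulAut G} (hβ : β ∈ Subgroup.zpowers α)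
    (hγ : γ ∈ Subgroup.zpowers α) : β * γ = γ * β := by
  obtain ⟨i, rfl⟩ := Subgroup.mem_zpowers_iff.mp hβ
  obtain ⟨j, rfl⟩ := Subgroup.mem_zpowers_iff.mp hγ
  exact (Commute.zpow_zpow_self α i j).eq

/-- for a `Z`-invariant subgroup `K` of `G`, the subgroup `K ⋊ Z` of `G ⋊ Z` -/
def leftSubgroup (Z : Subgroup (MulAut G)) (K : Subgroup G) (hK : ∀ β ∈ Z, ∀ x ∈ K, β x ∈ K) :
    Subgroup (G ⋊[Z.subtype] Z) where
  carrier := {x | x.left ∈ K}
  one_mem' := K.one_mem
  mul_mem' := by
    intro x y hx hy
    show (x * y).left ∈ K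
    rw [SemidirectProduct.mul_left]
    exact K.mul_mem hx (hK _ x.right.2 _ hy)
  inv_mem' := by
    intro x hx
    show (x⁻¹).left ∈ K
    rw [SemidirectProduct.inv_left]
    exact hK _ (x.right⁻¹).2 _ (K.inv_mem hx)

lemma mem_leftSubgroup (Z : Subgroup (MulAut G)) (K : Subgroup G) (hK : ∀ β ∈ Z, ∀ x ∈ K, β x ∈ K)
    (x : G ⋊[Z.subtype] Z) : x ∈ leftSubgroup Z K hK ↔ x.left ∈ K := Iff.rfl

/-- restriction of an automorphism to an invariant subgroup -/
def restrictAut (α : MulAut G) (K : Subgroup G) (h1 : ∀ x ∈ K, α x ∈ K)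
    (h2 : ∀ x ∈ K, α⁻¹ x ∈ K) : MulAut ↥K where
  toFun := fun x => ⟨α x, h1 x x.2⟩
  invFun := fun x => ⟨α⁻¹ x, h2 x x.2⟩
  left_inv := fun x => Subtype.ext (by simp)
  right_inv := fun x => Subtype.ext (by simp)
  map_mul' := fun x y => Subtype.ext (by simp)

lemma restrictAut_coe (α : MulAut G) (K : Subgroup G) (h1 : ∀ x ∈ K, α x ∈ K)
    (h2 : ∀ x ∈ K, α⁻¹ x ∈ K) (x : ↥K) : ((restrictAut α K h1 h2 x : ↥K) : G) = α x := rfl

lemma commMap_restrictAut_coe (α : MulAut G) (K : Subgroup G) (h1 : ∀ x ∈ K, α x ∈ K)
    (h2 : ∀ x ∈ K, α⁻¹ x ∈ K) (x : ↥K) :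
    ((commMap (restrictAut α K h1 h2) x : ↥K) : G) = commMap α x := by
  simp [commMap, restrictAut_coe]

lemma iterate_commMap_restrictAut_coe (α : MulAut G) (K : Subgroup G) (h1 : ∀ x ∈ K, α x ∈ K)
    (h2 : ∀ x ∈ K, α⁻¹ x ∈ K) (k : ℕ) (x : ↥K) :
    (((commMap (restrictAut α K h1 h2))^[k] x : ↥K) : G) = (commMap α)^[k] x := by
  induction k generalizing x with
  | zero => rfl
  | succ k ih =>
    rw [Function.iterate_succ_apply, Function.iterate_succ_apply, ih, commMap_restrictAut_coe]

/-- `[g, α^i] ∈ ⟨[K, α]⟩` for an `α`-invariant subgroup `K` -/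
lemma mul_pow_inv_mem (α : MulAut G) (K : Subgroup G) (h1 : ∀ x ∈ K, α x ∈ K) (i : ℕ) :
    ∀ g ∈ K, g * ((α ^ i) g)⁻¹ ∈ Subgroup.closure (commMap α '' (K : Set G)) := by
  induction i with
  | zero => intro g _; simp
  | succ i ih =>
    intro g hg
    have h3 : (α ^ (i + 1)) g = (α ^ i) (α g) := by
      rw [pow_succ, MulAut.mul_apply]
    have h4 : g * ((α ^ (i + 1)) g)⁻¹ = commMap α g * (α g * ((α ^ i) (α g))⁻¹) := by
      rw [h3, commMap]; group
    rw [h4]
    exact mul_mem (Subgroup.subset_closure ⟨g, hg, rfl⟩) (ih (α g) (h1 g hg))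

lemma mul_zpowers_inv_mem (α : MulAut G) (K : Subgroup G)
    (hK : ∀ β ∈ Subgroup.zpowers α, ∀ x ∈ K, β x ∈ K) :
    ∀ γ ∈ Subgroup.zpowers α, ∀ g ∈ K, g * (γ g)⁻¹ ∈ Subgroup.closure (commMap α '' (K : Set G)) := by
  intro γ hγ g hg
  have h1 : ∀ x ∈ K, α x ∈ K := hK α (Subgroup.mem_zpowers α)
  obtain ⟨i, rfl⟩ := Subgroup.mem_zpowers_iff.mp hγ
  obtain ⟨n, rfl | rfl⟩ := Int.eq_nat_or_neg i
  · rw [zpow_natCast]
    exact mul_pow_inv_mem α K h1 n g hg
  · rw [zpow_neg, zpow_natCast]
    have hg' : (α ^ n)⁻¹ g ∈ K :=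
      hK _ (inv_mem (pow_mem (Subgroup.mem_zpowers α) n)) g hg
    have h3 : (α ^ n) ((α ^ n)⁻¹ g) = g := by simp
    have h4 : g * ((α ^ n)⁻¹ g)⁻¹ = ((α ^ n)⁻¹ g * ((α ^ n) ((α ^ n)⁻¹ g))⁻¹)⁻¹ := by
      rw [h3]; group
    rw [h4]
    exact inv_mem (mul_pow_inv_mem α K h1 n _ hg')

lemma inl_commMap (Z : Subgroup (MulAut G)) (α : MulAut G) (hαZ : α ∈ Z) (c : G) :
    (SemidirectProduct.inl (commMap α c) : G ⋊[Z.subtype] Z) =
      SemidirectProduct.inl c * SemidirectProduct.inr ⟨α, hαZ⟩ * (SemidirectProduct.inl c)⁻¹ *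
        (SemidirectProduct.inr ⟨α, hαZ⟩)⁻¹ := by
  ext <;> simp [commMap]

/-- **iterated commutator values generate** (given the generalised zipper lemma) -/
theorem closure_iterate_commMap (hW : ZipperStatement.{u}) :
    ∀ (n : ℕ) (G : Type u) [Group G] [Finite G], Nat.card G = n →
    ∀ α : MulAut G, Subgroup.closure (Set.range (commMap α)) = ⊤ → ∀ k : ℕ,
      Subgroup.closure (Set.range ((commMap α)^[k])) = ⊤ := by
  intro n
  induction n using Nat.strong_induction_on with
  | _ n ih =>
  intro G _ _ hn α hα k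
  have hαZ : α ∈ Subgroup.zpowers α := Subgroup.mem_zpowers α
  have hfin : Finite (G ⋊[(Subgroup.zpowers α).subtype] (Subgroup.zpowers α)) :=
    Finite.of_equiv _ (SemidirectProduct.equivProd (φ := (Subgroup.zpowers α).subtype)).symm
  have hGkinv : ∀ β ∈ Subgroup.zpowers α,
      ∀ x ∈ Subgroup.closure (Set.range ((commMap α)^[k])), β x ∈
        Subgroup.closure (Set.range ((commMap α)^[k])) := fun β hβ x hx =>
    map_mem_closure_iterate α β (commute_of_mem_zpowers α hβ) k hx
  -- the subgroup `A = ⟨α⟩` of `Γ = G ⋊ ⟨α⟩`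
  obtain ⟨A, hA⟩ : ∃ A : Subgroup (G ⋊[(Subgroup.zpowers α).subtype] (Subgroup.zpowers α)),
      A = (SemidirectProduct.inr : (Subgroup.zpowers α) →* _).range := ⟨_, rfl⟩
  have hAmem : ∀ β : Subgroup.zpowers α, (SemidirectProduct.inr β :
      G ⋊[(Subgroup.zpowers α).subtype] (Subgroup.zpowers α)) ∈ A := by
    intro β; rw [hA]; exact ⟨β, rfl⟩
  have hAT : A ≤ leftSubgroup (Subgroup.zpowers α) _ hGkinv := by
    intro x hx
    rw [hA] at hx
    obtain ⟨β, rfl⟩ := hx
    rw [mem_leftSubgroup, SemidirectProduct.left_inr]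
    exact one_mem _
  -- it suffices that `T = ⊤`
  suffices hTtop : leftSubgroup (Subgroup.zpowers α) _ hGkinv = ⊤ by
    rw [eq_top_iff]
    intro g _
    have : (SemidirectProduct.inl g : G ⋊[(Subgroup.zpowers α).subtype] (Subgroup.zpowers α)) ∈
        leftSubgroup (Subgroup.zpowers α) _ hGkinv := by rw [hTtop]; trivial
    rwa [mem_leftSubgroup, SemidirectProduct.left_inl] at this
  -- decomposition of subgroups containing `A`
  have hdecomp : ∀ (H : Subgroup (G ⋊[(Subgroup.zpowers α).subtype] (Subgroup.zpowers α))), A ≤ H →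
      ∀ x, x ∈ H ↔ SemidirectProduct.inl x.left ∈ H := by
    intro H hAH x
    have hr : (SemidirectProduct.inr x.right :
        G ⋊[(Subgroup.zpowers α).subtype] (Subgroup.zpowers α)) ∈ H := hAH (hAmem _)
    constructor
    · intro hx
      have h1 : (SemidirectProduct.inl x.left :
          G ⋊[(Subgroup.zpowers α).subtype] (Subgroup.zpowers α)) =
          x * (SemidirectProduct.inr x.right)⁻¹ := by
        rw [eq_mul_inv_iff_mul_eq, SemidirectProduct.inl_left_mul_inr_right]
      rw [h1]; exact mul_mem hx (inv_mem hr)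
    · intro hx
      rw [← SemidirectProduct.inl_left_mul_inr_right x]
      exact mul_mem hx hr
  by_cases hAtop : A = ⊤
  · -- `G` is trivial
    rw [eq_top_iff]
    intro x _
    rw [mem_leftSubgroup]
    have hx : (SemidirectProduct.inl x.left :
        G ⋊[(Subgroup.zpowers α).subtype] (Subgroup.zpowers α)) ∈ A := by rw [hAtop]; trivial
    rw [hA] at hx
    obtain ⟨β, hβ⟩ := hx
    have h1 := congrArg SemidirectProduct.left hβ
    rw [SemidirectProduct.left_inr, SemidirectProduct.left_inl] at h1
    rw [← h1]; exact one_mem _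
  · have hnc : Subgroup.normalClosure
        (A : Set (G ⋊[(Subgroup.zpowers α).subtype] (Subgroup.zpowers α))) = ⊤ := by
      rw [eq_top_iff]
      intro x _
      rw [hdecomp _ Subgroup.le_normalClosure x]
      have h2 : ∀ g : G, (SemidirectProduct.inl g :
          G ⋊[(Subgroup.zpowers α).subtype] (Subgroup.zpowers α)) ∈
          Subgroup.normalClosure (A : Set _) := by
        intro g
        have hg : g ∈ Subgroup.closure (Set.range (commMap α)) := by rw [hα]; trivial
        induction hg using Subgroup.closure_induction with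
        | mem y hy =>
          obtain ⟨c, rfl⟩ := hy
          rw [inl_commMap (Subgroup.zpowers α) α hαZ c]
          have h3 : (SemidirectProduct.inr ⟨α, hαZ⟩ :
              G ⋊[(Subgroup.zpowers α).subtype] (Subgroup.zpowers α)) ∈
              Subgroup.normalClosure (A : Set _) := Subgroup.le_normalClosure (hAmem _)
          exact mul_mem (Subgroup.normalClosure_normal.conj_mem _ h3 _) (inv_mem h3)
        | one => rw [map_one]; exact one_mem _
        | mul y z _ _ hy hz => rw [map_mul]; exact mul_mem hy hz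
        | inv y _ hy => rw [map_inv]; exact inv_mem hy
      exact h2 _
    rcases hW _ A hnc hAtop with h1 | h2
    · rw [eq_top_iff, ← h1]
      apply sSup_le
      rintro H ⟨hAH, hHtop, hHnc⟩
      obtain ⟨H₀, hH₀⟩ : ∃ H₀ : Subgroup G, H₀ = H.comap (SemidirectProduct.inl : G →* _) := ⟨_, rfl⟩
      have hH₀mem : ∀ g : G, g ∈ H₀ ↔ (SemidirectProduct.inl g :
          G ⋊[(Subgroup.zpowers α).subtype] (Subgroup.zpowers α)) ∈ H := by
        intro g; rw [hH₀, Subgroup.mem_comap]
      have hH₀inv : ∀ β ∈ Subgroup.zpowers α, ∀ x ∈ H₀, β x ∈ H₀ := by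
        intro β hβ x hx
        rw [hH₀mem] at hx ⊢
        have h3 : (SemidirectProduct.inl (β x) :
            G ⋊[(Subgroup.zpowers α).subtype] (Subgroup.zpowers α)) =
            SemidirectProduct.inr ⟨β, hβ⟩ * SemidirectProduct.inl x *
              SemidirectProduct.inr (⟨β, hβ⟩ : Subgroup.zpowers α)⁻¹ :=
          SemidirectProduct.inl_aut (φ := (Subgroup.zpowers α).subtype) ⟨β, hβ⟩ x
        rw [h3]
        exact mul_mem (mul_mem (hAH (hAmem _)) hx) (hAH (hAmem _))
      intro x hx
      rw [mem_leftSubgroup]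
      have hx0 : x.left ∈ H₀ := (hH₀mem _).mpr ((hdecomp H hAH x).mp hx)
      have hH₀top : H₀ ≠ ⊤ := by
        intro htop
        apply hHtop
        rw [eq_top_iff]
        intro y _
        rw [hdecomp H hAH y, ← hH₀mem, htop]
        trivial
      have hcard : Nat.card H₀ < n := by
        rw [← hn]
        have h4 := Subgroup.card_le_card_group H₀
        have h5 : Nat.card H₀ ≠ Nat.card G := fun h => hH₀top (Subgroup.eq_top_of_card_eq H₀ h)
        omega
      have h1' : ∀ x ∈ H₀, α x ∈ H₀ := hH₀inv α hαZ
      have h2' : ∀ x ∈ H₀, α⁻¹ x ∈ H₀ := hH₀inv α⁻¹ (inv_mem hαZ)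
      have hgen : Subgroup.closure (Set.range (commMap (restrictAut α H₀ h1' h2'))) = ⊤ := by
        have hLinv : ∀ β ∈ Subgroup.zpowers α,
            ∀ y ∈ Subgroup.closure (commMap α '' (H₀ : Set G)),
              β y ∈ Subgroup.closure (commMap α '' (H₀ : Set G)) :=
          fun β hβ y hy =>
            map_mem_closure_image α β (commute_of_mem_zpowers α hβ) H₀ (hH₀inv β hβ) hy
        have hHL : H ≤ leftSubgroup (Subgroup.zpowers α) _ hLinv := by
          intro y hy
          have hy' : (⟨y, hy⟩ : ↥H) ∈
              Subgroup.normalClosure ((A.subgroupOf H : Subgroup ↥H) : Set ↥H) := by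
            rw [hHnc]; trivial
          have key : ∀ z : ↥H,
              z ∈ Subgroup.normalClosure ((A.subgroupOf H : Subgroup ↥H) : Set ↥H) →
              ((z : ↥H) : G ⋊[(Subgroup.zpowers α).subtype] (Subgroup.zpowers α)) ∈
                leftSubgroup (Subgroup.zpowers α) _ hLinv := by
            intro z hz
            unfold Subgroup.normalClosure at hz
            induction hz using Subgroup.closure_induction with
            | mem w hw =>
              rw [Group.mem_conjugatesOfSet_iff] at hw
              obtain ⟨b, hb, hconj⟩ := hw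
              rw [isConj_iff] at hconj
              obtain ⟨h, rfl⟩ := hconj
              have hbA : ((b : ↥H) : G ⋊[(Subgroup.zpowers α).subtype] (Subgroup.zpowers α)) ∈ A :=
                Subgroup.mem_subgroupOf.mp hb
              rw [hA] at hbA
              obtain ⟨γ, hγ⟩ := hbA
              rw [mem_leftSubgroup]
              have hc := commute_of_mem_zpowers' α
                ((h : ↥H) : G ⋊[(Subgroup.zpowers α).subtype] (Subgroup.zpowers α)).right.2 γ.2
              have hleft : (((h * b * h⁻¹ : ↥H) : ↥H) :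
                  G ⋊[(Subgroup.zpowers α).subtype] (Subgroup.zpowers α)).left =
                  ((h : ↥H) : G ⋊[(Subgroup.zpowers α).subtype] (Subgroup.zpowers α)).left *
                    ((γ : MulAut G)
                      ((h : ↥H) : G ⋊[(Subgroup.zpowers α).subtype] (Subgroup.zpowers α)).left)⁻¹ := by
                rw [Subgroup.coe_mul, Subgroup.coe_mul, Subgroup.coe_inv, ← hγ]
                simp only [SemidirectProduct.mul_left, SemidirectProduct.inv_left,
                  SemidirectProduct.left_inr, SemidirectProduct.mul_right,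
                  SemidirectProduct.right_inr, map_one, mul_one]
                congr 1
                rw [Subgroup.subtype_apply, Subgroup.subtype_apply, Subgroup.coe_mul, Subgroup.coe_inv,
                  hc, MulAut.mul_apply, MulAut.apply_inv_self, map_inv]
              rw [hleft]
              exact mul_zpowers_inv_mem α H₀ hH₀inv γ γ.2 _
                ((hH₀mem _).mpr ((hdecomp H hAH h).mp h.2))
            | one => exact one_mem _
            | mul a b _ _ ha hb => exact mul_mem ha hb
            | inv a _ ha => exact inv_mem ha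
          exact key _ hy'
        rw [eq_top_iff]
        intro y _
        have hyL : (y : G) ∈ Subgroup.closure (commMap α '' (H₀ : Set G)) := by
          have h5 : (SemidirectProduct.inl (y : G) :
              G ⋊[(Subgroup.zpowers α).subtype] (Subgroup.zpowers α)) ∈ H := (hH₀mem _).mp y.2
          have h6 := hHL h5
          rwa [mem_leftSubgroup, SemidirectProduct.left_inl] at h6
        have hmapeq : (Subgroup.closure (Set.range (commMap (restrictAut α H₀ h1' h2')))).map
            H₀.subtype = Subgroup.closure (commMap α '' (H₀ : Set G)) := by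
          rw [MonoidHom.map_closure]
          congr 1
          ext z
          constructor
          · rintro ⟨_, ⟨c, rfl⟩, rfl⟩
            exact ⟨c, c.2, (commMap_restrictAut_coe α H₀ h1' h2' c).symm⟩
          · rintro ⟨c, hc, rfl⟩
            exact ⟨commMap (restrictAut α H₀ h1' h2') ⟨c, hc⟩, ⟨⟨c, hc⟩, rfl⟩,
              commMap_restrictAut_coe α H₀ h1' h2' ⟨c, hc⟩⟩
        rw [← hmapeq] at hyL
        obtain ⟨w, hw, hwy⟩ := hyL
        have hwy' : w = y := Subtype.ext hwy
        rwa [hwy'] at hw
      have hk := ih _ hcard ↥H₀ rfl (restrictAut α H₀ h1' h2') hgen k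
      have hx1 : (⟨x.left, hx0⟩ : ↥H₀) ∈
          Subgroup.closure (Set.range ((commMap (restrictAut α H₀ h1' h2'))^[k])) := by
        rw [hk]; trivial
      have hmap : ∀ y : ↥H₀,
          y ∈ Subgroup.closure (Set.range ((commMap (restrictAut α H₀ h1' h2'))^[k])) →
          (y : G) ∈ Subgroup.closure (Set.range ((commMap α)^[k])) := by
        intro y hy
        induction hy using Subgroup.closure_induction with
        | mem z hz =>
          obtain ⟨c, rfl⟩ := hz
          rw [iterate_commMap_restrictAut_coe]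
          exact Subgroup.subset_closure ⟨c, rfl⟩
        | one => exact one_mem _
        | mul a b _ _ ha hb => exact mul_mem ha hb
        | inv a _ ha => exact inv_mem ha
      exact hmap _ hx1
    · obtain ⟨M, ⟨hMco, hAM⟩, hMuniq⟩ := h2
      by_contra hTne
      obtain ⟨M', hM'co, hTM'⟩ :=
        (eq_top_or_exists_le_coatom (leftSubgroup (Subgroup.zpowers α) _ hGkinv)).resolve_left hTne
      have hM'M : M' = M := hMuniq M' ⟨hM'co, hAT.trans hTM'⟩
      rw [hM'M] at hTM'
      have hNM : Subgroup.normalizer
          (M : Set (G ⋊[(Subgroup.zpowers α).subtype] (Subgroup.zpowers α))) = M := by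
        by_contra hne
        have hlt : M < Subgroup.normalizer (M : Set _) :=
          lt_of_le_of_ne Subgroup.le_normalizer (Ne.symm hne)
        have htop := hMco.2 _ hlt
        have hMn : M.Normal := Subgroup.normalizer_eq_top_iff.mp htop
        have h5 : Subgroup.normalClosure (A : Set _) ≤ M := Subgroup.normalClosure_le_normal hAM
        rw [hnc] at h5
        exact hMco.1 (eq_top_iff.mpr h5)
      have hstar : ∀ d : G, (SemidirectProduct.inl (commMap α d) :
          G ⋊[(Subgroup.zpowers α).subtype] (Subgroup.zpowers α)) ∈ M →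
          (SemidirectProduct.inl d :
            G ⋊[(Subgroup.zpowers α).subtype] (Subgroup.zpowers α)) ∈ M := by
        intro d hd
        obtain ⟨a', ha'⟩ : ∃ a' : G ⋊[(Subgroup.zpowers α).subtype] (Subgroup.zpowers α),
            a' = SemidirectProduct.inr ⟨α, hαZ⟩ := ⟨_, rfl⟩
        obtain ⟨D, hD⟩ : ∃ D : G ⋊[(Subgroup.zpowers α).subtype] (Subgroup.zpowers α),
            D = SemidirectProduct.inl d := ⟨_, rfl⟩
        rw [← hD]
        have ha'M : a' ∈ M := by rw [ha']; exact hAM (hAmem _)
        have h3 : D * a' * D⁻¹ ∈ M := by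
          have h4 : D * a' * D⁻¹ = SemidirectProduct.inl (commMap α d) * a' := by
            rw [inl_commMap (Subgroup.zpowers α) α hαZ d, ← hD, ← ha']; group
          rw [h4]; exact mul_mem hd ha'M
        have hMdco : IsCoatom (M.map (MulAut.conj D⁻¹).toMonoidHom) := by
          have h6 := (MulEquiv.mapSubgroup (MulAut.conj D⁻¹)).isCoatom_iff M
          rw [MulEquiv.coe_mapSubgroup] at h6
          exact h6.mpr hMco
        have ha'Md : a' ∈ M.map (MulAut.conj D⁻¹).toMonoidHom := by
          rw [Subgroup.mem_map]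
          refine ⟨D * a' * D⁻¹, h3, ?_⟩
          show MulAut.conj D⁻¹ (D * a' * D⁻¹) = a'
          rw [MulAut.conj_apply]; group
        have hAMd : A ≤ M.map (MulAut.conj D⁻¹).toMonoidHom := by
          intro y hy
          rw [hA] at hy
          obtain ⟨β, rfl⟩ := hy
          obtain ⟨i, hi⟩ := Subgroup.mem_zpowers_iff.mp β.2
          have hβ : (SemidirectProduct.inr β :
              G ⋊[(Subgroup.zpowers α).subtype] (Subgroup.zpowers α)) = a' ^ i := by
            rw [ha', ← map_zpow]
            congr 1
            apply Subtype.ext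
            rw [Subgroup.coe_zpow]
            exact hi.symm
          rw [hβ]
          exact zpow_mem ha'Md i
        have hMdM : M.map (MulAut.conj D⁻¹).toMonoidHom = M := hMuniq _ ⟨hMdco, hAMd⟩
        have hDnorm : D⁻¹ ∈ Subgroup.normalizer (M : Set _) := by
          rw [Subgroup.mem_normalizer_iff]
          intro m
          constructor
          · intro hm
            rw [← hMdM]
            exact ⟨m, hm, by show MulAut.conj D⁻¹ m = _; rw [MulAut.conj_apply]⟩
          · intro hm
            rw [← hMdM] at hm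
            obtain ⟨m', hm', hmm⟩ := hm
            have hmm' : MulAut.conj D⁻¹ m' = D⁻¹ * m * D⁻¹⁻¹ := hmm
            rw [MulAut.conj_apply] at hmm'
            have h7 : m' = m := by
              have := mul_left_cancel (mul_right_cancel hmm')
              exact this
            rwa [← h7]
        rw [hNM] at hDnorm
        have h8 := inv_mem hDnorm
        rwa [inv_inv] at h8
      have hall : ∀ j : ℕ, (∀ c : G, (SemidirectProduct.inl ((commMap α)^[j] c) :
          G ⋊[(Subgroup.zpowers α).subtype] (Subgroup.zpowers α)) ∈ M) →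
          ∀ c : G, (SemidirectProduct.inl c :
            G ⋊[(Subgroup.zpowers α).subtype] (Subgroup.zpowers α)) ∈ M := by
        intro j
        induction j with
        | zero => intro h c; exact h c
        | succ j ihj =>
          intro h
          apply ihj
          intro c
          apply hstar
          have h9 := h c
          rwa [Function.iterate_succ_apply'] at h9
      have hkM : ∀ c : G, (SemidirectProduct.inl ((commMap α)^[k] c) :
          G ⋊[(Subgroup.zpowers α).subtype] (Subgroup.zpowers α)) ∈ M := by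
        intro c
        apply hTM'
        rw [mem_leftSubgroup, SemidirectProduct.left_inl]
        exact Subgroup.subset_closure ⟨c, rfl⟩
      have hinl := hall k hkM
      apply hMco.1
      rw [eq_top_iff]
      intro x _
      rw [hdecomp M hAM x]
      exact hinl _

/-- the statement of S3927, given the generalised zipper lemma -/
theorem iterated_commutators_generate (hW : ZipperStatement.{u}) {G : Type u} [Group G] [Finite G]
    (α : MulAut G)
    (hG : Subgroup.closure (Set.range (fun c : G => c * (α c)⁻¹)) = ⊤) (k : ℕ) (_hk : 1 ≤ k) :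
    Subgroup.closure (Set.range ((fun c : G => c * (α c)⁻¹)^[k])) = ⊤ :=
  closure_iterate_commMap hW _ G rfl α hG k

end IterComm

end Cfsg.Agent.Lib.Helper65
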