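import Mathlib
import Cfsg.Prelude
import Cfsg.Agent.Lib.Helper64.Metacyclic3

/-!
Chermak–Delgado measure `|R| * |C_G(R)|` in metacyclic `p`-groups, `p` odd: it is monotone in `R`,
equal to `|G| * |Z(G)|` exactly for the subgroups containing the centre, and these subgroups satisfy the
double centralizer property.
-/

set_option autoImplicit false

namespace Cfsg.Agent.Lib.Helper65

open Cfsg.Agent.Lib.Helper64

section MetaCD

variable {G : Type*} [Group G]

/-- in a finite group the elements of a cyclic subgroup killed by `q` are at most `q` -/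
lemma card_pow_eq_one_le_of_mem_zpowers [Finite G] (a : G) (q : ℕ) (hq : 0 < q) :
    Nat.card {t : G // t ∈ Subgroup.zpowers a ∧ t ^ q = 1} ≤ q := by
  classical
  haveI := Fintype.ofFinite ↥(Subgroup.zpowers a)
  have h1 := IsCyclic.card_pow_eq_one_le (α := ↥(Subgroup.zpowers a)) hq
  have h2 : Nat.card {t : ↥(Subgroup.zpowers a) // t ^ q = 1} ≤ q := by
    rw [Nat.card_eq_fintype_card, Fintype.card_subtype]
    exact h1
  refine le_trans ?_ h2
  apply Nat.card_le_card_of_injective
    (fun t : {t : G // t ∈ Subgroup.zpowers a ∧ t ^ q = 1} =>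
      (⟨⟨t.1, t.2.1⟩, Subtype.ext (by simpa using t.2.2)⟩ : {t : ↥(Subgroup.zpowers a) // t ^ q = 1}))
  intro s t hst
  apply Subtype.ext
  have := congrArg (fun u : {t : ↥(Subgroup.zpowers a) // t ^ q = 1} => (u.1 : G)) hst
  exact this

variable [Finite G] {p : ℕ} [hp : Fact p.Prime]

/-- The step: adjoining `g` to `T` shrinks the centralizer at most by `|⟨g⟩ : ⟨g⟩ ∩ T|`. -/
lemma card_centralizer_le_mul (hp2 : p ≠ 2) (hG : IsPGroup p G) (a : G)
    (hnorm : ∀ x : G, x * a * x⁻¹ ∈ Subgroup.zpowers a)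
    (hcomm : ∀ x g : G, x * g * x⁻¹ * g⁻¹ ∈ Subgroup.zpowers a) (T : Subgroup G) (g : G) :
    Nat.card (Subgroup.centralizer (T : Set G)) ≤ T.relIndex (Subgroup.zpowers g) *
      Nat.card (Subgroup.centralizer ((T ⊔ Subgroup.zpowers g : Subgroup G) : Set G)) := by
  set C := Subgroup.centralizer (T : Set G) with hC
  set q := T.relIndex (Subgroup.zpowers g) with hq
  have hq0 : 0 < q := Nat.pos_of_ne_zero Subgroup.index_ne_zero_of_finite
  set D := C ⊓ Subgroup.centralizer ({g} : Set G) with hD
  have hDle : D ≤ Subgroup.centralizer ((T ⊔ Subgroup.zpowers g : Subgroup G) : Set G) := by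
    rw [Subgroup.le_centralizer_iff, sup_le_iff]
    constructor
    · rw [← Subgroup.le_centralizer_iff]
      exact inf_le_left
    · rw [Subgroup.zpowers_le, Subgroup.mem_centralizer_iff]
      intro x hx
      have := Subgroup.mem_centralizer_singleton_iff.mp hx.2
      exact this
  have hgq : g ^ q ∈ T := (pow_mem_iff_relIndex_dvd T g q).mpr dvd_rfl
  -- the commutator map
  have hpow : ∀ x ∈ C, (x * g * x⁻¹ * g⁻¹) ^ q = 1 := by
    intro x hx
    have h1 : Commute (g ^ q) x := by
      have := Subgroup.mem_centralizer_iff.mp hx (g ^ q) hgq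
      exact this
    have h2 := orderOf_dvd_of_commute_pow hp2 hG a g x (hnorm g) (hcomm g x) q h1
    have h3 : (g * x * g⁻¹ * x⁻¹) ^ q = 1 := orderOf_dvd_iff_pow_eq_one.mp h2
    have e : x * g * x⁻¹ * g⁻¹ = (g * x * g⁻¹ * x⁻¹)⁻¹ := by group
    rw [e, inv_pow, h3, inv_one]
  let f : C ⧸ D.subgroupOf C → {t : G // t ∈ Subgroup.zpowers a ∧ t ^ q = 1} := fun u =>
    Quotient.liftOn' u (fun x => (⟨(x : G) * g * (x : G)⁻¹ * g⁻¹, hcomm x g, hpow x x.2⟩ :
      {t : G // t ∈ Subgroup.zpowers a ∧ t ^ q = 1})) (by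
      intro x y hxy
      rw [QuotientGroup.leftRel_apply, Subgroup.mem_subgroupOf] at hxy
      have hxy2 := Subgroup.mem_centralizer_singleton_iff.mp hxy.2
      apply Subtype.ext
      show (x : G) * g * (x : G)⁻¹ * g⁻¹ = (y : G) * g * (y : G)⁻¹ * g⁻¹
      have hc : ((x⁻¹ * y : C) : G) = (x : G)⁻¹ * (y : G) := by simp
      rw [hc] at hxy2
      have : (x : G) * g * (x : G)⁻¹ = (y : G) * g * (y : G)⁻¹ := by
        have e : (y : G) * g * (y : G)⁻¹ = (x : G) * ((x : G)⁻¹ * (y : G) * g) * (y : G)⁻¹ := by group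
        rw [e, hxy2]; group
      rw [this])
  have hf : Function.Injective f := by
    intro u₁ u₂
    induction u₁ using QuotientGroup.induction_on with | _ x => ?_
    induction u₂ using QuotientGroup.induction_on with | _ y => ?_
    intro hxy
    have h1 : (x : G) * g * (x : G)⁻¹ * g⁻¹ = (y : G) * g * (y : G)⁻¹ * g⁻¹ := congrArg Subtype.val hxy
    have h2 : (x : G) * g * (x : G)⁻¹ = (y : G) * g * (y : G)⁻¹ := mul_right_cancel h1
    rw [QuotientGroup.eq, Subgroup.mem_subgroupOf]
    have hc : ((x⁻¹ * y : C) : G) = (x : G)⁻¹ * (y : G) := by simp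
    rw [hc, hD, Subgroup.mem_inf]
    refine ⟨mul_mem (inv_mem x.2) y.2, ?_⟩
    rw [Subgroup.mem_centralizer_singleton_iff]
    calc (x : G)⁻¹ * (y : G) * g = (x : G)⁻¹ * ((y : G) * g * (y : G)⁻¹) * (y : G) := by group
      _ = (x : G)⁻¹ * ((x : G) * g * (x : G)⁻¹) * (y : G) := by rw [h2]
      _ = g * ((x : G)⁻¹ * (y : G)) := by group
  have h1 : D.relIndex C ≤ q := by
    rw [Subgroup.relIndex, Subgroup.index_eq_card]
    exact (Nat.card_le_card_of_injective f hf).trans (card_pow_eq_one_le_of_mem_zpowers a q hq0)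
  have h2 := card_inf_mul_relIndex D C
  rw [inf_eq_left.mpr (inf_le_left : D ≤ C)] at h2
  rw [← h2, mul_comm]
  exact Nat.mul_le_mul h1 (Subgroup.card_le_of_le hDle)

/-- one step of monotonicity of the Chermak–Delgado measure -/
lemma cd_step (hp2 : p ≠ 2) (hG : IsPGroup p G) (a : G)
    (hnorm : ∀ x : G, x * a * x⁻¹ ∈ Subgroup.zpowers a)
    (hcomm : ∀ x g : G, x * g * x⁻¹ * g⁻¹ ∈ Subgroup.zpowers a) (T : Subgroup G) (g : G) :
    Nat.card T * Nat.card (Subgroup.centralizer (T : Set G)) ≤
      Nat.card (T ⊔ Subgroup.zpowers g : Subgroup G) *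
        Nat.card (Subgroup.centralizer ((T ⊔ Subgroup.zpowers g : Subgroup G) : Set G)) := by
  have h1 := card_centralizer_le_mul hp2 hG a hnorm hcomm T g
  have h2 : T.relIndex (Subgroup.zpowers g) ≤ T.relIndex (T ⊔ Subgroup.zpowers g) :=
    Subgroup.relIndex_le_of_le_right le_sup_right Subgroup.index_ne_zero_of_finite
  have h3 := card_inf_mul_relIndex T (T ⊔ Subgroup.zpowers g)
  rw [inf_eq_left.mpr (le_sup_left : T ≤ T ⊔ Subgroup.zpowers g)] at h3
  calc Nat.card T * Nat.card (Subgroup.centralizer (T : Set G))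
      ≤ Nat.card T * (T.relIndex (Subgroup.zpowers g) *
        Nat.card (Subgroup.centralizer ((T ⊔ Subgroup.zpowers g : Subgroup G) : Set G))) :=
        Nat.mul_le_mul_left _ h1
    _ = (Nat.card T * T.relIndex (Subgroup.zpowers g)) *
        Nat.card (Subgroup.centralizer ((T ⊔ Subgroup.zpowers g : Subgroup G) : Set G)) := by ring
    _ ≤ (Nat.card T * T.relIndex (T ⊔ Subgroup.zpowers g)) *
        Nat.card (Subgroup.centralizer ((T ⊔ Subgroup.zpowers g : Subgroup G) : Set G)) :=
        Nat.mul_le_mul_right _ (Nat.mul_le_mul_left _ h2)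
    _ = _ := by rw [h3]

/-- monotonicity of the Chermak–Delgado measure (with explicit generator data) -/
lemma cd_mono_aux (hp2 : p ≠ 2) (hG : IsPGroup p G) (a : G)
    (hnorm : ∀ x : G, x * a * x⁻¹ ∈ Subgroup.zpowers a)
    (hcomm : ∀ x g : G, x * g * x⁻¹ * g⁻¹ ∈ Subgroup.zpowers a) (T' : Subgroup G) :
    ∀ (k : ℕ) (T : Subgroup G), T ≤ T' → Nat.card T' - Nat.card T = k →
    Nat.card T * Nat.card (Subgroup.centralizer (T : Set G)) ≤
      Nat.card T' * Nat.card (Subgroup.centralizer (T' : Set G)) := by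
  intro k
  induction k using Nat.strong_induction_on with
  | _ k ih =>
    intro T hTT' hk
    by_cases hT : T = T'
    · rw [hT]
    · obtain ⟨g, hgT', hgT⟩ : ∃ g, g ∈ T' ∧ g ∉ T := by
        by_contra hcon
        push Not at hcon
        exact hT (le_antisymm hTT' hcon)
      have h1 : T ⊔ Subgroup.zpowers g ≤ T' := sup_le hTT' (Subgroup.zpowers_le.mpr hgT')
      have h2 : T < T ⊔ Subgroup.zpowers g := by
        apply lt_of_le_of_ne le_sup_left
        intro h
        apply hgT
        rw [h]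
        exact (le_sup_right : Subgroup.zpowers g ≤ T ⊔ Subgroup.zpowers g) (Subgroup.mem_zpowers g)
      have h3 : Nat.card T < Nat.card (T ⊔ Subgroup.zpowers g : Subgroup G) :=
        Set.Finite.card_lt_card (Set.toFinite _) h2
      have h4 : Nat.card (T ⊔ Subgroup.zpowers g : Subgroup G) ≤ Nat.card T' :=
        Subgroup.card_le_of_le h1
      exact (cd_step hp2 hG a hnorm hcomm T g).trans
        (ih (Nat.card T' - Nat.card (T ⊔ Subgroup.zpowers g : Subgroup G)) (by omega) _ h1 rfl)

omit [Finite G] in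
/-- generator data of a metacyclic group -/
lemma exists_metacyclic_gen (hmc : Cfsg.IsMetacyclic G) :
    ∃ a : G, (∀ x : G, x * a * x⁻¹ ∈ Subgroup.zpowers a) ∧
      ∀ x g : G, x * g * x⁻¹ * g⁻¹ ∈ Subgroup.zpowers a := by
  obtain ⟨N, hNn, a, b, hN, hgen⟩ := exists_gens_of_isMetacyclic hmc
  have hG'N : commutator G ≤ N :=
    Subgroup.Normal.commutator_le_of_self_sup_commutative_eq_top hgen inferInstance
  refine ⟨a, ?_, ?_⟩
  · intro x
    rw [← hN]
    exact hNn.conj_mem a (by rw [hN]; exact Subgroup.mem_zpowers a) x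
  · intro x g
    rw [← hN]
    apply hG'N
    rw [commutator_def]
    exact Subgroup.commutator_mem_commutator (Subgroup.mem_top x) (Subgroup.mem_top g)

/-- **Monotonicity of the Chermak–Delgado measure** in metacyclic `p`-groups, `p` odd. -/
theorem cd_mono (hp2 : p ≠ 2) (hG : IsPGroup p G) (hmc : Cfsg.IsMetacyclic G) {T T' : Subgroup G}
    (h : T ≤ T') :
    Nat.card T * Nat.card (Subgroup.centralizer (T : Set G)) ≤
      Nat.card T' * Nat.card (Subgroup.centralizer (T' : Set G)) := by
  obtain ⟨a, hnorm, hcomm⟩ := exists_metacyclic_gen hmc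
  exact cd_mono_aux hp2 hG a hnorm hcomm T' _ T h rfl

omit [Finite G] hp in
lemma cd_top : Nat.card (⊤ : Subgroup G) * Nat.card (Subgroup.centralizer ((⊤ : Subgroup G) : Set G)) =
    Nat.card G * Nat.card (Subgroup.center G) := by
  rw [Subgroup.coe_top, Subgroup.centralizer_univ, Subgroup.card_top]

omit [Finite G] hp in
lemma cd_center : Nat.card (Subgroup.center G) *
    Nat.card (Subgroup.centralizer ((Subgroup.center G : Subgroup G) : Set G)) =
    Nat.card G * Nat.card (Subgroup.center G) := by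
  have : Subgroup.centralizer ((Subgroup.center G : Subgroup G) : Set G) = ⊤ := by
    rw [eq_top_iff, Subgroup.le_centralizer_iff]
    exact Subgroup.center_le_centralizer _
  rw [this, Subgroup.card_top, mul_comm]

/-- the Chermak–Delgado measure is bounded by `|G| |Z(G)|` -/
theorem cd_le (hp2 : p ≠ 2) (hG : IsPGroup p G) (hmc : Cfsg.IsMetacyclic G) (R : Subgroup G) :
    Nat.card R * Nat.card (Subgroup.centralizer (R : Set G)) ≤
      Nat.card G * Nat.card (Subgroup.center G) := by
  rw [← cd_top]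
  exact cd_mono hp2 hG hmc le_top

/-- the Chermak–Delgado measure equals `|G| |Z(G)|` for the subgroups containing the centre -/
theorem cd_eq (hp2 : p ≠ 2) (hG : IsPGroup p G) (hmc : Cfsg.IsMetacyclic G) (R : Subgroup G)
    (hZ : Subgroup.center G ≤ R) :
    Nat.card R * Nat.card (Subgroup.centralizer (R : Set G)) =
      Nat.card G * Nat.card (Subgroup.center G) := by
  apply le_antisymm (cd_le hp2 hG hmc R)
  rw [← cd_center]
  exact cd_mono hp2 hG hmc hZ

/-- the Chermak–Delgado measure is smaller than `|G| |Z(G)|` for subgroups not containing the centre -/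
theorem cd_lt (hp2 : p ≠ 2) (hG : IsPGroup p G) (hmc : Cfsg.IsMetacyclic G) (R : Subgroup G)
    (hZ : ¬ Subgroup.center G ≤ R) :
    Nat.card R * Nat.card (Subgroup.centralizer (R : Set G)) <
      Nat.card G * Nat.card (Subgroup.center G) := by
  have h1 : R < R ⊔ Subgroup.center G := by
    apply lt_of_le_of_ne le_sup_left
    intro h
    apply hZ
    rw [h]
    exact le_sup_right
  have h2 : Nat.card R < Nat.card (R ⊔ Subgroup.center G : Subgroup G) :=
    Set.Finite.card_lt_card (Set.toFinite _) h1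
  have h3 : Subgroup.centralizer (R : Set G) ≤
      Subgroup.centralizer ((R ⊔ Subgroup.center G : Subgroup G) : Set G) := by
    rw [Subgroup.le_centralizer_iff, sup_le_iff]
    constructor
    · rw [← Subgroup.le_centralizer_iff]
    · exact Subgroup.center_le_centralizer _
  have h4 := cd_le hp2 hG hmc (R ⊔ Subgroup.center G)
  have h5 : 0 < Nat.card (Subgroup.centralizer (R : Set G)) := Nat.card_pos
  calc Nat.card R * Nat.card (Subgroup.centralizer (R : Set G))
      < Nat.card (R ⊔ Subgroup.center G : Subgroup G) * Nat.card (Subgroup.centralizer (R : Set G)) :=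
        Nat.mul_lt_mul_of_pos_right h2 h5
    _ ≤ Nat.card (R ⊔ Subgroup.center G : Subgroup G) *
        Nat.card (Subgroup.centralizer ((R ⊔ Subgroup.center G : Subgroup G) : Set G)) :=
        Nat.mul_le_mul_left _ (Subgroup.card_le_of_le h3)
    _ ≤ _ := h4

/-- double centralizer property for subgroups containing the centre -/
theorem centralizer_centralizer_eq (hp2 : p ≠ 2) (hG : IsPGroup p G) (hmc : Cfsg.IsMetacyclic G)
    (R : Subgroup G) (hZ : Subgroup.center G ≤ R) :
    Subgroup.centralizer ((Subgroup.centralizer (R : Set G) : Subgroup G) : Set G) = R := by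
  symm
  apply Subgroup.eq_of_le_of_card_ge
  · rw [← Subgroup.le_centralizer_iff]
  · have h1 := cd_eq hp2 hG hmc R hZ
    have h2 := cd_eq hp2 hG hmc (Subgroup.centralizer (R : Set G)) (Subgroup.center_le_centralizer _)
    have h3 : 0 < Nat.card (Subgroup.centralizer (R : Set G)) := Nat.card_pos
    rw [← h1, mul_comm] at h2
    exact (Nat.eq_of_mul_eq_mul_right h3 h2).le

end MetaCD

end Cfsg.Agent.Lib.Helper65
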