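/-
Abstract criteria obstructing nilpotent minimal covers (used by S3894).
Author: helper65.  (The one-subgroup replacement trick is due to helper95; here a family version.)
-/
import Mathlib

set_option autoImplicit false

namespace Cfsg.Agent.Lib.Helper65.NilCoverCrit

variable {Γ : Type*} [Group Γ]

/-- If `x` lies in a nilpotent subgroup `N`, in a subgroup `S`, and in no other conjugate of `S`
(phrased elementwise), then `N ≤ S`. -/
theorem le_of_unique_conj (N S : Subgroup Γ) [hN : Group.IsNilpotent N] (x : Γ) (hxN : x ∈ N)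
    (hxS : x ∈ S) (h : ∀ y : Γ, y⁻¹ * x * y ∈ S → y ∈ S) : N ≤ S := by
  obtain ⟨c, hc⟩ := hN.nilpotent
  have key : ∀ i : ℕ, ∀ y : N, y ∈ Subgroup.upperCentralSeries N i → (y : Γ) ∈ S := by
    intro i
    induction i with
    | zero =>
      intro y hy
      simp only [Subgroup.upperCentralSeries_zero, Subgroup.mem_bot] at hy
      rw [hy]; exact S.one_mem
    | succ i ih =>
      intro y hy
      have hy' : y⁻¹ ∈ Subgroup.upperCentralSeries N (i + 1) := Subgroup.inv_mem _ hy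
      rw [Subgroup.mem_upperCentralSeries_succ_iff] at hy'
      have h1 := ih _ (hy' ⟨x, hxN⟩)
      apply h
      have h2 : ((y⁻¹ * ⟨x, hxN⟩ * y⁻¹⁻¹ * (⟨x, hxN⟩ : N)⁻¹ : N) : Γ) * x = (y : Γ)⁻¹ * x * y := by
        simp [mul_assoc]
      rw [← h2]
      exact S.mul_mem h1 hxS
  intro y hy
  have : (⟨y, hy⟩ : N) ∈ Subgroup.upperCentralSeries N c := by rw [hc]; trivial
  exact key c _ this

/-- A nilpotent subgroup containing a nontrivial element has a nontrivial central element. -/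
theorem exists_central (N : Subgroup Γ) [hN : Group.IsNilpotent N] (x : Γ) (hxN : x ∈ N)
    (hx1 : x ≠ 1) : ∃ z : Γ, z ∈ N ∧ z ≠ 1 ∧ ∀ y ∈ N, y * z = z * y := by
  have : Nontrivial N := ⟨⟨⟨x, hxN⟩, 1, fun h => hx1 (by simpa using congrArg Subtype.val h)⟩⟩
  have hc := Group.IsNilpotent.center_ne_bot (G := N)
  obtain ⟨z, hz1⟩ := (Subgroup.ne_bot_iff_exists_ne_one).mp hc
  refine ⟨(z : N), (z : N).2, ?_, ?_⟩
  · intro h
    apply hz1
    ext
    simpa using h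
  · intro y hy
    have := Subgroup.mem_center_iff.mp z.2 ⟨y, hy⟩
    simpa using congrArg Subtype.val this

/-- Family criterion: proper subgroups `B i`, elements `u i` whose nilpotent overgroups lie in `B i`
and which lie in no other `B j`, and an element `t` whose nilpotent overgroups are covered by the
`B i` and contain no `u i`.  Then replacing the members through the `u i` and `t` by the `B i`
gives a strictly smaller cover, so no nilpotent cover is minimal. -/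
theorem no_nilpotent_minimal_cover_of_family {I : Type*} [Fintype I] (B : I → Subgroup Γ)
    (u : I → Γ) (t : Γ) (hB : ∀ i, B i ≠ ⊤)
    (hu : ∀ i, ∀ A : Subgroup Γ, Group.IsNilpotent A → u i ∈ A → A ≤ B i)
    (huB : ∀ i j, u i ∈ B j → i = j)
    (ht : ∀ A : Subgroup Γ, Group.IsNilpotent A → t ∈ A →
      (∀ y ∈ A, ∃ i, y ∈ B i) ∧ ∀ i, u i ∉ A) :
    ¬ ∃ 𝓐 : Finset (Subgroup Γ), ((∀ A ∈ 𝓐, A ≠ ⊤) ∧ (∀ x : Γ, ∃ A ∈ 𝓐, x ∈ A)) ∧
      (∀ 𝓑 : Finset (Subgroup Γ), (∀ A ∈ 𝓑, A ≠ ⊤) ∧ (∀ x : Γ, ∃ A ∈ 𝓑, x ∈ A) →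
        𝓐.card ≤ 𝓑.card) ∧ (∀ A ∈ 𝓐, Group.IsNilpotent ↥A) := by
  classical
  rintro ⟨𝓐, ⟨hprop, hcov⟩, hmin, hnil⟩
  choose Au hAu hAu' using fun i => hcov (u i)
  obtain ⟨At, hAt, hAt'⟩ := hcov t
  have hinj : Function.Injective Au := by
    intro i j hij
    have h1 : u i ∈ Au j := hij ▸ hAu' i
    exact huB i j (hu j (Au j) (hnil _ (hAu j)) (hAu' j) h1)
  have htA := ht At (hnil _ hAt) hAt'
  have hAtn : At ∉ Finset.univ.image Au := by
    intro h
    obtain ⟨i, -, hi⟩ := Finset.mem_image.mp h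
    exact htA.2 i (hi ▸ hAu' i)
  set 𝓕 : Finset (Subgroup Γ) := insert At (Finset.univ.image Au) with h𝓕
  have h𝓕sub : 𝓕 ⊆ 𝓐 := by
    intro A hA
    rcases Finset.mem_insert.mp hA with rfl | hA
    · exact hAt
    · obtain ⟨i, -, rfl⟩ := Finset.mem_image.mp hA
      exact hAu i
  have h𝓕card : 𝓕.card = Fintype.card I + 1 := by
    rw [h𝓕, Finset.card_insert_of_notMem hAtn, Finset.card_image_of_injective _ hinj,
      Finset.card_univ]
  set 𝓑 : Finset (Subgroup Γ) := (𝓐 \ 𝓕) ∪ Finset.univ.image B with h𝓑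
  have hB' := hmin 𝓑 ⟨?_, ?_⟩
  · have c1 : 𝓑.card ≤ (𝓐 \ 𝓕).card + (Finset.univ.image B).card := Finset.card_union_le _ _
    have c2 : (Finset.univ.image B).card ≤ Fintype.card I := by
      simpa using Finset.card_image_le (s := (Finset.univ : Finset I)) (f := B)
    have c3 : (𝓐 \ 𝓕).card = 𝓐.card - 𝓕.card := Finset.card_sdiff_of_subset h𝓕sub
    have c4 : 𝓕.card ≤ 𝓐.card := Finset.card_le_card h𝓕sub
    omega
  · intro A hA
    rcases Finset.mem_union.mp hA with hA | hA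
    · exact hprop A (Finset.mem_sdiff.mp hA).1
    · obtain ⟨i, -, rfl⟩ := Finset.mem_image.mp hA
      exact hB i
  · intro x
    obtain ⟨A, hA, hx⟩ := hcov x
    by_cases hAF : A ∈ 𝓕
    · rcases Finset.mem_insert.mp hAF with rfl | hA'
      · obtain ⟨i, hi⟩ := htA.1 x hx
        exact ⟨B i, Finset.mem_union_right _ (Finset.mem_image_of_mem _ (Finset.mem_univ _)), hi⟩
      · obtain ⟨i, -, rfl⟩ := Finset.mem_image.mp hA'
        exact ⟨B i, Finset.mem_union_right _ (Finset.mem_image_of_mem _ (Finset.mem_univ _)),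
          hu i _ (hnil _ (hAu i)) (hAu' i) hx⟩
    · exact ⟨A, Finset.mem_union_left _ (Finset.mem_sdiff.mpr ⟨hA, hAF⟩), hx⟩

/-- One-subgroup criterion (helper95's trick). -/
theorem no_nilpotent_minimal_cover_of_one (M : Subgroup Γ) (hM : M ≠ ⊤) (g h : Γ)
    (hg : ∀ A : Subgroup Γ, Group.IsNilpotent A → g ∈ A → A ≤ M)
    (hh : ∀ A : Subgroup Γ, Group.IsNilpotent A → h ∈ A → A ≤ M)
    (hgh : ∀ A : Subgroup Γ, Group.IsNilpotent A → g ∈ A → h ∉ A) :
    ¬ ∃ 𝓐 : Finset (Subgroup Γ), ((∀ A ∈ 𝓐, A ≠ ⊤) ∧ (∀ x : Γ, ∃ A ∈ 𝓐, x ∈ A)) ∧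
      (∀ 𝓑 : Finset (Subgroup Γ), (∀ A ∈ 𝓑, A ≠ ⊤) ∧ (∀ x : Γ, ∃ A ∈ 𝓑, x ∈ A) →
        𝓐.card ≤ 𝓑.card) ∧ (∀ A ∈ 𝓐, Group.IsNilpotent ↥A) := by
  refine no_nilpotent_minimal_cover_of_family (I := Unit) (fun _ => M) (fun _ => g) h
    (fun _ => hM) (fun _ A hA hgA => hg A hA hgA) (fun _ _ _ => rfl) ?_
  intro A hA hhA
  refine ⟨fun y hy => ⟨(), hh A hA hhA hy⟩, fun _ hgA => hgh A hA hgA hhA⟩

end Cfsg.Agent.Lib.Helper65.NilCoverCrit
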