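/-
Shared lemmas on groups with a nilpotent minimal cover (used by S3890, S3891).
Author: helper65.
-/
import Mathlib

set_option autoImplicit false

namespace Cfsg.Agent.Lib.Helper65

/-- `𝓐` is a nilpotent minimal cover of `G`: a cover by proper subgroups, of least cardinality among
all covers by proper subgroups, all of whose members are nilpotent. -/
def IsNilpMinCover {G : Type*} [Group G] (𝓐 : Finset (Subgroup G)) : Prop :=
  ((∀ A ∈ 𝓐, A ≠ ⊤) ∧ (∀ g : G, ∃ A ∈ 𝓐, g ∈ A)) ∧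
    (∀ 𝓑 : Finset (Subgroup G), (∀ A ∈ 𝓑, A ≠ ⊤) ∧ (∀ g : G, ∃ A ∈ 𝓑, g ∈ A) → 𝓐.card ≤ 𝓑.card) ∧
    (∀ A ∈ 𝓐, Group.IsNilpotent ↥A)

section
variable {G : Type*} [Group G]

/-- In a minimal cover, a proper subgroup contains at most one member. -/
theorem eq_of_le_proper {𝓐 : Finset (Subgroup G)} (h𝓐 : IsNilpMinCover 𝓐) {C : Subgroup G}
    (hC : C ≠ ⊤) {A₁ A₂ : Subgroup G} (h₁ : A₁ ∈ 𝓐) (h₂ : A₂ ∈ 𝓐) (h₁C : A₁ ≤ C) (h₂C : A₂ ≤ C) :
    A₁ = A₂ := by
  classical
  by_contra hne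
  have h2 : 2 ≤ 𝓐.card := Finset.one_lt_card.mpr ⟨A₁, h₁, A₂, h₂, hne⟩
  have hcard : (insert C ((𝓐.erase A₁).erase A₂)).card < 𝓐.card := by
    calc (insert C ((𝓐.erase A₁).erase A₂)).card ≤ ((𝓐.erase A₁).erase A₂).card + 1 :=
          Finset.card_insert_le _ _
      _ = (𝓐.card - 1 - 1) + 1 := by
          rw [Finset.card_erase_of_mem (Finset.mem_erase.mpr ⟨Ne.symm hne, h₂⟩),
            Finset.card_erase_of_mem h₁]
      _ < 𝓐.card := by omega
  have hle := h𝓐.2.1 (insert C ((𝓐.erase A₁).erase A₂)) ⟨?_, ?_⟩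
  · omega
  · intro A hA
    rcases Finset.mem_insert.mp hA with rfl | hA
    · exact hC
    · exact h𝓐.1.1 A (Finset.mem_of_mem_erase (Finset.mem_of_mem_erase hA))
  · intro g
    obtain ⟨A, hA, hgA⟩ := h𝓐.1.2 g
    by_cases hA1 : A = A₁
    · exact ⟨C, Finset.mem_insert_self _ _, h₁C (hA1 ▸ hgA)⟩
    by_cases hA2 : A = A₂
    · exact ⟨C, Finset.mem_insert_self _ _, h₂C (hA2 ▸ hgA)⟩
    · exact ⟨A, Finset.mem_insert_of_mem (Finset.mem_erase.mpr ⟨hA2, Finset.mem_erase.mpr ⟨hA1, hA⟩⟩), hgA⟩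

/-- In a finite nilpotent group an abelian Sylow subgroup is central. -/
theorem sylow_le_center_of_nilpotent {H : Type*} [Group H] [Finite H] [Group.IsNilpotent H] {p : ℕ}
    [Fact p.Prime] (Q : Sylow p H) (hQ : ∀ a ∈ Q, ∀ b ∈ Q, a * b = b * a) :
    (Q : Subgroup H) ≤ Subgroup.center H := by
  have hC : Subgroup.centralizer ((Q : Subgroup H) : Set H) = ⊤ := by
    apply Subgroup.eq_top_of_card_eq
    apply Nat.dvd_antisymm (Subgroup.card_subgroup_dvd_card _)
    rw [← Nat.factorization_prime_le_iff_dvd Nat.card_pos.ne' Nat.card_pos.ne']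
    intro r hr
    have : Fact r.Prime := ⟨hr⟩
    let R : Sylow r H := default
    have hRle : (R : Subgroup H) ≤ Subgroup.centralizer ((Q : Subgroup H) : Set H) := by
      by_cases hrp : r = p
      · subst hrp
        have : Subsingleton (Sylow r H) := (Sylow.unique_of_normal Q inferInstance).instSubsingleton
        have hRQ : R = Q := Subsingleton.elim _ _
        rw [hRQ]
        intro x hx
        rw [Subgroup.mem_centralizer_iff]
        intro q hq
        exact hQ q hq x hx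
      · intro x hx
        rw [Subgroup.mem_centralizer_iff]
        intro q hq
        have hdisj : Disjoint (Q : Subgroup H) (R : Subgroup H) :=
          IsPGroup.disjoint_of_ne p r (Ne.symm hrp) _ _ Q.2 R.2
        exact (Subgroup.commute_of_normal_of_disjoint _ _ inferInstance inferInstance hdisj q x hq hx).eq
    have := Subgroup.card_dvd_of_le hRle
    rw [Sylow.card_eq_multiplicity] at this
    exact (hr.pow_dvd_iff_le_factorization Nat.card_pos.ne').mp this
  intro x hx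
  rw [Subgroup.mem_center_iff]
  intro h
  have hh : h ∈ Subgroup.centralizer ((Q : Subgroup H) : Set H) := by rw [hC]; trivial
  exact (hh x hx).symm

end


section
variable {G : Type*} [Group G] {p : ℕ}

theorem isPGroup_zpowers_of_pow_eq_one {y : G} {k : ℕ} (hy : y ^ p ^ k = 1) :
    IsPGroup p ↥(Subgroup.zpowers y) := by
  rintro ⟨g, hg⟩
  obtain ⟨i, rfl⟩ := Subgroup.mem_zpowers_iff.mp hg
  refine ⟨k, Subtype.ext ?_⟩
  simp only [Subgroup.coe_pow, Subgroup.coe_one]
  rw [← zpow_natCast, ← zpow_mul, mul_comm, zpow_mul, zpow_natCast, hy, one_zpow]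

theorem mem_smul_sylow_iff (P : Sylow p G) (g x : G) :
    x ∈ ((g • P : Sylow p G) : Subgroup G) ↔ g⁻¹ * x * g ∈ (P : Subgroup G) := by
  rw [Sylow.smul_def, Sylow.pointwise_smul_def, Subgroup.mem_pointwise_smul_iff_inv_smul_mem]
  simp [MulAut.smul_def]

/-- A `p`-element normalizing a Sylow `p`-subgroup lies in it. -/
theorem mem_sylow_of_pow_eq_one_of_mem_normalizer (P : Sylow p G) {d : G}
    (hd : d ∈ Subgroup.normalizer ((P : Subgroup G) : Set G)) {k : ℕ} (hdk : d ^ p ^ k = 1) :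
    d ∈ (P : Subgroup G) := by
  have h1 : IsPGroup p ↥(Subgroup.zpowers d) := isPGroup_zpowers_of_pow_eq_one hdk
  have h2 : IsPGroup p ↥(Subgroup.zpowers d ⊔ (P : Subgroup G)) :=
    IsPGroup.to_sup_of_normal_right' h1 P.2 (Subgroup.zpowers_le.mpr hd)
  have h3 := P.is_maximal' h2 le_sup_right
  have h4 : d ∈ Subgroup.zpowers d ⊔ (P : Subgroup G) :=
    Subgroup.mem_sup_left (Subgroup.mem_zpowers d)
  rw [h3] at h4; exact h4

theorem exists_pow_eq_one_of_mem_sylow (P : Sylow p G) {x : G} (hx : x ∈ (P : Subgroup G)) :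
    ∃ k : ℕ, x ^ p ^ k = 1 := by
  obtain ⟨k, hk⟩ := P.2 ⟨x, hx⟩
  exact ⟨k, by simpa using congrArg Subtype.val hk⟩

/-- A Sylow `p`-subgroup contained in the normalizer of another one equals it. -/
theorem sylow_eq_of_le_normalizer (P P' : Sylow p G)
    (h : (P' : Subgroup G) ≤ Subgroup.normalizer ((P : Subgroup G) : Set G)) : P' = P := by
  have hle : (P' : Subgroup G) ≤ (P : Subgroup G) := by
    intro x hx
    obtain ⟨k, hk⟩ := exists_pow_eq_one_of_mem_sylow P' hx
    exact mem_sylow_of_pow_eq_one_of_mem_normalizer P (h hx) hk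
  exact Sylow.ext (P'.is_maximal' P.2 hle).symm

variable [Fact p.Prime] [Finite G]

/-- If one Sylow `p`-subgroup is abelian, every `p`-subgroup is abelian. -/
theorem comm_of_isPGroup (P : Sylow p G) (hab : ∀ a ∈ (P : Subgroup G), ∀ b ∈ (P : Subgroup G), a * b = b * a)
    {Q : Subgroup G} (hQ : IsPGroup p ↥Q) : ∀ a ∈ Q, ∀ b ∈ Q, a * b = b * a := by
  obtain ⟨R, hR⟩ := hQ.exists_le_sylow
  obtain ⟨g, rfl⟩ := MulAction.exists_smul_eq G P R
  intro a ha b hb
  have ha' := (mem_smul_sylow_iff P g a).mp (hR ha)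
  have hb' := (mem_smul_sylow_iff P g b).mp (hR hb)
  have h := hab _ ha' _ hb'
  have e1 : a * b = g * ((g⁻¹ * a * g) * (g⁻¹ * b * g)) * g⁻¹ := by group
  have e2 : b * a = g * ((g⁻¹ * b * g) * (g⁻¹ * a * g)) * g⁻¹ := by group
  rw [e1, e2, h]

/-- A nilpotent member of the cover containing the `p`-element `y` centralizes `y`
(when the Sylow `p`-subgroups are abelian). -/
theorem member_le_centralizer {𝓐 : Finset (Subgroup G)} (h𝓐 : IsNilpMinCover 𝓐) (P : Sylow p G)
    (hab : ∀ a ∈ (P : Subgroup G), ∀ b ∈ (P : Subgroup G), a * b = b * a) {A : Subgroup G} (hA : A ∈ 𝓐)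
    {y : G} (hyA : y ∈ A) {k : ℕ} (hyk : y ^ p ^ k = 1) : A ≤ Subgroup.centralizer {y} := by
  have : Group.IsNilpotent ↥A := h𝓐.2.2 A hA
  have h1 : IsPGroup p ↥(Subgroup.zpowers (⟨y, hyA⟩ : ↥A)) := by
    apply isPGroup_zpowers_of_pow_eq_one (k := k)
    exact Subtype.ext (by simpa using hyk)
  obtain ⟨Q, hQ⟩ := h1.exists_le_sylow
  have hQab : ∀ a ∈ (Q : Subgroup ↥A), ∀ b ∈ (Q : Subgroup ↥A), a * b = b * a := by
    intro a ha b hb
    have := comm_of_isPGroup P hab (Q.2.map A.subtype) (a : G) ⟨a, ha, rfl⟩ (b : G) ⟨b, hb, rfl⟩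
    exact Subtype.ext (by simpa using this)
  have hyc : (⟨y, hyA⟩ : ↥A) ∈ Subgroup.center ↥A :=
    sylow_le_center_of_nilpotent Q hQab (hQ (Subgroup.mem_zpowers _))
  intro a ha
  rw [Subgroup.mem_centralizer_singleton_iff]
  have := Subgroup.mem_center_iff.mp hyc ⟨a, ha⟩
  have := congrArg Subtype.val this
  simpa using this

/-- A nontrivial `p`-element lies in exactly one member of the cover. -/
theorem unique_member (hZ : Subgroup.center G = ⊥) {𝓐 : Finset (Subgroup G)} (h𝓐 : IsNilpMinCover 𝓐)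
    (P : Sylow p G) (hab : ∀ a ∈ (P : Subgroup G), ∀ b ∈ (P : Subgroup G), a * b = b * a)
    {y : G} (hy1 : y ≠ 1) {k : ℕ} (hyk : y ^ p ^ k = 1) {A₁ A₂ : Subgroup G}
    (h₁ : A₁ ∈ 𝓐) (h₂ : A₂ ∈ 𝓐) (hy₁ : y ∈ A₁) (hy₂ : y ∈ A₂) : A₁ = A₂ := by
  refine eq_of_le_proper h𝓐 (C := Subgroup.centralizer {y}) ?_ h₁ h₂
    (member_le_centralizer h𝓐 P hab h₁ hy₁ hyk) (member_le_centralizer h𝓐 P hab h₂ hy₂ hyk)
  intro htop
  apply hy1
  have h := Subgroup.centralizer_eq_top_iff_subset.mp htop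
  have : y ∈ Subgroup.center G := h (Set.mem_singleton y)
  rw [hZ] at this
  exact Subgroup.mem_bot.mp this

end


section
variable {G : Type*} [Group G] [Finite G] {p : ℕ} [Fact p.Prime]

/-- The hypotheses on the Sylow subgroup in the lemmas on nilpotent minimal covers: abelian, not normal, and
either cyclic or not of exponent `p`. -/
def GoodSylow (P : Sylow p G) : Prop :=
  (∀ a ∈ (P : Subgroup G), ∀ b ∈ (P : Subgroup G), a * b = b * a) ∧ ¬ (P : Subgroup G).Normal ∧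
    (IsCyclic ↥(P : Subgroup G) ∨ ∃ x ∈ (P : Subgroup G), x ^ p ≠ 1)

theorem GoodSylow.smul {P : Sylow p G} (hP : GoodSylow P) (g : G) : GoodSylow (g • P) := by
  refine ⟨comm_of_isPGroup P hP.1 (g • P).2, ?_, ?_⟩
  · intro hn
    apply hP.2.1
    have h1 : g⁻¹ • (g • P) = g • P := Sylow.smul_eq_of_normal (h := hn)
    rw [inv_smul_smul] at h1
    rw [h1]; exact hn
  · rcases hP.2.2 with hc | ⟨x, hx, hxp⟩
    · left
      exact (Sylow.equivSMul P g).isCyclic.mp hc
    · right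
      refine ⟨g * x * g⁻¹, ?_, ?_⟩
      · rw [mem_smul_sylow_iff]
        have : g⁻¹ * (g * x * g⁻¹) * g = x := by group
        rw [this]; exact hx
      · rw [conj_pow]
        intro h
        apply hxp
        have : x ^ p = g⁻¹ * (g * x ^ p * g⁻¹) * g := by group
        rw [this, h]; group

omit [Finite G] [Fact p.Prime] in
theorem GoodSylow.ne_bot {P : Sylow p G} (hP : GoodSylow P) : ∃ x ∈ (P : Subgroup G), x ≠ 1 := by
  by_contra h
  push Not at h
  apply hP.2.1
  have : (P : Subgroup G) = ⊥ := by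
    rw [eq_bot_iff]; intro y hy; exact Subgroup.mem_bot.mpr (h y hy)
  rw [this]; infer_instance

/-- Under the hypotheses, some member of the cover contains `P`, and it is the only member meeting `P`
nontrivially. -/
theorem exists_member (hZ : Subgroup.center G = ⊥) {𝓐 : Finset (Subgroup G)} (h𝓐 : IsNilpMinCover 𝓐)
    (P : Sylow p G) (hP : GoodSylow P) :
    ∃ A ∈ 𝓐, (P : Subgroup G) ≤ A ∧ ∀ u ∈ (P : Subgroup G), u ≠ 1 → ∀ A' ∈ 𝓐, u ∈ A' → A' = A := by
  have hp : p.Prime := Fact.out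
  have huniq : ∀ u ∈ (P : Subgroup G), u ≠ 1 → ∀ A₁ ∈ 𝓐, ∀ A₂ ∈ 𝓐, u ∈ A₁ → u ∈ A₂ → A₁ = A₂ := by
    intro u hu hu1 A₁ h₁ A₂ h₂ hu₁ hu₂
    obtain ⟨k, hk⟩ := exists_pow_eq_one_of_mem_sylow P hu
    exact unique_member hZ h𝓐 P hP.1 hu1 hk h₁ h₂ hu₁ hu₂
  rcases hP.2.2 with hcyc | ⟨x, hx, hxp⟩
  · -- cyclic case
    obtain ⟨⟨x, hx⟩, hgen⟩ := hcyc.exists_generator
    have hpow : ∀ y ∈ (P : Subgroup G), ∃ i : ℤ, y = x ^ i := by
      intro y hy
      obtain ⟨i, hi⟩ := Subgroup.mem_zpowers_iff.mp (hgen ⟨y, hy⟩)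
      exact ⟨i, by simpa using (congrArg Subtype.val hi).symm⟩
    obtain ⟨A, hA, hxA⟩ := h𝓐.1.2 x
    have hPA : (P : Subgroup G) ≤ A := by
      intro y hy
      obtain ⟨i, rfl⟩ := hpow y hy
      exact A.zpow_mem hxA i
    refine ⟨A, hA, hPA, ?_⟩
    intro u hu hu1 A' hA' huA'
    exact huniq u hu hu1 A' hA' A hA huA' (hPA hu)
  · -- some `x ∈ P` with `x ^ p ≠ 1`
    obtain ⟨A, hA, hyA⟩ := h𝓐.1.2 (x ^ p)
    have hyP : x ^ p ∈ (P : Subgroup G) := Subgroup.pow_mem _ hx p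
    have ha : ∀ z ∈ (P : Subgroup G), z ^ p = x ^ p → z ∈ A := by
      intro z hz hzy
      obtain ⟨A', hA', hzA'⟩ := h𝓐.1.2 z
      have : A' = A := huniq (x ^ p) hyP hxp A' hA' A hA (hzy ▸ A'.pow_mem hzA' p) hyA
      exact this ▸ hzA'
    have hxA : x ∈ A := ha x hx rfl
    have hb : ∀ w ∈ (P : Subgroup G), w ^ p = 1 → w ∈ A := by
      intro w hw hwp
      have h1 : (x * w) ^ p = x ^ p := by
        rw [(show Commute x w from hP.1 x hx w hw).mul_pow, hwp, mul_one]
      have h2 := ha (x * w) (Subgroup.mul_mem _ hx hw) h1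
      have : w = x⁻¹ * (x * w) := by group
      rw [this]; exact A.mul_mem (A.inv_mem hxA) h2
    have hc : ∀ w ∈ (P : Subgroup G), w ≠ 1 → ∀ A' ∈ 𝓐, w ∈ A' → A' = A := by
      intro w hw hw1 A' hA' hwA'
      obtain ⟨k, hk⟩ := (IsPGroup.iff_orderOf.mp P.2) ⟨w, hw⟩
      rw [Subgroup.orderOf_mk] at hk
      have hk0 : k ≠ 0 := by
        rintro rfl
        rw [pow_zero, orderOf_eq_one_iff] at hk; exact hw1 hk
      have hu_ord : orderOf (w ^ p ^ (k - 1)) = p := by
        rw [orderOf_pow_of_dvd (pow_ne_zero _ hp.ne_zero) (by rw [hk]; exact pow_dvd_pow p (by omega)), hk,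
          Nat.pow_div (by omega) hp.pos]
        have : k - (k - 1) = 1 := by omega
        rw [this, pow_one]
      have hu1 : w ^ p ^ (k - 1) ≠ 1 := by
        intro h; rw [h, orderOf_one] at hu_ord; exact hp.one_lt.ne hu_ord
      have hup : (w ^ p ^ (k - 1)) ^ p = 1 := by
        have := pow_orderOf_eq_one (w ^ p ^ (k - 1))
        rwa [hu_ord] at this
      have huP : w ^ p ^ (k - 1) ∈ (P : Subgroup G) := Subgroup.pow_mem _ hw _
      have huA : w ^ p ^ (k - 1) ∈ A := hb _ huP hup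
      exact huniq _ huP hu1 A' hA' A hA (A'.pow_mem hwA' _) huA
    refine ⟨A, hA, ?_, hc⟩
    intro w hw
    by_cases hw1 : w = 1
    · rw [hw1]; exact A.one_mem
    · obtain ⟨A', hA', hwA'⟩ := h𝓐.1.2 w
      rw [← hc w hw hw1 A' hA' hwA']; exact hwA'


/-- The member containing `P` is the centralizer of `P`. -/
theorem centralizer_eq_member {𝓐 : Finset (Subgroup G)} (h𝓐 : IsNilpMinCover 𝓐)
    (P : Sylow p G) (hP : GoodSylow P) {A : Subgroup G} (hA : A ∈ 𝓐) (hPA : (P : Subgroup G) ≤ A)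
    (huniq : ∀ u ∈ (P : Subgroup G), u ≠ 1 → ∀ A' ∈ 𝓐, u ∈ A' → A' = A) :
    Subgroup.centralizer ((P : Subgroup G) : Set G) = A := by
  have hp : p.Prime := Fact.out
  apply le_antisymm
  · intro c hc
    obtain ⟨x, hx, hx1⟩ := hP.ne_bot
    -- write `orderOf c = p ^ k * m` with `p ∤ m`
    obtain ⟨k, m, hm, hkm⟩ := Nat.exists_eq_pow_mul_and_not_dvd (orderOf_pos c).ne' p hp.ne_one
    have hd : (c ^ m) ^ p ^ k = 1 := by
      rw [← pow_mul, mul_comm, ← hkm]; exact pow_orderOf_eq_one c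
    have hdc : c ^ m ∈ Subgroup.centralizer ((P : Subgroup G) : Set G) := Subgroup.pow_mem _ hc m
    have hdP : c ^ m ∈ (P : Subgroup G) :=
      mem_sylow_of_pow_eq_one_of_mem_normalizer P (Subgroup.centralizer_le_normalizer _ hdc) hd
    by_cases hd1 : c ^ m = 1
    · -- `c` is a `p'`-element
      obtain ⟨A', hA', hxcA'⟩ := h𝓐.1.2 (x * c)
      have hcomm : Commute x c := (hc x hx)
      have h1 : (x * c) ^ m = x ^ m := by rw [hcomm.mul_pow, hd1, mul_one]
      have h2 : x ^ m ≠ 1 := by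
        intro h
        have h3 : orderOf x ∣ m := orderOf_dvd_of_pow_eq_one h
        obtain ⟨j, hj⟩ := (IsPGroup.iff_orderOf.mp P.2) ⟨x, hx⟩
        rw [Subgroup.orderOf_mk] at hj
        have hj0 : j ≠ 0 := by
          rintro rfl
          rw [pow_zero, orderOf_eq_one_iff] at hj; exact hx1 hj
        apply hm
        exact (dvd_pow_self p hj0).trans (hj ▸ h3)
      have h4 : A' = A := huniq (x ^ m) (Subgroup.pow_mem _ hx m) h2 A' hA' (h1 ▸ A'.pow_mem hxcA' m)
      have h5 : c = x⁻¹ * (x * c) := by group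
      rw [h5]; exact A.mul_mem (A.inv_mem (hPA hx)) (h4 ▸ hxcA')
    · obtain ⟨A', hA', hcA'⟩ := h𝓐.1.2 c
      have h4 : A' = A := huniq (c ^ m) hdP hd1 A' hA' (A'.pow_mem hcA' m)
      exact h4 ▸ hcA'
  · intro a ha
    rw [Subgroup.mem_centralizer_iff]
    intro x hx
    obtain ⟨k, hk⟩ := exists_pow_eq_one_of_mem_sylow P hx
    have := member_le_centralizer h𝓐 P hP.1 hA (hPA hx) hk ha
    rw [Subgroup.mem_centralizer_singleton_iff] at this
    exact this.symm

/-- Summary of the structure around a "good" Sylow subgroup. -/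
theorem main_structure (hZ : Subgroup.center G = ⊥) {𝓐 : Finset (Subgroup G)} (h𝓐 : IsNilpMinCover 𝓐)
    (P : Sylow p G) (hP : GoodSylow P) :
    ∃ A ∈ 𝓐, (P : Subgroup G) ≤ A ∧ Subgroup.centralizer ((P : Subgroup G) : Set G) = A ∧
      (∀ M : Subgroup G, M ≠ ⊤ → A ≤ M → M ≤ Subgroup.normalizer ((P : Subgroup G) : Set G)) ∧
      (∀ g : G, g ∉ Subgroup.normalizer ((P : Subgroup G) : Set G) →
        ∀ u ∈ (P : Subgroup G), u ∈ ((g • P : Sylow p G) : Subgroup G) → u = 1) := by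
  obtain ⟨A, hA, hPA, huniq⟩ := exists_member hZ h𝓐 P hP
  have hcent := centralizer_eq_member h𝓐 P hP hA hPA huniq
  -- the key: a conjugate of `P` whose member is `A` equals `P`
  have key : ∀ g : G, (∀ A' ∈ 𝓐, ((g • P : Sylow p G) : Subgroup G) ≤ A' → A' = A) →
      g ∈ Subgroup.normalizer ((P : Subgroup G) : Set G) := by
    intro g hg
    obtain ⟨A', hA', hP'A', -⟩ := exists_member hZ h𝓐 (g • P) (hP.smul g)
    have hAA' := hg A' hA' hP'A'
    apply Sylow.smul_eq_iff_mem_normalizer.mp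
    apply sylow_eq_of_le_normalizer
    refine le_trans hP'A' ?_
    rw [hAA', ← hcent]
    exact Subgroup.centralizer_le_normalizer _
  refine ⟨A, hA, hPA, hcent, ?_, ?_⟩
  · intro M hM hAM m hm
    apply key
    intro A' hA' hP'A'
    obtain ⟨A'', hA'', hP'A'', huniq''⟩ := exists_member hZ h𝓐 (m • P) (hP.smul m)
    have hcent'' := centralizer_eq_member h𝓐 (m • P) (hP.smul m) hA'' hP'A'' huniq''
    -- `A'' ≤ M`
    have hA''M : A'' ≤ M := by
      rw [← hcent'']
      intro c hc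
      have h1 : m⁻¹ * c * m ∈ Subgroup.centralizer ((P : Subgroup G) : Set G) := by
        rw [Subgroup.mem_centralizer_iff]
        intro x hx
        have hx' : m * x * m⁻¹ ∈ ((m • P : Sylow p G) : Subgroup G) := by
          rw [mem_smul_sylow_iff]
          have : m⁻¹ * (m * x * m⁻¹) * m = x := by group
          rw [this]; exact hx
        have h2 := hc _ hx'
        have e1 : x * (m⁻¹ * c * m) = m⁻¹ * ((m * x * m⁻¹) * c) * m := by group
        have e2 : m⁻¹ * c * m * x = m⁻¹ * (c * (m * x * m⁻¹)) * m := by group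
        rw [e1, e2, h2]
      rw [hcent] at h1
      have h3 := hAM h1
      have : c = m * (m⁻¹ * c * m) * m⁻¹ := by group
      rw [this]; exact M.mul_mem (M.mul_mem hm h3) (M.inv_mem hm)
    have hAA'' : A'' = A := eq_of_le_proper h𝓐 hM hA'' hA hA''M hAM
    -- `A'` contains a nontrivial element of `m • P`, hence `A' = A''`
    obtain ⟨x, hx, hx1⟩ := (hP.smul m).ne_bot
    rw [huniq'' x hx hx1 A' hA' (hP'A' hx), hAA'']
  · intro g hg u hu hu' 
    by_contra hu1
    apply hg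
    apply key
    intro A' hA' hP'A'
    exact huniq u hu hu1 A' hA' (hP'A' hu')

end

end Cfsg.Agent.Lib.Helper65
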