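/-
Symmetric and alternating groups have no nilpotent minimal cover (helper65).
-/
import Mathlib
import Cfsg.Agent.Lib.Helper65.NilpCover

set_option autoImplicit false

namespace Cfsg.Agent.Lib.Helper65

open Equiv

section abstract
variable {G : Type*} [Group G] [Finite G] {p : ℕ} [Fact p.Prime]

/-- If `p ^ 2` does not divide the order of `G`, the Sylow `p`-subgroups of `G` are abelian. -/
theorem sylow_comm_of_not_sq_dvd (h : ¬ p ^ 2 ∣ Nat.card G) (P : Sylow p G) :
    ∀ a ∈ (P : Subgroup G), ∀ b ∈ (P : Subgroup G), a * b = b * a := by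
  have hp : p.Prime := Fact.out
  obtain ⟨k, hk⟩ := IsPGroup.iff_card.mp P.2
  have hdvd : p ^ k ∣ Nat.card G := hk ▸ Subgroup.card_subgroup_dvd_card (P : Subgroup G)
  have hk1 : k ≤ 1 := by
    by_contra hk2
    push Not at hk2
    exact h ((pow_dvd_pow p hk2).trans hdvd)
  intro a ha b hb
  interval_cases k
  · rw [pow_zero] at hk
    have hbot : (P : Subgroup G) = ⊥ := Subgroup.card_eq_one.mp hk
    rw [hbot, Subgroup.mem_bot] at ha hb
    rw [ha, hb]
  · rw [pow_one] at hk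
    have hcyc : IsCyclic ↥(P : Subgroup G) := isCyclic_of_prime_card hk
    obtain ⟨g, hg⟩ := hcyc.exists_generator
    obtain ⟨i, hi⟩ := Subgroup.mem_zpowers_iff.mp (hg ⟨a, ha⟩)
    obtain ⟨j, hj⟩ := Subgroup.mem_zpowers_iff.mp (hg ⟨b, hb⟩)
    have : (⟨a, ha⟩ : ↥(P : Subgroup G)) * ⟨b, hb⟩ = ⟨b, hb⟩ * ⟨a, ha⟩ := by
      rw [← hi, ← hj, ← zpow_add, ← zpow_add, add_comm]
    exact congrArg Subtype.val this

/-- The basic contradiction: two non-commuting elements of order dividing `p` whose centralizers lie in a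
common proper subgroup. -/
theorem no_cover_of_centralizers {𝓐 : Finset (Subgroup G)} (h𝓐 : IsNilpMinCover 𝓐)
    (hsq : ¬ p ^ 2 ∣ Nat.card G) {y y' : G} (hy : y ^ p = 1) (hy' : y' ^ p = 1)
    {M : Subgroup G} (hM : M ≠ ⊤) (hyM : Subgroup.centralizer {y} ≤ M)
    (hy'M : Subgroup.centralizer {y'} ≤ M) (hncomm : y * y' ≠ y' * y) : False := by
  obtain ⟨P⟩ : Nonempty (Sylow p G) := inferInstance
  have hab := sylow_comm_of_not_sq_dvd hsq P
  obtain ⟨A, hA, hyA⟩ := h𝓐.1.2 y
  obtain ⟨A', hA', hy'A'⟩ := h𝓐.1.2 y'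
  have h1 := member_le_centralizer h𝓐 P hab hA hyA (k := 1) (by simpa using hy)
  have h2 := member_le_centralizer h𝓐 P hab hA' hy'A' (k := 1) (by simpa using hy')
  have heq := eq_of_le_proper h𝓐 hM hA hA' (h1.trans hyM) (h2.trans hy'M)
  have h3 : y' ∈ Subgroup.centralizer {y} := h1 (heq ▸ hy'A')
  rw [Subgroup.mem_centralizer_singleton_iff] at h3
  exact hncomm h3.symm

end abstract

section numbers

theorem not_sq_dvd_factorial {n p : ℕ} (hp : p.Prime) (hn2 : n < 2 * p) : ¬ p ^ 2 ∣ n.factorial := by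
  have hlog : Nat.log p n < 2 := by
    apply Nat.log_lt_of_lt_pow'
    · norm_num
    · have := hp.two_le
      nlinarith
  rw [hp.pow_dvd_factorial_iff hlog]
  have hIco : Finset.Ico 1 2 = {1} := by decide
  rw [hIco, Finset.sum_singleton, pow_one, not_le]
  exact Nat.div_lt_of_lt_mul (by linarith)

theorem not_sq_dvd_card_of_injective {G : Type*} [Group G] {n p : ℕ} (hp : p.Prime)
    (hn2 : n < 2 * p) (ι : G →* Perm (Fin n)) (hinj : Function.Injective ι) :
    ¬ p ^ 2 ∣ Nat.card G := by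
  intro h
  apply not_sq_dvd_factorial hp hn2
  have h1 : Nat.card G = Nat.card ↥ι.range := Nat.card_congr (MonoidHom.ofInjective hinj).toEquiv
  have h2 : Nat.card ↥ι.range ∣ Nat.card (Perm (Fin n)) := Subgroup.card_subgroup_dvd_card _
  rw [Nat.card_perm, Nat.card_eq_fintype_card (α := Fin n), Fintype.card_fin] at h2
  exact (h1 ▸ h).trans h2

theorem exists_prime_mid {n : ℕ} (hn : 6 ≤ n) : ∃ p, p.Prime ∧ 5 ≤ p ∧ p < n ∧ n < 2 * p := by
  obtain ⟨p, hp, h1, h2⟩ := Nat.exists_prime_lt_and_le_two_mul (n / 2) (by omega)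
  refine ⟨p, hp, ?_, ?_, by omega⟩
  · have h4 : 4 ≤ p := by omega
    rcases Nat.lt_or_ge 4 p with h | h
    · exact h
    · have : p = 4 := le_antisymm h h4
      subst this
      exact absurd hp (by norm_num)
  · rcases Nat.lt_or_ge p n with h | h
    · exact h
    · have hpn : p = n := by omega
      subst hpn
      rcases hp.eq_two_or_odd with h2' | hodd
      · omega
      · omega

end numbers


section perms
variable {n p : ℕ}

/-- The set stabilizer of `{i | i < p}` in `Perm (Fin n)`. -/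
def stabLT (n p : ℕ) : Subgroup (Perm (Fin n)) where
  carrier := {g | ∀ i : Fin n, (g i).val < p ↔ i.val < p}
  one_mem' := fun _ => Iff.rfl
  mul_mem' := by
    intro a b ha hb i
    rw [Perm.mul_apply, ha, hb]
  inv_mem' := by
    intro a ha i
    have := ha (a⁻¹ i)
    have e : a (a⁻¹ i) = i := a.apply_symm_apply i
    rw [e] at this
    exact this.symm

theorem mem_stabLT {g : Perm (Fin n)} :
    g ∈ stabLT n p ↔ ∀ i : Fin n, (g i).val < p ↔ i.val < p := Iff.rfl

/-- The `p`-cycle `(0 1 … p-1)` in `Perm (Fin n)`. -/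
def pcyc (n p : ℕ) (h : p - 1 < n) : Perm (Fin n) := Fin.cycleRange ⟨p - 1, h⟩

theorem pcyc_val_of_lt (h : p - 1 < n) (i : Fin n) (hi : i.val + 1 < p) :
    (pcyc n p h i).val = i.val + 1 := by
  unfold pcyc
  exact Fin.coe_cycleRange_of_lt (by rw [Fin.lt_def]; show i.val < p - 1; omega)

theorem pcyc_val_of_eq (h : p - 1 < n) (i : Fin n) (hi : i.val + 1 = p) :
    (pcyc n p h i).val = 0 := by
  unfold pcyc
  have hij : i = ⟨p - 1, h⟩ := Fin.ext (by show i.val = p - 1; omega)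
  rw [Fin.coe_cycleRange_of_le (le_of_eq hij), if_pos hij]

theorem pcyc_of_ge (h : p - 1 < n) (hp : 0 < p) (i : Fin n) (hi : p ≤ i.val) :
    pcyc n p h i = i := by
  unfold pcyc
  exact Fin.cycleRange_of_gt (by rw [Fin.lt_def]; show p - 1 < i.val; omega)

theorem pcyc_mk_of_lt (h : p - 1 < n) (k : ℕ) (hk : k + 1 < p) (hkn : k < n) (hk1 : k + 1 < n) :
    pcyc n p h ⟨k, hkn⟩ = ⟨k + 1, hk1⟩ :=
  Fin.ext (pcyc_val_of_lt h ⟨k, hkn⟩ hk)

theorem pcyc_mk_of_eq (h : p - 1 < n) (k : ℕ) (hk : k + 1 = p) (hkn : k < n) (h0 : 0 < n) :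
    pcyc n p h ⟨k, hkn⟩ = ⟨0, h0⟩ :=
  Fin.ext (pcyc_val_of_eq h ⟨k, hkn⟩ hk)

theorem pcyc_ne_iff (h : p - 1 < n) (hp2 : 2 ≤ p) (i : Fin n) : pcyc n p h i ≠ i ↔ i.val < p := by
  constructor
  · intro hne
    by_contra hlt
    exact hne (pcyc_of_ge h (by omega) i (by omega))
  · intro hlt heq
    have hv := congrArg Fin.val heq
    rcases Nat.lt_or_ge (i.val + 1) p with h1 | h1
    · rw [pcyc_val_of_lt h i h1] at hv; omega
    · rw [pcyc_val_of_eq h i (by omega)] at hv; omega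

theorem mem_stabLT_of_commute (h : p - 1 < n) (hp2 : 2 ≤ p) {g : Perm (Fin n)}
    (hg : g * pcyc n p h = pcyc n p h * g) : g ∈ stabLT n p := by
  intro i
  rw [← pcyc_ne_iff h hp2 (g i), ← pcyc_ne_iff h hp2 i]
  have := congrArg (fun f : Perm (Fin n) => f i) hg
  simp only [Perm.mul_apply] at this
  rw [← this]
  exact g.injective.ne_iff

theorem pcyc_pow (h : p - 1 < n) (hp2 : 2 ≤ p) : pcyc n p h ^ p = 1 := by
  have : NeZero n := ⟨by omega⟩
  have h0 : (⟨p - 1, h⟩ : Fin n) ≠ 0 := by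
    intro h0
    have := congrArg Fin.val h0
    simp only [Fin.val_zero] at this
    omega
  have hct : (pcyc n p h).cycleType = {p} := by
    unfold pcyc
    rw [Fin.cycleType_cycleRange h0]
    congr 1
    show p - 1 + 1 = p
    omega
  have hord : orderOf (pcyc n p h) = p := by
    rw [← Perm.lcm_cycleType, hct, Multiset.lcm_singleton]
    simp
  have hpow := pow_orderOf_eq_one (pcyc n p h)
  rwa [hord] at hpow

theorem sign_pcyc (h : p - 1 < n) (hodd : Odd p) : Perm.sign (pcyc n p h) = 1 := by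
  unfold pcyc
  rw [Fin.sign_cycleRange]
  obtain ⟨k, hk⟩ := hodd
  have : ((⟨p - 1, h⟩ : Fin n) : ℕ) = 2 * k := by show p - 1 = 2 * k; omega
  rw [this, pow_mul, neg_one_sq, one_pow]

theorem pcyc_three_mem_stabLT (h3 : 3 - 1 < n) (hp3 : 3 ≤ p) : pcyc n 3 h3 ∈ stabLT n p := by
  intro i
  rcases Nat.lt_or_ge (i.val + 1) 3 with h1 | h1
  · rw [pcyc_val_of_lt h3 i h1]; omega
  · rcases Nat.lt_or_ge 3 (i.val + 1) with h2 | h2
    · rw [pcyc_of_ge h3 (by norm_num) i (by omega)]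
    · rw [pcyc_val_of_eq h3 i (by omega)]; omega

end perms


section general

/-- A finite group embedded in `Perm (Fin n)` and containing the alternating group has no nilpotent
minimal cover, as soon as there is a prime `5 ≤ p < n < 2 p`. -/
theorem no_cover_general {G : Type*} [Group G] [Finite G] {n p : ℕ} (hp : p.Prime) (h5 : 5 ≤ p)
    (hpn : p < n) (hn2 : n < 2 * p) (ι : G →* Perm (Fin n)) (hinj : Function.Injective ι)
    (hrange : alternatingGroup (Fin n) ≤ ι.range) {𝓐 : Finset (Subgroup G)}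
    (h𝓐 : IsNilpMinCover 𝓐) : False := by
  have : Fact p.Prime := ⟨hp⟩
  have hsq := not_sq_dvd_card_of_injective hp hn2 ι hinj
  have hc : p - 1 < n := by omega
  have h3 : 3 - 1 < n := by omega
  have h0n : 0 < n := by omega
  have h1n : 1 < n := by omega
  have h2n : 2 < n := by omega
  have h3n : 3 < n := by omega
  have h4n : 4 < n := by omega
  have hodd : Odd p := hp.odd_of_ne_two (by omega)
  have hcs : pcyc n p hc ∈ alternatingGroup (Fin n) :=
    Perm.mem_alternatingGroup.mpr (sign_pcyc hc hodd)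
  have hts : pcyc n 3 h3 ∈ alternatingGroup (Fin n) :=
    Perm.mem_alternatingGroup.mpr (sign_pcyc h3 (by decide))
  have h01 : (⟨0, h0n⟩ : Fin n) ≠ ⟨1, h1n⟩ := by
    intro h; exact absurd (congrArg Fin.val h) (by norm_num)
  have h1p : (⟨1, h1n⟩ : Fin n) ≠ ⟨p, hpn⟩ := by
    intro h; have := congrArg Fin.val h; simp only at this; omega
  have h0p : (⟨p, hpn⟩ : Fin n) ≠ ⟨0, h0n⟩ := by
    intro h; have := congrArg Fin.val h; simp only at this; omega
  have hss : (swap (⟨0, h0n⟩ : Fin n) ⟨1, h1n⟩ * swap (⟨1, h1n⟩ : Fin n) ⟨p, hpn⟩) ∈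
      alternatingGroup (Fin n) := by
    rw [Perm.mem_alternatingGroup, Perm.sign_mul, Perm.sign_swap h01, Perm.sign_swap h1p]
    norm_num
  obtain ⟨y, hy⟩ := hrange hcs
  obtain ⟨τ, hτ⟩ := hrange hts
  obtain ⟨σ, hσ⟩ := hrange hss
  have hτM : τ ∈ (stabLT n p).comap ι := by
    rw [Subgroup.mem_comap, hτ]; exact pcyc_three_mem_stabLT h3 (by omega)
  have hyM : Subgroup.centralizer {y} ≤ (stabLT n p).comap ι := by
    intro g hg
    rw [Subgroup.mem_centralizer_singleton_iff] at hg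
    rw [Subgroup.mem_comap]
    apply mem_stabLT_of_commute hc (by omega)
    rw [← hy, ← map_mul, ← map_mul, hg]
  refine no_cover_of_centralizers (p := p) h𝓐 hsq (y := y) (y' := τ * y * τ⁻¹)
    (M := (stabLT n p).comap ι) ?_ ?_ ?_ hyM ?_ ?_
  · apply hinj
    rw [map_pow, hy, map_one]
    exact pcyc_pow hc (by omega)
  · apply hinj
    rw [conj_pow, map_mul, map_mul, map_pow, hy, pcyc_pow hc (by omega), map_one, mul_one, ← map_mul,
      mul_inv_cancel, map_one]
  · intro htop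
    have hmem : σ ∈ (stabLT n p).comap ι := htop ▸ Subgroup.mem_top σ
    rw [Subgroup.mem_comap, hσ] at hmem
    have h1 := (hmem ⟨1, h1n⟩).mpr (by show 1 < p; omega)
    rw [Perm.mul_apply, swap_apply_left, swap_apply_of_ne_of_ne h0p h1p.symm] at h1
    exact lt_irrefl _ h1
  · intro g hg
    rw [Subgroup.mem_centralizer_singleton_iff] at hg
    have h1 : τ⁻¹ * g * τ ∈ (stabLT n p).comap ι := by
      apply hyM
      rw [Subgroup.mem_centralizer_singleton_iff]
      calc τ⁻¹ * g * τ * y = τ⁻¹ * (g * (τ * y * τ⁻¹)) * τ := by group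
        _ = τ⁻¹ * ((τ * y * τ⁻¹) * g) * τ := by rw [hg]
        _ = y * (τ⁻¹ * g * τ) := by group
    have e : g = τ * (τ⁻¹ * g * τ) * τ⁻¹ := by group
    rw [e]
    exact Subgroup.mul_mem _ (Subgroup.mul_mem _ hτM h1) (Subgroup.inv_mem _ hτM)
  · intro hcomm
    have h1 := congrArg ι hcomm
    simp only [map_mul, map_inv, hy, hτ] at h1
    have h2 := congrArg (fun f : Perm (Fin n) => f ⟨0, h0n⟩) h1
    simp only [Perm.mul_apply] at h2
    have ht2 : pcyc n 3 h3 ⟨2, h2n⟩ = ⟨0, h0n⟩ := pcyc_mk_of_eq h3 2 rfl h2n h0n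
    have ht0 : pcyc n 3 h3 ⟨0, h0n⟩ = ⟨1, h1n⟩ := pcyc_mk_of_lt h3 0 (by norm_num) h0n h1n
    have ht1 : pcyc n 3 h3 ⟨1, h1n⟩ = ⟨2, h2n⟩ := pcyc_mk_of_lt h3 1 (by norm_num) h1n h2n
    have ht3 : pcyc n 3 h3 ⟨3, h3n⟩ = ⟨3, h3n⟩ := pcyc_of_ge h3 (by norm_num) _ (le_refl 3)
    have hc0 : pcyc n p hc ⟨0, h0n⟩ = ⟨1, h1n⟩ := pcyc_mk_of_lt hc 0 (by omega) h0n h1n
    have hc2 : pcyc n p hc ⟨2, h2n⟩ = ⟨3, h3n⟩ := pcyc_mk_of_lt hc 2 (by omega) h2n h3n
    have hc3 : pcyc n p hc ⟨3, h3n⟩ = ⟨4, h4n⟩ := pcyc_mk_of_lt hc 3 (by omega) h3n h4n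
    have hti0 : (pcyc n 3 h3)⁻¹ ⟨0, h0n⟩ = ⟨2, h2n⟩ := by rw [Perm.inv_eq_iff_eq, ht2]
    have hti1 : (pcyc n 3 h3)⁻¹ ⟨1, h1n⟩ = ⟨0, h0n⟩ := by rw [Perm.inv_eq_iff_eq, ht0]
    rw [hti0, hc2, ht3, hc3, hc0, hti1, hc0, ht1] at h2
    exact absurd (congrArg Fin.val h2) (by norm_num)

end general


section small

set_option maxRecDepth 100000 in
theorem s4_cent : ∀ g : Perm (Fin 4),
    (g * (swap 0 1 * swap 1 2) = (swap 0 1 * swap 1 2) * g → Perm.sign g = 1) ∧
    (g * (swap 0 1 * swap 1 3) = (swap 0 1 * swap 1 3) * g → Perm.sign g = 1) := by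
  decide

theorem no_cover_S4 {𝓐 : Finset (Subgroup (Perm (Fin 4)))} (h𝓐 : IsNilpMinCover 𝓐) : False := by
  have : Fact (Nat.Prime 3) := ⟨by norm_num⟩
  have hsq := not_sq_dvd_card_of_injective (p := 3) (n := 4) (by norm_num) (by norm_num)
    (MonoidHom.id _) Function.injective_id
  refine no_cover_of_centralizers (p := 3) h𝓐 hsq (y := swap 0 1 * swap 1 2)
    (y' := swap 0 1 * swap 1 3) (M := alternatingGroup (Fin 4)) (by decide) (by decide) ?_ ?_ ?_
    (by decide)
  · intro htop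
    have hmem : swap (0 : Fin 4) 1 ∈ alternatingGroup (Fin 4) := htop ▸ Subgroup.mem_top _
    rw [Perm.mem_alternatingGroup, Perm.sign_swap (by decide)] at hmem
    exact absurd hmem (by decide)
  · intro g hg
    rw [Subgroup.mem_centralizer_singleton_iff] at hg
    exact Perm.mem_alternatingGroup.mpr ((s4_cent g).1 hg)
  · intro g hg
    rw [Subgroup.mem_centralizer_singleton_iff] at hg
    exact Perm.mem_alternatingGroup.mpr ((s4_cent g).2 hg)

set_option maxRecDepth 100000 in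
theorem s5_cent : ∀ g : Perm (Fin 5),
    (g * (swap 0 1 * swap 1 2 * swap 2 3 * swap 3 4) = (swap 0 1 * swap 1 2 * swap 2 3 * swap 3 4) * g →
      Perm.sign g = 1) ∧
    (g * (swap 0 2 * swap 2 1 * swap 1 3 * swap 3 4) = (swap 0 2 * swap 2 1 * swap 1 3 * swap 3 4) * g →
      Perm.sign g = 1) := by
  decide

theorem no_cover_S5 {𝓐 : Finset (Subgroup (Perm (Fin 5)))} (h𝓐 : IsNilpMinCover 𝓐) : False := by
  have : Fact (Nat.Prime 5) := ⟨by norm_num⟩
  have hsq := not_sq_dvd_card_of_injective (p := 5) (n := 5) (by norm_num) (by norm_num)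
    (MonoidHom.id _) Function.injective_id
  refine no_cover_of_centralizers (p := 5) h𝓐 hsq (y := swap 0 1 * swap 1 2 * swap 2 3 * swap 3 4)
    (y' := swap 0 2 * swap 2 1 * swap 1 3 * swap 3 4) (M := alternatingGroup (Fin 5))
    (by decide) (by decide) ?_ ?_ ?_ (by decide)
  · intro htop
    have hmem : swap (0 : Fin 5) 1 ∈ alternatingGroup (Fin 5) := htop ▸ Subgroup.mem_top _
    rw [Perm.mem_alternatingGroup, Perm.sign_swap (by decide)] at hmem
    exact absurd hmem (by decide)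
  · intro g hg
    rw [Subgroup.mem_centralizer_singleton_iff] at hg
    exact Perm.mem_alternatingGroup.mpr ((s5_cent g).1 hg)
  · intro g hg
    rw [Subgroup.mem_centralizer_singleton_iff] at hg
    exact Perm.mem_alternatingGroup.mpr ((s5_cent g).2 hg)

set_option maxRecDepth 100000 in
theorem a5_cent : ∀ g : Perm (Fin 5), Perm.sign g = 1 →
    (g * (swap 0 1 * swap 1 2) = (swap 0 1 * swap 1 2) * g → g 4 = 4) ∧
    (g * (swap 0 1 * swap 1 3) = (swap 0 1 * swap 1 3) * g → g 4 = 4) := by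
  decide

theorem no_cover_A5 {𝓐 : Finset (Subgroup ↥(alternatingGroup (Fin 5)))} (h𝓐 : IsNilpMinCover 𝓐) :
    False := by
  have : Fact (Nat.Prime 3) := ⟨by norm_num⟩
  have hsq := not_sq_dvd_card_of_injective (p := 3) (n := 5) (by norm_num) (by norm_num)
    (alternatingGroup (Fin 5)).subtype Subtype.val_injective
  have hy : (swap 0 1 * swap 1 2 : Perm (Fin 5)) ∈ alternatingGroup (Fin 5) :=
    Perm.mem_alternatingGroup.mpr (by decide)
  have hy' : (swap 0 1 * swap 1 3 : Perm (Fin 5)) ∈ alternatingGroup (Fin 5) :=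
    Perm.mem_alternatingGroup.mpr (by decide)
  have hs : (swap 0 1 * swap 1 4 : Perm (Fin 5)) ∈ alternatingGroup (Fin 5) :=
    Perm.mem_alternatingGroup.mpr (by decide)
  refine no_cover_of_centralizers (p := 3) h𝓐 hsq (y := ⟨_, hy⟩) (y' := ⟨_, hy'⟩)
    (M := (MulAction.stabilizer (Perm (Fin 5)) (4 : Fin 5)).comap (alternatingGroup (Fin 5)).subtype)
    ?_ ?_ ?_ ?_ ?_ ?_
  · apply Subtype.ext
    rw [Subgroup.coe_pow, Subgroup.coe_one]
    show (swap 0 1 * swap 1 2 : Perm (Fin 5)) ^ 3 = 1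
    decide
  · apply Subtype.ext
    rw [Subgroup.coe_pow, Subgroup.coe_one]
    show (swap 0 1 * swap 1 3 : Perm (Fin 5)) ^ 3 = 1
    decide
  · intro htop
    have hmem : (⟨_, hs⟩ : ↥(alternatingGroup (Fin 5))) ∈
        (MulAction.stabilizer (Perm (Fin 5)) (4 : Fin 5)).comap (alternatingGroup (Fin 5)).subtype :=
      htop ▸ Subgroup.mem_top _
    rw [Subgroup.mem_comap, MulAction.mem_stabilizer_iff] at hmem
    have hmem' : (swap 0 1 * swap 1 4 : Perm (Fin 5)) 4 = 4 := hmem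
    exact absurd hmem' (by decide)
  · intro g hg
    rw [Subgroup.mem_centralizer_singleton_iff] at hg
    rw [Subgroup.mem_comap, MulAction.mem_stabilizer_iff]
    have h1 := congrArg Subtype.val hg
    rw [Subgroup.coe_mul, Subgroup.coe_mul] at h1
    exact (a5_cent g.1 (Perm.mem_alternatingGroup.mp g.2)).1 h1
  · intro g hg
    rw [Subgroup.mem_centralizer_singleton_iff] at hg
    rw [Subgroup.mem_comap, MulAction.mem_stabilizer_iff]
    have h1 := congrArg Subtype.val hg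
    rw [Subgroup.coe_mul, Subgroup.coe_mul] at h1
    exact (a5_cent g.1 (Perm.mem_alternatingGroup.mp g.2)).2 h1
  · intro hcomm
    have h1 := congrArg Subtype.val hcomm
    rw [Subgroup.coe_mul, Subgroup.coe_mul] at h1
    have h1' : (swap 0 1 * swap 1 2 : Perm (Fin 5)) * (swap 0 1 * swap 1 3) =
        (swap 0 1 * swap 1 3) * (swap 0 1 * swap 1 2) := h1
    exact absurd h1' (by decide)

end small

/-- Symmetric groups of degree at least `4` have no nilpotent minimal cover. -/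
theorem no_cover_perm {n : ℕ} (hn : 4 ≤ n) {𝓐 : Finset (Subgroup (Perm (Fin n)))}
    (h𝓐 : IsNilpMinCover 𝓐) : False := by
  rcases Nat.lt_or_ge n 6 with h | h
  · rcases Nat.lt_or_ge n 5 with h' | h'
    · have : n = 4 := by omega
      subst this
      exact no_cover_S4 h𝓐
    · have : n = 5 := by omega
      subst this
      exact no_cover_S5 h𝓐
  · obtain ⟨p, hp, h5, hpn, hn2⟩ := exists_prime_mid h
    exact no_cover_general hp h5 hpn hn2 (MonoidHom.id _) Function.injective_id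
      (fun x _ => ⟨x, rfl⟩) h𝓐

/-- Alternating groups of degree at least `5` have no nilpotent minimal cover. -/
theorem no_cover_alt {n : ℕ} (hn : 5 ≤ n) {𝓐 : Finset (Subgroup ↥(alternatingGroup (Fin n)))}
    (h𝓐 : IsNilpMinCover 𝓐) : False := by
  rcases Nat.lt_or_ge n 6 with h | h
  · have : n = 5 := by omega
    subst this
    exact no_cover_A5 h𝓐
  · obtain ⟨p, hp, h5, hpn, hn2⟩ := exists_prime_mid h
    exact no_cover_general hp h5 hpn hn2 (alternatingGroup (Fin n)).subtype Subtype.val_injective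
      (by rw [Subgroup.range_subtype]) h𝓐

end Cfsg.Agent.Lib.Helper65
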