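import Mathlib
import Cfsg.Prelude
import Cfsg.Agent.Lib.Helper2.Burnside

/-!
Counting conjugacy classes of `p`-elements: every class of `p`-elements meets a Sylow `p`-subgroup `P`,
so their number is at most the number of orbits of `N_G(P)` on `P`; Burnside's orbit-counting lemma then
bounds it by `(p+1)|P|/(2p)` unless `N_G(P) ≤ C_G(P)`.
-/

set_option autoImplicit false

namespace Cfsg.Agent.Lib.Helper65

section PClasses

variable {G : Type*} [Group G]

/-- conjugation action of `N_G(H)` on `H` -/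
@[reducible] def normalizerConjAction (H : Subgroup G) :
    MulAction ↥(Subgroup.normalizer (H : Set G)) ↥H where
  smul a x := ⟨(a : G) * x * (a : G)⁻¹, (Subgroup.mem_normalizer_iff.mp a.2 x).mp x.2⟩
  one_smul x := Subtype.ext (by
    show ((1 : ↥(Subgroup.normalizer (H : Set G))) : G) * x *
      ((1 : ↥(Subgroup.normalizer (H : Set G))) : G)⁻¹ = x
    simp)
  mul_smul a b x := Subtype.ext (by
    show ((a * b : ↥(Subgroup.normalizer (H : Set G))) : G) * x *
      ((a * b : ↥(Subgroup.normalizer (H : Set G))) : G)⁻¹ = (a : G) * ((b : G) * x * (b : G)⁻¹) * (a : G)⁻¹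
    simp [mul_assoc])

attribute [local instance] normalizerConjAction

lemma normalizerConjAction_smul_coe (H : Subgroup G) (a : ↥(Subgroup.normalizer (H : Set G))) (x : ↥H) :
    ((a • x : ↥H) : G) = (a : G) * x * (a : G)⁻¹ := rfl

/-- every element of `p`-power order is conjugate into a given Sylow `p`-subgroup -/
lemma exists_conj_mem_sylow [Finite G] {p : ℕ} [Fact p.Prime] (P : Sylow p G) (y : G) (k : ℕ)
    (hy : orderOf y = p ^ k) : ∃ g : G, g * y * g⁻¹ ∈ (P : Subgroup G) := by
  have h1 : IsPGroup p (Subgroup.zpowers y) := IsPGroup.of_card (n := k) (by rw [Nat.card_zpowers, hy])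
  obtain ⟨Q, hQ⟩ := h1.exists_le_sylow
  obtain ⟨g, hg⟩ := MulAction.exists_smul_eq G Q P
  refine ⟨g, ?_⟩
  have h2 : y ∈ (Q : Subgroup G) := hQ (Subgroup.mem_zpowers y)
  have h3 : g * y * g⁻¹ ∈ ((g • Q : Sylow p G) : Subgroup G) := by
    rw [Sylow.coe_subgroup_smul]
    exact ⟨y, h2, rfl⟩
  rwa [hg] at h3


/-- the number of classes of `p`-elements is at most the number of `N_G(P)`-orbits on `P` -/
lemma card_pClasses_le_card_orbits [Finite G] {p : ℕ} [Fact p.Prime] (P : Sylow p G) :
    Nat.card {c : ConjClasses G // ∀ x ∈ c.carrier, ∃ k : ℕ, orderOf x = p ^ k} ≤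
      Nat.card (Quotient (@MulAction.orbitRel _ _ _ (normalizerConjAction (P : Subgroup G)))) := by
  have hex : ∀ c : {c : ConjClasses G // ∀ x ∈ c.carrier, ∃ k : ℕ, orderOf x = p ^ k},
      ∃ x : ↥(P : Subgroup G), ConjClasses.mk (x : G) = c.1 := by
    intro c
    obtain ⟨y, hy⟩ := ConjClasses.exists_rep c.1
    obtain ⟨k, hk⟩ := c.2 y (by rw [← hy]; exact ConjClasses.mem_carrier_mk)
    obtain ⟨g, hg⟩ := exists_conj_mem_sylow P y k hk
    refine ⟨⟨g * y * g⁻¹, hg⟩, ?_⟩
    rw [← hy]
    exact ConjClasses.mk_eq_mk_iff_isConj.mpr (isConj_iff.mpr ⟨g⁻¹, by simp [mul_assoc]⟩)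
  choose φ hφ using hex
  apply Nat.card_le_card_of_injective
    (fun c => (Quotient.mk (MulAction.orbitRel _ _) (φ c) :
      Quotient (MulAction.orbitRel ↥(Subgroup.normalizer ((P : Subgroup G) : Set G)) ↥(P : Subgroup G))))
  intro c c' h
  have h1 := Quotient.exact h
  obtain ⟨a, ha⟩ := (MulAction.orbitRel_apply.mp h1)
  apply Subtype.ext
  rw [← hφ c, ← hφ c', ConjClasses.mk_eq_mk_iff_isConj, isConj_iff]
  refine ⟨((a : G))⁻¹, ?_⟩
  have h2 : ((φ c : ↥(P : Subgroup G)) : G) = (a : G) * (φ c' : ↥(P : Subgroup G)) * (a : G)⁻¹ := by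
    rw [← ha]; rfl
  rw [h2]; group

/-- **Orbit counting bound**: if `N_G(P) ≰ C_G(P)` then `k_p(G) ≤ (p+1)|P|/(2p)`. -/
theorem two_mul_card_pClasses_le [Finite G] {p : ℕ} [hp : Fact p.Prime] (P : Sylow p G)
    (h : ¬ Subgroup.normalizer ((P : Subgroup G) : Set G) ≤
      Subgroup.centralizer ((P : Subgroup G) : Set G)) :
    2 * p * Nat.card {c : ConjClasses G // ∀ x ∈ c.carrier, ∃ k : ℕ, orderOf x = p ^ k} ≤
      (p + 1) * Nat.card (P : Subgroup G) := by
  classical
  have hpp : p.Prime := hp.out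
  have hle := card_pClasses_le_card_orbits P
  set A := Subgroup.normalizer ((P : Subgroup G) : Set G) with hA
  haveI : Fintype A := Fintype.ofFinite A
  haveI : Fintype (P : Subgroup G) := Fintype.ofFinite _
  haveI : Fintype (MulAction.orbitRel.Quotient A (P : Subgroup G)) := Fintype.ofFinite _
  have hB := MulAction.sum_card_fixedBy_eq_card_orbits_mul_card_group A (P : Subgroup G)
  set C : Subgroup A := (Subgroup.centralizer ((P : Subgroup G) : Set G)).subgroupOf A with hC
  have hCne : C ≠ ⊤ := by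
    intro hCtop
    apply h
    intro a ha
    have : (⟨a, ha⟩ : A) ∈ C := by rw [hCtop]; trivial
    exact Subgroup.mem_subgroupOf.mp this
  have hC2 : 2 * Nat.card C ≤ Nat.card A := by
    have h1 := C.card_mul_index
    have h2 : C.index ≠ 1 := fun h' => hCne (Subgroup.index_eq_one.mp h')
    have h3 : C.index ≠ 0 := Subgroup.index_ne_zero_of_finite
    have h4 : 2 ≤ C.index := by omega
    calc 2 * Nat.card C = Nat.card C * 2 := mul_comm _ _
      _ ≤ Nat.card C * C.index := Nat.mul_le_mul_left _ h4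
      _ = Nat.card A := h1
  -- fixed points form a subgroup
  have hfixcard : ∀ a : A, Fintype.card (MulAction.fixedBy (P : Subgroup G) a) =
      Nat.card ((Subgroup.centralizer ({(a : G)} : Set G)).subgroupOf (P : Subgroup G)) := by
    intro a
    rw [← Nat.card_eq_fintype_card]
    apply Nat.card_congr
    apply Equiv.setCongr
    ext x
    rw [MulAction.mem_fixedBy, SetLike.mem_coe, Subgroup.mem_subgroupOf,
      Subgroup.mem_centralizer_singleton_iff]
    constructor
    · intro hx
      have h1 : (a : G) * x * (a : G)⁻¹ = x := congrArg Subtype.val hx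
      calc (x : G) * a = ((a : G) * x * (a : G)⁻¹) * a := by rw [h1]
        _ = a * x := by group
    · intro hx
      apply Subtype.ext
      show (a : G) * x * (a : G)⁻¹ = x
      rw [← hx]; group
  have hfix1 : ∀ a : A, Fintype.card (MulAction.fixedBy (P : Subgroup G) a) ≤
      Nat.card (P : Subgroup G) := by
    intro a
    rw [hfixcard]
    exact Subgroup.card_le_card_group _
  have hfix2 : ∀ a : A, a ∉ C → p * Fintype.card (MulAction.fixedBy (P : Subgroup G) a) ≤
      Nat.card (P : Subgroup G) := by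
    intro a ha
    rw [hfixcard]
    set F := (Subgroup.centralizer ({(a : G)} : Set G)).subgroupOf (P : Subgroup G) with hF
    have hFne : F ≠ ⊤ := by
      intro hFtop
      apply ha
      rw [hC, Subgroup.mem_subgroupOf, Subgroup.mem_centralizer_iff]
      intro x hx
      have : (⟨x, hx⟩ : (P : Subgroup G)) ∈ F := by rw [hFtop]; trivial
      rw [hF, Subgroup.mem_subgroupOf, Subgroup.mem_centralizer_singleton_iff] at this
      exact this
    obtain ⟨j, hj⟩ := (P.isPGroup').index F
    have hj0 : j ≠ 0 := by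
      rintro rfl
      rw [pow_zero] at hj
      exact hFne (Subgroup.index_eq_one.mp hj)
    have h1 := F.card_mul_index
    rw [← h1, hj, mul_comm]
    apply Nat.mul_le_mul_left
    calc p = p ^ 1 := (pow_one p).symm
      _ ≤ p ^ j := Nat.pow_le_pow_right hpp.pos (Nat.one_le_iff_ne_zero.mpr hj0)
  -- the sum
  set nP := Nat.card (P : Subgroup G) with hnP
  have hsum : ∑ a : A, p * Fintype.card (MulAction.fixedBy (P : Subgroup G) a) ≤
      ∑ a : A, (if a ∈ C then p * nP else nP) := by
    apply Finset.sum_le_sum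
    intro a _
    split_ifs with ha
    · exact Nat.mul_le_mul_left _ (hfix1 a)
    · exact hfix2 a ha
  rw [← Finset.mul_sum, hB, Finset.sum_ite, Finset.sum_const, Finset.sum_const, smul_eq_mul, smul_eq_mul]
    at hsum
  have hcardC : (Finset.univ.filter (fun a : A => a ∈ C)).card = Nat.card C := by
    rw [Nat.card_eq_fintype_card, Fintype.card_subtype]
  have hcardA : (Finset.univ.filter (fun a : A => a ∈ C)).card +
      (Finset.univ.filter (fun a : A => ¬ a ∈ C)).card = Nat.card A := by
    rw [Finset.card_filter_add_card_filter_not, Finset.card_univ, Nat.card_eq_fintype_card]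
  rw [hcardC] at hsum hcardA
  set nC := Nat.card C with hnC
  set m := (Finset.univ.filter (fun a : A => ¬ a ∈ C)).card with hm
  set orb := Fintype.card (MulAction.orbitRel.Quotient A (P : Subgroup G)) with horb
  have hA' : Fintype.card A = nC + m := by rw [← Nat.card_eq_fintype_card]; exact hcardA.symm
  rw [hA'] at hsum
  have hnCm : nC ≤ m := by omega
  have horb' : Nat.card (Quotient (MulAction.orbitRel A (P : Subgroup G))) = orb := by
    rw [horb, Nat.card_eq_fintype_card]
  rw [horb'] at hle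
  set kk := Nat.card {c : ConjClasses G // ∀ x ∈ c.carrier, ∃ k : ℕ, orderOf x = p ^ k} with hkk
  have hpos : 0 < nC + m := by
    have : 0 < nC := Nat.card_pos
    omega
  have hmain : (2 * p * orb) * (nC + m) ≤ ((p + 1) * nP) * (nC + m) := by
    obtain ⟨q, rfl⟩ : ∃ q, p = q + 1 := ⟨p - 1, (Nat.succ_pred_eq_of_pos hpp.pos).symm⟩
    have h5 : q * nC * nP ≤ q * m * nP :=
      Nat.mul_le_mul_right _ (Nat.mul_le_mul_left _ hnCm)
    nlinarith
  have h6 := Nat.le_of_mul_le_mul_right hmain hpos
  calc 2 * p * kk ≤ 2 * p * orb := Nat.mul_le_mul_left _ hle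
    _ ≤ _ := h6


/-- conjugate elements have the same order -/
lemma orderOf_conj_eq (c x : G) : orderOf (c * x * c⁻¹) = orderOf x :=
  (MulAut.conj c).orderOf_eq x

/-- the class of an element of a Sylow `p`-subgroup, as a class of `p`-elements -/
lemma forall_orderOf_of_mem_sylow [Finite G] {p : ℕ} [Fact p.Prime] (P : Sylow p G) (x : G)
    (hx : x ∈ (P : Subgroup G)) : ∀ y ∈ (ConjClasses.mk x).carrier, ∃ k : ℕ, orderOf y = p ^ k := by
  intro y hy
  rw [ConjClasses.mem_carrier_iff_mk_eq, ConjClasses.mk_eq_mk_iff_isConj, isConj_iff] at hy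
  obtain ⟨c, hc⟩ := hy
  obtain ⟨k, hk⟩ := IsPGroup.iff_orderOf.mp P.isPGroup' ⟨x, hx⟩
  refine ⟨k, ?_⟩
  have h1 : orderOf x = p ^ k := by rw [← hk, Subgroup.orderOf_mk]
  rw [← h1, ← hc, orderOf_conj_eq]

/-- if an abelian Sylow `p`-subgroup `P` has a normal complement, distinct elements of `P` are not
conjugate, so there are at least `|P|` classes of `p`-elements -/
theorem card_le_card_pClasses_of_complement [Finite G] {p : ℕ} [Fact p.Prime] (P : Sylow p G)
    (hP : IsMulCommutative (P : Subgroup G)) (N : Subgroup G) [hN : N.Normal]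
    (hc : N.IsComplement' (P : Subgroup G)) :
    Nat.card (P : Subgroup G) ≤
      Nat.card {c : ConjClasses G // ∀ x ∈ c.carrier, ∃ k : ℕ, orderOf x = p ^ k} := by
  apply Nat.card_le_card_of_injective
    (fun x : (P : Subgroup G) => (⟨ConjClasses.mk (x : G), forall_orderOf_of_mem_sylow P x x.2⟩ :
      {c : ConjClasses G // ∀ x ∈ c.carrier, ∃ k : ℕ, orderOf x = p ^ k}))
  intro x x' h
  have h1 : ConjClasses.mk (x : G) = ConjClasses.mk (x' : G) := congrArg Subtype.val h
  rw [ConjClasses.mk_eq_mk_iff_isConj, isConj_iff] at h1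
  obtain ⟨c, hcx⟩ := h1
  have hcmem : c ∈ N ⊔ (P : Subgroup G) := by rw [hc.sup_eq_top]; trivial
  obtain ⟨n, hn, u, hu, rfl⟩ := Subgroup.mem_sup_of_normal_left.mp hcmem
  have hux : u * (x : G) * u⁻¹ = x := by
    have := hP.is_comm.comm (⟨u, hu⟩ : (P : Subgroup G)) x
    have h2 : u * (x : G) = (x : G) * u := congrArg Subtype.val this
    rw [h2]; group
  have h3 : (x' : G) = n * (x : G) * n⁻¹ := by
    rw [← hcx]
    calc n * u * (x : G) * (n * u)⁻¹ = n * (u * (x : G) * u⁻¹) * n⁻¹ := by group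
      _ = n * (x : G) * n⁻¹ := by rw [hux]
  have h4 : (x' : G) * (x : G)⁻¹ ∈ N := by
    rw [h3]
    have : n * (x : G) * n⁻¹ * (x : G)⁻¹ = n * ((x : G) * n⁻¹ * (x : G)⁻¹) := by group
    rw [this]
    exact mul_mem hn (hN.conj_mem n⁻¹ (inv_mem hn) x)
  have h5 : (x' : G) * (x : G)⁻¹ ∈ (P : Subgroup G) := mul_mem x'.2 (inv_mem x.2)
  have h6 : (x' : G) * (x : G)⁻¹ = 1 := by
    have := hc.disjoint.le_bot (Subgroup.mem_inf.mpr ⟨h4, h5⟩)
    exact (Subgroup.mem_bot.mp this)
  apply Subtype.ext
  exact (mul_inv_eq_one.mp h6).symm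

end PClasses

end Cfsg.Agent.Lib.Helper65
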