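/-
2×2 matrix computations for S3894 (centralizers modulo scalars in `GL₂(F)`).
Author: helper65.
-/
import Mathlib

set_option autoImplicit false
set_option linter.unusedSectionVars false
set_option linter.unusedSimpArgs false
set_option linter.unusedVariables false

namespace Cfsg.Agent.Lib.Helper65.PGL2Mat

open Matrix

variable {F : Type*} [Field F]

/-- upper triangular with equal diagonal entries -/
def IsUT (X : Matrix (Fin 2) (Fin 2) F) : Prop := X 1 0 = 0 ∧ X 0 0 = X 1 1

/-- lower triangular with equal diagonal entries -/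
def IsLT (X : Matrix (Fin 2) (Fin 2) F) : Prop := X 0 1 = 0 ∧ X 0 0 = X 1 1

theorem entries_of_comm {X T : Matrix (Fin 2) (Fin 2) F} {c : F} (h : X * T = c • (T * X)) :
    (X 0 0 * T 0 0 + X 0 1 * T 1 0 = c * (T 0 0 * X 0 0 + T 0 1 * X 1 0)) ∧
    (X 0 0 * T 0 1 + X 0 1 * T 1 1 = c * (T 0 0 * X 0 1 + T 0 1 * X 1 1)) ∧
    (X 1 0 * T 0 0 + X 1 1 * T 1 0 = c * (T 1 0 * X 0 0 + T 1 1 * X 1 0)) ∧
    (X 1 0 * T 0 1 + X 1 1 * T 1 1 = c * (T 1 0 * X 0 1 + T 1 1 * X 1 1)) := by
  have e := fun i j => congrFun (congrFun h i) j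
  have e00 := e 0 0
  have e01 := e 0 1
  have e10 := e 1 0
  have e11 := e 1 1
  simp only [Matrix.mul_apply, Fin.sum_univ_two, Matrix.smul_apply, smul_eq_mul] at e00 e01 e10 e11
  exact ⟨e00, e01, e10, e11⟩

/-- (C1) centralizer mod scalars of an upper unipotent-type matrix -/
theorem isUT_of_comm {X T : Matrix (Fin 2) (Fin 2) F} (hT : IsUT T) (hβ : T 0 1 ≠ 0)
    (hα : T 0 0 ≠ 0) (hX : X.det ≠ 0) {c : F} (h : X * T = c • (T * X)) : IsUT X := by
  obtain ⟨e00, e01, e10, e11⟩ := entries_of_comm h
  obtain ⟨hT10, hT11⟩ := hT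
  simp only [hT10, ← hT11, mul_zero, zero_mul, add_zero, zero_add] at e00 e01 e10 e11
  rw [Matrix.det_fin_two] at hX
  by_cases hc : c = 1
  · subst hc
    have hs : X 1 0 = 0 := by
      have : T 0 1 * X 1 0 = 0 := by linear_combination -e00
      exact (mul_eq_zero.mp this).resolve_left hβ
    refine ⟨hs, ?_⟩
    have : T 0 1 * (X 0 0 - X 1 1) = 0 := by linear_combination e01
    have := (mul_eq_zero.mp this).resolve_left hβ
    linear_combination this
  · exfalso
    have h1c : (1 - c) ≠ 0 := fun h => hc (by linear_combination -h)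
    have hs : X 1 0 = 0 := by
      have : (1 - c) * T 0 0 * X 1 0 = 0 := by linear_combination e10
      rcases mul_eq_zero.mp this with h | h
      · exact absurd h (mul_ne_zero h1c hα)
      · exact h
    rw [hs] at e00 e11
    have hp : X 0 0 = 0 := by
      have : (1 - c) * T 0 0 * X 0 0 = 0 := by linear_combination e00
      rcases mul_eq_zero.mp this with h | h
      · exact absurd h (mul_ne_zero h1c hα)
      · exact h
    have hw : X 1 1 = 0 := by
      have : (1 - c) * T 0 0 * X 1 1 = 0 := by linear_combination e11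
      rcases mul_eq_zero.mp this with h | h
      · exact absurd h (mul_ne_zero h1c hα)
      · exact h
    apply hX
    rw [hp, hw, hs]; ring

/-- (C1ᵀ) -/
theorem isLT_of_comm {X T : Matrix (Fin 2) (Fin 2) F} (hT : IsLT T) (hβ : T 1 0 ≠ 0)
    (hα : T 0 0 ≠ 0) (hX : X.det ≠ 0) {c : F} (h : X * T = c • (T * X)) : IsLT X := by
  obtain ⟨e00, e01, e10, e11⟩ := entries_of_comm h
  obtain ⟨hT01, hT11⟩ := hT
  simp only [hT01, ← hT11, mul_zero, zero_mul, add_zero, zero_add] at e00 e01 e10 e11
  rw [Matrix.det_fin_two] at hX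
  by_cases hc : c = 1
  · subst hc
    have hs : X 0 1 = 0 := by
      have : T 1 0 * X 0 1 = 0 := by linear_combination e00
      exact (mul_eq_zero.mp this).resolve_left hβ
    refine ⟨hs, ?_⟩
    have : T 1 0 * (X 0 0 - X 1 1) = 0 := by linear_combination -e10
    have := (mul_eq_zero.mp this).resolve_left hβ
    linear_combination this
  · exfalso
    have h1c : (1 - c) ≠ 0 := fun h => hc (by linear_combination -h)
    have hs : X 0 1 = 0 := by
      have : (1 - c) * T 0 0 * X 0 1 = 0 := by linear_combination e01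
      rcases mul_eq_zero.mp this with h | h
      · exact absurd h (mul_ne_zero h1c hα)
      · exact h
    rw [hs] at e00 e11
    have hp : X 0 0 = 0 := by
      have : (1 - c) * T 0 0 * X 0 0 = 0 := by linear_combination e00
      rcases mul_eq_zero.mp this with h | h
      · exact absurd h (mul_ne_zero h1c hα)
      · exact h
    have hw : X 1 1 = 0 := by
      have : (1 - c) * T 0 0 * X 1 1 = 0 := by linear_combination e11
      rcases mul_eq_zero.mp this with h | h
      · exact absurd h (mul_ne_zero h1c hα)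
      · exact h
    apply hX
    rw [hp, hw, hs]; ring

/-- (C2) centralizer mod scalars of a diagonal matrix with distinct entries -/
theorem diag_or_antidiag_of_comm {X D : Matrix (Fin 2) (Fin 2) F} (hD01 : D 0 1 = 0)
    (hD10 : D 1 0 = 0) (hne : D 0 0 ≠ D 1 1) (h0 : D 0 0 ≠ 0) (h1 : D 1 1 ≠ 0) (hX : X.det ≠ 0)
    {c : F} (h : X * D = c • (D * X)) :
    (X 0 1 = 0 ∧ X 1 0 = 0) ∨ (X 0 0 = 0 ∧ X 1 1 = 0 ∧ D 1 1 = -D 0 0 ∧ (1 : F) ≠ -1) := by
  obtain ⟨e00, e01, e10, e11⟩ := entries_of_comm h
  simp only [hD01, hD10, mul_zero, zero_mul, add_zero, zero_add] at e00 e01 e10 e11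
  rw [Matrix.det_fin_two] at hX
  by_cases hc : c = 1
  · subst hc
    left
    have hd : D 1 1 - D 0 0 ≠ 0 := fun h => hne (by linear_combination -h)
    constructor
    · have : (D 1 1 - D 0 0) * X 0 1 = 0 := by linear_combination e01
      exact (mul_eq_zero.mp this).resolve_left hd
    · have : (D 1 1 - D 0 0) * X 1 0 = 0 := by linear_combination -e10
      exact (mul_eq_zero.mp this).resolve_left hd
  · right
    have h1c : (1 - c) ≠ 0 := fun h => hc (by linear_combination -h)
    have hp : X 0 0 = 0 := by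
      have : (1 - c) * D 0 0 * X 0 0 = 0 := by linear_combination e00
      rcases mul_eq_zero.mp this with h | h
      · exact absurd h (mul_ne_zero h1c h0)
      · exact h
    have hw : X 1 1 = 0 := by
      have : (1 - c) * D 1 1 * X 1 1 = 0 := by linear_combination e11
      rcases mul_eq_zero.mp this with h | h
      · exact absurd h (mul_ne_zero h1c h1)
      · exact h
    rw [hp, hw] at hX
    have hr : X 0 1 ≠ 0 := by
      intro h; apply hX; rw [h]; ring
    have hs : X 1 0 ≠ 0 := by
      intro h; apply hX; rw [h]; ring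
    have k1 : D 1 1 = c * D 0 0 := by
      have : X 0 1 * (D 1 1 - c * D 0 0) = 0 := by linear_combination e01
      have := (mul_eq_zero.mp this).resolve_left hr
      linear_combination this
    have k2 : D 0 0 = c * D 1 1 := by
      have : X 1 0 * (D 0 0 - c * D 1 1) = 0 := by linear_combination e10
      have := (mul_eq_zero.mp this).resolve_left hs
      linear_combination this
    have k3 : (c - 1) * (c + 1) = 0 := by
      have : D 0 0 * ((c - 1) * (c + 1)) = 0 := by
        rw [k1] at k2
        linear_combination -k2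
      exact (mul_eq_zero.mp this).resolve_left h0
    have hc' : c = -1 := by
      rcases mul_eq_zero.mp k3 with h | h
      · exact absurd (by linear_combination h) hc
      · linear_combination h
    refine ⟨hp, hw, ?_, ?_⟩
    · rw [k1, hc']; ring
    · intro h; apply hc; rw [hc']; exact h.symm

/-- a matrix has an eigenvector -/
def HasEig (Y : Matrix (Fin 2) (Fin 2) F) : Prop :=
  ∃ w : Fin 2 → F, w ≠ 0 ∧ ∃ μ : F, Y *ᵥ w = μ • w

theorem hasEig_of_diag {Y : Matrix (Fin 2) (Fin 2) F} (h : Y 1 0 = 0) : HasEig Y := by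
  refine ⟨![1, 0], ?_, Y 0 0, ?_⟩
  · intro h0; have := congrFun h0 0; simp at this
  · ext i; fin_cases i <;> simp [Matrix.mulVec, dotProduct, Fin.sum_univ_two, h]

theorem hasEig_of_antidiag {Y : Matrix (Fin 2) (Fin 2) F} (h0 : Y 0 0 = 0) (h1 : Y 1 1 = 0)
    (hdet : Y.det ≠ 0) {lam ι : F} (hlam : Y.det = lam * lam) (hι : ι * ι = -1) : HasEig Y := by
  rw [Matrix.det_fin_two, h0, h1] at hdet hlam
  have hr : Y 0 1 ≠ 0 := by intro h; apply hdet; rw [h]; ring
  refine ⟨![Y 0 1, ι * lam], ?_, ι * lam, ?_⟩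
  · intro h0; have := congrFun h0 0; simp at this; exact hr this
  · ext i
    fin_cases i
    · simp [Matrix.mulVec, dotProduct, Fin.sum_univ_two, h0]; ring
    · simp [Matrix.mulVec, dotProduct, Fin.sum_univ_two, h1]
      have : Y 1 0 * Y 0 1 = (ι * lam) * (ι * lam) := by
        have : (ι * lam) * (ι * lam) = (ι * ι) * (lam * lam) := by ring
        rw [this, hι, ← hlam]; ring
      linear_combination this

theorem hasEig_conj {Y P Q : Matrix (Fin 2) (Fin 2) F} (hPQ : P * Q = 1) (hQP : Q * P = 1)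
    (h : HasEig (Q * Y * P)) : HasEig Y := by
  obtain ⟨w, hw0, μ, hw⟩ := h
  refine ⟨P *ᵥ w, ?_, μ, ?_⟩
  · intro h0
    apply hw0
    have : Q *ᵥ (P *ᵥ w) = w := by rw [Matrix.mulVec_mulVec, hQP, Matrix.one_mulVec]
    rw [← this, h0]; simp
  · have : Y *ᵥ (P *ᵥ w) = P *ᵥ ((Q * Y * P) *ᵥ w) := by
      rw [Matrix.mulVec_mulVec, Matrix.mulVec_mulVec, ← Matrix.mul_assoc, ← Matrix.mul_assoc, hPQ,
        Matrix.one_mul]
    rw [this, hw, Matrix.mulVec_smul]

end Cfsg.Agent.Lib.Helper65.PGL2Mat
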