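/-
Line stabilizers in `GL_n(F)`, elements with a unique eigenline, and the Jordan block
(used by S3894).  Author: helper65.
-/
import Mathlib

set_option autoImplicit false
set_option linter.unusedSectionVars false

namespace Cfsg.Agent.Lib.Helper65.PGLLines

open Matrix

variable {F : Type*} [Field F] {m : Type*} [Fintype m] [DecidableEq m]

/-- stabilizer of the line through the column vector `v` -/
def colStab (v : m → F) (hv : v ≠ 0) : Subgroup (GL m F) where
  carrier := {x | ∃ a : F, (x : Matrix m m F) *ᵥ v = a • v}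
  one_mem' := ⟨1, by simp⟩
  mul_mem' := by
    rintro x y ⟨a, ha⟩ ⟨b, hb⟩
    refine ⟨b * a, ?_⟩
    rw [Units.val_mul, ← Matrix.mulVec_mulVec, hb, Matrix.mulVec_smul, ha, smul_smul]
  inv_mem' := by
    rintro x ⟨a, ha⟩
    have h1 : (↑(x⁻¹) : Matrix m m F) *ᵥ ((x : Matrix m m F) *ᵥ v) = v := by
      rw [Matrix.mulVec_mulVec, ← Units.val_mul]; simp
    rw [ha, Matrix.mulVec_smul] at h1
    have ha0 : a ≠ 0 := by
      rintro rfl
      apply hv
      rw [← h1]; simp
    refine ⟨a⁻¹, ?_⟩
    calc (↑(x⁻¹) : Matrix m m F) *ᵥ v = a⁻¹ • (a • ((↑(x⁻¹) : Matrix m m F) *ᵥ v)) := by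
          rw [smul_smul, inv_mul_cancel₀ ha0, one_smul]
      _ = a⁻¹ • v := by rw [h1]

theorem mem_colStab {v : m → F} {hv : v ≠ 0} {x : GL m F} :
    x ∈ colStab v hv ↔ ∃ a : F, (x : Matrix m m F) *ᵥ v = a • v := Iff.rfl

/-- stabilizer of the line through the row vector `v` -/
def rowStab (v : m → F) (hv : v ≠ 0) : Subgroup (GL m F) where
  carrier := {x | ∃ a : F, v ᵥ* (x : Matrix m m F) = a • v}
  one_mem' := ⟨1, by simp⟩
  mul_mem' := by
    rintro x y ⟨a, ha⟩ ⟨b, hb⟩
    refine ⟨a * b, ?_⟩
    rw [Units.val_mul, ← Matrix.vecMul_vecMul, ha, Matrix.smul_vecMul, hb, smul_smul]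
  inv_mem' := by
    rintro x ⟨a, ha⟩
    have h1 : (v ᵥ* (x : Matrix m m F)) ᵥ* (↑(x⁻¹) : Matrix m m F) = v := by
      rw [Matrix.vecMul_vecMul, ← Units.val_mul]; simp
    rw [ha, Matrix.smul_vecMul] at h1
    have ha0 : a ≠ 0 := by
      rintro rfl
      apply hv
      rw [← h1]; simp
    refine ⟨a⁻¹, ?_⟩
    calc v ᵥ* (↑(x⁻¹) : Matrix m m F) = a⁻¹ • (a • (v ᵥ* (↑(x⁻¹) : Matrix m m F))) := by
          rw [smul_smul, inv_mul_cancel₀ ha0, one_smul]
      _ = a⁻¹ • v := by rw [h1]

theorem mem_rowStab {v : m → F} {hv : v ≠ 0} {x : GL m F} :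
    x ∈ rowStab v hv ↔ ∃ a : F, v ᵥ* (x : Matrix m m F) = a • v := Iff.rfl

theorem center_le_colStab (v : m → F) (hv : v ≠ 0) :
    Subgroup.center (GL m F) ≤ colStab v hv := by
  intro x hx
  obtain ⟨r, hr⟩ := Matrix.GeneralLinearGroup.mem_center_iff_val_mem_range_scalar.mp hx
  refine ⟨r, ?_⟩
  rw [← hr]
  ext i
  simp [Matrix.mulVec, dotProduct, Matrix.diagonal_apply]

theorem center_le_rowStab (v : m → F) (hv : v ≠ 0) :
    Subgroup.center (GL m F) ≤ rowStab v hv := by
  intro x hx
  obtain ⟨r, hr⟩ := Matrix.GeneralLinearGroup.mem_center_iff_val_mem_range_scalar.mp hx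
  refine ⟨r, ?_⟩
  rw [← hr]
  ext i
  simp [Matrix.vecMul, dotProduct, Matrix.diagonal_apply, mul_comm]

/-- every eigenvector of `A` is a multiple of `v` -/
def ColEig (A : Matrix m m F) (v : m → F) : Prop :=
  ∀ (w : m → F) (a : F), A *ᵥ w = a • w → w ≠ 0 → ∃ c : F, w = c • v

/-- every left eigenvector of `A` is a multiple of `v` -/
def RowEig (A : Matrix m m F) (v : m → F) : Prop :=
  ∀ (w : m → F) (a : F), w ᵥ* A = a • w → w ≠ 0 → ∃ c : F, w = c • v

theorem RowEig_iff_transpose (A : Matrix m m F) (v : m → F) : RowEig A v ↔ ColEig Aᵀ v := by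
  unfold RowEig ColEig
  simp only [Matrix.mulVec_transpose]

theorem ColEig.submatrix {A : Matrix m m F} {v : m → F} (h : ColEig A v) (e : m ≃ m) :
    ColEig (A.submatrix e e) (v ∘ e) := by
  intro w a hw hw0
  rw [Matrix.submatrix_mulVec_equiv] at hw
  have h1 : A *ᵥ (w ∘ e.symm) = a • (w ∘ e.symm) := by
    ext i
    have := congrFun hw (e.symm i)
    simpa using this
  have h2 : w ∘ e.symm ≠ 0 := by
    intro h0
    apply hw0
    ext i
    have := congrFun h0 (e i)
    simpa using this
  obtain ⟨c, hc⟩ := h _ _ h1 h2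
  refine ⟨c, ?_⟩
  ext i
  have := congrFun hc (e i)
  simpa using this

/-- if the only eigenline of `u` is that of `v`, then `u` lies in a unique conjugate of the
stabilizer of that line -/
theorem colStab_unique_conj {u : GL m F} {v : m → F} (hv : v ≠ 0) (hu : ColEig (u : Matrix m m F) v)
    (y : GL m F) (h : y⁻¹ * u * y ∈ colStab v hv) : y ∈ colStab v hv := by
  obtain ⟨a, ha⟩ := h
  set w := (y : Matrix m m F) *ᵥ v with hw
  have h1 : (u : Matrix m m F) *ᵥ w = a • w := by
    have : (y : Matrix m m F) *ᵥ ((↑(y⁻¹ * u * y) : Matrix m m F) *ᵥ v) = (u : Matrix m m F) *ᵥ w := by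
      rw [hw, Matrix.mulVec_mulVec, Matrix.mulVec_mulVec, ← Units.val_mul, ← Units.val_mul]
      congr 2
      group
    rw [← this, ha, Matrix.mulVec_smul]
  have h2 : w ≠ 0 := by
    intro h0
    apply hv
    have : (↑(y⁻¹) : Matrix m m F) *ᵥ w = v := by
      rw [hw, Matrix.mulVec_mulVec, ← Units.val_mul]; simp
    rw [← this, h0]; simp
  obtain ⟨c, hc⟩ := hu w a h1 h2
  exact ⟨c, hc⟩

theorem rowStab_unique_conj {u : GL m F} {v : m → F} (hv : v ≠ 0) (hu : RowEig (u : Matrix m m F) v)
    (y : GL m F) (h : y⁻¹ * u * y ∈ rowStab v hv) : y ∈ rowStab v hv := by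
  obtain ⟨a, ha⟩ := h
  set w := v ᵥ* (↑(y⁻¹) : Matrix m m F) with hw
  have h1 : w ᵥ* (u : Matrix m m F) = a • w := by
    have : (v ᵥ* (↑(y⁻¹ * u * y) : Matrix m m F)) ᵥ* (↑(y⁻¹) : Matrix m m F)
        = w ᵥ* (u : Matrix m m F) := by
      rw [hw, Matrix.vecMul_vecMul, Matrix.vecMul_vecMul, ← Units.val_mul, ← Units.val_mul]
      congr 2
      group
    rw [← this, ha, Matrix.smul_vecMul]
  have h2 : w ≠ 0 := by
    intro h0
    apply hv
    have : w ᵥ* (y : Matrix m m F) = v := by
      rw [hw, Matrix.vecMul_vecMul, ← Units.val_mul]; simp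
    rw [← this, h0]; simp
  obtain ⟨c, hc⟩ := hu w a h1 h2
  have : y⁻¹ ∈ rowStab v hv := ⟨c, hc⟩
  simpa using (rowStab v hv).inv_mem this

/-! ### The Jordan block -/

/-- the unipotent Jordan block of size `k+1` -/
def jordan (F : Type*) [Field F] (k : ℕ) : Matrix (Fin (k + 1)) (Fin (k + 1)) F :=
  fun i j => if i = j ∨ i.val + 1 = j.val then 1 else 0

theorem jordan_det (k : ℕ) : (jordan F k).det = 1 := by
  have hU : (jordan F k).IsUpperTriangular := by
    intro i j hij
    simp only [id] at hij
    unfold jordan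
    rw [if_neg]
    rintro (h | h)
    · exact (ne_of_gt hij) h
    · have := Fin.lt_def.mp hij; omega
  rw [Matrix.det_of_isUpperTriangular hU]
  apply Finset.prod_eq_one
  intro i _
  simp [jordan]

theorem jordan_mulVec_castSucc (k : ℕ) (w : Fin (k + 1) → F) (i : Fin k) :
    (jordan F k *ᵥ w) i.castSucc = w i.castSucc + w i.succ := by
  simp only [Matrix.mulVec, dotProduct]
  have hne : i.castSucc ≠ i.succ := by
    intro h; have := congrArg Fin.val h; simp at this
  rw [Finset.sum_eq_add i.castSucc i.succ hne]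
  · simp [jordan]
  · intro c _ ⟨h1, h2⟩
    unfold jordan
    rw [if_neg, zero_mul]
    rintro (h | h)
    · exact h1 h.symm
    · apply h2
      ext
      simp only [Fin.val_castSucc, Fin.val_succ] at h ⊢
      omega
  · intro h; exact absurd (Finset.mem_univ _) h
  · intro h; exact absurd (Finset.mem_univ _) h

theorem jordan_mulVec_last (k : ℕ) (w : Fin (k + 1) → F) :
    (jordan F k *ᵥ w) (Fin.last k) = w (Fin.last k) := by
  simp only [Matrix.mulVec, dotProduct]
  rw [Finset.sum_eq_single (Fin.last k)]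
  · simp [jordan]
  · intro c _ hc
    unfold jordan
    rw [if_neg, zero_mul]
    rintro (h | h)
    · exact hc h.symm
    · have := c.isLt
      simp only [Fin.val_last] at h
      omega
  · intro h; exact absurd (Finset.mem_univ _) h

theorem jordan_colEig (k : ℕ) : ColEig (jordan F k) (Pi.single 0 1) := by
  intro w a hw hw0
  have h1 : ∀ i : Fin k, w i.castSucc + w i.succ = a * w i.castSucc := by
    intro i
    have := congrFun hw i.castSucc
    rw [jordan_mulVec_castSucc] at this
    simpa using this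
  have h2 : w (Fin.last k) = a * w (Fin.last k) := by
    have := congrFun hw (Fin.last k)
    rw [jordan_mulVec_last] at this
    simpa using this
  have ha : a = 1 := by
    by_contra ha
    apply hw0
    have : ∀ i, w i = 0 := by
      intro i
      induction i using Fin.reverseInduction with
      | last =>
        have : (1 - a) * w (Fin.last k) = 0 := by linear_combination h2
        rcases mul_eq_zero.mp this with h | h
        · exact absurd (by linear_combination -h) ha
        · exact h
      | cast i ih =>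
        have h3 := h1 i
        rw [ih, add_zero] at h3
        have : (1 - a) * w i.castSucc = 0 := by linear_combination h3
        rcases mul_eq_zero.mp this with h | h
        · exact absurd (by linear_combination -h) ha
        · exact h
    ext i; simpa using this i
  subst ha
  have h3 : ∀ i : Fin k, w i.succ = 0 := by
    intro i
    have := h1 i
    linear_combination this
  refine ⟨w 0, ?_⟩
  ext j
  induction j using Fin.cases with
  | zero => simp
  | succ j => simp [h3 j, Fin.succ_ne_zero]

theorem jordan_transpose (k : ℕ) :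
    (jordan F k)ᵀ = (jordan F k).submatrix (Fin.revPerm (n := k + 1)) (Fin.revPerm (n := k + 1)) := by
  ext i j
  simp only [Matrix.transpose_apply, Matrix.submatrix_apply, jordan, Fin.revPerm_apply]
  have hi := i.isLt
  have hj := j.isLt
  congr 1
  apply propext
  constructor
  · rintro (h | h)
    · left; rw [h]
    · right; simp only [Fin.val_rev]; omega
  · rintro (h | h)
    · left; exact (Fin.rev_injective h).symm
    · right; simp only [Fin.val_rev] at h; omega

theorem jordan_rowEig (k : ℕ) : RowEig (jordan F k) (Pi.single (Fin.last k) 1) := by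
  rw [RowEig_iff_transpose, jordan_transpose]
  have := (jordan_colEig (F := F) k).submatrix (Fin.revPerm (n := k + 1))
  convert this using 1
  ext j
  simp only [Function.comp_apply, Fin.revPerm_apply, Pi.single_apply]
  congr 1
  apply propext
  constructor
  · rintro rfl; simp
  · intro h
    have : Fin.rev (Fin.rev j) = Fin.rev 0 := by rw [h]
    simpa using this

end Cfsg.Agent.Lib.Helper65.PGLLines
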