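/-
Groups between `PSL_n(F)` and `PGL_n(F)`, `n ≥ 3`, have no nilpotent minimal cover (part of S3894).
Author: helper65.
-/
import Mathlib
import Cfsg.Agent.Lib.Helper65.NilCoverCrit
import Cfsg.Agent.Lib.Helper65.PGLLines

set_option autoImplicit false
set_option linter.unusedSectionVars false

namespace Cfsg.Agent.Lib.Helper65.PGLnCover

open Matrix Cfsg.Agent.Lib.Helper65.NilCoverCrit Cfsg.Agent.Lib.Helper65.PGLLines

section generic

variable {F : Type*} [Field F] {m : Type*} [Fintype m] [DecidableEq m]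

/-- the projection `GL → PGL` -/
abbrev π : GL m F →* GL m F ⧸ Subgroup.center (GL m F) :=
  QuotientGroup.mk' (Subgroup.center (GL m F))

theorem mk_mem_map_iff (H : Subgroup (GL m F)) (hZ : Subgroup.center (GL m F) ≤ H) (x : GL m F) :
    (π x : GL m F ⧸ Subgroup.center (GL m F)) ∈ H.map π ↔ x ∈ H := by
  constructor
  · rintro ⟨x', hx', hxx⟩
    have : x'⁻¹ * x ∈ Subgroup.center (GL m F) := by
      have := (QuotientGroup.eq (s := Subgroup.center (GL m F)) (a := x') (b := x)).mp hxx
      exact this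
    have h2 := H.mul_mem hx' (hZ this)
    simpa using h2
  · intro hx
    exact ⟨x, hx, rfl⟩

theorem pg_unique_conj (H : Subgroup (GL m F)) (hZ : Subgroup.center (GL m F) ≤ H) (u : GL m F)
    (h : ∀ y : GL m F, y⁻¹ * u * y ∈ H → y ∈ H) (y : GL m F ⧸ Subgroup.center (GL m F))
    (hy : y⁻¹ * π u * y ∈ H.map π) : y ∈ H.map π := by
  obtain ⟨y', rfl⟩ := QuotientGroup.mk'_surjective _ y
  have : (QuotientGroup.mk' (Subgroup.center (GL m F)) y')⁻¹ * π u
      * QuotientGroup.mk' (Subgroup.center (GL m F)) y' = π (y'⁻¹ * u * y') := by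
    simp
  rw [this, mk_mem_map_iff H hZ] at hy
  exact (mk_mem_map_iff H hZ y').mpr (h y' hy)

/-- nilpotent subgroups of `G ≤ PGL` through the image of `u` lie in the image of `H`, if `u` lies
in a unique conjugate of `H` -/
theorem nilp_le_of_unique (G : Subgroup (GL m F ⧸ Subgroup.center (GL m F)))
    (H : Subgroup (GL m F)) (hZ : Subgroup.center (GL m F) ≤ H) (u : GL m F)
    (hu : (π u : GL m F ⧸ Subgroup.center (GL m F)) ∈ G) (huH : u ∈ H)
    (h : ∀ y : GL m F, y⁻¹ * u * y ∈ H → y ∈ H) (A : Subgroup ↥G) (hA : Group.IsNilpotent A)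
    (hgA : (⟨π u, hu⟩ : ↥G) ∈ A) : A ≤ (H.map π).subgroupOf G := by
  haveI := hA
  refine le_of_unique_conj A ((H.map π).subgroupOf G) ⟨π u, hu⟩ hgA ?_ ?_
  · rw [Subgroup.mem_subgroupOf]
    exact (mk_mem_map_iff H hZ u).mpr huH
  · intro y hy
    rw [Subgroup.mem_subgroupOf] at hy ⊢
    apply pg_unique_conj H hZ u h
    simpa using hy

end generic

section partOne

variable (F : Type*) [Field F] (n : ℕ)

/-- the swap of the last two coordinates -/
def σ : Equiv.Perm (Fin (n + 3)) := Equiv.swap (Fin.last (n + 2)) (Fin.last (n + 1)).castSucc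

theorem σ_zero : σ n 0 = 0 := by
  unfold σ
  apply Equiv.swap_apply_of_ne_of_ne
  · intro h; have := congrArg Fin.val h; simp at this
  · intro h; have := congrArg Fin.val h; simp at this

theorem last_ne_pen : Fin.last (n + 2) ≠ (Fin.last (n + 1)).castSucc := by
  intro h; have := congrArg Fin.val h; simp at this

/-- the Jordan block in `SL` -/
def uSL : SpecialLinearGroup (Fin (n + 3)) F := ⟨jordan F (n + 2), jordan_det _⟩

/-- the Jordan block with the last two coordinates swapped -/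
def hSL : SpecialLinearGroup (Fin (n + 3)) F :=
  ⟨(jordan F (n + 2)).submatrix (σ n) (σ n), by rw [Matrix.det_submatrix_equiv_self, jordan_det]⟩

/-- the transposed Jordan block -/
def lSL : SpecialLinearGroup (Fin (n + 3)) F :=
  ⟨(jordan F (n + 2))ᵀ, by rw [Matrix.det_transpose, jordan_det]⟩

theorem e0_ne : (Pi.single (0 : Fin (n + 3)) (1 : F) : Fin (n + 3) → F) ≠ 0 := by
  intro h; have := congrFun h 0; simp at this

theorem el_ne : (Pi.single (Fin.last (n + 2)) (1 : F) : Fin (n + 3) → F) ≠ 0 := by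
  intro h; have := congrFun h (Fin.last (n + 2)); simp at this

theorem uGL_val : ((SpecialLinearGroup.toGL (uSL F n) : GL (Fin (n + 3)) F) :
    Matrix (Fin (n + 3)) (Fin (n + 3)) F) = jordan F (n + 2) := rfl

theorem hGL_val : ((SpecialLinearGroup.toGL (hSL F n) : GL (Fin (n + 3)) F) :
    Matrix (Fin (n + 3)) (Fin (n + 3)) F) = (jordan F (n + 2)).submatrix (σ n) (σ n) := rfl

theorem lGL_val : ((SpecialLinearGroup.toGL (lSL F n) : GL (Fin (n + 3)) F) :
    Matrix (Fin (n + 3)) (Fin (n + 3)) F) = (jordan F (n + 2))ᵀ := rfl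

theorem hSL_colEig : ColEig ((SpecialLinearGroup.toGL (hSL F n) : GL (Fin (n + 3)) F) :
    Matrix (Fin (n + 3)) (Fin (n + 3)) F) (Pi.single 0 1) := by
  rw [hGL_val]
  have := (jordan_colEig (F := F) (n + 2)).submatrix (σ n)
  convert this using 1
  ext j
  simp only [Function.comp_apply, Pi.single_apply]
  congr 1
  apply propext
  constructor
  · rintro rfl; exact (σ_zero n).symm
  · intro h
    have h2 : σ n (σ n j) = σ n 0 := by rw [h]
    rw [σ_zero] at h2
    simpa [σ] using h2

theorem hSL_rowEig : RowEig ((SpecialLinearGroup.toGL (hSL F n) : GL (Fin (n + 3)) F) :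
    Matrix (Fin (n + 3)) (Fin (n + 3)) F) (Pi.single (Fin.last (n + 1)).castSucc 1) := by
  rw [RowEig_iff_transpose, hGL_val, Matrix.transpose_submatrix]
  have h1 : ColEig (jordan F (n + 2))ᵀ (Pi.single (Fin.last (n + 2)) 1) :=
    (RowEig_iff_transpose _ _).mp (jordan_rowEig (n + 2))
  have := h1.submatrix (σ n)
  convert this using 1
  ext j
  simp only [Function.comp_apply, Pi.single_apply]
  congr 1
  apply propext
  constructor
  · rintro rfl; simp [σ]
  · intro h
    have h2 : σ n (σ n j) = σ n (Fin.last (n + 2)) := by rw [h]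
    simpa [σ] using h2

theorem part_one (G : Subgroup (GL (Fin (n + 3)) F ⧸ Subgroup.center (GL (Fin (n + 3)) F)))
    (hG : ((Matrix.SpecialLinearGroup.toGL : Matrix.SpecialLinearGroup (Fin (n + 3)) F →*
      GL (Fin (n + 3)) F).range).map
      (QuotientGroup.mk' (Subgroup.center (GL (Fin (n + 3)) F))) ≤ G) :
    ¬ ∃ 𝓐 : Finset (Subgroup ↥G), ((∀ A ∈ 𝓐, A ≠ ⊤) ∧ (∀ g : ↥G, ∃ A ∈ 𝓐, g ∈ A)) ∧
      (∀ 𝓑 : Finset (Subgroup ↥G), (∀ A ∈ 𝓑, A ≠ ⊤) ∧ (∀ g : ↥G, ∃ A ∈ 𝓑, g ∈ A) →
        𝓐.card ≤ 𝓑.card) ∧ (∀ A ∈ 𝓐, Group.IsNilpotent ↥A) := by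
  have hmem : ∀ s : SpecialLinearGroup (Fin (n + 3)) F,
      (π (SpecialLinearGroup.toGL s) : GL (Fin (n + 3)) F ⧸ Subgroup.center (GL (Fin (n + 3)) F)) ∈ G :=
    fun s => hG ⟨_, ⟨s, rfl⟩, rfl⟩
  set cS := colStab (Pi.single (0 : Fin (n + 3)) (1 : F)) (e0_ne F n) with hcS
  set rS := rowStab (Pi.single (Fin.last (n + 2)) (1 : F)) (el_ne F n) with hrS
  have hcZ := center_le_colStab (Pi.single (0 : Fin (n + 3)) (1 : F)) (e0_ne F n)
  have hrZ := center_le_rowStab (Pi.single (Fin.last (n + 2)) (1 : F)) (el_ne F n)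
  have hu_cS : (SpecialLinearGroup.toGL (uSL F n) : GL (Fin (n + 3)) F) ∈ cS := by
    refine ⟨1, ?_⟩
    rw [Matrix.mulVec_single_one, one_smul, uGL_val]
    ext j
    simp only [Matrix.col_apply, jordan, Pi.single_apply]
    congr 1
    apply propext
    constructor
    · rintro (h | h)
      · exact h
      · simp at h
    · intro h; exact Or.inl h
  have hh_cS : (SpecialLinearGroup.toGL (hSL F n) : GL (Fin (n + 3)) F) ∈ cS := by
    refine ⟨1, ?_⟩
    rw [Matrix.mulVec_single_one, one_smul, hGL_val]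
    ext j
    simp only [Matrix.col_apply, jordan, Matrix.submatrix_apply, Pi.single_apply, σ_zero]
    congr 1
    apply propext
    constructor
    · rintro (h | h)
      · have h2 : σ n (σ n j) = σ n 0 := by rw [h]
        rw [σ_zero] at h2
        simpa [σ] using h2
      · simp at h
    · intro h; left; rw [h, σ_zero]
  have hl_cS : (SpecialLinearGroup.toGL (lSL F n) : GL (Fin (n + 3)) F) ∉ cS := by
    rintro ⟨a, ha⟩
    rw [Matrix.mulVec_single_one, lGL_val] at ha
    have := congrFun ha 1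
    simp [jordan, Matrix.col_apply] at this
  have hu_rS : (SpecialLinearGroup.toGL (uSL F n) : GL (Fin (n + 3)) F) ∈ rS := by
    refine ⟨1, ?_⟩
    rw [Matrix.single_one_vecMul, one_smul, uGL_val]
    ext j
    simp only [Matrix.row_apply, jordan, Pi.single_apply]
    congr 1
    apply propext
    constructor
    · rintro (h | h)
      · exact h.symm
      · have := j.isLt; simp at h; omega
    · intro h; exact Or.inl h.symm
  refine no_nilpotent_minimal_cover_of_one ((cS.map π).subgroupOf G) ?_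
    ⟨π (SpecialLinearGroup.toGL (uSL F n)), hmem _⟩ ⟨π (SpecialLinearGroup.toGL (hSL F n)), hmem _⟩
    ?_ ?_ ?_
  · intro htop
    have h1 : (⟨π (SpecialLinearGroup.toGL (lSL F n)), hmem _⟩ : ↥G) ∈ (cS.map π).subgroupOf G := by
      rw [htop]; trivial
    rw [Subgroup.mem_subgroupOf] at h1
    exact hl_cS ((mk_mem_map_iff cS hcZ _).mp h1)
  · intro A hA hgA
    exact nilp_le_of_unique G cS hcZ _ (hmem _) hu_cS
      (colStab_unique_conj (e0_ne F n) (by
        rw [uGL_val]; exact jordan_colEig (F := F) (n + 2))) A hA hgA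
  · intro A hA hhA
    exact nilp_le_of_unique G cS hcZ _ (hmem _) hh_cS
      (colStab_unique_conj (e0_ne F n) (hSL_colEig F n)) A hA hhA
  · intro A hA hgA hhA
    have h1 := nilp_le_of_unique G rS hrZ _ (hmem _) hu_rS
      (rowStab_unique_conj (el_ne F n) (by
        rw [uGL_val]; exact jordan_rowEig (F := F) (n + 2))) A hA hgA
    have h2 := h1 hhA
    rw [Subgroup.mem_subgroupOf] at h2
    have h3 := (mk_mem_map_iff rS hrZ _).mp h2
    obtain ⟨a, ha⟩ := h3
    have hne : (Pi.single (Fin.last (n + 2)) (1 : F) : Fin (n + 3) → F) ≠ 0 := el_ne F n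
    obtain ⟨c, hc⟩ := hSL_rowEig F n _ a ha hne
    have := congrFun hc (Fin.last (n + 2))
    simp [Pi.single_apply, last_ne_pen] at this

end partOne

end Cfsg.Agent.Lib.Helper65.PGLnCover
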