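/-
Groups between `PSL₂(F)` and `PGL₂(F)` have no nilpotent minimal cover (part of S3894).
Author: helper65.
-/
import Mathlib
import Cfsg.Agent.Lib.Helper65.NilCoverCrit
import Cfsg.Agent.Lib.Helper65.PGLLines
import Cfsg.Agent.Lib.Helper65.PGLnCover
import Cfsg.Agent.Lib.Helper65.PGL2Mat

set_option autoImplicit false
set_option linter.unusedSectionVars false
set_option linter.unusedSimpArgs false
set_option linter.unusedVariables false

namespace Cfsg.Agent.Lib.Helper65.PGL2Cover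

open Matrix Cfsg.Agent.Lib.Helper65.NilCoverCrit Cfsg.Agent.Lib.Helper65.PGLLines
  Cfsg.Agent.Lib.Helper65.PGLnCover Cfsg.Agent.Lib.Helper65.PGL2Mat

variable {F : Type*} [Field F]

/-- commuting in `PGL₂` means commuting up to a scalar for representatives -/
theorem comm_rep (x y : GL (Fin 2) F)
    (h : (π x : GL (Fin 2) F ⧸ Subgroup.center (GL (Fin 2) F)) * π y = π y * π x) :
    ∃ c : F, (x : Matrix (Fin 2) (Fin 2) F) * (y : Matrix (Fin 2) (Fin 2) F)
      = c • ((y : Matrix (Fin 2) (Fin 2) F) * (x : Matrix (Fin 2) (Fin 2) F)) := by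
  have h1 : (π (y * x) : GL (Fin 2) F ⧸ Subgroup.center (GL (Fin 2) F)) = π (x * y) := by
    rw [map_mul, map_mul, h]
  obtain ⟨z, hz, hzz⟩ := (QuotientGroup.mk'_eq_mk' _).mp h1
  obtain ⟨r, hr⟩ := Matrix.GeneralLinearGroup.mem_center_iff_val_mem_range_scalar.mp hz
  refine ⟨r, ?_⟩
  have h2 := congrArg Units.val hzz
  rw [Units.val_mul, Units.val_mul, Units.val_mul, ← hr] at h2
  rw [← h2]
  ext i j
  simp [Matrix.mul_apply, Matrix.diagonal_apply, Fin.sum_univ_two]
  fin_cases j <;> simp <;> ring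

theorem det_ne_zero' (x : GL (Fin 2) F) : (x : Matrix (Fin 2) (Fin 2) F).det ≠ 0 := by
  have := x.isUnit
  exact ((Matrix.isUnit_iff_isUnit_det _).mp this).ne_zero

/-- a representative of a nontrivial element is not scalar -/
theorem rep_not_scalar (x : GL (Fin 2) F)
    (h : (π x : GL (Fin 2) F ⧸ Subgroup.center (GL (Fin 2) F)) ≠ 1) :
    ¬ ((x : Matrix (Fin 2) (Fin 2) F) 0 1 = 0 ∧ (x : Matrix (Fin 2) (Fin 2) F) 1 0 = 0 ∧
      (x : Matrix (Fin 2) (Fin 2) F) 0 0 = (x : Matrix (Fin 2) (Fin 2) F) 1 1) := by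
  rintro ⟨h1, h2, h3⟩
  apply h
  rw [QuotientGroup.mk'_apply, QuotientGroup.eq_one_iff,
    Matrix.GeneralLinearGroup.mem_center_iff_val_mem_range_scalar]
  refine ⟨(x : Matrix (Fin 2) (Fin 2) F) 0 0, ?_⟩
  ext i j
  fin_cases i <;> fin_cases j <;> simp [Matrix.diagonal_apply, h1, h2, h3]

theorem scalar_of_eq_one (x : GL (Fin 2) F)
    (h : (π x : GL (Fin 2) F ⧸ Subgroup.center (GL (Fin 2) F)) = 1) :
    (x : Matrix (Fin 2) (Fin 2) F) 0 1 = 0 ∧ (x : Matrix (Fin 2) (Fin 2) F) 1 0 = 0 ∧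
      (x : Matrix (Fin 2) (Fin 2) F) 0 0 = (x : Matrix (Fin 2) (Fin 2) F) 1 1 := by
  rw [QuotientGroup.mk'_apply, QuotientGroup.eq_one_iff,
    Matrix.GeneralLinearGroup.mem_center_iff_val_mem_range_scalar] at h
  obtain ⟨r, hr⟩ := h
  rw [← hr]
  simp [Matrix.diagonal_apply]

/-- the image of `SL₂` in `PGL₂` -/
abbrev Sbar (F : Type*) [Field F] : Subgroup (GL (Fin 2) F ⧸ Subgroup.center (GL (Fin 2) F)) :=
  ((Matrix.SpecialLinearGroup.toGL : Matrix.SpecialLinearGroup (Fin 2) F →* GL (Fin 2) F).range).map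
    (QuotientGroup.mk' (Subgroup.center (GL (Fin 2) F)))

/-- a matrix `p • unipotent` is in the image of `SL₂` -/
theorem mem_Sbar_of_scalar_mul (Y : GL (Fin 2) F) (s : SpecialLinearGroup (Fin 2) F) (p : F)
    (hp : p ≠ 0) (h : (Y : Matrix (Fin 2) (Fin 2) F) = p • (s : Matrix (Fin 2) (Fin 2) F)) :
    (π Y : GL (Fin 2) F ⧸ Subgroup.center (GL (Fin 2) F)) ∈ Sbar F := by
  refine ⟨SpecialLinearGroup.toGL s, ⟨s, rfl⟩, ?_⟩
  apply (QuotientGroup.mk'_eq_mk' _).mpr
  refine ⟨Matrix.GeneralLinearGroup.scalar (Fin 2) (Units.mk0 p hp), ?_, ?_⟩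
  · rw [Matrix.GeneralLinearGroup.center_eq_range_scalar]
    exact ⟨_, rfl⟩
  · apply Units.ext
    rw [Units.val_mul, h, Matrix.GeneralLinearGroup.coe_scalar]
    ext i j
    simp [Matrix.mul_apply, Matrix.diagonal_apply, Fin.sum_univ_two]
    fin_cases j <;> simp <;> ring

/-- determinants of representatives of elements of the image of `SL₂` are squares -/
theorem det_sq_of_mem_Sbar (Y : GL (Fin 2) F)
    (h : (π Y : GL (Fin 2) F ⧸ Subgroup.center (GL (Fin 2) F)) ∈ Sbar F) :
    ∃ lam : F, (Y : Matrix (Fin 2) (Fin 2) F).det = lam * lam := by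
  obtain ⟨_, ⟨s, rfl⟩, hs⟩ := h
  obtain ⟨z, hz, hzz⟩ := (QuotientGroup.mk'_eq_mk' _).mp hs
  obtain ⟨r, hr⟩ := Matrix.GeneralLinearGroup.mem_center_iff_val_mem_range_scalar.mp hz
  refine ⟨r, ?_⟩
  have h2 := congrArg Units.val hzz
  rw [Units.val_mul, ← hr] at h2
  rw [← h2, Matrix.det_mul]
  simp [Matrix.det_fin_two, Matrix.diagonal_apply]
  ring

/-- upper unipotent -/
def τ (b : F) : SpecialLinearGroup (Fin 2) F := ⟨!![1, b; 0, 1], by simp [Matrix.det_fin_two]⟩

/-- lower unipotent -/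
def τ' (b : F) : SpecialLinearGroup (Fin 2) F := ⟨!![1, 0; b, 1], by simp [Matrix.det_fin_two]⟩

theorem τ_val (b : F) : ((SpecialLinearGroup.toGL (τ b) : GL (Fin 2) F) :
    Matrix (Fin 2) (Fin 2) F) = !![1, b; 0, 1] := rfl

theorem τ'_val (b : F) : ((SpecialLinearGroup.toGL (τ' b) : GL (Fin 2) F) :
    Matrix (Fin 2) (Fin 2) F) = !![1, 0; b, 1] := rfl

theorem mem_Sbar_of_isUT (Y : GL (Fin 2) F) (h : IsUT (Y : Matrix (Fin 2) (Fin 2) F)) :
    (π Y : GL (Fin 2) F ⧸ Subgroup.center (GL (Fin 2) F)) ∈ Sbar F := by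
  obtain ⟨h1, h2⟩ := h
  have hp : (Y : Matrix (Fin 2) (Fin 2) F) 0 0 ≠ 0 := by
    intro h0
    apply det_ne_zero' Y
    rw [Matrix.det_fin_two, h1, h0]; ring
  refine mem_Sbar_of_scalar_mul Y (τ ((Y : Matrix (Fin 2) (Fin 2) F) 0 1 / (Y : Matrix (Fin 2) (Fin 2) F) 0 0))
    _ hp ?_
  ext i j
  fin_cases i <;> fin_cases j <;> simp [τ, h1, ← h2] <;> field_simp

theorem mem_Sbar_of_isLT (Y : GL (Fin 2) F) (h : IsLT (Y : Matrix (Fin 2) (Fin 2) F)) :
    (π Y : GL (Fin 2) F ⧸ Subgroup.center (GL (Fin 2) F)) ∈ Sbar F := by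
  obtain ⟨h1, h2⟩ := h
  have hp : (Y : Matrix (Fin 2) (Fin 2) F) 0 0 ≠ 0 := by
    intro h0
    apply det_ne_zero' Y
    rw [Matrix.det_fin_two, h1, h0]; ring
  refine mem_Sbar_of_scalar_mul Y (τ' ((Y : Matrix (Fin 2) (Fin 2) F) 1 0 / (Y : Matrix (Fin 2) (Fin 2) F) 0 0))
    _ hp ?_
  ext i j
  fin_cases i <;> fin_cases j <;> simp [τ', h1, ← h2] <;> field_simp

theorem comm_symm {X T : Matrix (Fin 2) (Fin 2) F} {c : F} (hX : X.det ≠ 0) (hT : T.det ≠ 0)
    (h : X * T = c • (T * X)) : T * X = c⁻¹ • (X * T) := by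
  have hc0 : c ≠ 0 := by
    rintro rfl
    have h0 : X * T = 0 := by rw [h]; simp
    have := congrArg Matrix.det h0
    rw [Matrix.det_mul, Matrix.det_zero] at this
    rcases mul_eq_zero.mp this with h | h
    · exact hX h
    · exact hT h
  rw [h, smul_smul, inv_mul_cancel₀ hc0, one_smul]

/-- if `Y` commutes up to a scalar with a diagonalizable matrix `Z` with two distinct eigenvalues, and
`det Y` is a square (and `-1` is a square), then `Y` has an eigenvector -/
theorem hasEig_of_comm_diagble {Y Z P Q D : Matrix (Fin 2) (Fin 2) F} (hPQ : P * Q = 1)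
    (hQP : Q * P = 1) (hZP : Z * P = P * D) (hD01 : D 0 1 = 0) (hD10 : D 1 0 = 0)
    (hne : D 0 0 ≠ D 1 1) (h0 : D 0 0 ≠ 0) (h1 : D 1 1 ≠ 0) (hY : Y.det ≠ 0) {lam ι c : F}
    (hlam : Y.det = lam * lam) (hι : ι * ι = -1) (hc : Y * Z = c • (Z * Y)) : HasEig Y := by
  apply hasEig_conj hPQ hQP
  have hQZP : Q * Z * P = D := by
    rw [Matrix.mul_assoc, hZP, ← Matrix.mul_assoc, hQP, Matrix.one_mul]
  have hdet : (Q * Y * P).det = Y.det := by
    rw [Matrix.det_mul, Matrix.det_mul]
    have : Q.det * P.det = 1 := by rw [← Matrix.det_mul, hQP, Matrix.det_one]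
    calc Q.det * Y.det * P.det = (Q.det * P.det) * Y.det := by ring
      _ = Y.det := by rw [this, one_mul]
  have hcomm : (Q * Y * P) * D = c • (D * (Q * Y * P)) := by
    calc (Q * Y * P) * D = Q * Y * (Z * P) := by rw [hZP]; simp only [Matrix.mul_assoc]
      _ = Q * (Y * Z) * P := by simp only [Matrix.mul_assoc]
      _ = c • (Q * (Z * Y) * P) := by rw [hc]; simp
      _ = c • (Q * Z * (P * Q) * Y * P) := by rw [hPQ]; simp only [Matrix.mul_assoc, Matrix.one_mul]
      _ = c • ((Q * Z * P) * (Q * Y * P)) := by simp only [Matrix.mul_assoc]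
      _ = c • (D * (Q * Y * P)) := by rw [hQZP]
  have hdet0 : (Q * Y * P).det ≠ 0 := by rw [hdet]; exact hY
  rcases diag_or_antidiag_of_comm hD01 hD10 hne h0 h1 hdet0 hcomm with ⟨_, h10⟩ | ⟨h00, h11, _, _⟩
  · exact hasEig_of_diag h10
  · exact hasEig_of_antidiag h00 h11 hdet0 (hdet.trans hlam) hι

/-- base vectors of the projective line -/
def v : Option F → Fin 2 → F
  | none => ![1, 0]
  | some x => ![x, 1]

theorem v_ne (ω : Option F) : v ω ≠ 0 := by
  cases ω with
  | none => intro h; have := congrFun h 0; simp [v] at this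
  | some x => intro h; have := congrFun h 1; simp [v] at this

theorem exists_index_of_hasEig (Y : GL (Fin 2) F) (h : HasEig (Y : Matrix (Fin 2) (Fin 2) F)) :
    ∃ ω : Option F, Y ∈ colStab (v ω) (v_ne ω) := by
  obtain ⟨w, hw0, μ, hw⟩ := h
  by_cases h1 : w 1 = 0
  · have h0 : w 0 ≠ 0 := by
      intro h0; apply hw0; ext i; fin_cases i <;> simp [h0, h1]
    refine ⟨none, μ, ?_⟩
    have : v (none : Option F) = (w 0)⁻¹ • w := by
      ext i; fin_cases i <;> simp [v, h0, h1]
    rw [this, Matrix.mulVec_smul, hw, smul_comm]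
  · refine ⟨some (w 0 / w 1), μ, ?_⟩
    have : v (some (w 0 / w 1)) = (w 1)⁻¹ • w := by
      ext i; fin_cases i <;> simp [v, h1] ; field_simp
    rw [this, Matrix.mulVec_smul, hw, smul_comm]

/-- unipotent elements fixing exactly the point `ω` -/
def U : Option F → SpecialLinearGroup (Fin 2) F
  | none => τ 1
  | some x => ⟨!![1 - x, x * x; -1, 1 + x], by simp [Matrix.det_fin_two]; ring⟩

theorem U_none_val : ((SpecialLinearGroup.toGL (U (none : Option F)) : GL (Fin 2) F) :
    Matrix (Fin 2) (Fin 2) F) = !![1, 1; 0, 1] := rfl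

theorem U_some_val (x : F) : ((SpecialLinearGroup.toGL (U (some x)) : GL (Fin 2) F) :
    Matrix (Fin 2) (Fin 2) F) = !![1 - x, x * x; -1, 1 + x] := rfl

theorem U_colEig (ω : Option F) :
    ColEig ((SpecialLinearGroup.toGL (U ω) : GL (Fin 2) F) : Matrix (Fin 2) (Fin 2) F) (v ω) := by
  intro w a hw hw0
  cases ω with
  | none =>
    rw [U_none_val] at hw
    have e0 := congrFun hw 0
    have e1 := congrFun hw 1
    simp [Matrix.mulVec, dotProduct, Fin.sum_univ_two] at e0 e1
    have h1 : w 1 = 0 := by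
      by_contra h1
      have ha : a = 1 := by
        have : (1 - a) * w 1 = 0 := by linear_combination e1
        rcases mul_eq_zero.mp this with h | h
        · linear_combination -h
        · exact absurd h h1
      rw [ha] at e0
      apply h1
      linear_combination e0
    refine ⟨w 0, ?_⟩
    ext i; fin_cases i <;> simp [v, h1]
  | some x =>
    rw [U_some_val] at hw
    have e0 := congrFun hw 0
    have e1 := congrFun hw 1
    simp [Matrix.mulVec, dotProduct, Fin.sum_univ_two] at e0 e1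
    have he : (a - 1) * (-w 0 + x * w 1) = 0 := by linear_combination e0 - x * e1
    have he' : -w 0 + x * w 1 = 0 := by
      rcases mul_eq_zero.mp he with h | h
      · have ha : a = 1 := by linear_combination h
        rw [ha] at e1
        linear_combination e1
      · exact h
    refine ⟨w 1, ?_⟩
    ext i; fin_cases i
    · simp [v]; linear_combination -he'
    · simp [v]

theorem U_mem (ω : Option F) :
    (SpecialLinearGroup.toGL (U ω) : GL (Fin 2) F) ∈ colStab (v ω) (v_ne ω) := by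
  refine ⟨1, ?_⟩
  cases ω with
  | none =>
    rw [U_none_val]
    ext i; fin_cases i <;> simp [v, Matrix.mulVec, dotProduct, Fin.sum_univ_two]
  | some x =>
    rw [U_some_val]
    ext i; fin_cases i
    · simp [v, Matrix.mulVec, dotProduct, Fin.sum_univ_two]; ring
    · simp [v, Matrix.mulVec, dotProduct, Fin.sum_univ_two]

theorem v_inj {i j : Option F} {c : F} (h : v j = c • v i) : i = j := by
  cases i with
  | none =>
    cases j with
    | none => rfl
    | some y => have := congrFun h 1; simp [v] at this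
  | some x =>
    cases j with
    | none =>
      have h1 := congrFun h 1
      have h0 := congrFun h 0
      simp [v] at h0 h1
      rw [← h1] at h0; simp at h0
    | some y =>
      have h1 := congrFun h 1
      have h0 := congrFun h 0
      simp [v] at h0 h1
      rw [← h1] at h0; simp at h0
      rw [h0]

theorem exists_sq_ne_one [Fintype F] (h : 4 ≤ Fintype.card F) : ∃ a : Fˣ, (a : F) * a ≠ 1 := by
  classical
  by_contra hall
  push Not at hall
  have hsub : (Finset.univ : Finset Fˣ) ⊆ {1, -1} := by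
    intro a _
    have h1 : ((a : F) - 1) * ((a : F) + 1) = 0 := by linear_combination hall a
    rcases mul_eq_zero.mp h1 with h | h
    · have : a = 1 := Units.ext (by simpa using (by linear_combination h : (a : F) = 1))
      simp [this]
    · have : a = -1 := Units.ext (by simpa using (by linear_combination h : (a : F) = -1))
      simp [this]
  have h1 := Finset.card_le_card hsub
  have h2 : ({1, -1} : Finset Fˣ).card ≤ 2 := Finset.card_le_two
  rw [Finset.card_univ, Fintype.card_units] at h1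
  omega

/-- diagonal element of `SL₂` -/
def δ (a : Fˣ) : SpecialLinearGroup (Fin 2) F :=
  ⟨!![(a : F), 0; 0, (a : F)⁻¹], by simp [Matrix.det_fin_two]⟩

theorem δ_val (a : Fˣ) : ((SpecialLinearGroup.toGL (δ a) : GL (Fin 2) F) :
    Matrix (Fin 2) (Fin 2) F) = !![(a : F), 0; 0, (a : F)⁻¹] := rfl

/-- the involution `diag(ι, -ι)` -/
def δι (ι : F) (hι : ι * ι = -1) : SpecialLinearGroup (Fin 2) F :=
  ⟨!![ι, 0; 0, -ι], by simp [Matrix.det_fin_two]; linear_combination -hι⟩

theorem δι_val (ι : F) (hι : ι * ι = -1) : ((SpecialLinearGroup.toGL (δι ι hι) : GL (Fin 2) F) :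
    Matrix (Fin 2) (Fin 2) F) = !![ι, 0; 0, -ι] := rfl

theorem mem_colStab_e0 (Y : GL (Fin 2) F) (h : (Y : Matrix (Fin 2) (Fin 2) F) 1 0 = 0) :
    Y ∈ colStab (v (none : Option F)) (v_ne none) := by
  refine ⟨(Y : Matrix (Fin 2) (Fin 2) F) 0 0, ?_⟩
  ext i; fin_cases i <;> simp [v, Matrix.mulVec, dotProduct, Fin.sum_univ_two, h]

section group

variable (G : Subgroup (GL (Fin 2) F ⧸ Subgroup.center (GL (Fin 2) F))) (hG : Sbar F ≤ G)

include hG

/-- the element of `G` given by a matrix of determinant one -/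
def gEl (s : SpecialLinearGroup (Fin 2) F) : ↥G :=
  ⟨π (SpecialLinearGroup.toGL s), hG ⟨_, ⟨s, rfl⟩, rfl⟩⟩

theorem τ_ne_one {b : F} (hb : b ≠ 0) : gEl G hG (τ b) ≠ 1 := by
  intro h
  have h1 : (π (SpecialLinearGroup.toGL (τ b)) : GL (Fin 2) F ⧸ Subgroup.center (GL (Fin 2) F)) = 1 :=
    congrArg Subtype.val h
  have := (scalar_of_eq_one _ h1).1
  rw [τ_val] at this
  simp at this
  exact hb this

/-- nilpotent subgroups through an upper unipotent element consist of upper unipotent elements -/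
theorem nilp_UT {b : F} (hb : b ≠ 0) (A : Subgroup ↥G) (hA : Group.IsNilpotent A)
    (hgA : gEl G hG (τ b) ∈ A) (y : ↥G) (hy : y ∈ A) (Y : GL (Fin 2) F)
    (hY : (π Y : GL (Fin 2) F ⧸ Subgroup.center (GL (Fin 2) F)) = y.1) :
    IsUT (Y : Matrix (Fin 2) (Fin 2) F) := by
  have := hA
  obtain ⟨z, hzA, hz1, hzc⟩ := exists_central A (gEl G hG (τ b)) hgA (τ_ne_one G hG hb)
  obtain ⟨Z, hZ⟩ := QuotientGroup.mk'_surjective (Subgroup.center (GL (Fin 2) F)) z.1
  -- `Z` commutes with `τ b`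
  have c1 := hzc _ hgA
  have c1' : (π Z : GL (Fin 2) F ⧸ Subgroup.center (GL (Fin 2) F)) * π (SpecialLinearGroup.toGL (τ b))
      = π (SpecialLinearGroup.toGL (τ b)) * π Z := by
    have := congrArg Subtype.val c1
    simp only [Subgroup.coe_mul, gEl] at this
    rw [← hZ] at this
    exact this.symm
  obtain ⟨c, hc⟩ := comm_rep _ _ c1'
  have hZUT : IsUT (Z : Matrix (Fin 2) (Fin 2) F) := by
    refine isUT_of_comm (T := !![1, b; 0, 1]) ⟨by simp, by simp⟩ (by simpa using hb) (by simp)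
      (det_ne_zero' Z) (c := c) ?_
    rw [← τ_val]; exact hc
  have hZ01 : (Z : Matrix (Fin 2) (Fin 2) F) 0 1 ≠ 0 := by
    intro h0
    have hz1' : (π Z : GL (Fin 2) F ⧸ Subgroup.center (GL (Fin 2) F)) ≠ 1 := by
      rw [hZ]; intro h; apply hz1; exact Subtype.ext h
    exact rep_not_scalar Z hz1' ⟨h0, hZUT.1, hZUT.2⟩
  have hZ00 : (Z : Matrix (Fin 2) (Fin 2) F) 0 0 ≠ 0 := by
    intro h0
    apply det_ne_zero' Z
    rw [Matrix.det_fin_two, hZUT.1, h0]; ring
  -- `Y` commutes with `Z`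
  have c2 := hzc y hy
  have c2' : (π Y : GL (Fin 2) F ⧸ Subgroup.center (GL (Fin 2) F)) * π Z = π Z * π Y := by
    have := congrArg Subtype.val c2
    simp only [Subgroup.coe_mul] at this
    rw [hY, hZ]; exact this
  obtain ⟨c', hc'⟩ := comm_rep _ _ c2'
  exact isUT_of_comm hZUT hZ01 hZ00 (det_ne_zero' Y) hc'

theorem τ'_ne_one {b : F} (hb : b ≠ 0) : gEl G hG (τ' b) ≠ 1 := by
  intro h
  have h1 : (π (SpecialLinearGroup.toGL (τ' b)) : GL (Fin 2) F ⧸ Subgroup.center (GL (Fin 2) F)) = 1 :=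
    congrArg Subtype.val h
  have := (scalar_of_eq_one _ h1).2.1
  rw [τ'_val] at this
  simp at this
  exact hb this

/-- a central element of a nilpotent subgroup, with a representative -/
theorem exists_central_rep (A : Subgroup ↥G) (hA : Group.IsNilpotent A) (x : ↥G) (hxA : x ∈ A)
    (hx1 : x ≠ 1) : ∃ Z : GL (Fin 2) F,
      (π Z : GL (Fin 2) F ⧸ Subgroup.center (GL (Fin 2) F)) ≠ 1 ∧
      (π Z : GL (Fin 2) F ⧸ Subgroup.center (GL (Fin 2) F)) ∈ G ∧
      ∀ y : ↥G, y ∈ A → ∀ Y : GL (Fin 2) F,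
        (π Y : GL (Fin 2) F ⧸ Subgroup.center (GL (Fin 2) F)) = y.1 →
        ∃ c : F, (Y : Matrix (Fin 2) (Fin 2) F) * (Z : Matrix (Fin 2) (Fin 2) F)
          = c • ((Z : Matrix (Fin 2) (Fin 2) F) * (Y : Matrix (Fin 2) (Fin 2) F)) := by
  have := hA
  obtain ⟨z, hzA, hz1, hzc⟩ := exists_central A x hxA hx1
  obtain ⟨Z, hZ⟩ := QuotientGroup.mk'_surjective (Subgroup.center (GL (Fin 2) F)) z.1
  refine ⟨Z, ?_, ?_, ?_⟩
  · rw [hZ]; intro h; apply hz1; exact Subtype.ext h
  · rw [hZ]; exact z.2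
  · intro y hy Y hY
    have c2 := hzc y hy
    have c2' : (π Y : GL (Fin 2) F ⧸ Subgroup.center (GL (Fin 2) F)) * π Z = π Z * π Y := by
      have := congrArg Subtype.val c2
      simp only [Subgroup.coe_mul] at this
      rw [hY, hZ]; exact this
    exact comm_rep _ _ c2'

/-- nilpotent subgroups through a lower unipotent element consist of lower unipotent elements -/
theorem nilp_LT {b : F} (hb : b ≠ 0) (A : Subgroup ↥G) (hA : Group.IsNilpotent A)
    (hgA : gEl G hG (τ' b) ∈ A) (y : ↥G) (hy : y ∈ A) (Y : GL (Fin 2) F)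
    (hY : (π Y : GL (Fin 2) F ⧸ Subgroup.center (GL (Fin 2) F)) = y.1) :
    IsLT (Y : Matrix (Fin 2) (Fin 2) F) := by
  obtain ⟨Z, hZ1, hZG, hZc⟩ := exists_central_rep G hG A hA _ hgA (τ'_ne_one G hG hb)
  -- `Z` commutes with `τ' b`
  obtain ⟨c, hc⟩ := hZc _ hgA (SpecialLinearGroup.toGL (τ' b)) rfl
  -- turn around: `Z * T = c' • (T * Z)`
  have hc0 : c ≠ 0 := by
    rintro rfl
    have h0 : ((SpecialLinearGroup.toGL (τ' b) : GL (Fin 2) F) : Matrix (Fin 2) (Fin 2) F)
        * (Z : Matrix (Fin 2) (Fin 2) F) = 0 := by rw [hc]; simp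
    have := congrArg Matrix.det h0
    rw [Matrix.det_mul, Matrix.det_zero] at this
    rcases mul_eq_zero.mp this with h | h
    · exact det_ne_zero' _ h
    · exact det_ne_zero' Z h
  have hc' : (Z : Matrix (Fin 2) (Fin 2) F) * !![1, 0; b, 1]
      = c⁻¹ • (!![1, 0; b, 1] * (Z : Matrix (Fin 2) (Fin 2) F)) := by
    rw [← τ'_val, hc, smul_smul, inv_mul_cancel₀ hc0, one_smul]
  have hZLT : IsLT (Z : Matrix (Fin 2) (Fin 2) F) :=
    isLT_of_comm (T := !![1, 0; b, 1]) ⟨by simp, by simp⟩ (by simpa using hb) (by simp)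
      (det_ne_zero' Z) hc'
  have hZ10 : (Z : Matrix (Fin 2) (Fin 2) F) 1 0 ≠ 0 := by
    intro h0
    exact rep_not_scalar Z hZ1 ⟨hZLT.1, h0, hZLT.2⟩
  have hZ00 : (Z : Matrix (Fin 2) (Fin 2) F) 0 0 ≠ 0 := by
    intro h0
    apply det_ne_zero' Z
    rw [Matrix.det_fin_two, hZLT.1, h0]; ring
  obtain ⟨c', hc'⟩ := hZc y hy Y hY
  exact isLT_of_comm hZLT hZ10 hZ00 (det_ne_zero' Y) hc'

/-- Part II: `G` strictly larger than the image of `SL₂`. -/
theorem part_two (hne : ¬ G ≤ Sbar F) :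
    ¬ ∃ 𝓐 : Finset (Subgroup ↥G), ((∀ A ∈ 𝓐, A ≠ ⊤) ∧ (∀ g : ↥G, ∃ A ∈ 𝓐, g ∈ A)) ∧
      (∀ 𝓑 : Finset (Subgroup ↥G), (∀ A ∈ 𝓑, A ≠ ⊤) ∧ (∀ g : ↥G, ∃ A ∈ 𝓑, g ∈ A) →
        𝓐.card ≤ 𝓑.card) ∧ (∀ A ∈ 𝓐, Group.IsNilpotent ↥A) := by
  refine no_nilpotent_minimal_cover_of_one ((Sbar F).subgroupOf G) ?_
    (gEl G hG (τ 1)) (gEl G hG (τ' 1)) ?_ ?_ ?_
  · intro htop
    apply hne
    intro x hx
    have : (⟨x, hx⟩ : ↥G) ∈ (Sbar F).subgroupOf G := by rw [htop]; trivial
    exact Subgroup.mem_subgroupOf.mp this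
  · intro A hA hgA y hy
    rw [Subgroup.mem_subgroupOf]
    obtain ⟨Y, hY⟩ := QuotientGroup.mk'_surjective (Subgroup.center (GL (Fin 2) F)) y.1
    rw [← hY]
    exact mem_Sbar_of_isUT Y (nilp_UT G hG one_ne_zero A hA hgA y hy Y hY)
  · intro A hA hgA y hy
    rw [Subgroup.mem_subgroupOf]
    obtain ⟨Y, hY⟩ := QuotientGroup.mk'_surjective (Subgroup.center (GL (Fin 2) F)) y.1
    rw [← hY]
    exact mem_Sbar_of_isLT Y (nilp_LT G hG one_ne_zero A hA hgA y hy Y hY)
  · intro A hA hgA hhA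
    have := nilp_LT G hG one_ne_zero A hA hhA _ hgA (SpecialLinearGroup.toGL (τ 1)) rfl
    rw [τ_val] at this
    have := this.1
    simp at this

/-- the Borel subgroup of `G` -/
abbrev Bor (ω : Option F) : Subgroup ↥G := ((colStab (v ω) (v_ne ω)).map π).subgroupOf G

omit hG in
theorem mem_Bor_iff (ω : Option F) (y : ↥G) (Y : GL (Fin 2) F)
    (hY : (π Y : GL (Fin 2) F ⧸ Subgroup.center (GL (Fin 2) F)) = y.1) :
    y ∈ Bor G ω ↔ Y ∈ colStab (v ω) (v_ne ω) := by
  rw [Subgroup.mem_subgroupOf, ← hY]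
  exact mk_mem_map_iff _ (center_le_colStab _ _) Y

theorem τ'_notMem_Bor : gEl G hG (τ' 1) ∉ Bor G none := by
  intro h
  rw [mem_Bor_iff G none _ (SpecialLinearGroup.toGL (τ' 1)) rfl] at h
  obtain ⟨a, ha⟩ := h
  rw [τ'_val] at ha
  have := congrFun ha 1
  simp [v, Matrix.mulVec, dotProduct, Fin.sum_univ_two] at this

/-- Part III-a: `G` is the image of `SL₂`, and `-1` is a square only in characteristic `2`. -/
theorem part_three_a (hle : G ≤ Sbar F) (hno : ∀ κ : F, κ * κ = -1 → (1 : F) = -1)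
    (a : Fˣ) (ha : (a : F) * a ≠ 1) :
    ¬ ∃ 𝓐 : Finset (Subgroup ↥G), ((∀ A ∈ 𝓐, A ≠ ⊤) ∧ (∀ g : ↥G, ∃ A ∈ 𝓐, g ∈ A)) ∧
      (∀ 𝓑 : Finset (Subgroup ↥G), (∀ A ∈ 𝓑, A ≠ ⊤) ∧ (∀ g : ↥G, ∃ A ∈ 𝓑, g ∈ A) →
        𝓐.card ≤ 𝓑.card) ∧ (∀ A ∈ 𝓐, Group.IsNilpotent ↥A) := by
  have ha0 : (a : F) ≠ 0 := a.ne_zero
  have hainv : (a : F)⁻¹ ≠ a := by
    intro h
    apply ha
    have := inv_mul_cancel₀ ha0
    rw [h] at this
    exact this
  refine no_nilpotent_minimal_cover_of_one (Bor G none) ?_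
    (gEl G hG (τ 1)) (gEl G hG (δ a)) ?_ ?_ ?_
  · intro htop
    apply τ'_notMem_Bor G hG
    rw [htop]; trivial
  · intro A hA hgA y hy
    obtain ⟨Y, hY⟩ := QuotientGroup.mk'_surjective (Subgroup.center (GL (Fin 2) F)) y.1
    rw [mem_Bor_iff G none y Y hY]
    exact mem_colStab_e0 Y (nilp_UT G hG one_ne_zero A hA hgA y hy Y hY).1
  · intro A hA hhA y hy
    obtain ⟨Y, hY⟩ := QuotientGroup.mk'_surjective (Subgroup.center (GL (Fin 2) F)) y.1
    rw [mem_Bor_iff G none y Y hY]
    have hne1 : gEl G hG (δ a) ≠ 1 := by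
      intro h
      have h1 : (π (SpecialLinearGroup.toGL (δ a)) : GL (Fin 2) F ⧸ Subgroup.center (GL (Fin 2) F)) = 1 :=
        congrArg Subtype.val h
      have := (scalar_of_eq_one _ h1).2.2
      rw [δ_val] at this
      simp at this
      exact hainv this.symm
    obtain ⟨Z, hZ1, hZG, hZc⟩ := exists_central_rep G hG A hA _ hhA hne1
    obtain ⟨c, hc⟩ := hZc _ hhA (SpecialLinearGroup.toGL (δ a)) rfl
    have hc' := comm_symm (det_ne_zero' _) (det_ne_zero' Z) hc
    rw [δ_val] at hc'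
    have hZdiag : (Z : Matrix (Fin 2) (Fin 2) F) 0 1 = 0 ∧ (Z : Matrix (Fin 2) (Fin 2) F) 1 0 = 0 := by
      rcases diag_or_antidiag_of_comm (D := !![(a : F), 0; 0, (a : F)⁻¹]) (by simp) (by simp)
        (by simpa using hainv.symm) (by simpa using ha0) (by simpa using ha0) (det_ne_zero' Z) hc'
        with h | ⟨_, _, h3, h4⟩
      · exact h
      · exfalso
        simp at h3
        apply h4
        apply hno (a : F)
        have : (a : F) * (a : F)⁻¹ = 1 := mul_inv_cancel₀ ha0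
        rw [h3] at this
        linear_combination -this
    have hz12 : (Z : Matrix (Fin 2) (Fin 2) F) 0 0 ≠ (Z : Matrix (Fin 2) (Fin 2) F) 1 1 :=
      fun h => rep_not_scalar Z hZ1 ⟨hZdiag.1, hZdiag.2, h⟩
    have hZdet := det_ne_zero' Z
    rw [Matrix.det_fin_two, hZdiag.1, hZdiag.2] at hZdet
    have hz1 : (Z : Matrix (Fin 2) (Fin 2) F) 0 0 ≠ 0 := by
      intro h; apply hZdet; rw [h]; ring
    have hz2 : (Z : Matrix (Fin 2) (Fin 2) F) 1 1 ≠ 0 := by
      intro h; apply hZdet; rw [h]; ring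
    obtain ⟨c2, hc2⟩ := hZc y hy Y hY
    rcases diag_or_antidiag_of_comm hZdiag.1 hZdiag.2 hz12 hz1 hz2 (det_ne_zero' Y) hc2
      with h | ⟨_, _, h3, h4⟩
    · exact mem_colStab_e0 Y h.2
    · exfalso
      obtain ⟨lam, hlam⟩ := det_sq_of_mem_Sbar Z (hle hZG)
      rw [Matrix.det_fin_two, hZdiag.1, hZdiag.2, h3] at hlam
      apply h4
      apply hno (lam / (Z : Matrix (Fin 2) (Fin 2) F) 0 0)
      field_simp
      linear_combination -hlam
  · intro A hA hgA hhA
    have := nilp_UT G hG one_ne_zero A hA hgA _ hhA (SpecialLinearGroup.toGL (δ a)) rfl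
    rw [δ_val] at this
    have := this.2
    simp at this
    exact hainv this.symm

/-- Part III-b: `G` is the image of `SL₂`, characteristic not `2`, and `-1` is a square. -/
theorem part_three_b [Fintype F] (hle : G ≤ Sbar F) (ι : F) (hι : ι * ι = -1)
    (h2 : (1 : F) ≠ -1) :
    ¬ ∃ 𝓐 : Finset (Subgroup ↥G), ((∀ A ∈ 𝓐, A ≠ ⊤) ∧ (∀ g : ↥G, ∃ A ∈ 𝓐, g ∈ A)) ∧
      (∀ 𝓑 : Finset (Subgroup ↥G), (∀ A ∈ 𝓑, A ≠ ⊤) ∧ (∀ g : ↥G, ∃ A ∈ 𝓑, g ∈ A) →
        𝓐.card ≤ 𝓑.card) ∧ (∀ A ∈ 𝓐, Group.IsNilpotent ↥A) := by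
  have h2' : (2 : F) ≠ 0 := by
    intro h; apply h2; linear_combination h
  have hι0 : ι ≠ 0 := by
    rintro rfl; simp at hι
  have hιne : ι ≠ -ι := by
    intro h
    have : 2 * ι = 0 := by linear_combination h
    rcases mul_eq_zero.mp this with h | h
    · exact h2' h
    · exact hι0 h
  have hu : ∀ ω : Option F, ∀ A : Subgroup ↥G, Group.IsNilpotent A → gEl G hG (U ω) ∈ A →
      A ≤ Bor G ω := by
    intro ω A hA hgA
    exact nilp_le_of_unique G (colStab (v ω) (v_ne ω)) (center_le_colStab _ _) _ _ (U_mem ω)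
      (colStab_unique_conj (v_ne ω) (U_colEig ω)) A hA hgA
  have huB : ∀ i j : Option F, gEl G hG (U i) ∈ Bor G j → i = j := by
    intro i j h
    rw [mem_Bor_iff G j _ (SpecialLinearGroup.toGL (U i)) rfl] at h
    obtain ⟨a, ha⟩ := h
    obtain ⟨c, hc⟩ := U_colEig i (v j) a ha (v_ne j)
    exact v_inj hc
  refine no_nilpotent_minimal_cover_of_family (fun ω => Bor G ω) (fun ω => gEl G hG (U ω))
    (gEl G hG (δι ι hι)) ?_ hu huB ?_
  · intro ω htop
    cases ω with
    | none =>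
      have : gEl G hG (U (some 0)) ∈ Bor G none := by rw [htop]; trivial
      have := huB _ _ this
      simp at this
    | some x =>
      have : gEl G hG (U none) ∈ Bor G (some x) := by rw [htop]; trivial
      have := huB _ _ this
      simp at this
  · intro A hA htA
    have hne1 : gEl G hG (δι ι hι) ≠ 1 := by
      intro h
      have h1 : (π (SpecialLinearGroup.toGL (δι ι hι)) :
          GL (Fin 2) F ⧸ Subgroup.center (GL (Fin 2) F)) = 1 := congrArg Subtype.val h
      have := (scalar_of_eq_one _ h1).2.2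
      rw [δι_val] at this
      simp at this
      exact hιne this
    constructor
    · intro y hy
      obtain ⟨Y, hY⟩ := QuotientGroup.mk'_surjective (Subgroup.center (GL (Fin 2) F)) y.1
      obtain ⟨Z, hZ1, hZG, hZc⟩ := exists_central_rep G hG A hA _ htA hne1
      obtain ⟨c, hc⟩ := hZc _ htA (SpecialLinearGroup.toGL (δι ι hι)) rfl
      have hc' := comm_symm (det_ne_zero' _) (det_ne_zero' Z) hc
      rw [δι_val] at hc'
      obtain ⟨c2, hc2⟩ := hZc y hy Y hY
      obtain ⟨lamY, hlamY⟩ := det_sq_of_mem_Sbar Y (by rw [hY]; exact hle y.2)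
      have hYeig : HasEig (Y : Matrix (Fin 2) (Fin 2) F) := by
        rcases diag_or_antidiag_of_comm (D := !![ι, 0; 0, -ι]) (by simp) (by simp)
          (by simpa using hιne) (by simpa using hι0) (by simpa using hι0) (det_ne_zero' Z) hc'
          with ⟨h01, h10⟩ | ⟨h00, h11, _, _⟩
        · -- `Z` diagonal
          have hz12 : (Z : Matrix (Fin 2) (Fin 2) F) 0 0 ≠ (Z : Matrix (Fin 2) (Fin 2) F) 1 1 :=
            fun h => rep_not_scalar Z hZ1 ⟨h01, h10, h⟩
          have hZdet := det_ne_zero' Z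
          rw [Matrix.det_fin_two, h01, h10] at hZdet
          have hz1 : (Z : Matrix (Fin 2) (Fin 2) F) 0 0 ≠ 0 := by
            intro h; apply hZdet; rw [h]; ring
          have hz2 : (Z : Matrix (Fin 2) (Fin 2) F) 1 1 ≠ 0 := by
            intro h; apply hZdet; rw [h]; ring
          exact hasEig_of_comm_diagble (P := 1) (Q := 1) (D := (Z : Matrix (Fin 2) (Fin 2) F))
            (by simp) (by simp) (by simp) h01 h10 hz12 hz1 hz2 (det_ne_zero' Y) hlamY hι hc2
        · -- `Z` antidiagonal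
          obtain ⟨lam, hlam⟩ := det_sq_of_mem_Sbar Z (hle hZG)
          have hZdet := det_ne_zero' Z
          rw [Matrix.det_fin_two, h00, h11] at hZdet hlam
          set z₁ := (Z : Matrix (Fin 2) (Fin 2) F) 0 1 with hz₁
          set z₂ := (Z : Matrix (Fin 2) (Fin 2) F) 1 0 with hz₂
          have hz1 : z₁ ≠ 0 := by
            intro h; apply hZdet; rw [h]; ring
          have hz2 : z₂ ≠ 0 := by
            intro h; apply hZdet; rw [h]; ring
          set μ := ι * lam with hμ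
          have hμ2 : z₁ * z₂ = μ * μ := by
            have : μ * μ = (ι * ι) * (lam * lam) := by rw [hμ]; ring
            rw [this, hι, ← hlam]; ring
          have hμ0 : μ ≠ 0 := by
            intro h
            rw [h] at hμ2
            simp at hμ2
            rcases hμ2 with h | h
            · exact hz1 h
            · exact hz2 h
          have hZeq : (Z : Matrix (Fin 2) (Fin 2) F) = !![0, z₁; z₂, 0] := by
            ext i j; fin_cases i <;> fin_cases j <;> simp [h00, h11, hz₁, hz₂]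
          have hd : (2 * z₁ * μ) ≠ 0 := mul_ne_zero (mul_ne_zero h2' hz1) hμ0
          refine hasEig_of_comm_diagble (P := !![z₁, z₁; μ, -μ])
            (Q := (2 * z₁ * μ)⁻¹ • !![μ, z₁; μ, -z₁]) (D := !![μ, 0; 0, -μ])
            ?_ ?_ ?_ (by simp) (by simp) ?_ (by simpa using hμ0) (by simpa using hμ0)
            (det_ne_zero' Y) hlamY hι hc2
          · ext i j
            fin_cases i <;> fin_cases j <;>
              simp [Matrix.mul_apply, Fin.sum_univ_two, Matrix.one_apply] <;> field_simp <;> ring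
          · ext i j
            fin_cases i <;> fin_cases j <;>
              simp [Matrix.mul_apply, Fin.sum_univ_two, Matrix.one_apply] <;> field_simp <;> ring
          · rw [hZeq]
            ext i j
            fin_cases i <;> fin_cases j <;>
              simp [Matrix.mul_apply, Fin.sum_univ_two] <;> linear_combination hμ2
          · simp only [Matrix.of_apply, Matrix.cons_val', Matrix.cons_val_zero, Matrix.cons_val_one,
              Matrix.empty_val', Matrix.cons_val_fin_one]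
            intro h
            have : 2 * μ = 0 := by linear_combination h
            rcases mul_eq_zero.mp this with h | h
            · exact h2' h
            · exact hμ0 h
      obtain ⟨ω, hω⟩ := exists_index_of_hasEig Y hYeig
      exact ⟨ω, (mem_Bor_iff G ω y Y hY).mpr hω⟩
    · intro ω hω
      have hAB := hu ω A hA hω
      have htB := hAB htA
      rw [mem_Bor_iff G ω _ (SpecialLinearGroup.toGL (δι ι hι)) rfl] at htB
      obtain ⟨a, ha⟩ := htB
      rw [δι_val] at ha
      cases ω with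
      | none =>
        have := nilp_UT G hG one_ne_zero A hA hω _ htA (SpecialLinearGroup.toGL (δι ι hι)) rfl
        rw [δι_val] at this
        have := this.2
        simp at this
        exact hιne this
      | some x =>
        have e0 := congrFun ha 0
        have e1 := congrFun ha 1
        simp [v, Matrix.mulVec, dotProduct, Fin.sum_univ_two] at e0 e1
        have hx : x = 0 := by
          rcases e0 with h | h
          · exact absurd (h.trans e1.symm) hιne
          · exact h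
        subst hx
        have hU0 : U (some (0 : F)) = τ' (-1) := by
          apply Subtype.ext
          simp [U, τ']
        rw [hU0] at hω
        have := nilp_LT G hG (by simp : (-1 : F) ≠ 0) A hA hω _ htA
          (SpecialLinearGroup.toGL (δι ι hι)) rfl
        rw [δι_val] at this
        have := this.2
        simp at this
        exact hιne this

end group

end Cfsg.Agent.Lib.Helper65.PGL2Cover
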