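import Mathlib
import Cfsg.Prelude
import Cfsg.Agent.Lib.Helper65.PClasses

/-!
Counting conjugacy classes of `π`-elements: `k_π(G) ≤ k_r(G) * B` when `k_{π∖r}(C_G(y)) ≤ B` for all `y`,
hence `k_π(G) ≤ |G|_π`.
-/

set_option autoImplicit false

namespace Cfsg.Agent.Lib.Helper65

section PiClasses

universe u

/-- classes of `σ`-elements -/
abbrev PiCl (σ : Finset ℕ) (H : Type*) [Group H] :=
  {c : ConjClasses H // ∀ x ∈ c.carrier, ∀ q : ℕ, q.Prime → q ∣ orderOf x → q ∈ σ}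

/-- classes of `r`-elements -/
abbrev PCl (r : ℕ) (H : Type*) [Group H] :=
  {c : ConjClasses H // ∀ x ∈ c.carrier, ∃ k : ℕ, orderOf x = r ^ k}

variable {G : Type u} [Group G]

/-- the `r`-part and `r'`-part of an element of finite order -/
lemma exists_prime_part [Finite G] (r : ℕ) (hr : r.Prime) (x : G) :
    ∃ e f : ℕ, x ^ e * x ^ f = x ∧ (∃ k : ℕ, orderOf (x ^ e) = r ^ k) ∧
      ¬ r ∣ orderOf (x ^ f) ∧ orderOf (x ^ f) ∣ orderOf x := by
  have hn : orderOf x ≠ 0 := (orderOf_pos x).ne'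
  obtain ⟨v, m, hm, hnm⟩ := Nat.exists_eq_pow_mul_and_not_dvd hn r hr.ne_one
  have hco : Nat.Coprime (r ^ v) m := Nat.Coprime.pow_left v ((Nat.Prime.coprime_iff_not_dvd hr).mpr hm)
  obtain ⟨e, he1, he2⟩ := Nat.chineseRemainder hco 1 0
  obtain ⟨f, hf1, hf2⟩ := Nat.chineseRemainder hco 0 1
  refine ⟨e, f, ?_, ?_, ?_, ?_⟩
  · rw [← pow_add]
    nth_rewrite 2 [← pow_one x]
    rw [pow_eq_pow_iff_modEq, hnm]
    apply (Nat.modEq_and_modEq_iff_modEq_mul hco).mp
    constructor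
    · have := Nat.ModEq.add he1 hf1
      simpa using this
    · have := Nat.ModEq.add he2 hf2
      simpa using this
  · have h1 : (x ^ e) ^ (r ^ v) = 1 := by
      rw [← pow_mul, ← orderOf_dvd_iff_pow_eq_one, hnm, mul_comm e]
      exact Nat.mul_dvd_mul_left _ ((Nat.modEq_zero_iff_dvd).mp he2)
    have h2 : orderOf (x ^ e) ∣ r ^ v := orderOf_dvd_of_pow_eq_one h1
    obtain ⟨k, _, hk⟩ := (Nat.dvd_prime_pow hr).mp h2
    exact ⟨k, hk⟩
  · have h1 : (x ^ f) ^ m = 1 := by
      rw [← pow_mul, ← orderOf_dvd_iff_pow_eq_one, hnm]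
      exact Nat.mul_dvd_mul_right ((Nat.modEq_zero_iff_dvd).mp hf1) _
    have h2 : orderOf (x ^ f) ∣ m := orderOf_dvd_of_pow_eq_one h1
    exact fun h => hm (h.trans h2)
  · exact orderOf_pow_dvd f


/-- **Fibration bound**: the classes of `σ ∪ {r}`-elements fibre over the classes of `r`-elements, the
fibre over the class of `y` embedding into the classes of `σ`-elements of `C_G(y)`. -/
theorem card_PiCl_insert_le [Finite G] (r : ℕ) (hr : r.Prime) (σ : Finset ℕ) (hrσ : r ∉ σ) (B : ℕ)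
    (hB : ∀ y : G, Nat.card (PiCl σ ↥(Subgroup.centralizer ({y} : Set G))) ≤ B) :
    Nat.card (PiCl (insert r σ) G) ≤ B * Nat.card (PCl r G) := by
  classical
  -- Step A: decomposition of a representative
  have hA : ∀ c : PiCl (insert r σ) G, ∃ y z : G, y * z ∈ c.1.carrier ∧ Commute y z ∧
      (∃ k : ℕ, orderOf y = r ^ k) ∧ (∀ q : ℕ, q.Prime → q ∣ orderOf z → q ∈ σ) := by
    intro c
    obtain ⟨x, hx⟩ := ConjClasses.exists_rep c.1
    have hxc : x ∈ c.1.carrier := by rw [← hx]; exact ConjClasses.mem_carrier_mk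
    obtain ⟨e, f, h1, h2, h3, h4⟩ := exists_prime_part r hr x
    refine ⟨x ^ e, x ^ f, by rw [h1]; exact hxc, (Commute.refl x).pow_pow e f, h2, ?_⟩
    intro q hq hqd
    have h5 := c.2 x hxc q hq (hqd.trans h4)
    rcases Finset.mem_insert.mp h5 with rfl | h6
    · exact absurd hqd h3
    · exact h6
  choose Y Z hYZ hcomm hY hZ using hA
  have hYcl : ∀ c, ∀ x ∈ (ConjClasses.mk (Y c)).carrier, ∃ k : ℕ, orderOf x = r ^ k := by
    intro c x hx
    rw [ConjClasses.mem_carrier_iff_mk_eq, ConjClasses.mk_eq_mk_iff_isConj, isConj_iff] at hx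
    obtain ⟨g, hg⟩ := hx
    obtain ⟨k, hk⟩ := hY c
    exact ⟨k, by rw [← hk, ← hg, orderOf_conj_eq]⟩
  let Φ : PiCl (insert r σ) G → PCl r G := fun c => ⟨ConjClasses.mk (Y c), hYcl c⟩
  have hrep : ∀ d : PCl r G, ∃ y : G, ConjClasses.mk y = d.1 := fun d => ConjClasses.exists_rep d.1
  choose yd hyd using hrep
  have hconj : ∀ c, ∃ g : G, g * Y c * g⁻¹ = yd (Φ c) := by
    intro c
    have : ConjClasses.mk (Y c) = ConjClasses.mk (yd (Φ c)) := by rw [hyd (Φ c)]
    exact isConj_iff.mp (ConjClasses.mk_eq_mk_iff_isConj.mp this)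
  choose gc hgc using hconj
  haveI : Fintype (PiCl (insert r σ) G) := Fintype.ofFinite _
  haveI : Fintype (PCl r G) := Fintype.ofFinite _
  have hfib : ∀ d ∈ (Finset.univ : Finset (PCl r G)),
      (Finset.univ.filter (fun c => Φ c = d)).card ≤ B := by
    intro d _
    have hW : ∀ c : {c // Φ c = d},
        gc c.1 * Z c.1 * (gc c.1)⁻¹ ∈ Subgroup.centralizer ({yd d} : Set G) := by
      intro c
      have e0 : gc c.1 * Y c.1 * (gc c.1)⁻¹ = yd d := by rw [hgc c.1, c.2]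
      rw [Subgroup.mem_centralizer_singleton_iff, ← e0]
      have h1 := (hcomm c.1).eq
      calc gc c.1 * Z c.1 * (gc c.1)⁻¹ * (gc c.1 * Y c.1 * (gc c.1)⁻¹)
          = gc c.1 * (Z c.1 * Y c.1) * (gc c.1)⁻¹ := by group
        _ = gc c.1 * (Y c.1 * Z c.1) * (gc c.1)⁻¹ := by rw [h1]
        _ = gc c.1 * Y c.1 * (gc c.1)⁻¹ * (gc c.1 * Z c.1 * (gc c.1)⁻¹) := by group
    have hWcl : ∀ c : {c // Φ c = d}, ∀ x ∈ (ConjClasses.mk (⟨_, hW c⟩ :
        ↥(Subgroup.centralizer ({yd d} : Set G)))).carrier,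
        ∀ q : ℕ, q.Prime → q ∣ orderOf x → q ∈ σ := by
      intro c x hx q hq hqd
      rw [ConjClasses.mem_carrier_iff_mk_eq, ConjClasses.mk_eq_mk_iff_isConj, isConj_iff] at hx
      obtain ⟨g, hg⟩ := hx
      apply hZ c.1 q hq
      have h1 : orderOf x = orderOf (Z c.1) := by
        have h2 := orderOf_conj_eq g x
        rw [hg, Subgroup.orderOf_mk, orderOf_conj_eq] at h2
        exact h2.symm
      rwa [← h1]
    let ψ : {c // Φ c = d} → PiCl σ ↥(Subgroup.centralizer ({yd d} : Set G)) :=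
      fun c => ⟨ConjClasses.mk ⟨_, hW c⟩, hWcl c⟩
    have hψ : Function.Injective ψ := by
      intro c c' h
      have h1 : ConjClasses.mk (⟨_, hW c⟩ : ↥(Subgroup.centralizer ({yd d} : Set G))) =
          ConjClasses.mk ⟨_, hW c'⟩ := congrArg Subtype.val h
      rw [ConjClasses.mk_eq_mk_iff_isConj, isConj_iff] at h1
      obtain ⟨h0, hh⟩ := h1
      have hh' : (h0 : G) * (gc c.1 * Z c.1 * (gc c.1)⁻¹) * (h0 : G)⁻¹ =
          gc c'.1 * Z c'.1 * (gc c'.1)⁻¹ := by
        have := congrArg Subtype.val hh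
        simpa using this
      have hcen : (h0 : G) * yd d = yd d * h0 :=
        Subgroup.mem_centralizer_singleton_iff.mp h0.2
      have e1 : gc c.1 * Y c.1 * (gc c.1)⁻¹ = yd d := by rw [hgc c.1, c.2]
      have e2 : gc c'.1 * Y c'.1 * (gc c'.1)⁻¹ = yd d := by rw [hgc c'.1, c'.2]
      have key : ((gc c'.1)⁻¹ * h0 * gc c.1) * (Y c.1 * Z c.1) * ((gc c'.1)⁻¹ * h0 * gc c.1)⁻¹ =
          Y c'.1 * Z c'.1 := by
        calc ((gc c'.1)⁻¹ * h0 * gc c.1) * (Y c.1 * Z c.1) * ((gc c'.1)⁻¹ * h0 * gc c.1)⁻¹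
            = (gc c'.1)⁻¹ * (h0 * (gc c.1 * Y c.1 * (gc c.1)⁻¹) * (h0 : G)⁻¹) *
              (h0 * (gc c.1 * Z c.1 * (gc c.1)⁻¹) * (h0 : G)⁻¹) * gc c'.1 := by group
          _ = (gc c'.1)⁻¹ * (h0 * yd d * (h0 : G)⁻¹) * (gc c'.1 * Z c'.1 * (gc c'.1)⁻¹) * gc c'.1 := by
              rw [e1, hh']
          _ = (gc c'.1)⁻¹ * yd d * (gc c'.1 * Z c'.1 * (gc c'.1)⁻¹) * gc c'.1 := by
              rw [hcen]; group
          _ = (gc c'.1)⁻¹ * (gc c'.1 * Y c'.1 * (gc c'.1)⁻¹) * (gc c'.1 * Z c'.1 * (gc c'.1)⁻¹) *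
              gc c'.1 := by rw [e2]
          _ = Y c'.1 * Z c'.1 := by group
      have h3 : ConjClasses.mk (Y c.1 * Z c.1) = ConjClasses.mk (Y c'.1 * Z c'.1) :=
        ConjClasses.mk_eq_mk_iff_isConj.mpr (isConj_iff.mpr ⟨_, key⟩)
      have h4 : ConjClasses.mk (Y c.1 * Z c.1) = c.1.1 := ConjClasses.mem_carrier_iff_mk_eq.mp (hYZ c.1)
      have h5 : ConjClasses.mk (Y c'.1 * Z c'.1) = c'.1.1 :=
        ConjClasses.mem_carrier_iff_mk_eq.mp (hYZ c'.1)
      apply Subtype.ext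
      apply Subtype.ext
      rw [← h4, ← h5, h3]
    have h6 : (Finset.univ.filter (fun c => Φ c = d)).card = Nat.card {c // Φ c = d} := by
      rw [Nat.card_eq_fintype_card, Fintype.card_subtype]
    rw [h6]
    exact (Nat.card_le_card_of_injective ψ hψ).trans (hB (yd d))
  have h7 := Finset.card_le_mul_card_image_of_maps_to (s := (Finset.univ : Finset (PiCl (insert r σ) G)))
    (t := (Finset.univ : Finset (PCl r G))) (f := Φ) (fun _ _ => Finset.mem_univ _) B hfib
  rw [Finset.card_univ, Finset.card_univ] at h7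
  rw [Nat.card_eq_fintype_card, Nat.card_eq_fintype_card]
  exact h7


attribute [local instance] normalizerConjAction in
/-- `k_r(G) ≤ |G|_r` -/
lemma card_PCl_le [Finite G] (r : ℕ) [Fact r.Prime] :
    Nat.card (PCl r G) ≤ r ^ (Nat.card G).factorization r := by
  have P : Sylow r G := default
  rw [← P.card_eq_multiplicity]
  refine (card_pClasses_le_card_orbits P).trans ?_
  exact Nat.card_le_card_of_surjective (Quotient.mk _) Quotient.mk_surjective

/-- **`k_σ(G) ≤ |G|_σ`** for every finite set of primes `σ` -/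
theorem card_PiCl_le (σ : Finset ℕ) (hσ : ∀ q ∈ σ, q.Prime) : ∀ (G : Type u) [Group G] [Finite G],
    Nat.card (PiCl σ G) ≤ ∏ q ∈ σ, q ^ (Nat.card G).factorization q := by
  induction σ using Finset.induction_on with
  | empty =>
    intro G _ _
    rw [Finset.prod_empty]
    rw [Finite.card_le_one_iff_subsingleton]
    constructor
    intro c c'
    have key : ∀ c : PiCl ∅ G, c.1 = ConjClasses.mk 1 := by
      intro c
      obtain ⟨x, hx⟩ := ConjClasses.exists_rep c.1
      have hxc : x ∈ c.1.carrier := by rw [← hx]; exact ConjClasses.mem_carrier_mk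
      have h1 : orderOf x = 1 := by
        by_contra hne
        obtain ⟨q, hq, hqd⟩ := Nat.exists_prime_and_dvd hne
        exact absurd (c.2 x hxc q hq hqd) (Finset.notMem_empty q)
      rw [← hx, orderOf_eq_one_iff.mp h1]
    apply Subtype.ext
    rw [key c, key c']
  | insert r σ hrσ ih =>
    intro G _ _
    have hr : r.Prime := hσ r (Finset.mem_insert_self r σ)
    haveI : Fact r.Prime := ⟨hr⟩
    have hσ' : ∀ q ∈ σ, q.Prime := fun q hq => hσ q (Finset.mem_insert_of_mem hq)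
    rw [Finset.prod_insert hrσ, mul_comm]
    have hB : ∀ y : G, Nat.card (PiCl σ ↥(Subgroup.centralizer ({y} : Set G))) ≤
        ∏ q ∈ σ, q ^ (Nat.card G).factorization q := by
      intro y
      refine (ih hσ' ↥(Subgroup.centralizer ({y} : Set G))).trans ?_
      apply Finset.prod_le_prod (fun _ _ => Nat.zero_le _)
      intro q hq
      apply Nat.pow_le_pow_right (hσ' q hq).pos
      have hdvd : Nat.card ↥(Subgroup.centralizer ({y} : Set G)) ∣ Nat.card G :=
        Subgroup.card_subgroup_dvd_card _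
      exact (Nat.factorization_le_iff_dvd Nat.card_pos.ne' Nat.card_pos.ne').mpr hdvd q
    refine (card_PiCl_insert_le r hr σ hrσ _ hB).trans ?_
    exact Nat.mul_le_mul_left _ (card_PCl_le r)

end PiClasses

end Cfsg.Agent.Lib.Helper65
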