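import Mathlib
import Cfsg.Prelude
import Cfsg.Agent.Lib.Helper65.PClasses

/-!
Counting classes of `π`-elements by commuting pairs (Burnside's lemma restricted to `π`-elements):
`#{(x, y) | x a π-element, xy = yx} = k_π(G) * |G|`.
-/

set_option autoImplicit false

namespace Cfsg.Agent.Lib.Helper65

section PiCount

variable {G : Type*} [Group G]

/-- `x` is a `π`-element -/
def IsPiElt (π : Set ℕ) (x : G) : Prop := ∀ q : ℕ, q.Prime → q ∣ orderOf x → q ∈ π

/-- the classes of `π`-elements, in the form used by the statements -/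
abbrev KPi (π : Set ℕ) (G : Type*) [Group G] :=
  {C : ConjClasses G // ∀ q : ℕ, q.Prime → (∃ g : G, ConjClasses.mk g = C ∧ q ∣ orderOf g) → q ∈ π}

lemma isPiElt_conj (π : Set ℕ) (c x : G) : IsPiElt π (c * x * c⁻¹) ↔ IsPiElt π x := by
  unfold IsPiElt
  rw [orderOf_conj_eq]

lemma isPiElt_of_mk_eq (π : Set ℕ) {x y : G} (h : ConjClasses.mk x = ConjClasses.mk y)
    (hx : IsPiElt π x) : IsPiElt π y := by
  rw [ConjClasses.mk_eq_mk_iff_isConj, isConj_iff] at h
  obtain ⟨c, rfl⟩ := h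
  exact (isPiElt_conj π c x).mpr hx

lemma mk_mem_KPi (π : Set ℕ) {x : G} (hx : IsPiElt π x) :
    ∀ q : ℕ, q.Prime → (∃ g : G, ConjClasses.mk g = ConjClasses.mk x ∧ q ∣ orderOf g) → q ∈ π := by
  rintro q hq ⟨g, hg, hqg⟩
  exact isPiElt_of_mk_eq π hg.symm hx q hq hqg

/-- the `π`-elements as a `SubMulAction` for conjugation -/
def piSubMulAction (π : Set ℕ) : SubMulAction (ConjAct G) G where
  carrier := {x | IsPiElt π x}
  smul_mem' := by
    intro c x hx
    show IsPiElt π (c • x)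
    rw [ConjAct.smul_def]
    exact (isPiElt_conj π _ x).mpr hx

/-- orbits of `π`-elements are the classes of `π`-elements -/
noncomputable def orbitsEquivKPi (π : Set ℕ) :
    Quotient (MulAction.orbitRel (ConjAct G) ↥(piSubMulAction (G := G) π)) ≃ KPi π G := by
  refine Equiv.ofBijective
    (Quotient.lift (fun x : ↥(piSubMulAction (G := G) π) =>
      (⟨ConjClasses.mk x.1, mk_mem_KPi π x.2⟩ : KPi π G)) ?_) ⟨?_, ?_⟩
  · intro x y hxy
    apply Subtype.ext
    show ConjClasses.mk x.1 = ConjClasses.mk y.1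
    rw [ConjClasses.mk_eq_mk_iff_isConj]
    have h1 : x ∈ MulAction.orbit (ConjAct G) y := hxy
    obtain ⟨c, hc⟩ := h1
    have h2 : c • y.1 = x.1 := by
      have := congrArg Subtype.val hc
      simpa using this
    rw [ConjAct.smul_def] at h2
    exact (isConj_iff.mpr ⟨_, h2⟩).symm
  · intro a b
    refine Quotient.inductionOn₂ a b ?_
    intro x y hxy
    have h1 : ConjClasses.mk x.1 = ConjClasses.mk y.1 := congrArg Subtype.val hxy
    rw [ConjClasses.mk_eq_mk_iff_isConj, isConj_iff] at h1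
    obtain ⟨c, hc⟩ := h1
    apply Quotient.sound
    show x ∈ MulAction.orbit (ConjAct G) y
    refine ⟨ConjAct.toConjAct c⁻¹, ?_⟩
    apply Subtype.ext
    show ConjAct.toConjAct c⁻¹ • y.1 = x.1
    rw [ConjAct.smul_def, ConjAct.ofConjAct_toConjAct, ← hc]
    group
  · rintro ⟨C, hC⟩
    obtain ⟨x, rfl⟩ := ConjClasses.exists_rep C
    have hx : IsPiElt π x := fun q hq hqx => hC q hq ⟨x, rfl, hqx⟩
    exact ⟨Quotient.mk _ ⟨x, hx⟩, rfl⟩

/-- **Burnside's lemma for `π`-elements**: the number of commuting pairs `(x, y)` with `x` a `π`-element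
is `k_π(G) * |G|`. -/
theorem card_piCommPairs [Finite G] (π : Set ℕ) :
    Nat.card {p : G × G // IsPiElt π p.1 ∧ Commute p.1 p.2} = Nat.card (KPi π G) * Nat.card G := by
  classical
  have e1 : {p : G × G // IsPiElt π p.1 ∧ Commute p.1 p.2} ≃
      (Σ a : ConjAct G, MulAction.fixedBy ↥(piSubMulAction (G := G) π) a) :=
    { toFun := fun p => ⟨ConjAct.toConjAct p.1.2, ⟨⟨p.1.1, p.2.1⟩, by
        rw [MulAction.mem_fixedBy]
        apply Subtype.ext
        show ConjAct.toConjAct p.1.2 • p.1.1 = p.1.1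
        rw [ConjAct.smul_def, ConjAct.ofConjAct_toConjAct, ← p.2.2.eq]
        group⟩⟩
      invFun := fun s => ⟨(s.2.1.1, ConjAct.ofConjAct s.1), s.2.1.2, by
        have h1 := s.2.2
        rw [MulAction.mem_fixedBy] at h1
        have h2 : s.1 • s.2.1.1 = s.2.1.1 := congrArg Subtype.val h1
        rw [ConjAct.smul_def] at h2
        show s.2.1.1 * ConjAct.ofConjAct s.1 = ConjAct.ofConjAct s.1 * s.2.1.1
        rw [mul_inv_eq_iff_eq_mul] at h2
        exact h2.symm⟩
      left_inv := fun p => rfl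
      right_inv := fun s => rfl }
  rw [Nat.card_congr e1,
    Nat.card_congr (MulAction.sigmaFixedByEquivOrbitsProdGroup (ConjAct G) ↥(piSubMulAction (G := G) π)),
    Nat.card_prod, Nat.card_congr (orbitsEquivKPi π)]
  rfl

/-! ### `π`-parts of elements -/

lemma exists_pi_split (π : Set ℕ) (n : ℕ) (hn : 0 < n) :
    ∃ a b : ℕ, n = a * b ∧ (∀ q : ℕ, q.Prime → q ∣ a → q ∈ π) ∧
      (∀ q : ℕ, q.Prime → q ∣ b → q ∉ π) := by
  induction n using Nat.strong_induction_on with
  | _ n ih =>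
    rcases Nat.eq_or_lt_of_le (Nat.one_le_of_lt hn) with h1 | h1
    · refine ⟨1, 1, by omega, ?_, ?_⟩
      · intro q hq hq1
        exact absurd (Nat.dvd_one.mp hq1) hq.ne_one
      · intro q hq hq1
        exact absurd (Nat.dvd_one.mp hq1) hq.ne_one
    · obtain ⟨q, hq, m, hm⟩ : ∃ q : ℕ, q.Prime ∧ ∃ m : ℕ, n = q * m :=
        ⟨n.minFac, Nat.minFac_prime (by omega), Nat.minFac_dvd n⟩
      have hm0 : 0 < m := by
        rcases Nat.eq_zero_or_pos m with h | h
        · rw [h, mul_zero] at hm; omega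
        · exact h
      have hmn : m < n := by
        have := hq.two_le
        nlinarith
      obtain ⟨a, b, hab, ha, hb⟩ := ih m hmn hm0
      by_cases hqπ : q ∈ π
      · refine ⟨q * a, b, by rw [hm, hab, mul_assoc], ?_, hb⟩
        intro q' hq' hd
        rcases (Nat.Prime.dvd_mul hq').mp hd with h | h
        · rwa [(Nat.prime_dvd_prime_iff_eq hq' hq).mp h]
        · exact ha q' hq' h
      · refine ⟨a, q * b, by rw [hm, hab]; ring, ha, ?_⟩
        intro q' hq' hd
        rcases (Nat.Prime.dvd_mul hq').mp hd with h | h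
        · rwa [(Nat.prime_dvd_prime_iff_eq hq' hq).mp h]
        · exact hb q' hq' h

/-- `z` is a `π'`-element -/
def IsPiPrimeElt (π : Set ℕ) (x : G) : Prop := ∀ q : ℕ, q.Prime → q ∣ orderOf x → q ∉ π

/-- the `π`-part and `π'`-part of an element, as powers, with uniqueness -/
lemma exists_pi_parts [Finite G] (π : Set ℕ) (w : G) :
    ∃ e f : ℕ, w ^ e * w ^ f = w ∧ IsPiElt π (w ^ e) ∧ IsPiPrimeElt π (w ^ f) ∧
      ∀ x z : G, Commute x z → IsPiElt π x → IsPiPrimeElt π z → x * z = w →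
        w ^ e = x ∧ w ^ f = z := by
  obtain ⟨a, b, hab, ha, hb⟩ := exists_pi_split π (orderOf w) (orderOf_pos w)
  have hco : Nat.Coprime a b := Nat.coprime_of_dvd (fun k hk h1 h2 => hb k hk h2 (ha k hk h1))
  obtain ⟨e, he1, he2⟩ := Nat.chineseRemainder hco 1 0
  obtain ⟨f, hf1, hf2⟩ := Nat.chineseRemainder hco 0 1
  have hea : orderOf (w ^ e) ∣ a := by
    apply orderOf_dvd_of_pow_eq_one
    rw [← pow_mul, ← orderOf_dvd_iff_pow_eq_one, hab, mul_comm e]
    exact Nat.mul_dvd_mul_left _ ((Nat.modEq_zero_iff_dvd).mp he2)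
  have hfb : orderOf (w ^ f) ∣ b := by
    apply orderOf_dvd_of_pow_eq_one
    rw [← pow_mul, ← orderOf_dvd_iff_pow_eq_one, hab]
    exact Nat.mul_dvd_mul_right ((Nat.modEq_zero_iff_dvd).mp hf1) _
  refine ⟨e, f, ?_, fun q hq hd => ha q hq (hd.trans hea), fun q hq hd => hb q hq (hd.trans hfb), ?_⟩
  · rw [← pow_add]
    nth_rewrite 2 [← pow_one w]
    rw [pow_eq_pow_iff_modEq, hab]
    apply (Nat.modEq_and_modEq_iff_modEq_mul hco).mp
    constructor
    · have := Nat.ModEq.add he1 hf1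
      simpa using this
    · have := Nat.ModEq.add he2 hf2
      simpa using this
  · intro x z hxz hx hz hw
    have hcoxz : Nat.Coprime (orderOf x) (orderOf z) :=
      Nat.coprime_of_dvd (fun k hk h1 h2 => hz k hk h2 (hx k hk h1))
    have ho : orderOf w = orderOf x * orderOf z := by
      rw [← hw]
      exact hxz.orderOf_mul_eq_mul_orderOf_of_coprime hcoxz
    have hcoaz : Nat.Coprime a (orderOf z) :=
      Nat.coprime_of_dvd (fun k hk h1 h2 => hz k hk h2 (ha k hk h1))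
    have hcoxb : Nat.Coprime (orderOf x) b :=
      Nat.coprime_of_dvd (fun k hk h1 h2 => hb k hk h2 (hx k hk h1))
    have h1 : a ∣ orderOf x := by
      apply hcoaz.dvd_of_dvd_mul_right
      rw [← ho, hab]
      exact dvd_mul_right a b
    have h2 : orderOf x ∣ a := by
      apply hcoxb.dvd_of_dvd_mul_right
      rw [← hab, ho]
      exact dvd_mul_right _ _
    have hax : a = orderOf x := Nat.dvd_antisymm h1 h2
    have hbz : b = orderOf z := by
      have h3 : a * b = a * orderOf z := by rw [← hab, ho, ← hax]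
      exact Nat.eq_of_mul_eq_mul_left (by rw [hax]; exact orderOf_pos x) h3
    constructor
    · rw [← hw, hxz.mul_pow]
      have h4 : x ^ e = x := by
        nth_rewrite 2 [← pow_one x]
        rw [pow_eq_pow_iff_modEq, ← hax]
        exact he1
      have h5 : z ^ e = 1 := by
        rw [← orderOf_dvd_iff_pow_eq_one, ← hbz]
        exact (Nat.modEq_zero_iff_dvd).mp he2
      rw [h4, h5, mul_one]
    · rw [← hw, hxz.mul_pow]
      have h4 : x ^ f = 1 := by
        rw [← orderOf_dvd_iff_pow_eq_one, ← hax]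
        exact (Nat.modEq_zero_iff_dvd).mp hf1
      have h5 : z ^ f = z := by
        nth_rewrite 2 [← pow_one z]
        rw [pow_eq_pow_iff_modEq, ← hbz]
        exact hf2
      rw [h4, h5, one_mul]

end PiCount

section Main

variable {G : Type*} [Group G] (N : Subgroup G) [N.Normal]

omit [N.Normal] in
/-- **slicing**: commuting pairs `(x, y)` with `y` in a fixed coset of `N` inject (non-canonically) into
commuting pairs `(x, n)` with `n ∈ N` -/
lemma card_slice_le (P : G → Prop) (v : G ⧸ N) [Finite G] :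
    Nat.card {p : G × G // P p.1 ∧ (p.2 : G ⧸ N) = v ∧ Commute p.1 p.2} ≤
      Nat.card {p : G × G // P p.1 ∧ p.2 ∈ N ∧ Commute p.1 p.2} := by
  classical
  let Y : G → G := fun x => if h : ∃ y : G, (y : G ⧸ N) = v ∧ Commute x y then h.choose else 1
  have hY : ∀ x y : G, (y : G ⧸ N) = v → Commute x y →
      ((Y x : G) : G ⧸ N) = v ∧ Commute x (Y x) := by
    intro x y h1 h2
    have h : ∃ y : G, (y : G ⧸ N) = v ∧ Commute x y := ⟨y, h1, h2⟩
    simp only [Y, dif_pos h]
    exact h.choose_spec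
  refine Nat.card_le_card_of_injective
    (fun p => ⟨(p.1.1, (Y p.1.1)⁻¹ * p.1.2), p.2.1, ?_, ?_⟩) ?_
  · obtain ⟨h1, h2⟩ := hY p.1.1 p.1.2 p.2.2.1 p.2.2.2
    show (Y p.1.1)⁻¹ * p.1.2 ∈ N
    rw [← QuotientGroup.eq, h1, p.2.2.1]
  · obtain ⟨h1, h2⟩ := hY p.1.1 p.1.2 p.2.2.1 p.2.2.2
    exact h2.inv_right.mul_right p.2.2.2
  · intro p p' h
    have h0 := congrArg Subtype.val h
    simp only [Prod.mk.injEq] at h0
    obtain ⟨h1, h2⟩ := h0
    rw [h1] at h2
    apply Subtype.ext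
    exact Prod.ext h1 (mul_left_cancel h2)

/-- **the `π`-swap**: commuting pairs `(x, n)`, `x` a `π`-element of the coset `u`, `n ∈ N`, inject into
commuting pairs `(m, y)` with `m ∈ N` a `π`-element and `y ∈ u`, by `(x, n) ↦ (n_π, x n_π')`. -/
lemma card_piSwap_le (π : Set ℕ) (u : G ⧸ N) [Finite G] :
    Nat.card {p : G × G // ((p.1 : G ⧸ N) = u ∧ IsPiElt π p.1) ∧ p.2 ∈ N ∧ Commute p.1 p.2} ≤
      Nat.card {p : G × G // (p.1 ∈ N ∧ IsPiElt π p.1) ∧ (p.2 : G ⧸ N) = u ∧ Commute p.1 p.2} := by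
  classical
  choose e f hef he hf huniq using exists_pi_parts (G := G) π
  refine Nat.card_le_card_of_injective
    (fun p => ⟨(p.1.2 ^ e p.1.2, p.1.1 * p.1.2 ^ f p.1.2),
      ⟨N.pow_mem p.2.2.1 _, he p.1.2⟩, ?_, ?_⟩) ?_
  · show ((p.1.1 * p.1.2 ^ f p.1.2 : G) : G ⧸ N) = u
    rw [QuotientGroup.mk_mul, (QuotientGroup.eq_one_iff _).mpr (N.pow_mem p.2.2.1 _), mul_one]
    exact p.2.1.1
  · show Commute (p.1.2 ^ e p.1.2) (p.1.1 * p.1.2 ^ f p.1.2)
    exact (p.2.2.2.symm.pow_left _).mul_right ((Commute.refl p.1.2).pow_pow _ _)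
  · intro p p' h
    have h0 := congrArg Subtype.val h
    simp only [Prod.mk.injEq] at h0
    obtain ⟨h1, h2⟩ := h0
    -- uniqueness of the decomposition of `w = x * n_π'`
    have k1 := huniq (p.1.1 * p.1.2 ^ f p.1.2) p.1.1 (p.1.2 ^ f p.1.2)
      (p.2.2.2.pow_right _) p.2.1.2 (hf p.1.2) rfl
    have k2 := huniq (p'.1.1 * p'.1.2 ^ f p'.1.2) p'.1.1 (p'.1.2 ^ f p'.1.2)
      (p'.2.2.2.pow_right _) p'.2.1.2 (hf p'.1.2) rfl
    rw [h2] at k1
    have hx : p.1.1 = p'.1.1 := k1.1.symm.trans k2.1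
    have hz : p.1.2 ^ f p.1.2 = p'.1.2 ^ f p'.1.2 := k1.2.symm.trans k2.2
    have hn : p.1.2 = p'.1.2 := by
      rw [← hef p.1.2, ← hef p'.1.2, h1, hz]
    apply Subtype.ext
    exact Prod.ext hx hn

lemma isPiElt_subgroup_iff (π : Set ℕ) (H : Subgroup G) (x : H) : IsPiElt π x ↔ IsPiElt π (x : G) := by
  unfold IsPiElt
  rw [Subgroup.orderOf_coe]

/-- **`k_π(G) ≤ k_π(N) k_π(G/N)`**, in terms of commuting pairs -/
theorem card_piCommPairs_le (π : Set ℕ) [Finite G] :
    Nat.card {p : G × G // IsPiElt π p.1 ∧ Commute p.1 p.2} ≤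
      Nat.card {p : (G ⧸ N) × (G ⧸ N) // IsPiElt π p.1 ∧ Commute p.1 p.2} *
        Nat.card {p : N × N // IsPiElt π p.1 ∧ Commute p.1 p.2} := by
  classical
  let Φ : {p : G × G // IsPiElt π p.1 ∧ Commute p.1 p.2} →
      {p : (G ⧸ N) × (G ⧸ N) // IsPiElt π p.1 ∧ Commute p.1 p.2} :=
    fun a => ⟨((a.1.1 : G ⧸ N), (a.1.2 : G ⧸ N)),
      fun q hq hd => a.2.1 q hq (hd.trans (orderOf_map_dvd (QuotientGroup.mk' N) a.1.1)),
      a.2.2.map (QuotientGroup.mk' N)⟩
  have hfib : ∀ b, Nat.card {a // Φ a = b} ≤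
      Nat.card {p : N × N // IsPiElt π p.1 ∧ Commute p.1 p.2} := by
    intro b
    have s1 : Nat.card {a // Φ a = b} ≤ Nat.card {p : G × G //
        ((p.1 : G ⧸ N) = b.1.1 ∧ IsPiElt π p.1) ∧ (p.2 : G ⧸ N) = b.1.2 ∧ Commute p.1 p.2} := by
      refine Nat.card_le_card_of_injective (fun a => ⟨a.1.1, ⟨?_, a.1.2.1⟩, ?_, a.1.2.2⟩) ?_
      · have := congrArg (fun t => t.1.1) a.2
        exact this
      · have := congrArg (fun t => t.1.2) a.2
        exact this
      · intro a a' h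
        have h0 := congrArg Subtype.val h
        exact Subtype.ext (Subtype.ext h0)
    have s2 := card_slice_le N (fun x : G => (x : G ⧸ N) = b.1.1 ∧ IsPiElt π x) b.1.2
    have s3 := card_piSwap_le N π b.1.1
    have s4 := card_slice_le N (fun x : G => x ∈ N ∧ IsPiElt π x) b.1.1
    have s5 : Nat.card {p : G × G // (p.1 ∈ N ∧ IsPiElt π p.1) ∧ p.2 ∈ N ∧ Commute p.1 p.2} ≤
        Nat.card {p : N × N // IsPiElt π p.1 ∧ Commute p.1 p.2} := by
      refine Nat.card_le_card_of_injective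
        (fun p => ⟨(⟨p.1.1, p.2.1.1⟩, ⟨p.1.2, p.2.2.1⟩), ?_, ?_⟩) ?_
      · exact (isPiElt_subgroup_iff π N _).mpr p.2.1.2
      · exact Subtype.ext p.2.2.2.eq
      · intro p p' h
        have h0 := congrArg Subtype.val h
        simp only [Prod.mk.injEq, Subtype.mk.injEq] at h0
        exact Subtype.ext (Prod.ext h0.1 h0.2)
    exact s1.trans (s2.trans (s3.trans (s4.trans s5)))
  have : Fintype {p : (G ⧸ N) × (G ⧸ N) // IsPiElt π p.1 ∧ Commute p.1 p.2} := Fintype.ofFinite _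
  rw [← Nat.card_congr (Equiv.sigmaFiberEquiv Φ), Nat.card_sigma]
  refine (Finset.sum_le_card_nsmul _ _ _ (fun b _ => hfib b)).trans ?_
  rw [Finset.card_univ, smul_eq_mul, ← Nat.card_eq_fintype_card]

/-- **`k_π(G) ≤ k_π(N) k_π(G/N)`** -/
theorem card_KPi_le_mul (π : Set ℕ) [Finite G] :
    Nat.card (KPi π G) ≤ Nat.card (KPi π N) * Nat.card (KPi π (G ⧸ N)) := by
  have h := card_piCommPairs_le N π
  rw [card_piCommPairs, card_piCommPairs, card_piCommPairs] at h
  have hG : Nat.card G = Nat.card (G ⧸ N) * Nat.card N := Subgroup.card_eq_card_quotient_mul_card_subgroup N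
  have h2 : Nat.card (KPi π G) * Nat.card G ≤
      (Nat.card (KPi π N) * Nat.card (KPi π (G ⧸ N))) * Nat.card G := by
    calc Nat.card (KPi π G) * Nat.card G ≤ _ := h
      _ = (Nat.card (KPi π N) * Nat.card (KPi π (G ⧸ N))) * Nat.card G := by rw [hG]; ring
  exact Nat.le_of_mul_le_mul_right h2 Nat.card_pos

end Main

end Cfsg.Agent.Lib.Helper65
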