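import Mathlib
import Cfsg.Prelude
import Cfsg.Agent.Lib.Helper65.PClasses
import Cfsg.Agent.Lib.Helper65.PiClasses
import Cfsg.Agent.Lib.Helper65.PiCount
import Cfsg.Agent.Lib.Helper34.NPC
import Cfsg.Agent.Lib.Helper34.NormalPComplement
import Cfsg.Agent.Lib.Helper9.NPCLemmas2
import Cfsg.Agent.Lib.Helper97.Cores

/-!
Groups with more than `|P|/2` classes of `2`-elements have a normal `2`-complement
(conditional on the `Z*`-theorem for weakly closed `2`-elements, given as a hypothesis).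
-/

set_option autoImplicit false

namespace Cfsg.Agent.Lib.Helper65

open Cfsg

section TwoHalf

universe u

/-- the `Z*`-theorem for `2`-elements which are weakly closed in a Sylow `2`-subgroup -/
def ZStarEltStatement : Prop :=
  ∀ (Γ : Type u) [Group Γ] [Finite Γ] (P : Sylow 2 Γ) (x : Γ), x ∈ P →
    (∀ g : Γ, g * x * g⁻¹ ∈ P → g * x * g⁻¹ = x) →
    ∀ g : Γ, x * g * x⁻¹ * g⁻¹ ∈ Cfsg.oddCore Γ

variable {G : Type u} [Group G]

/-- `k_p(G) ≤ k(P)` -/
lemma card_PCl_le_card_conjClasses_sylow [Finite G] {p : ℕ} [Fact p.Prime] (P : Sylow p G) :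
    Nat.card (PCl p G) ≤ Nat.card (ConjClasses ↥(P : Subgroup G)) := by
  have hex : ∀ c : PCl p G, ∃ x : ↥(P : Subgroup G), ConjClasses.mk (x : G) = c.1 := by
    intro c
    obtain ⟨y, hy⟩ := ConjClasses.exists_rep c.1
    obtain ⟨k, hk⟩ := c.2 y (by rw [← hy]; exact ConjClasses.mem_carrier_mk)
    obtain ⟨g, hg⟩ := exists_conj_mem_sylow P y k hk
    refine ⟨⟨g * y * g⁻¹, hg⟩, ?_⟩
    rw [← hy]
    exact ConjClasses.mk_eq_mk_iff_isConj.mpr (isConj_iff.mpr ⟨g⁻¹, by simp [mul_assoc]⟩)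
  choose φ hφ using hex
  apply Nat.card_le_card_of_injective (fun c => ConjClasses.mk (φ c))
  intro c c' h
  have h' : ConjClasses.mk (φ c) = ConjClasses.mk (φ c') := h
  rw [ConjClasses.mk_eq_mk_iff_isConj, isConj_iff] at h'
  obtain ⟨a, ha⟩ := h'
  apply Subtype.ext
  rw [← hφ c, ← hφ c', ConjClasses.mk_eq_mk_iff_isConj, isConj_iff]
  refine ⟨(a : G), ?_⟩
  have := congrArg Subtype.val ha
  simpa using this

/-- if `P` has a normal complement, `P`-classes do not fuse: `k(P) ≤ k_p(G)` -/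
theorem card_conjClasses_sylow_le_of_complement [Finite G] {p : ℕ} [Fact p.Prime] (P : Sylow p G)
    (N : Subgroup G) [hN : N.Normal] (hc : N.IsComplement' (P : Subgroup G)) :
    Nat.card (ConjClasses ↥(P : Subgroup G)) ≤ Nat.card (PCl p G) := by
  have hex : ∀ C : ConjClasses ↥(P : Subgroup G), ∃ x : ↥(P : Subgroup G), ConjClasses.mk x = C :=
    fun C => ConjClasses.exists_rep C
  choose ρ hρ using hex
  apply Nat.card_le_card_of_injective
    (fun C => (⟨ConjClasses.mk ((ρ C : ↥(P : Subgroup G)) : G),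
      forall_orderOf_of_mem_sylow P _ (ρ C).2⟩ : PCl p G))
  intro C C' h
  have h1 : ConjClasses.mk ((ρ C : ↥(P : Subgroup G)) : G) =
      ConjClasses.mk ((ρ C' : ↥(P : Subgroup G)) : G) := congrArg Subtype.val h
  rw [ConjClasses.mk_eq_mk_iff_isConj, isConj_iff] at h1
  obtain ⟨c, hcx⟩ := h1
  have hcmem : c ∈ N ⊔ (P : Subgroup G) := by rw [hc.sup_eq_top]; trivial
  obtain ⟨n, hn, u, hu, rfl⟩ := Subgroup.mem_sup_of_normal_left.mp hcmem
  obtain ⟨x, hx⟩ : ∃ x : G, x = ((ρ C : ↥(P : Subgroup G)) : G) := ⟨_, rfl⟩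
  obtain ⟨x', hx'⟩ : ∃ x' : G, x' = ((ρ C' : ↥(P : Subgroup G)) : G) := ⟨_, rfl⟩
  have hxP : x ∈ (P : Subgroup G) := by rw [hx]; exact (ρ C).2
  have hx'P : x' ∈ (P : Subgroup G) := by rw [hx']; exact (ρ C').2
  rw [← hx, ← hx'] at hcx
  have hx''P : u * x * u⁻¹ ∈ (P : Subgroup G) := mul_mem (mul_mem hu hxP) (inv_mem hu)
  have h3 : x' = n * (u * x * u⁻¹) * n⁻¹ := by rw [← hcx]; group
  have h4 : x' * (u * x * u⁻¹)⁻¹ ∈ N := by
    rw [h3]
    have : n * (u * x * u⁻¹) * n⁻¹ * (u * x * u⁻¹)⁻¹ =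
        n * ((u * x * u⁻¹) * n⁻¹ * (u * x * u⁻¹)⁻¹) := by group
    rw [this]
    exact mul_mem hn (hN.conj_mem n⁻¹ (inv_mem hn) _)
  have h5 : x' * (u * x * u⁻¹)⁻¹ ∈ (P : Subgroup G) := mul_mem hx'P (inv_mem hx''P)
  have h6 : x' * (u * x * u⁻¹)⁻¹ = 1 := by
    have := hc.disjoint.le_bot (Subgroup.mem_inf.mpr ⟨h4, h5⟩)
    exact Subgroup.mem_bot.mp this
  have h7 : x' = u * x * u⁻¹ := mul_inv_eq_one.mp h6
  rw [← hρ C, ← hρ C', ConjClasses.mk_eq_mk_iff_isConj, isConj_iff]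
  refine ⟨⟨u, hu⟩, Subtype.ext ?_⟩
  show u * ((ρ C : ↥(P : Subgroup G)) : G) * u⁻¹ = ((ρ C' : ↥(P : Subgroup G)) : G)
  rw [← hx, ← hx', h7]

/-- a Sylow `2`-subgroup `P ≠ 1` with `|P| < 2 k_2(G)` contains a nontrivial element which is
the only one of its conjugates in `P` -/
theorem exists_isolated_of_lt [Finite G] (P : Sylow 2 G) (hP : Nat.card (P : Subgroup G) ≠ 1)
    (h : Nat.card (P : Subgroup G) < 2 * Nat.card (PCl 2 G)) :
    ∃ x : G, x ∈ (P : Subgroup G) ∧ x ≠ 1 ∧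
      ∀ g : G, g * x * g⁻¹ ∈ (P : Subgroup G) → g * x * g⁻¹ = x := by
  classical
  have : Fact (Nat.Prime 2) := ⟨Nat.prime_two⟩
  by_contra hcon
  push Not at hcon
  let φ : ↥(P : Subgroup G) → PCl 2 G :=
    fun x => ⟨ConjClasses.mk (x : G), forall_orderOf_of_mem_sylow P x x.2⟩
  have hsurj : Function.Surjective φ := by
    intro c
    obtain ⟨y, hy⟩ := ConjClasses.exists_rep c.1
    obtain ⟨k, hk⟩ := c.2 y (by rw [← hy]; exact ConjClasses.mem_carrier_mk)
    obtain ⟨g, hg⟩ := exists_conj_mem_sylow P y k hk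
    refine ⟨⟨g * y * g⁻¹, hg⟩, Subtype.ext ?_⟩
    show ConjClasses.mk (g * y * g⁻¹) = c.1
    rw [← hy]
    exact ConjClasses.mk_eq_mk_iff_isConj.mpr (isConj_iff.mpr ⟨g⁻¹, by simp [mul_assoc]⟩)
  have : Fintype (PCl 2 G) := Fintype.ofFinite _
  have hcard : Nat.card ↥(P : Subgroup G) = ∑ c : PCl 2 G, Nat.card {x // φ x = c} := by
    rw [← Nat.card_congr (Equiv.sigmaFiberEquiv φ), Nat.card_sigma]
  have hfib : ∀ c : PCl 2 G, 2 ≤ Nat.card {x // φ x = c} + (if c = φ 1 then 1 else 0) := by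
    intro c
    obtain ⟨x, hx⟩ := hsurj c
    by_cases hc : c = φ 1
    · rw [if_pos hc]
      have : 0 < Nat.card {x // φ x = c} := Nat.card_pos_iff.mpr ⟨⟨⟨x, hx⟩⟩, inferInstance⟩
      omega
    · rw [if_neg hc, add_zero]
      have hx1 : (x : G) ≠ 1 := by
        intro h1
        apply hc
        rw [← hx]
        congr 1
        exact Subtype.ext h1
      obtain ⟨g, hg1, hg2⟩ := hcon x x.2 hx1
      have hnt : Nontrivial {x // φ x = c} := by
        refine ⟨⟨x, hx⟩, ⟨⟨g * x * g⁻¹, hg1⟩, ?_⟩, ?_⟩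
        · rw [← hx]
          apply Subtype.ext
          show ConjClasses.mk (g * (x : G) * g⁻¹) = ConjClasses.mk (x : G)
          exact ConjClasses.mk_eq_mk_iff_isConj.mpr (isConj_iff.mpr ⟨g⁻¹, by simp [mul_assoc]⟩)
        · intro heq
          apply hg2
          have := congrArg (fun t => ((t.1 : ↥(P : Subgroup G)) : G)) heq
          exact this.symm
      exact Finite.one_lt_card_iff_nontrivial.mpr hnt
  have hsum : 2 * Nat.card (PCl 2 G) ≤ Nat.card ↥(P : Subgroup G) + 1 := by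
    calc 2 * Nat.card (PCl 2 G) = ∑ _c : PCl 2 G, 2 := by
          rw [Finset.sum_const, Finset.card_univ, smul_eq_mul, Nat.card_eq_fintype_card, mul_comm]
      _ ≤ ∑ c : PCl 2 G, (Nat.card {x // φ x = c} + (if c = φ 1 then 1 else 0)) :=
          Finset.sum_le_sum (fun c _ => hfib c)
      _ = Nat.card ↥(P : Subgroup G) + 1 := by
          rw [Finset.sum_add_distrib, ← hcard, Finset.sum_ite_eq' Finset.univ (φ 1)]
          simp
  obtain ⟨n, hn⟩ := P.isPGroup'.exists_card_eq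
  have hn0 : n ≠ 0 := by
    rintro rfl
    exact hP (by rw [hn, pow_zero])
  obtain ⟨m, rfl⟩ := Nat.exists_eq_succ_of_ne_zero hn0
  rw [pow_succ] at hn
  omega

/-- lifting a normal `p`-complement through a central `p`-subgroup -/
theorem hasNPC_of_quotient_central [Finite G] {p : ℕ} [hp : Fact p.Prime] (N : Subgroup G)
    [hN : N.Normal] (hcent : N ≤ Subgroup.center G) (hNp : IsPGroup p N)
    (h : HasNormalPComplement p (G ⧸ N)) : HasNormalPComplement p G := by
  obtain ⟨K, hKn, hNK, ⟨k, hidx⟩, hcop, _⟩ :=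
    Cfsg.Agent.Lib.Helper9.exists_comap_of_hasNormalPComplement_quotient N h
  have hKq : IsPGroup p (G ⧸ K) := by
    apply IsPGroup.of_card (n := k)
    rw [← Subgroup.index_eq_card, hidx]
  apply Cfsg.Agent.Lib.Helper9.hasNormalPComplement_of_normal_of_isPGroup_quotient K hKq
  have hNp' : IsPGroup p (N.subgroupOf K) := hNp.comap_subtype
  have hidx' : ¬ p ∣ (N.subgroupOf K).index := by
    rw [← Nat.Prime.coprime_iff_not_dvd hp.out, Nat.coprime_comm]
    exact hcop
  set Q : Sylow p K := hNp'.toSylow hidx' with hQ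
  have hQc : (Q : Subgroup K) ≤ Subgroup.center K := by
    intro y hy
    rw [Subgroup.mem_center_iff]
    intro g
    have hyN : (y : G) ∈ N := Subgroup.mem_subgroupOf.mp hy
    have := Subgroup.mem_center_iff.mp (hcent hyN) (g : G)
    exact Subtype.ext this
  obtain ⟨C, hCn, hC⟩ := Cfsg.Agent.Lib.Helper34.exists_normal_complement_of_sylow_le_center Q hQc
  exact ⟨Q, C, hCn, hC⟩

lemma pCl_two_iff [Finite G] (c : ConjClasses G) :
    (∀ x ∈ c.carrier, ∃ k : ℕ, orderOf x = 2 ^ k) ↔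
    (∀ q : ℕ, q.Prime → (∃ g : G, ConjClasses.mk g = c ∧ q ∣ orderOf g) → q ∈ ({2} : Set ℕ)) := by
  constructor
  · rintro h q hq ⟨g, hg, hqg⟩
    obtain ⟨k, hk⟩ := h g (by rw [← hg]; exact ConjClasses.mem_carrier_mk)
    rw [hk] at hqg
    exact (Nat.prime_dvd_prime_iff_eq hq Nat.prime_two).mp (hq.dvd_of_dvd_pow hqg)
  · intro h x hx
    have hx' : ConjClasses.mk x = c := ConjClasses.mem_carrier_iff_mk_eq.mp hx
    refine ⟨_, Nat.eq_prime_pow_of_unique_prime_dvd (orderOf_pos x).ne' ?_⟩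
    intro d hd hdx
    exact h d hd ⟨x, hx', hdx⟩

lemma card_PCl_two_eq [Finite G] : Nat.card (PCl 2 G) = Nat.card (KPi ({2} : Set ℕ) G) :=
  Nat.card_congr (Equiv.subtypeEquivRight (fun c => pCl_two_iff c))

/-- the hypothesis `|G|_2 < 2 k_2(G)` passes to quotients -/
lemma two_quotient_step [Finite G] (N : Subgroup G) [N.Normal]
    (hlt : 2 ^ (Nat.card G).factorization 2 < 2 * Nat.card (PCl 2 G)) :
    2 ^ (Nat.card (G ⧸ N)).factorization 2 < 2 * Nat.card (PCl 2 (G ⧸ N)) := by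
  have : Fact (Nat.Prime 2) := ⟨Nat.prime_two⟩
  have h1 := card_KPi_le_mul N ({2} : Set ℕ)
  rw [← card_PCl_two_eq, ← card_PCl_two_eq, ← card_PCl_two_eq] at h1
  have h2 : Nat.card (PCl 2 N) ≤ 2 ^ (Nat.card N).factorization 2 := card_PCl_le 2
  have hG : Nat.card G = Nat.card (G ⧸ N) * Nat.card N :=
    Subgroup.card_eq_card_quotient_mul_card_subgroup N
  have hfac : (Nat.card G).factorization 2 =
      (Nat.card (G ⧸ N)).factorization 2 + (Nat.card N).factorization 2 := by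
    rw [hG, Nat.factorization_mul Nat.card_pos.ne' Nat.card_pos.ne']; rfl
  rw [hfac, pow_add] at hlt
  have hb : 0 < 2 ^ (Nat.card N).factorization 2 := pow_pos two_pos _
  have h3 : 2 ^ (Nat.card (G ⧸ N)).factorization 2 * 2 ^ (Nat.card N).factorization 2 <
      (2 * Nat.card (PCl 2 (G ⧸ N))) * 2 ^ (Nat.card N).factorization 2 :=
    calc 2 ^ (Nat.card (G ⧸ N)).factorization 2 * 2 ^ (Nat.card N).factorization 2
        < 2 * Nat.card (PCl 2 G) := hlt
      _ ≤ 2 * (Nat.card (PCl 2 N) * Nat.card (PCl 2 (G ⧸ N))) := Nat.mul_le_mul_left _ h1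
      _ ≤ 2 * (2 ^ (Nat.card N).factorization 2 * Nat.card (PCl 2 (G ⧸ N))) :=
          Nat.mul_le_mul_left _ (Nat.mul_le_mul_right _ h2)
      _ = (2 * Nat.card (PCl 2 (G ⧸ N))) * 2 ^ (Nat.card N).factorization 2 := by ring
  exact Nat.lt_of_mul_lt_mul_right h3

/-- **`k_2(G) > |P|/2` forces a normal `2`-complement** (given the `Z*`-theorem for elements) -/
theorem hasNPC_two_of_lt (hZ : ZStarEltStatement.{u}) : ∀ (n : ℕ) (G : Type u) [Group G] [Finite G],
    Nat.card G = n → 2 ^ (Nat.card G).factorization 2 < 2 * Nat.card (PCl 2 G) →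
    HasNormalPComplement 2 G := by
  intro n
  induction n using Nat.strong_induction_on with
  | _ n ih =>
  intro G _ _ hn hlt
  have : Fact (Nat.Prime 2) := ⟨Nat.prime_two⟩
  obtain ⟨P⟩ : Nonempty (Sylow 2 G) := inferInstance
  have hPcard : Nat.card (P : Subgroup G) = 2 ^ (Nat.card G).factorization 2 :=
    P.card_eq_multiplicity
  by_cases hP1 : Nat.card (P : Subgroup G) = 1
  · apply Cfsg.Agent.Lib.Helper34.hasNPC_of_card_coprime
    rw [hPcard] at hP1
    have h0 : (Nat.card G).factorization 2 = 0 := by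
      by_contra h0
      have : 2 ^ 1 ≤ 2 ^ (Nat.card G).factorization 2 :=
        Nat.pow_le_pow_right two_pos (Nat.one_le_iff_ne_zero.mpr h0)
      omega
    rw [Nat.coprime_comm, Nat.Prime.coprime_iff_not_dvd Nat.prime_two]
    intro hdvd
    have := Nat.Prime.factorization_pos_of_dvd Nat.prime_two Nat.card_pos.ne' hdvd
    omega
  · obtain ⟨x, hxP, hx1, hxiso⟩ := exists_isolated_of_lt P hP1 (by rw [hPcard]; exact hlt)
    have hcomm := hZ G P x hxP hxiso
    by_cases hNbot : Cfsg.oddCore G = ⊥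
    · have hxc : x ∈ Subgroup.center G := by
        rw [Subgroup.mem_center_iff]
        intro g
        have h1 := hcomm g
        rw [hNbot, Subgroup.mem_bot] at h1
        have h2 : x * g * x⁻¹ * g⁻¹ * (g * x) = g * x := by rw [h1, one_mul]
        rw [← h2]; group
      set A : Subgroup G := Subgroup.zpowers x with hA
      have hAc : A ≤ Subgroup.center G := by
        rw [hA, Subgroup.zpowers_le]; exact hxc
      have hAn : A.Normal := ⟨fun a ha g => by
        have := Subgroup.mem_center_iff.mp (hAc ha) g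
        have h2 : g * a * g⁻¹ = a := by rw [this]; group
        rw [h2]; exact ha⟩
      have hAp : IsPGroup 2 A :=
        P.isPGroup'.to_le (by rw [hA, Subgroup.zpowers_le]; exact hxP)
      have hAne : A ≠ ⊥ := by
        rw [hA, Ne, Subgroup.zpowers_eq_bot]; exact hx1
      have hlt' := two_quotient_step A hlt
      have hcardlt : Nat.card (G ⧸ A) < n := by
        rw [← hn, Subgroup.card_eq_card_quotient_mul_card_subgroup A]
        have h1 : 1 < Nat.card A := (Subgroup.one_lt_card_iff_ne_bot A).mpr hAne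
        have h2 : 0 < Nat.card (G ⧸ A) := Nat.card_pos
        nlinarith
      exact hasNPC_of_quotient_central A hAc hAp (ih _ hcardlt (G ⧸ A) rfl hlt')
    · have hlt' := two_quotient_step (Cfsg.oddCore G) hlt
      have hcardlt : Nat.card (G ⧸ Cfsg.oddCore G) < n := by
        rw [← hn, Subgroup.card_eq_card_quotient_mul_card_subgroup (Cfsg.oddCore G)]
        have h1 : 1 < Nat.card (Cfsg.oddCore G) := (Subgroup.one_lt_card_iff_ne_bot (Cfsg.oddCore G)).mpr hNbot
        have h2 : 0 < Nat.card (G ⧸ Cfsg.oddCore G) := Nat.card_pos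
        nlinarith
      exact Cfsg.Agent.Lib.Helper34.hasNPC_of_quotient_coprime (Cfsg.oddCore G)
        (Cfsg.Agent.Lib.Helper97.card_pPrimeCore_coprime 2)
        (ih _ hcardlt (G ⧸ Cfsg.oddCore G) rfl hlt')

/-- the statement of S3895, given the `Z*`-theorem for elements -/
theorem two_classes_iff (hZ : ZStarEltStatement.{u}) [Finite G] (P : Sylow 2 G) :
    Nat.card ↥(P : Subgroup G) < 2 * Nat.card {c : ConjClasses G // ∀ x ∈ c.carrier, ∃ k : ℕ, orderOf x = 2 ^ k} ↔
      Cfsg.HasNormalPComplement 2 G ∧ Nat.card ↥(P : Subgroup G) < 2 * Nat.card (ConjClasses ↥(P : Subgroup G)) := by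
  have : Fact (Nat.Prime 2) := ⟨Nat.prime_two⟩
  constructor
  · intro h
    refine ⟨hasNPC_two_of_lt hZ _ G rfl (by rw [← P.card_eq_multiplicity]; exact h), ?_⟩
    exact lt_of_lt_of_le h (Nat.mul_le_mul_left _ (card_PCl_le_card_conjClasses_sylow P))
  · rintro ⟨hnpc, hk⟩
    obtain ⟨N, hN, hc⟩ := Cfsg.Agent.Lib.Helper2.exists_normal_complement_of_hasNormalPComplement hnpc P
    exact lt_of_lt_of_le hk (Nat.mul_le_mul_left _ (card_conjClasses_sylow_le_of_complement P N hc))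

end TwoHalf

end Cfsg.Agent.Lib.Helper65
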