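import Mathlib
import Cfsg.Prelude
import Cfsg.Agent.Lib.Helper65.TwoHalf

/-!
Groups with more than `|G|_π/2` classes of `π`-elements (`2 ∈ π`) have a normal `π`-complement and an
abelian Hall `π ∖ {2}`-subgroup (conditional on the `Z*`-theorem for weakly closed `2`-elements).
-/

set_option autoImplicit false

namespace Cfsg.Agent.Lib.Helper65

open Cfsg
open scoped commutatorElement

section PiHalf

universe u

variable {G : Type u} [Group G]

attribute [local instance] normalizerConjAction in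
/-- **General orbit counting bound**: with `j = |N_G(P) : C_G(P)|`,
`p j k_p(G) ≤ (p + j - 1) |P|`. -/
theorem card_pClasses_relIndex_le [Finite G] {p : ℕ} [hp : Fact p.Prime] (P : Sylow p G) :
    p * Nat.card (PCl p G) * (Subgroup.centralizer ((P : Subgroup G) : Set G)).relIndex
        (Subgroup.normalizer ((P : Subgroup G) : Set G)) + Nat.card (P : Subgroup G) ≤
      (p + (Subgroup.centralizer ((P : Subgroup G) : Set G)).relIndex
        (Subgroup.normalizer ((P : Subgroup G) : Set G))) * Nat.card (P : Subgroup G) := by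
  classical
  have hpp : p.Prime := hp.out
  have hle := card_pClasses_le_card_orbits P
  set A := Subgroup.normalizer ((P : Subgroup G) : Set G) with hA
  have : Fintype A := Fintype.ofFinite A
  have : Fintype (P : Subgroup G) := Fintype.ofFinite _
  have : Fintype (MulAction.orbitRel.Quotient A (P : Subgroup G)) := Fintype.ofFinite _
  have hB := MulAction.sum_card_fixedBy_eq_card_orbits_mul_card_group A (P : Subgroup G)
  set C : Subgroup A := (Subgroup.centralizer ((P : Subgroup G) : Set G)).subgroupOf A with hC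
  have hj : (Subgroup.centralizer ((P : Subgroup G) : Set G)).relIndex A = C.index := rfl
  rw [hj]
  -- fixed points form a subgroup
  have hfixcard : ∀ a : A, Fintype.card (MulAction.fixedBy (P : Subgroup G) a) =
      Nat.card ((Subgroup.centralizer ({(a : G)} : Set G)).subgroupOf (P : Subgroup G)) := by
    intro a
    rw [← Nat.card_eq_fintype_card]
    apply Nat.card_congr
    apply Equiv.setCongr
    ext x
    rw [MulAction.mem_fixedBy, SetLike.mem_coe, Subgroup.mem_subgroupOf,
      Subgroup.mem_centralizer_singleton_iff]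
    constructor
    · intro hx
      have h1 : (a : G) * x * (a : G)⁻¹ = x := congrArg Subtype.val hx
      calc (x : G) * a = ((a : G) * x * (a : G)⁻¹) * a := by rw [h1]
        _ = a * x := by group
    · intro hx
      apply Subtype.ext
      show (a : G) * x * (a : G)⁻¹ = x
      rw [← hx]; group
  have hfix1 : ∀ a : A, Fintype.card (MulAction.fixedBy (P : Subgroup G) a) ≤
      Nat.card (P : Subgroup G) := by
    intro a
    rw [hfixcard]
    exact Subgroup.card_le_card_group _
  have hfix2 : ∀ a : A, a ∉ C → p * Fintype.card (MulAction.fixedBy (P : Subgroup G) a) ≤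
      Nat.card (P : Subgroup G) := by
    intro a ha
    rw [hfixcard]
    set F := (Subgroup.centralizer ({(a : G)} : Set G)).subgroupOf (P : Subgroup G) with hF
    have hFne : F ≠ ⊤ := by
      intro hFtop
      apply ha
      rw [hC, Subgroup.mem_subgroupOf, Subgroup.mem_centralizer_iff]
      intro x hx
      have : (⟨x, hx⟩ : (P : Subgroup G)) ∈ F := by rw [hFtop]; trivial
      rw [hF, Subgroup.mem_subgroupOf, Subgroup.mem_centralizer_singleton_iff] at this
      exact this
    obtain ⟨j, hj⟩ := (P.isPGroup').index F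
    have hj0 : j ≠ 0 := by
      rintro rfl
      rw [pow_zero] at hj
      exact hFne (Subgroup.index_eq_one.mp hj)
    have h1 := F.card_mul_index
    rw [← h1, hj, mul_comm]
    apply Nat.mul_le_mul_left
    calc p = p ^ 1 := (pow_one p).symm
      _ ≤ p ^ j := Nat.pow_le_pow_right hpp.pos (Nat.one_le_iff_ne_zero.mpr hj0)
  -- the sum
  set nP := Nat.card (P : Subgroup G) with hnP
  have hsum : ∑ a : A, p * Fintype.card (MulAction.fixedBy (P : Subgroup G) a) ≤
      ∑ a : A, (if a ∈ C then p * nP else nP) := by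
    apply Finset.sum_le_sum
    intro a _
    split_ifs with ha
    · exact Nat.mul_le_mul_left _ (hfix1 a)
    · exact hfix2 a ha
  rw [← Finset.mul_sum, hB, Finset.sum_ite, Finset.sum_const, Finset.sum_const, smul_eq_mul, smul_eq_mul]
    at hsum
  have hcardC : (Finset.univ.filter (fun a : A => a ∈ C)).card = Nat.card C := by
    rw [Nat.card_eq_fintype_card, Fintype.card_subtype]
  have hcardA : (Finset.univ.filter (fun a : A => a ∈ C)).card +
      (Finset.univ.filter (fun a : A => ¬ a ∈ C)).card = Nat.card A := by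
    rw [Finset.card_filter_add_card_filter_not, Finset.card_univ, Nat.card_eq_fintype_card]
  rw [hcardC] at hsum hcardA
  set nC := Nat.card C with hnC
  set m := (Finset.univ.filter (fun a : A => ¬ a ∈ C)).card with hm
  set orb := Fintype.card (MulAction.orbitRel.Quotient A (P : Subgroup G)) with horb
  have hA' : Fintype.card A = nC + m := by rw [← Nat.card_eq_fintype_card]; exact hcardA.symm
  rw [hA'] at hsum
  have horb' : Nat.card (Quotient (MulAction.orbitRel A (P : Subgroup G))) = orb := by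
    rw [horb, Nat.card_eq_fintype_card]
  rw [horb'] at hle
  have hnCpos : 0 < nC := Nat.card_pos
  have hidx : nC * C.index = nC + m := by
    rw [hnC, C.card_mul_index, hcardA]
  set j := C.index with hjdef
  set kk := Nat.card (PCl p G) with hkk
  -- hsum : p * (orb * (nC + m)) ≤ nC * (p * nP) + m * nP
  have hmain : nC * (p * kk * j + nP) ≤ nC * ((p + j) * nP) := by
    have h1 : nC * (p * kk * j) ≤ nC * (p * orb * j) :=
      Nat.mul_le_mul_left _ (Nat.mul_le_mul_right _ (Nat.mul_le_mul_left _ hle))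
    have h2 : nC * (p * orb * j) = p * (orb * (nC + m)) := by rw [← hidx]; ring
    have h3 : nC * ((p + j) * nP) = nC * (p * nP) + (nC + m) * nP := by rw [← hidx]; ring
    rw [h3]
    calc nC * (p * kk * j + nP) = nC * (p * kk * j) + nC * nP := by ring
      _ ≤ p * (orb * (nC + m)) + nC * nP := by rw [← h2]; exact Nat.add_le_add_right h1 _
      _ ≤ (nC * (p * nP) + m * nP) + nC * nP := Nat.add_le_add_right hsum _
      _ = nC * (p * nP) + (nC + m) * nP := by ring
  exact Nat.le_of_mul_le_mul_left hmain hnCpos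

/-- `|N_G(P) : C_G(P)|` is never equal to `p` -/
lemma relIndex_centralizer_ne_prime [Finite G] {p : ℕ} [hp : Fact p.Prime] (P : Sylow p G) :
    (Subgroup.centralizer ((P : Subgroup G) : Set G)).relIndex
        (Subgroup.normalizer ((P : Subgroup G) : Set G)) ≠ p := by
  intro hj
  set A := Subgroup.normalizer ((P : Subgroup G) : Set G) with hA
  have hker : (P : Subgroup G).normalizerMonoidHom.ker =
      (Subgroup.centralizer ((P : Subgroup G) : Set G)).subgroupOf A :=
    Subgroup.normalizerMonoidHom_ker _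
  have hcard : Nat.card (↥A ⧸ (P : Subgroup G).normalizerMonoidHom.ker) = p := by
    rw [← Subgroup.index_eq_card, hker]; exact hj
  have hcyc : IsCyclic (↥A ⧸ (P : Subgroup G).normalizerMonoidHom.ker) := isCyclic_of_prime_card hcard
  let f : ↥(P : Subgroup G) →* ↥A ⧸ (P : Subgroup G).normalizerMonoidHom.ker :=
    (QuotientGroup.mk' _).comp (Subgroup.inclusion Subgroup.le_normalizer)
  have hfker : f.ker ≤ Subgroup.center ↥(P : Subgroup G) := by
    intro x hx
    rw [MonoidHom.mem_ker] at hx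
    have h1 : (Subgroup.inclusion Subgroup.le_normalizer x : A) ∈
        (P : Subgroup G).normalizerMonoidHom.ker := (QuotientGroup.eq_one_iff _).mp hx
    rw [hker, Subgroup.mem_subgroupOf, Subgroup.mem_centralizer_iff] at h1
    rw [Subgroup.mem_center_iff]
    intro y
    exact Subtype.ext (h1 y y.2)
  have hcomm' := MonoidHom.isMulCommutative_of_isCyclic_of_ker_le_center f hfker
  have hcomm : ∀ a b : ↥(P : Subgroup G), a * b = b * a := fun a b => mul_comm' a b
  have hPC : (P : Subgroup G) ≤ Subgroup.centralizer ((P : Subgroup G) : Set G) := by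
    intro x hx
    rw [Subgroup.mem_centralizer_iff]
    intro y hy
    exact congrArg Subtype.val (hcomm ⟨y, hy⟩ ⟨x, hx⟩)
  have h1 : (Subgroup.centralizer ((P : Subgroup G) : Set G)).relIndex A ∣
      (P : Subgroup G).relIndex A := Subgroup.relIndex_dvd_of_le_left A hPC
  have h2 : (P : Subgroup G).relIndex A ∣ (P : Subgroup G).index :=
    Subgroup.relIndex_dvd_index_of_le Subgroup.le_normalizer
  rw [hj] at h1
  exact P.not_dvd_index (h1.trans h2)

/-- the arithmetic behind `normalizer_le_centralizer_of_odd` -/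
lemma arith_odd (p j nP kk : ℕ) (hpp : p.Prime) (hp3 : 3 ≤ p) (hjodd : Odd j) (hne : j ≠ p)
    (hnPpos : 0 < nP) (h : nP < 2 * kk) (hmain : p * kk * j + nP ≤ (p + j) * nP) : j = 1 := by
  by_contra hj1
  have hj3 : 3 ≤ j := by
    obtain ⟨t, ht⟩ := hjodd
    omega
  by_cases hbig : 5 ≤ p ∨ 5 ≤ j
  · have h1 : p * j * (nP + 1) ≤ 2 * (p * kk * j) := by
      have : nP + 1 ≤ 2 * kk := h
      calc p * j * (nP + 1) ≤ p * j * (2 * kk) := Nat.mul_le_mul_left _ this
        _ = 2 * (p * kk * j) := by ring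
    have h2 : p * j * (nP + 1) + 2 * nP ≤ 2 * ((p + j) * nP) := by omega
    have hpj : 2 * p + 2 * j ≤ p * j + 1 := by
      obtain ⟨a, rfl⟩ : ∃ a, p = a + 3 := ⟨p - 3, by omega⟩
      obtain ⟨b, rfl⟩ : ∃ b, j = b + 3 := ⟨j - 3, by omega⟩
      have hab : 2 ≤ a ∨ 2 ≤ b := by omega
      have hab2 : 2 ≤ a * b + a + b := by
        rcases hab with hab | hab
        · have := Nat.zero_le (a * b); omega
        · have := Nat.zero_le (a * b); omega
      nlinarith
    have h3 : (2 * p + 2 * j) * nP ≤ (p * j + 1) * nP := Nat.mul_le_mul_right _ hpj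
    nlinarith
  · push Not at hbig
    obtain ⟨hp5, hj5⟩ := hbig
    have hp' : p = 3 := by
      interval_cases p
      · rfl
      · exact absurd hpp (by norm_num)
    have hj' : j = 3 := by
      obtain ⟨t, ht⟩ := hjodd
      omega
    exact hne (by rw [hj', hp'])

/-- in a group of odd order, `|P| < 2 k_p(G)` forces `N_G(P) = C_G(P)` -/
theorem normalizer_le_centralizer_of_odd [Finite G] (hodd : Odd (Nat.card G)) {p : ℕ}
    [hp : Fact p.Prime] (hp2 : p ≠ 2) (P : Sylow p G)
    (h : Nat.card (P : Subgroup G) < 2 * Nat.card (PCl p G)) :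
    Subgroup.normalizer ((P : Subgroup G) : Set G) ≤
      Subgroup.centralizer ((P : Subgroup G) : Set G) := by
  have hpp : p.Prime := hp.out
  have hmain := card_pClasses_relIndex_le P
  have hne := relIndex_centralizer_ne_prime P
  rw [← Subgroup.relIndex_eq_one]
  have hjodd : Odd ((Subgroup.centralizer ((P : Subgroup G) : Set G)).relIndex
        (Subgroup.normalizer ((P : Subgroup G) : Set G))) := by
    have h1 : (Subgroup.centralizer ((P : Subgroup G) : Set G)).relIndex
        (Subgroup.normalizer ((P : Subgroup G) : Set G)) ∣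
        Nat.card (Subgroup.normalizer ((P : Subgroup G) : Set G)) :=
      Subgroup.index_dvd_card _
    have h2 : Nat.card (Subgroup.normalizer ((P : Subgroup G) : Set G)) ∣ Nat.card G :=
      Subgroup.card_subgroup_dvd_card _
    exact Odd.of_dvd_nat hodd (h1.trans h2)
  have hp3 : 3 ≤ p := by
    have := hpp.two_le
    omega
  exact arith_odd p _ _ _ hpp hp3 hjodd hne Nat.card_pos h hmain

/-- `k_{σ ∪ {r}}(G) ≤ |G|_σ k_r(G)` -/
lemma card_PiCl_le_mul_PCl [Finite G] (σ : Finset ℕ) (hσ : ∀ q ∈ σ, q.Prime) (r : ℕ) (hr : r.Prime)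
    (hrσ : r ∉ σ) :
    Nat.card (PiCl (insert r σ) G) ≤
      (∏ q ∈ σ, q ^ (Nat.card G).factorization q) * Nat.card (PCl r G) := by
  have hB : ∀ y : G, Nat.card (PiCl σ ↥(Subgroup.centralizer ({y} : Set G))) ≤
      ∏ q ∈ σ, q ^ (Nat.card G).factorization q := by
    intro y
    refine (card_PiCl_le σ hσ ↥(Subgroup.centralizer ({y} : Set G))).trans ?_
    apply Finset.prod_le_prod (fun _ _ => Nat.zero_le _)
    intro q hq
    apply Nat.pow_le_pow_right (hσ q hq).pos
    have hdvd : Nat.card ↥(Subgroup.centralizer ({y} : Set G)) ∣ Nat.card G :=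
      Subgroup.card_subgroup_dvd_card _
    exact (Nat.factorization_le_iff_dvd Nat.card_pos.ne' Nat.card_pos.ne').mpr hdvd q
  exact card_PiCl_insert_le r hr σ hrσ _ hB

/-- `|G|_π < 2 k_π(G)` implies `|G|_p < 2 k_p(G)` for every `p ∈ π` -/
lemma half_prime [Finite G] (π : Finset ℕ) (hπ : ∀ r ∈ π, r.Prime)
    (hk : ∏ r ∈ π, r ^ (Nat.card G).factorization r < 2 * Nat.card (PiCl π G)) (p : ℕ)
    (hp : p ∈ π) : p ^ (Nat.card G).factorization p < 2 * Nat.card (PCl p G) := by
  have hpp := hπ p hp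
  have h1 := card_PiCl_le_mul_PCl (G := G) (π.erase p)
    (fun q hq => hπ q (Finset.mem_of_mem_erase hq)) p hpp (Finset.notMem_erase p π)
  rw [Finset.insert_erase hp] at h1
  rw [← Finset.mul_prod_erase π _ hp] at hk
  have hBpos : 0 < ∏ q ∈ π.erase p, q ^ (Nat.card G).factorization q :=
    Finset.prod_pos (fun q hq => pow_pos (hπ q (Finset.mem_of_mem_erase hq)).pos _)
  have h3 : (∏ q ∈ π.erase p, q ^ (Nat.card G).factorization q) * p ^ (Nat.card G).factorization p <
      (∏ q ∈ π.erase p, q ^ (Nat.card G).factorization q) * (2 * Nat.card (PCl p G)) :=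
    calc (∏ q ∈ π.erase p, q ^ (Nat.card G).factorization q) * p ^ (Nat.card G).factorization p
        = p ^ (Nat.card G).factorization p * ∏ q ∈ π.erase p, q ^ (Nat.card G).factorization q :=
          mul_comm _ _
      _ < 2 * Nat.card (PiCl π G) := hk
      _ ≤ 2 * ((∏ q ∈ π.erase p, q ^ (Nat.card G).factorization q) * Nat.card (PCl p G)) :=
          Nat.mul_le_mul_left _ h1
      _ = (∏ q ∈ π.erase p, q ^ (Nat.card G).factorization q) * (2 * Nat.card (PCl p G)) := by ring
  exact Nat.lt_of_mul_lt_mul_left h3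

lemma piCl_iff (σ : Finset ℕ) (c : ConjClasses G) :
    (∀ x ∈ c.carrier, ∀ q : ℕ, q.Prime → q ∣ orderOf x → q ∈ σ) ↔
    (∀ q : ℕ, q.Prime → (∃ g : G, ConjClasses.mk g = c ∧ q ∣ orderOf g) → q ∈ (↑σ : Set ℕ)) := by
  constructor
  · rintro h q hq ⟨g, hg, hqg⟩
    exact Finset.mem_coe.mpr (h g (by rw [← hg]; exact ConjClasses.mem_carrier_mk) q hq hqg)
  · intro h x hx q hq hqx
    exact Finset.mem_coe.mp (h q hq ⟨x, ConjClasses.mem_carrier_iff_mk_eq.mp hx, hqx⟩)

lemma card_PiCl_eq (σ : Finset ℕ) : Nat.card (PiCl σ G) = Nat.card (KPi (↑σ : Set ℕ) G) :=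
  Nat.card_congr (Equiv.subtypeEquivRight (fun c => piCl_iff σ c))

/-- `|G|_π < 2 k_π(G)` passes to normal subgroups -/
lemma half_normal [Finite G] (π : Finset ℕ) (hπ : ∀ r ∈ π, r.Prime)
    (hk : ∏ r ∈ π, r ^ (Nat.card G).factorization r < 2 * Nat.card (PiCl π G))
    (K : Subgroup G) [K.Normal] :
    ∏ r ∈ π, r ^ (Nat.card K).factorization r < 2 * Nat.card (PiCl π K) := by
  have h1 := card_KPi_le_mul K (↑π : Set ℕ)
  rw [← card_PiCl_eq, ← card_PiCl_eq, ← card_PiCl_eq] at h1
  have h2 := card_PiCl_le π hπ (G ⧸ K)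
  have hG : Nat.card G = Nat.card (G ⧸ K) * Nat.card K :=
    Subgroup.card_eq_card_quotient_mul_card_subgroup K
  have hprod : ∏ r ∈ π, r ^ (Nat.card G).factorization r =
      (∏ r ∈ π, r ^ (Nat.card (G ⧸ K)).factorization r) *
        ∏ r ∈ π, r ^ (Nat.card K).factorization r := by
    rw [← Finset.prod_mul_distrib]
    apply Finset.prod_congr rfl
    intro r _
    rw [hG, Nat.factorization_mul Nat.card_pos.ne' Nat.card_pos.ne', Finsupp.coe_add, Pi.add_apply,
      pow_add]
  rw [hprod] at hk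
  have hQpos : 0 < ∏ r ∈ π, r ^ (Nat.card (G ⧸ K)).factorization r :=
    Finset.prod_pos (fun q hq => pow_pos (hπ q hq).pos _)
  have h3 : (∏ r ∈ π, r ^ (Nat.card (G ⧸ K)).factorization r) *
      ∏ r ∈ π, r ^ (Nat.card K).factorization r <
      (∏ r ∈ π, r ^ (Nat.card (G ⧸ K)).factorization r) * (2 * Nat.card (PiCl π K)) :=
    calc (∏ r ∈ π, r ^ (Nat.card (G ⧸ K)).factorization r) *
        ∏ r ∈ π, r ^ (Nat.card K).factorization r < 2 * Nat.card (PiCl π G) := hk
      _ ≤ 2 * (Nat.card (PiCl π K) * Nat.card (PiCl π (G ⧸ K))) := Nat.mul_le_mul_left _ h1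
      _ ≤ 2 * (Nat.card (PiCl π K) * ∏ r ∈ π, r ^ (Nat.card (G ⧸ K)).factorization r) :=
          Nat.mul_le_mul_left _ (Nat.mul_le_mul_left _ h2)
      _ = (∏ r ∈ π, r ^ (Nat.card (G ⧸ K)).factorization r) * (2 * Nat.card (PiCl π K)) := by ring
  exact Nat.lt_of_mul_lt_mul_left h3

/-- the (characteristic) normal `p`-complement of an odd-order group with `|K|_p < 2 k_p(K)` -/
lemma exists_char_compl_of_odd (K : Type u) [Group K] [Finite K] (hodd : Odd (Nat.card K)) {p : ℕ}
    [hp : Fact p.Prime] (hp2 : p ≠ 2)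
    (h : p ^ (Nat.card K).factorization p < 2 * Nat.card (PCl p K)) :
    ∃ Y : Subgroup K, Y.Characteristic ∧ (Nat.card Y).Coprime p ∧ (∃ k : ℕ, Y.index = p ^ k) ∧
      commutator K ≤ Y := by
  obtain ⟨Q⟩ : Nonempty (Sylow p K) := inferInstance
  have hQcard := Q.card_eq_multiplicity
  have hle := normalizer_le_centralizer_of_odd hodd hp2 Q (by rw [hQcard]; exact h)
  have hcompl : Subgroup.IsComplement' (MonoidHom.transferSylow Q hle).ker (Q : Subgroup K) :=
    MonoidHom.ker_transferSylow_isComplement' Q hle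
  have hcop : (Nat.card (MonoidHom.transferSylow Q hle).ker).Coprime p :=
    Cfsg.Agent.Lib.Helper34.card_coprime_of_isComplement' Q _ hcompl
  obtain ⟨k, hk⟩ := Q.isPGroup'.exists_card_eq
  have hidx : (MonoidHom.transferSylow Q hle).ker.index = p ^ k := by
    rw [hcompl.symm.index_eq_card, hk]
  refine ⟨(MonoidHom.transferSylow Q hle).ker, ?_, hcop, ⟨k, hidx⟩, ?_⟩
  · rw [Subgroup.characteristic_iff_map_le]
    intro ϕ
    apply Cfsg.Agent.Lib.Helper34.le_of_card_coprime_of_index_pow _ hidx
    rw [Subgroup.card_map_of_injective ϕ.injective]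
    exact hcop
  · have hQcomm : ∀ a b : ↥(Q : Subgroup K), a * b = b * a := by
      intro a b
      have h1 : (b : K) ∈ Subgroup.centralizer ((Q : Subgroup K) : Set K) :=
        hle (Subgroup.le_normalizer b.2)
      rw [Subgroup.mem_centralizer_iff] at h1
      exact Subtype.ext (h1 a a.2)
    rw [commutator_def, Subgroup.commutator_le]
    intro a _ b _
    rw [MonoidHom.mem_ker, map_commutatorElement, commutatorElement_eq_one_iff_mul_comm]
    exact hQcomm _ _

/-- the characteristic normal `σ`-complement of an odd-order group, `σ` a set of odd primes with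
`|K|_q < 2 k_q(K)` for `q ∈ σ`; the quotient is abelian -/
lemma exists_char_pi_compl (K : Type u) [Group K] [Finite K] (hodd : Odd (Nat.card K))
    (σ : Finset ℕ)
    (hσ : ∀ q ∈ σ, q.Prime ∧ q ≠ 2 ∧ q ^ (Nat.card K).factorization q < 2 * Nat.card (PCl q K)) :
    ∃ Y : Subgroup K, Y.Characteristic ∧ (∀ q ∈ σ, (Nat.card Y).Coprime q) ∧
      (∀ r : ℕ, r.Prime → r ∣ Y.index → r ∈ σ) ∧ commutator K ≤ Y := by
  induction σ using Finset.induction_on with
  | empty =>
    refine ⟨⊤, inferInstance, by simp, ?_, le_top⟩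
    intro r hr hdvd
    rw [Subgroup.index_top] at hdvd
    exact absurd (Nat.dvd_one.mp hdvd) hr.ne_one
  | insert p σ hpσ ih =>
    obtain ⟨Y, hYc, hYcop, hYidx, hYcomm⟩ := ih (fun q hq => hσ q (Finset.mem_insert_of_mem hq))
    obtain ⟨hpp, hp2, hpk⟩ := hσ p (Finset.mem_insert_self p σ)
    have : Fact p.Prime := ⟨hpp⟩
    obtain ⟨Z, hZc, hZcop, ⟨k, hZidx⟩, hZcomm⟩ := exists_char_compl_of_odd K hodd hp2 hpk
    refine ⟨Y ⊓ Z, inferInstance, ?_, ?_, le_inf hYcomm hZcomm⟩
    · intro q hq
      rcases Finset.mem_insert.mp hq with rfl | hq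
      · exact Nat.Coprime.coprime_dvd_left (Subgroup.card_dvd_of_le inf_le_right) hZcop
      · exact Nat.Coprime.coprime_dvd_left (Subgroup.card_dvd_of_le inf_le_left) (hYcop q hq)
    · intro r hr hdvd
      have h1 : (Y ⊓ Z).index = Z.relIndex Y * Y.index := by
        rw [← Subgroup.inf_relIndex_left, Subgroup.relIndex_mul_index inf_le_left]
      rw [h1] at hdvd
      rcases (Nat.Prime.dvd_mul hr).mp hdvd with h | h
      · have h2 : r ∣ p ^ k := by
          rw [← hZidx]; exact h.trans (Subgroup.relIndex_dvd_index_of_normal Z Y)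
        have h3 := (Nat.prime_dvd_prime_iff_eq hr hpp).mp (hr.dvd_of_dvd_pow h2)
        rw [h3]; exact Finset.mem_insert_self _ _
      · exact Finset.mem_insert_of_mem (hYidx r hr h)

/-- the statement of S3898, given the `Z*`-theorem for elements -/
theorem pi_half (hZ : ZStarEltStatement.{u}) [Finite G] (π : Finset ℕ) (hπ : ∀ r ∈ π, r.Prime)
    (h2 : 2 ∈ π)
    (hk : π.prod (fun r => r ^ (Nat.card G).factorization r) < 2 * Nat.card {c : ConjClasses G // ∀ x ∈ c.carrier, ∀ r : ℕ, r.Prime → r ∣ orderOf x → r ∈ π}) :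
    (∃ N : Subgroup G, N.Normal ∧ (∀ r : ℕ, r.Prime → r ∣ Nat.card ↥N → r ∉ π) ∧ ∀ r : ℕ, r.Prime → r ∣ N.index → r ∈ π) ∧ ∃ H : Subgroup G, Cfsg.IsPiHall ((↑π : Set ℕ) \ {2}) H ∧ IsMulCommutative ↥H := by
  have hk' : ∏ r ∈ π, r ^ (Nat.card G).factorization r < 2 * Nat.card (PiCl π G) := hk
  have hk2 := half_prime π hπ hk' 2 h2
  have hnpc := hasNPC_two_of_lt hZ _ G rfl hk2
  have : Fact (Nat.Prime 2) := ⟨Nat.prime_two⟩
  rw [Cfsg.Agent.Lib.Helper34.hasNPC_iff_exists_normal] at hnpc
  obtain ⟨K, hKn, hKcop, k, hKidx⟩ := hnpc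
  have hKodd : Odd (Nat.card K) := Nat.Coprime.odd_of_right hKcop
  have hkK := half_normal π hπ hk' K
  obtain ⟨Y, hYc, hYcop, hYidx, hYcomm⟩ := exists_char_pi_compl ↥K hKodd (π.erase 2)
    (fun q hq => ⟨hπ q (Finset.mem_of_mem_erase hq), Finset.ne_of_mem_erase hq,
      half_prime π hπ hkK q (Finset.mem_of_mem_erase hq)⟩)
  have hYodd : Odd (Nat.card Y) := Odd.of_dvd_nat hKodd (Subgroup.card_subgroup_dvd_card Y)
  have hYnd : ∀ r : ℕ, r.Prime → r ∈ π → ¬ r ∣ Nat.card Y := by
    intro r hr hrπ hdvd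
    by_cases hr2 : r = 2
    · subst hr2
      exact (Nat.not_even_iff_odd.mpr hYodd) (even_iff_two_dvd.mpr hdvd)
    · have := hYcop r (Finset.mem_erase.mpr ⟨hr2, hrπ⟩)
      exact (Nat.Prime.coprime_iff_not_dvd hr).mp this.symm hdvd
  have hpow2 : ∀ r : ℕ, r.Prime → r ∣ 2 ^ k → r = 2 := fun r hr h =>
    (Nat.prime_dvd_prime_iff_eq hr Nat.prime_two).mp (hr.dvd_of_dvd_pow h)
  constructor
  · refine ⟨Y.map K.subtype, inferInstance, ?_, ?_⟩
    · intro r hr hdvd hrπ
      rw [Subgroup.card_map_of_injective K.subtype_injective] at hdvd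
      exact hYnd r hr hrπ hdvd
    · intro r hr hdvd
      rw [Subgroup.index_map_subtype, hKidx] at hdvd
      rcases (Nat.Prime.dvd_mul hr).mp hdvd with h | h
      · exact Finset.mem_of_mem_erase (hYidx r hr h)
      · rw [hpow2 r hr h]; exact h2
  · have hcopY : (Nat.card Y).Coprime Y.index := by
      apply Nat.coprime_of_dvd
      intro r hr h1 h3
      exact hYnd r hr (Finset.mem_of_mem_erase (hYidx r hr h3)) h1
    obtain ⟨H', hH'⟩ := Subgroup.exists_right_complement'_of_coprime hcopY
    refine ⟨H'.map K.subtype, ⟨?_, ?_⟩, ?_⟩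
    · intro p hp hdvd
      rw [Subgroup.card_map_of_injective K.subtype_injective, ← hH'.symm.index_eq_card] at hdvd
      have h3 := hYidx p hp hdvd
      exact ⟨Finset.mem_coe.mpr (Finset.mem_of_mem_erase h3), by
        simpa using Finset.ne_of_mem_erase h3⟩
    · rintro p hp ⟨hpπ, hpne⟩ hdvd
      rw [Subgroup.index_map_subtype, hH'.index_eq_card, hKidx] at hdvd
      rcases (Nat.Prime.dvd_mul hp).mp hdvd with h | h
      · exact hYnd p hp (Finset.mem_coe.mp hpπ) h
      · exact hpne (by simpa using hpow2 p hp h)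
    · rw [← Subgroup.le_centralizer_iff_isMulCommutative]
      intro x hx
      rw [Subgroup.mem_centralizer_iff]
      intro y hy
      obtain ⟨a, ha, rfl⟩ := Subgroup.mem_map.mp hx
      obtain ⟨b, hb, rfl⟩ := Subgroup.mem_map.mp hy
      have hc1 : ⁅a, b⁆ ∈ Y :=
        hYcomm (Subgroup.commutator_mem_commutator (Subgroup.mem_top a) (Subgroup.mem_top b))
      have hc2 : ⁅a, b⁆ ∈ H' := by
        rw [commutatorElement_def]
        exact mul_mem (mul_mem (mul_mem ha hb) (inv_mem ha)) (inv_mem hb)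
      have hc3 : ⁅a, b⁆ = 1 := by
        have := hH'.disjoint.le_bot (Subgroup.mem_inf.mpr ⟨hc1, hc2⟩)
        exact Subgroup.mem_bot.mp this
      have hab : a * b = b * a := commutatorElement_eq_one_iff_mul_comm.mp hc3
      rw [← map_mul, ← map_mul, hab]

end PiHalf

end Cfsg.Agent.Lib.Helper65
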