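import Mathlib
import Cfsg.Agent.Lib.Helper75.QBaer.Defs
import Cfsg.Prelude.Def_Solvable

/-!
# Project S4125 (helper75), module [STAB-AB]: the stabilizer of a chain with cyclic top is abelian
(helper65)
-/

set_option autoImplicit false

namespace Cfsg.Agent.Lib.Helper65.QBaer

open Cfsg.Agent.Lib.Helper75.QBaer

universe u

/-- [STAB-AB] -/
theorem commute_of_stab_chain {H V : Type*} [Group H] [Finite H] [CommGroup V] [Finite V]
    [MulDistribMulAction H V] {q : ℕ} (hq : q.Prime) (hV : IsPGroup q V)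
    (hH : (Nat.card H).Coprime q) (hfaith : ∀ g : H, (∀ v : V, g • v = v) → g = 1)
    (L : Subgroup V) (hL : ∀ g : H, ∀ w ∈ L, g • w = w) (hcyc : IsCyclic (V ⧸ L))
    (a b : H) : a * b = b * a := by
  classical
  have : Fact q.Prime := ⟨hq⟩
  obtain ⟨gbar, hg⟩ := hcyc.exists_generator
  obtain ⟨w, rfl⟩ := QuotientGroup.mk_surjective gbar
  -- every `g` acts on `V ⧸ L` as a power map
  have hpow : ∀ g : H, ∃ i : ℤ, ∀ v : V,
      (QuotientGroup.mk (g • v) : V ⧸ L) = (QuotientGroup.mk v) ^ i := by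
    intro g
    obtain ⟨i, hi⟩ := Subgroup.mem_zpowers_iff.mp (hg (QuotientGroup.mk (g • w)))
    refine ⟨i, fun v => ?_⟩
    obtain ⟨n, hn⟩ := Subgroup.mem_zpowers_iff.mp (hg (QuotientGroup.mk v))
    have hl : (w ^ n)⁻¹ * v ∈ L := by
      rw [← QuotientGroup.eq, QuotientGroup.mk_zpow]; exact hn
    have hv : v = w ^ n * ((w ^ n)⁻¹ * v) := by rw [mul_inv_cancel_left]
    have h1 : g • v = (g • w) ^ n * ((w ^ n)⁻¹ * v) := by
      conv_lhs => rw [hv]
      rw [smul_mul', hL g _ hl, smul_zpow']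
    rw [h1, QuotientGroup.mk_mul, (QuotientGroup.eq_one_iff _).mpr hl, mul_one,
      QuotientGroup.mk_zpow, ← hi, ← hn, ← zpow_mul, ← zpow_mul, mul_comm]
  obtain ⟨i, hi⟩ := hpow a
  obtain ⟨j, hj⟩ := hpow b
  have hab : ∀ v : V, (QuotientGroup.mk ((a * b) • v) : V ⧸ L) = QuotientGroup.mk ((b * a) • v) := by
    intro v
    rw [mul_smul, mul_smul, hi, hj, hj, hi, ← zpow_mul, ← zpow_mul, mul_comm]
  set c := a * b * (b * a)⁻¹ with hc
  have hcL : ∀ u : V, u⁻¹ * c • u ∈ L := by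
    intro u
    have h1 := hab ((b * a)⁻¹ • u)
    rw [← mul_smul, ← mul_smul, mul_inv_cancel, one_smul, ← hc] at h1
    rw [← QuotientGroup.eq]
    exact h1.symm
  have hcpow : ∀ (u : V) (k : ℕ), c ^ k • u = u * (u⁻¹ * c • u) ^ k := by
    intro u k
    induction k with
    | zero => rw [pow_zero, pow_zero, one_smul, mul_one]
    | succ k ih =>
      have hcu : c • u = u * (u⁻¹ * c • u) := by rw [mul_inv_cancel_left]
      have hfix : c ^ k • (u⁻¹ * c • u) = u⁻¹ * c • u := hL _ _ (hcL u)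
      rw [pow_succ, mul_smul]
      conv_lhs => rw [hcu]
      rw [smul_mul', ih, hfix, pow_succ, mul_assoc]
  have hctriv : ∀ u : V, c • u = u := by
    intro u
    have h1 := hcpow u (orderOf c)
    rw [pow_orderOf_eq_one, one_smul] at h1
    have h2 : (u⁻¹ * c • u) ^ orderOf c = 1 := by
      have := h1.symm
      rwa [mul_eq_left] at this
    have h3 : orderOf (u⁻¹ * c • u) ∣ orderOf c := orderOf_dvd_of_pow_eq_one h2
    obtain ⟨s, hs⟩ := (IsPGroup.iff_orderOf.mp hV) (u⁻¹ * c • u)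
    have h4 : orderOf (u⁻¹ * c • u) ∣ Nat.card H := h3.trans (orderOf_dvd_natCard c)
    have h5 : (orderOf (u⁻¹ * c • u)).Coprime (orderOf (u⁻¹ * c • u)) := by
      have h6 : (orderOf (u⁻¹ * c • u)).Coprime (q ^ s) :=
        Nat.Coprime.pow_right s (Nat.Coprime.coprime_dvd_left h4 hH)
      rwa [← hs] at h6
    have h7 : orderOf (u⁻¹ * c • u) = 1 := (Nat.coprime_self _).mp h5
    have h8 : u⁻¹ * c • u = 1 := orderOf_eq_one_iff.mp h7
    exact (inv_mul_eq_one.mp h8).symm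
  have hc1 : c = 1 := hfaith c hctriv
  exact mul_inv_eq_one.mp hc1

end Cfsg.Agent.Lib.Helper65.QBaer
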