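import Mathlib
import Cfsg.Agent.Lib.Helper72.DegEqDefs

set_option autoImplicit false

/-!
# S0983-[A4928] (helper65): no degree data for order `4928 = 2^6 * 7 * 11`, `p = 11`.

`d = 56`, `u = 8`, `e = 2` (big), `s = {x}` with `x ∈ {-32, 56}`, `f = |1 + x| ∈ {31, 57}` does not divide `4928`.
-/

namespace Cfsg.Agent.Lib.Helper65.Range6232
open Cfsg.Agent.Lib.Helper72.DegEq

theorem sq_le_of_mem_4928 {s : Multiset ℤ} {x : ℤ} (hx : x ∈ s) :
    x ^ 2 ≤ (s.map (fun x => x ^ 2)).sum :=
  Multiset.single_le_sum (fun y hy => by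
    obtain ⟨z, _, rfl⟩ := Multiset.mem_map.mp hy
    positivity) _ (Multiset.mem_map_of_mem _ hx)

theorem arith_4928 {Deg : Set ℕ} {d e : ℕ} {ε : ℤ} {s : Multiset ℤ} {f : ℤ}
    (h : DegData 4928 11 Deg d e ε s f) : False := by
  obtain ⟨hd_dvd, hd_mod, hd_ne, -, he_dvd, he_dvd', he_ne, hε, hcard, hs_mod, hs_dvd, -,
    hs_big, -, hf_two, hf_dvd, -, -, heq, hsq, -⟩ := h
  -- `d = 56`
  have hd : d = 56 := by
    have h448 : (4928 : ℕ) / 11 = 448 := by norm_num
    rw [h448] at hd_dvd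
    have hdle : d ≤ 448 := Nat.le_of_dvd (by norm_num) hd_dvd
    have hmem : d ∈ Nat.divisors 448 := Nat.mem_divisors.mpr ⟨hd_dvd, by norm_num⟩
    have hdiv : Nat.divisors 448 = {1, 2, 4, 7, 8, 14, 16, 28, 32, 56, 64, 112, 224, 448} := by
      decide +kernel
    rw [hdiv] at hmem
    simp only [Finset.mem_insert, Finset.mem_singleton] at hmem
    rcases hmem with rfl | rfl | rfl | rfl | rfl | rfl | rfl | rfl | rfl | rfl | rfl | rfl | rfl | rfl <;>
      first | rfl | omega
  subst hd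
  -- `e = 2`
  have he : e = 2 := by
    have h8 : (4928 : ℕ) / 11 / 56 = 8 := by norm_num
    rw [h8] at he_dvd
    have h10 : (11 : ℕ) - 1 = 10 := by norm_num
    rw [h10] at he_dvd'
    have hele : e ≤ 8 := Nat.le_of_dvd (by norm_num) he_dvd
    interval_cases e <;> omega
  subst he
  have hbig : (2 : ℕ) < 4928 / 11 / 56 := by norm_num
  -- `s = {x}`
  have hc : s.card = 1 := by omega
  obtain ⟨x, rfl⟩ := Multiset.card_eq_one.mp hc
  have hxm := hs_mod x (Multiset.mem_singleton_self x)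
  have hxd := hs_dvd x (Multiset.mem_singleton_self x)
  have hxb := hs_big hbig x (Multiset.mem_singleton_self x)
  simp only [Multiset.map_singleton, Multiset.sum_singleton] at hsq heq
  have hf2 : 0 ≤ f ^ 2 := by positivity
  have h5 : (((11 - 1) / 2 : ℕ) : ℤ) = 5 := by norm_num
  rw [h5] at hsq
  push_cast at hsq hxd hxb hf_dvd hxm
  have hx2 : x ^ 2 ≤ 4927 := by nlinarith
  have hxu : x ≤ 70 := by nlinarith
  have hxl : -70 ≤ x := by nlinarith
  obtain ⟨k, hk⟩ := hxm
  have hxk : x = 11 * k + 1 := by linarith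
  subst hxk
  have hkl : -6 ≤ k := by omega
  have hku : k ≤ 6 := by omega
  rcases hε with rfl | rfl
  · have hf : f = 1 + (11 * k + 1) := by linarith
    subst hf
    interval_cases k <;> (exfalso; revert hxd hxb hf_dvd hf_two; norm_num)
  · have hf : f = -(1 + (11 * k + 1)) := by linarith
    subst hf
    interval_cases k <;> (exfalso; revert hxd hxb hf_dvd hf_two; norm_num)

end Cfsg.Agent.Lib.Helper65.Range6232
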