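import Mathlib
import Cfsg.Agent.Lib.Helper72.DegEqDefs

set_option autoImplicit false

/-!
# S0983-[A4960] (helper65): no degree data for order `4960 = 2^5 * 5 * 31`, `p = 31`.

`d = 32`, `u = 5`, `e = 5` (not big), every `x ∈ s` is `32`, so `s = {32, 32, 32, 32}` and `f = 129`,
which does not divide `4960`.
-/

namespace Cfsg.Agent.Lib.Helper65.Range6232
open Cfsg.Agent.Lib.Helper72.DegEq

theorem sq_le_of_mem_4960 {s : Multiset ℤ} {x : ℤ} (hx : x ∈ s) :
    x ^ 2 ≤ (s.map (fun x => x ^ 2)).sum :=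
  Multiset.single_le_sum (fun y hy => by
    obtain ⟨z, _, rfl⟩ := Multiset.mem_map.mp hy
    positivity) _ (Multiset.mem_map_of_mem _ hx)

theorem arith_4960 {Deg : Set ℕ} {d e : ℕ} {ε : ℤ} {s : Multiset ℤ} {f : ℤ}
    (h : DegData 4960 31 Deg d e ε s f) : False := by
  obtain ⟨hd_dvd, hd_mod, hd_ne, -, he_dvd, he_dvd', he_ne, hε, hcard, hs_mod, hs_dvd, hs_two,
    -, -, hf_two, hf_dvd, -, -, heq, hsq, -⟩ := h
  -- `d = 32`
  have hd : d = 32 := by
    have h160 : (4960 : ℕ) / 31 = 160 := by norm_num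
    rw [h160] at hd_dvd
    have hmem : d ∈ Nat.divisors 160 := Nat.mem_divisors.mpr ⟨hd_dvd, by norm_num⟩
    have hdiv : Nat.divisors 160 = {1, 2, 4, 5, 8, 10, 16, 20, 32, 40, 80, 160} := by
      decide +kernel
    rw [hdiv] at hmem
    simp only [Finset.mem_insert, Finset.mem_singleton] at hmem
    rcases hmem with rfl | rfl | rfl | rfl | rfl | rfl | rfl | rfl | rfl | rfl | rfl | rfl <;>
      first | rfl | omega
  subst hd
  -- `e = 5`
  have he : e = 5 := by
    have h5 : (4960 : ℕ) / 31 / 32 = 5 := by norm_num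
    rw [h5] at he_dvd
    have hele : e ≤ 5 := Nat.le_of_dvd (by norm_num) he_dvd
    interval_cases e <;> omega
  subst he
  have hc : s.card = 4 := by omega
  have h6 : (((31 - 1) / 5 : ℕ) : ℤ) = 6 := by norm_num
  rw [h6] at hsq
  push_cast at hsq hf_dvd
  have hf2 : 0 ≤ f ^ 2 := by positivity
  -- every member of `s` is `32`
  have hall32 : ∀ x ∈ s, x = 32 := by
    intro x hx
    have hxm := hs_mod x hx
    have hxd := hs_dvd x hx
    have hxt := hs_two x hx
    have hxs := sq_le_of_mem_4960 hx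
    push_cast at hxm hxd
    have hxu : x ≤ 70 := by nlinarith
    have hxl : -70 ≤ x := by nlinarith
    obtain ⟨k, hk⟩ := hxm
    have hxk : x = 31 * k + 1 := by linarith
    subst hxk
    have hkl : -2 ≤ k := by omega
    have hku : k ≤ 2 := by omega
    interval_cases k <;> first | rfl | (exfalso; revert hxd hxt; norm_num)
  have hs : s = Multiset.replicate 4 32 := Multiset.eq_replicate.mpr ⟨hc, hall32⟩
  subst hs
  simp only [Multiset.sum_replicate, nsmul_eq_mul] at heq
  rcases hε with rfl | rfl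
  · have hf : f = 129 := by push_cast at heq; linarith
    subst hf
    revert hf_dvd; norm_num
  · have hf : f = -129 := by push_cast at heq; linarith
    subst hf
    revert hf_two; norm_num

end Cfsg.Agent.Lib.Helper65.Range6232
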