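/-
Groups all of whose non-cyclic subgroups are self-centralizing (helper65): shared lemmas for S3918, S3919.
-/
import Mathlib
import Cfsg.Prelude.Def_Transfer

set_option autoImplicit false

namespace Cfsg.Agent.Lib.Helper65

variable {G : Type*} [Group G] [Finite G] {p : ℕ} [Fact p.Prime]

/-- index of a centralizer equals the size of the conjugation orbit -/
theorem index_centralizer_eq_ncard_orbit (a : G) :
    (Subgroup.centralizer ({a} : Set G)).index = (MulAction.orbit (ConjAct G) a).ncard := by
  rw [← MulAction.index_stabilizer]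
  have h1 := Subgroup.index_mul_card (Subgroup.centralizer ({a} : Set G))
  have h2 := Subgroup.index_mul_card (MulAction.stabilizer (ConjAct G) a)
  rw [← Subgroup.nat_card_centralizer_nat_card_stabilizer] at h2
  have h3 : Nat.card (ConjAct G) = Nat.card G := rfl
  rw [h3, ← h1] at h2
  have hpos : 0 < Nat.card ↥(Subgroup.centralizer ({a} : Set G)) := Nat.card_pos
  exact (Nat.eq_of_mul_eq_mul_right hpos h2).symm

theorem card_eq_of_normal_sq (hG : IsPGroup p G) (hna : ¬ IsMulCommutative G) (E : Subgroup G)
    [hEn : E.Normal] (hEc : IsMulCommutative ↥E) (hcard : Nat.card ↥E = p ^ 2)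
    (hcent : Subgroup.centralizer (E : Set G) ≤ E) : Nat.card G = p ^ 3 := by
  have hp : p.Prime := Fact.out
  -- `G` is nontrivial
  have hnt : Nontrivial G := by
    by_contra hnt
    rw [not_nontrivial_iff_subsingleton] at hnt
    exact hna ⟨⟨fun a b => Subsingleton.elim _ _⟩⟩
  -- the center lies in `E`
  have hZE : Subgroup.center G ≤ E := by
    refine le_trans ?_ hcent
    intro z hz
    rw [Subgroup.mem_centralizer_iff]
    intro e _
    exact (Subgroup.mem_center_iff.mp hz e)
  have hZbot : Subgroup.center G ≠ ⊥ := by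
    have := hG.center_nontrivial
    intro h
    rw [h] at this
    exact not_nontrivial _ this
  have hZne : Subgroup.center G ≠ E := by
    intro h
    apply hna
    have htop : Subgroup.centralizer (E : Set G) = ⊤ := by
      rw [← h]; exact Subgroup.centralizer_eq_top_iff_subset.mpr (le_refl _)
    have hE : E = ⊤ := top_le_iff.mp (htop ▸ hcent)
    constructor; constructor
    intro a b
    have := hEc.is_comm.comm ⟨a, hE ▸ Subgroup.mem_top a⟩ ⟨b, hE ▸ Subgroup.mem_top b⟩
    exact congrArg Subtype.val this
  obtain ⟨a, haE, haZ⟩ : ∃ a ∈ E, a ∉ Subgroup.center G := by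
    by_contra hne
    push Not at hne
    exact hZne (le_antisymm hZE hne)
  -- `E = Z ⊔ ⟨a⟩`
  have hK : Subgroup.center G ⊔ Subgroup.zpowers a = E := by
    have hKE : Subgroup.center G ⊔ Subgroup.zpowers a ≤ E :=
      sup_le hZE (Subgroup.zpowers_le.mpr haE)
    have hZK : Subgroup.center G < Subgroup.center G ⊔ Subgroup.zpowers a := by
      refine lt_of_le_of_ne le_sup_left ?_
      intro h
      apply haZ
      rw [h]
      exact (le_sup_right : Subgroup.zpowers a ≤ _) (Subgroup.mem_zpowers a)
    obtain ⟨i, hi⟩ := IsPGroup.iff_card.mp (hG.to_subgroup (Subgroup.center G))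
    obtain ⟨j, hj⟩ := IsPGroup.iff_card.mp (hG.to_subgroup (Subgroup.center G ⊔ Subgroup.zpowers a))
    have hi0 : i ≠ 0 := by
      rintro rfl
      rw [pow_zero] at hi
      exact hZbot (Subgroup.card_eq_one.mp hi)
    have hlt : Nat.card ↥(Subgroup.center G) < Nat.card ↥(Subgroup.center G ⊔ Subgroup.zpowers a) := by
      by_contra hle
      push Not at hle
      exact hZK.ne (Subgroup.eq_of_le_of_card_ge hZK.le hle)
    rw [hi, hj] at hlt
    have hij : i < j := (Nat.pow_lt_pow_iff_right hp.one_lt).mp hlt
    have hj2 : j ≤ 2 := by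
      have hdvd : Nat.card ↥(Subgroup.center G ⊔ Subgroup.zpowers a) ∣ Nat.card ↥E :=
        Subgroup.card_dvd_of_le hKE
      rw [hj, hcard] at hdvd
      exact (Nat.pow_dvd_pow_iff_le_right hp.one_lt).mp hdvd
    have hj' : j = 2 := by omega
    apply Subgroup.eq_of_le_of_card_ge hKE
    rw [hj, hcard, hj']
  have ha1 : a ≠ 1 := by
    rintro rfl
    exact haZ (Subgroup.one_mem _)
  -- the centralizer of `a` is `E`
  have hCa : Subgroup.centralizer ({a} : Set G) = E := by
    apply le_antisymm
    · intro g hg
      apply hcent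
      rw [Subgroup.mem_centralizer_singleton_iff] at hg
      have hKS : Subgroup.center G ⊔ Subgroup.zpowers a ≤ Subgroup.centralizer ({g} : Set G) := by
        apply sup_le
        · intro z hz
          rw [Subgroup.mem_centralizer_singleton_iff]
          exact (Subgroup.mem_center_iff.mp hz g).symm
        · rw [Subgroup.zpowers_le, Subgroup.mem_centralizer_singleton_iff]
          exact hg.symm
      rw [hK] at hKS
      rw [Subgroup.mem_centralizer_iff]
      intro e he
      have := hKS he
      rw [Subgroup.mem_centralizer_singleton_iff] at this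
      exact this
    · intro e he
      rw [Subgroup.mem_centralizer_singleton_iff]
      exact congrArg Subtype.val (hEc.is_comm.comm ⟨e, he⟩ ⟨a, haE⟩)
  -- the index of the centralizer of `a` is less than `p ^ 2`
  have hidx : (Subgroup.centralizer ({a} : Set G)).index < p ^ 2 := by
    rw [index_centralizer_eq_ncard_orbit]
    have hsub : MulAction.orbit (ConjAct G) a ⊆ (E : Set G) \ {1} := by
      rintro _ ⟨g, rfl⟩
      refine ⟨?_, ?_⟩
      · show g • a ∈ E
        rw [ConjAct.smul_def]
        exact hEn.conj_mem a haE _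
      · rw [Set.mem_singleton_iff]
        show ¬ (g • a = 1)
        rw [ConjAct.smul_def]
        intro h
        apply ha1
        have := congrArg (fun x => (ConjAct.ofConjAct g)⁻¹ * x * (ConjAct.ofConjAct g)) h
        simpa [mul_assoc] using this
    have h1 := Set.ncard_le_ncard hsub (Set.toFinite _)
    have h2 : ((E : Set G) \ {1}).ncard = (E : Set G).ncard - 1 :=
      Set.ncard_sdiff_singleton_of_mem (Subgroup.one_mem E)
    have h3 : (E : Set G).ncard = p ^ 2 := by
      rw [← hcard]; exact (Nat.card_coe_set_eq (E : Set G)).symm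
    have hpos : 0 < p ^ 2 := pow_pos hp.pos 2
    omega
  obtain ⟨n, hn⟩ := hG.index (Subgroup.centralizer ({a} : Set G))
  rw [hn] at hidx
  have hn1 : n < 2 := (Nat.pow_lt_pow_iff_right hp.one_lt).mp hidx
  have hcardG : Nat.card G = p ^ n * p ^ 2 := by
    rw [← Subgroup.index_mul_card (Subgroup.centralizer ({a} : Set G)), hn, hCa, hcard]
  interval_cases n
  · exfalso
    apply hna
    rw [pow_zero, one_mul] at hcardG
    exact IsPGroup.isMulCommutative_of_card_eq_prime_sq hcardG
  · rw [hcardG]; ring


theorem centralizer_le_of_card_cube (hG : IsPGroup p G) (hna : ¬ IsMulCommutative G)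
    (hcard : Nat.card G = p ^ 3) (H : Subgroup G) (hH : ¬ IsCyclic ↥H) :
    Subgroup.centralizer (H : Set G) ≤ H := by
  have hp : p.Prime := Fact.out
  obtain ⟨k, hk⟩ := IsPGroup.iff_card.mp (hG.to_subgroup H)
  have hk3 : k ≤ 3 := by
    have hdvd := Subgroup.card_subgroup_dvd_card H
    rw [hk, hcard] at hdvd
    exact (Nat.pow_dvd_pow_iff_le_right hp.one_lt).mp hdvd
  interval_cases k
  · exfalso; apply hH
    rw [pow_zero] at hk
    have hbot : H = ⊥ := Subgroup.card_eq_one.mp hk
    rw [hbot]; infer_instance
  · exfalso; apply hH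
    rw [pow_one] at hk
    exact isCyclic_of_prime_card hk
  · by_contra hnle
    have hHc : IsMulCommutative ↥H := IsPGroup.isMulCommutative_of_card_eq_prime_sq hk
    have hHC : H ≤ Subgroup.centralizer (H : Set G) := by
      intro h hh
      rw [Subgroup.mem_centralizer_iff]
      intro e he
      exact congrArg Subtype.val (hHc.is_comm.comm ⟨e, he⟩ ⟨h, hh⟩)
    have hlt : Nat.card ↥H < Nat.card ↥(Subgroup.centralizer (H : Set G)) := by
      by_contra hle
      push Not at hle
      exact hnle (Subgroup.eq_of_le_of_card_ge hHC hle).symm.le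
    obtain ⟨j, hj⟩ := IsPGroup.iff_card.mp (hG.to_subgroup (Subgroup.centralizer (H : Set G)))
    rw [hk, hj] at hlt
    have h2j : 2 < j := (Nat.pow_lt_pow_iff_right hp.one_lt).mp hlt
    have hj3 : j ≤ 3 := by
      have hdvd := Subgroup.card_subgroup_dvd_card (Subgroup.centralizer (H : Set G))
      rw [hj, hcard] at hdvd
      exact (Nat.pow_dvd_pow_iff_le_right hp.one_lt).mp hdvd
    have hj' : j = 3 := by omega
    have hCtop : Subgroup.centralizer (H : Set G) = ⊤ :=
      Subgroup.eq_top_of_card_eq _ (by rw [hj, hcard, hj'])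
    have hHZ : H ≤ Subgroup.center G := by
      intro h hh
      rw [Subgroup.mem_center_iff]
      intro g
      have hg : g ∈ Subgroup.centralizer (H : Set G) := hCtop ▸ Subgroup.mem_top g
      exact (hg h hh).symm
    -- the quotient by the center has order dividing `p`
    have hidx : (Subgroup.center G).index ∣ p := by
      have h1 := Subgroup.index_mul_card (Subgroup.center G)
      have h2 : p ^ 2 ∣ Nat.card ↥(Subgroup.center G) := hk ▸ Subgroup.card_dvd_of_le hHZ
      obtain ⟨c, hc⟩ := h2
      rw [hc, hcard] at h1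
      have h3 : (Subgroup.center G).index * c * p ^ 2 = p * p ^ 2 := by
        have e : p * p ^ 2 = p ^ 3 := by ring
        rw [e, ← h1]; ring
      have h4 := Nat.eq_of_mul_eq_mul_right (pow_pos hp.pos 2) h3
      exact ⟨c, h4.symm⟩
    apply hna
    have hcyc : IsCyclic (G ⧸ Subgroup.center G) := by
      have hc : Nat.card (G ⧸ Subgroup.center G) ∣ p := hidx
      rcases (Nat.dvd_prime hp).mp hc with h1 | h1
      · have : Subsingleton (G ⧸ Subgroup.center G) := (Nat.card_eq_one_iff_unique.mp h1).1
        infer_instance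
      · exact isCyclic_of_prime_card h1
    exact MonoidHom.isMulCommutative_of_isCyclic_of_ker_le_center
      (QuotientGroup.mk' (Subgroup.center G)) (by rw [QuotientGroup.ker_mk'])
  · have htop : H = ⊤ := Subgroup.eq_top_of_card_eq H (hk.trans hcard.symm)
    rw [htop]
    exact le_top

omit [Finite G] in
theorem not_isCyclic_of_elementary (E : Subgroup G) (hexp : ∀ a ∈ E, a ^ p = 1)
    (hcard : Nat.card ↥E = p ^ 2) : ¬ IsCyclic ↥E := by
  have hp : p.Prime := Fact.out
  intro hcyc
  obtain ⟨g, hg⟩ := hcyc.exists_generator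
  have hord : orderOf g = Nat.card ↥E := orderOf_eq_card_of_forall_mem_zpowers hg
  have hgp : g ^ p = 1 := Subtype.ext (by simpa using hexp g g.2)
  have hdvd : orderOf g ∣ p := orderOf_dvd_of_pow_eq_one hgp
  rw [hord, hcard] at hdvd
  have := Nat.le_of_dvd hp.pos hdvd
  have h2 := hp.one_lt
  nlinarith

theorem selfCent_iff_card_cube (_hp : p ≠ 2) (hG : IsPGroup p G) (hna : ¬ IsMulCommutative G)
    (hS0126 : ¬ IsCyclic G → ∃ A : Subgroup G, A.Normal ∧ Cfsg.IsElementaryAbelian p A ∧ Nat.card A = p ^ 2) :
    (∀ H : Subgroup G, ¬ IsCyclic ↥H → Subgroup.centralizer (H : Set G) ≤ H) ↔ Nat.card G = p ^ 3 := by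
  constructor
  · intro hstar
    have hnc : ¬ IsCyclic G := fun h => hna inferInstance
    obtain ⟨E, hEn, ⟨hEc, hEexp⟩, hEcard⟩ := hS0126 hnc
    exact card_eq_of_normal_sq hG hna E hEc hEcard
      (hstar E (not_isCyclic_of_elementary E hEexp hEcard))
  · intro hcard H hH
    exact centralizer_le_of_card_cube hG hna hcard H hH


/-- The index of the commutator subgroup is at most the order of any centralizer of an element. -/
theorem index_commutator_le_card_centralizer (x : G) :
    (commutator G).index ≤ Nat.card ↥(Subgroup.centralizer ({x} : Set G)) := by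
  have hsub : MulAction.orbit (ConjAct G) x ⊆ (fun c : G => c * x) '' (commutator G : Set G) := by
    rintro _ ⟨g, rfl⟩
    refine ⟨ConjAct.ofConjAct g * x * (ConjAct.ofConjAct g)⁻¹ * x⁻¹, ?_, ?_⟩
    · rw [SetLike.mem_coe, commutator_def, ← commutatorElement_def]
      exact Subgroup.commutator_mem_commutator (Subgroup.mem_top _) (Subgroup.mem_top _)
    · show ConjAct.ofConjAct g * x * (ConjAct.ofConjAct g)⁻¹ * x⁻¹ * x = g • x
      rw [ConjAct.smul_def]; group
  have h1 : (MulAction.orbit (ConjAct G) x).ncard ≤ Nat.card ↥(commutator G) := by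
    calc (MulAction.orbit (ConjAct G) x).ncard
        ≤ ((fun c : G => c * x) '' (commutator G : Set G)).ncard :=
          Set.ncard_le_ncard hsub (Set.toFinite _)
      _ ≤ (commutator G : Set G).ncard := Set.ncard_image_le (Set.toFinite _)
      _ = Nat.card ↥(commutator G) := Nat.card_coe_set_eq (commutator G : Set G)
  rw [← index_centralizer_eq_ncard_orbit] at h1
  have h2 := Subgroup.index_mul_card (Subgroup.centralizer ({x} : Set G))
  have h3 := Subgroup.index_mul_card (commutator G)
  have hpos : 0 < Nat.card ↥(commutator G) := Nat.card_pos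
  have h4 : (commutator G).index * Nat.card ↥(commutator G) ≤
      Nat.card ↥(Subgroup.centralizer ({x} : Set G)) * Nat.card ↥(commutator G) := by
    rw [h3, ← h2, mul_comm]
    exact Nat.mul_le_mul_left _ h1
  exact Nat.le_of_mul_le_mul_right h4 hpos

end Cfsg.Agent.Lib.Helper65
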