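import Mathlib
import Cfsg.Agent.S0682
import Cfsg.Agent.S0683
import Cfsg.Agent.S0728
import Cfsg.Agent.S0730
import Cfsg.Agent.Lib.Helper59.NearFieldAlg
import Cfsg.Agent.Lib.Helper65.IndexTwo
import Cfsg.Agent.Lib.Helper65.RegLinIndexTwo

/-!
# Two-point stabilisers of sharply 3-transitive groups of even degree have a subgroup of index 2
(helper65)

`main`: for a sharply 3-transitive group of even degree `≥ 6`, the stabiliser of two points has a
subgroup of index two (S0689 is taken as a hypothesis `h689`).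
`exists_invariant_of_exists`: an involution normalising `H` then normalises some subgroup of index
two of `H`.
-/

set_option autoImplicit false

universe u

namespace Cfsg.Agent.Lib.Helper65.Sharp3

open Cfsg Cfsg.Agent.Lib.Helper59 Cfsg.Agent.Lib.Helper65.IndexTwo Cfsg.Agent.Lib.Helper65.RegLin

theorem exists_invariant_of_exists {G : Type*} [Group G] (H : Subgroup G) (s : G)
    (hs : ∀ h ∈ H, s * h * s⁻¹ ∈ H) (hs2 : s * s = 1)
    (hM : ∃ M : Subgroup H, M.index = 2) :
    ∃ N : Subgroup G, N ≤ H ∧ (N.subgroupOf H).Normal ∧ N.relIndex H = 2 ∧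
      ∀ n ∈ N, s * n * s⁻¹ ∈ N := by
  obtain ⟨M, hM⟩ := hM
  have hsinv : s⁻¹ = s := inv_eq_of_mul_eq_one_left hs2
  let σ : H ≃* H :=
    { toFun := fun h => ⟨s * h * s⁻¹, hs h h.2⟩
      invFun := fun h => ⟨s * h * s⁻¹, hs h h.2⟩
      left_inv := by
        intro h
        apply Subtype.ext
        show s * (s * (h : G) * s⁻¹) * s⁻¹ = h
        rw [hsinv]
        calc s * (s * (h : G) * s) * s = (s * s) * (h : G) * (s * s) := by group
          _ = h := by rw [hs2, one_mul, mul_one]
      right_inv := by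
        intro h
        apply Subtype.ext
        show s * (s * (h : G) * s⁻¹) * s⁻¹ = h
        rw [hsinv]
        calc s * (s * (h : G) * s) * s = (s * s) * (h : G) * (s * s) := by group
          _ = h := by rw [hs2, one_mul, mul_one]
      map_mul' := by
        intro h k
        apply Subtype.ext
        show s * ((h : G) * (k : G)) * s⁻¹ = (s * (h : G) * s⁻¹) * (s * (k : G) * s⁻¹)
        group }
  have hσ : ∀ h, σ (σ h) = h := fun h => σ.left_inv h
  obtain ⟨N', hN'idx, hN'inv⟩ := exists_invariant_index_two σ hσ M hM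
  have hsub : (N'.map H.subtype).subgroupOf H = N' :=
    Subgroup.comap_map_eq_self_of_injective H.subtype_injective N'
  refine ⟨N'.map H.subtype, Subgroup.map_subtype_le N', ?_, ?_, ?_⟩
  · rw [hsub]
    exact Subgroup.normal_of_index_eq_two hN'idx
  · unfold Subgroup.relIndex
    rw [hsub]
    exact hN'idx
  · rintro _ ⟨n', hn', rfl⟩
    exact ⟨σ n', hN'inv n' hn', rfl⟩

theorem exists_index_two_conj {G : Type*} [Group G] (H K : Subgroup G) (g : G)
    (hHK : ∀ h, h ∈ H ↔ g * h * g⁻¹ ∈ K) (hK : ∃ M : Subgroup K, M.index = 2) :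
    ∃ M : Subgroup H, M.index = 2 := by
  let f : H →* K :=
    { toFun := fun h => ⟨g * h * g⁻¹, (hHK h).mp h.2⟩
      map_one' := by
        apply Subtype.ext
        show g * (1 : G) * g⁻¹ = 1
        group
      map_mul' := by
        intro h k
        apply Subtype.ext
        show g * ((h : G) * (k : G)) * g⁻¹ = (g * (h : G) * g⁻¹) * (g * (k : G) * g⁻¹)
        group }
  apply exists_index_two_of_surjective f _ hK
  intro k
  have hk : g⁻¹ * (k : G) * g ∈ H := by
    rw [hHK]
    have : g * (g⁻¹ * (k : G) * g) * g⁻¹ = k := by group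
    rw [this]
    exact k.2
  refine ⟨⟨_, hk⟩, ?_⟩
  apply Subtype.ext
  show g * (g⁻¹ * (k : G) * g) * g⁻¹ = k
  group

/-- The statement of S0689, as a hypothesis. -/
def H689 : Prop :=
  ∀ (p : ℕ) [Fact p.Prime] (V : Type u) [AddCommGroup V] [Module (ZMod p) V] [Finite V]
    (H : Subgroup (V ≃ₗ[ZMod p] V)),
    (∀ v w : V, v ≠ 0 → w ≠ 0 → ∃! h : H, (h : V ≃ₗ[ZMod p] V) v = w) →
    ¬ Group.IsSolvable H →
    (Nat.card V = 121 ∧ Nonempty (H ≃* Matrix.SpecialLinearGroup (Fin 2) (ZMod 5))) ∨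
    (Nat.card V = 841 ∧
      Nonempty (H ≃* Matrix.SpecialLinearGroup (Fin 2) (ZMod 5) × Multiplicative (ZMod 7))) ∨
    (Nat.card V = 3481 ∧
      Nonempty (H ≃* Matrix.SpecialLinearGroup (Fin 2) (ZMod 5) × Multiplicative (ZMod 29)))

theorem main (h689 : H689.{u}) {α : Type u} [Fintype α] [DecidableEq α]
    (heven : Even (Fintype.card α))
    (h6 : 6 ≤ Fintype.card α) (G : Subgroup (Equiv.Perm α))
    (h3 : MulAction.IsMultiplyPretransitive G α 3)
    (hsharp : ∀ x : Fin 3 ↪ α, MulAction.stabilizer G x = ⊥) {a b : α} (hab : a ≠ b) :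
    ∃ M : Subgroup ↥(MulAction.stabilizer G a ⊓ MulAction.stabilizer G b), M.index = 2 := by
  classical
  have T3 := Cfsg.Agent.S0730.T3_of G h3
  have S3 := Cfsg.Agent.S0730.S3_of G hsharp
  -- restriction of an element fixing `a`
  have hres : ∀ g : Equiv.Perm α, g a = a → ∀ x : α, g x ≠ a ↔ x ≠ a := by
    intro g hg x
    rw [not_iff_not]
    constructor
    · intro h
      apply g.injective
      rw [h, hg]
    · intro h
      rw [h, hg]
  have hβcard : Fintype.card {x : α // x ≠ a} + 1 = Fintype.card α := by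
    have := Fintype.card_congr (Equiv.optionSubtypeNe a)
    rw [Fintype.card_option] at this
    exact this
  -- the point stabilizer, as a permutation group on the remaining points
  let Hp : Subgroup (Equiv.Perm {x : α // x ≠ a}) :=
    { carrier := {σ | ∃ g ∈ G, g a = a ∧ ∀ x : {x : α // x ≠ a}, (σ x : α) = g x}
      one_mem' := ⟨1, G.one_mem, rfl, fun x => rfl⟩
      mul_mem' := by
        rintro σ₁ σ₂ ⟨g₁, hg₁, h₁, h₁'⟩ ⟨g₂, hg₂, h₂, h₂'⟩
        refine ⟨g₁ * g₂, G.mul_mem hg₁ hg₂, by simp [h₁, h₂], fun x => ?_⟩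
        simp [h₁', h₂']
      inv_mem' := by
        rintro σ ⟨g, hg, h, h'⟩
        refine ⟨g⁻¹, G.inv_mem hg, ?_, fun x => ?_⟩
        · rw [Equiv.Perm.inv_eq_iff_eq]; exact h.symm
        · rw [Equiv.Perm.eq_inv_iff_eq, ← h']; simp }
  have hHres : ∀ g ∈ G, ∀ hg : g a = a, g.subtypePerm (hres g hg) ∈ Hp := by
    intro g hgG hg
    exact ⟨g, hgG, hg, fun x => rfl⟩
  have h2H : MulAction.IsMultiplyPretransitive Hp {x : α // x ≠ a} 2 := by
    rw [MulAction.is_two_pretransitive_iff]
    intro x y x' y' hxy hxy'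
    obtain ⟨g, hgG, hg0, hga, hgb⟩ := T3 a x y a x' y' (Ne.symm x.2) (Ne.symm y.2)
      (fun h => hxy (Subtype.ext h)) (Ne.symm x'.2) (Ne.symm y'.2) (fun h => hxy' (Subtype.ext h))
    refine ⟨⟨g.subtypePerm (hres g hg0), hHres g hgG hg0⟩, ?_, ?_⟩
    · apply Subtype.ext
      exact hga
    · apply Subtype.ext
      exact hgb
  have hsharpH : ∀ x : Fin 2 ↪ {x : α // x ≠ a}, MulAction.stabilizer Hp x = ⊥ := by
    intro x
    rw [eq_bot_iff]
    rintro ⟨σ, hσ⟩ hs
    rw [Subgroup.mem_bot]
    rw [MulAction.mem_stabilizer_iff] at hs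
    have h0 : σ (x 0) = x 0 := DFunLike.congr_fun hs 0
    have h1 : σ (x 1) = x 1 := DFunLike.congr_fun hs 1
    obtain ⟨g, hgG, hg0, hgx⟩ := hσ
    have hne01 : x 0 ≠ x 1 := fun h => by simpa using x.injective h
    have hg1 : g = 1 := S3 g hgG a (x 0) (x 1) (Ne.symm (x 0).2) (Ne.symm (x 1).2)
      (fun h => hne01 (Subtype.ext h)) hg0 (by rw [← hgx, h0]) (by rw [← hgx, h1])
    apply Subtype.ext
    ext y
    show ((σ y : {x : α // x ≠ a}) : α) = y
    rw [hgx, hg1]
    rfl
  obtain ⟨nf, hH⟩ := Cfsg.Agent.S0683.result Hp hsharpH (by omega)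
  let _ : NearField {x : α // x ≠ a} := nf
  have hB : ∀ g ∈ G, g a = a → ∃ u v : {x : α // x ≠ a}, u ≠ 0 ∧
      ∀ x : {x : α // x ≠ a}, g x = ((x * u + v : {x : α // x ≠ a}) : α) := by
    intro g hgG hg0
    obtain ⟨u, v, hu, huv⟩ := (hH _).mp (hHres g hgG hg0)
    refine ⟨u, v, hu, fun x => ?_⟩
    rw [← huv x]
    rfl
  -- the additive structure
  obtain ⟨p, j, hp, hj, hcardβ, hadd, hchar⟩ :=
    Cfsg.Agent.S0682.result (F := {x : α // x ≠ a})
  have hpF : Fact p.Prime := ⟨hp⟩
  have hp2 : p ≠ 2 := by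
    rintro rfl
    rw [Nat.card_eq_fintype_card] at hcardβ
    have h1 : Even (Fintype.card {x : α // x ≠ a}) := by
      rw [hcardβ]
      exact (Nat.even_pow.mpr ⟨even_two, by omega⟩)
    have h2 : Odd (Fintype.card {x : α // x ≠ a}) := by
      rcases heven with ⟨m, hm⟩
      exact ⟨m - 1, by omega⟩
    exact (Nat.not_even_iff_odd.mpr h2) h1
  let acg : AddCommGroup {x : α // x ≠ a} :=
    { (inferInstance : AddGroup {x : α // x ≠ a}) with add_comm := hadd }
  let md : Module (ZMod p) {x : α // x ≠ a} := AddCommGroup.zmodModule hchar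
  have hnt : Nontrivial {x : α // x ≠ a} := ⟨⟨0, 1, NearField.zero_ne_one⟩⟩
  -- the second point
  set z : α := ((0 : {x : α // x ≠ a}) : α) with hz
  have hza : a ≠ z := Ne.symm (0 : {x : α // x ≠ a}).2
  -- the two-point stabilizer and its action
  set K : Subgroup G := MulAction.stabilizer G a ⊓ MulAction.stabilizer G z with hK
  have hKa : ∀ k : K, ((k : G) : Equiv.Perm α) a = a := by
    intro k
    have := (Subgroup.mem_inf.mp k.2).1
    exact MulAction.mem_stabilizer_iff.mp this
  have hKz : ∀ k : K, ((k : G) : Equiv.Perm α) z = z := by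
    intro k
    have := (Subgroup.mem_inf.mp k.2).2
    exact MulAction.mem_stabilizer_iff.mp this
  let ρ : K →* Equiv.Perm {x : α // x ≠ a} :=
    { toFun := fun k => ((k : G) : Equiv.Perm α).subtypePerm (hres _ (hKa k))
      map_one' := by
        ext x
        rfl
      map_mul' := by
        intro k l
        ext x
        rfl }
  have hρ : ∀ (k : K) (x : {x : α // x ≠ a}), ((ρ k x : {x : α // x ≠ a}) : α) =
      ((k : G) : Equiv.Perm α) x := fun k x => rfl
  -- elements of `K` are right multiplications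
  have hmulK : ∀ k : K, ∃ u : {x : α // x ≠ a}, ∀ x : {x : α // x ≠ a}, ρ k x = x * u := by
    intro k
    obtain ⟨u, v, -, huv⟩ := hB ((k : G) : Equiv.Perm α) (k : G).2 (hKa k)
    have hv : v = 0 := by
      have h1 := huv 0
      rw [nf_zero_mul, zero_add] at h1
      have h2 : ((k : G) : Equiv.Perm α) ((0 : {x : α // x ≠ a}) : α) = z := hKz k
      rw [h2] at h1
      exact (Subtype.ext h1).symm
    refine ⟨u, fun x => ?_⟩
    apply Subtype.ext
    rw [hρ, huv x, hv, add_zero]
  have haddK : ∀ (k : K) (x y : {x : α // x ≠ a}), ρ k (x + y) = ρ k x + ρ k y := by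
    intro k x y
    obtain ⟨u, hu⟩ := hmulK k
    rw [hu, hu, hu]
    exact NearField.right_distrib x y u
  have hregK : ∀ v w : {x : α // x ≠ a}, v ≠ 0 → w ≠ 0 → ∃! k : K, ρ k v = w := by
    intro v w hv hw
    have hzv : z ≠ (v : α) := fun h => hv (Subtype.ext h.symm)
    have hzw : z ≠ (w : α) := fun h => hw (Subtype.ext h.symm)
    obtain ⟨g, hgG, hga, hgz, hgv⟩ := T3 a z v a z w hza (Ne.symm v.2) hzv hza (Ne.symm w.2) hzw
    have hgK : (⟨g, hgG⟩ : G) ∈ K := by
      rw [hK, Subgroup.mem_inf, MulAction.mem_stabilizer_iff, MulAction.mem_stabilizer_iff]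
      exact ⟨hga, hgz⟩
    refine ⟨⟨⟨g, hgG⟩, hgK⟩, ?_, ?_⟩
    · apply Subtype.ext
      rw [hρ]
      exact hgv
    · intro k' hk'
      have hk'v : ((k' : G) : Equiv.Perm α) v = w := by rw [← hρ, hk']
      have h1 : (((k' : G) : Equiv.Perm α))⁻¹ * g = 1 := by
        apply S3 _ (G.mul_mem (G.inv_mem (k' : G).2) hgG) a z v hza (Ne.symm v.2) hzv
        · rw [Equiv.Perm.mul_apply, hga, Equiv.Perm.inv_eq_iff_eq, hKa]
        · rw [Equiv.Perm.mul_apply, hgz, Equiv.Perm.inv_eq_iff_eq, hKz]
        · rw [Equiv.Perm.mul_apply, hgv, Equiv.Perm.inv_eq_iff_eq, hk'v]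
      have h2 : g = ((k' : G) : Equiv.Perm α) := (inv_mul_eq_one.mp h1).symm
      apply Subtype.ext
      apply Subtype.ext
      exact h2.symm
  -- at most one subgroup of order three
  have hU3 : ∀ A B : Subgroup K, Nat.card A = 3 → Nat.card B = 3 → A = B := by
    intro A B hA hB
    have h1 : Nat.card (A.map K.subtype) = 3 := by
      rw [Subgroup.card_map_of_injective K.subtype_injective, hA]
    have h2 : Nat.card (B.map K.subtype) = 3 := by
      rw [Subgroup.card_map_of_injective K.subtype_injective, hB]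
    have := Cfsg.Agent.S0728.result heven h6 G h3 hsharp hza (A.map K.subtype) (B.map K.subtype)
      (Subgroup.map_subtype_le A) (Subgroup.map_subtype_le B) h1 h2
    exact Subgroup.map_injective K.subtype_injective this
  have hKidx : ∃ M : Subgroup K, M.index = 2 :=
    exists_index_two_of_action hp2 ρ haddK hregK hU3
      (fun H hregH hns => h689 p {x : α // x ≠ a} H hregH hns)
  -- transfer to `(a, b)`
  obtain ⟨c, hca, hcb⟩ : ∃ c : α, c ≠ a ∧ c ≠ b := by
    by_contra hno
    push Not at hno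
    have : (Finset.univ : Finset α) ⊆ {a, b} := by
      intro c _
      by_cases h : c = a
      · simp [h]
      · simp [hno c h]
    have := Finset.card_le_card this
    rw [Finset.card_univ] at this
    have h2 : ({a, b} : Finset α).card ≤ 2 := Finset.card_le_two
    omega
  obtain ⟨c', hc'a, hc'z⟩ : ∃ c : α, c ≠ a ∧ c ≠ z := by
    by_contra hno
    push Not at hno
    have : (Finset.univ : Finset α) ⊆ {a, z} := by
      intro c _
      by_cases h : c = a
      · simp [h]
      · simp [hno c h]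
    have := Finset.card_le_card this
    rw [Finset.card_univ] at this
    have h2 : ({a, z} : Finset α).card ≤ 2 := Finset.card_le_two
    omega
  obtain ⟨g, hgG, hga, hgb, -⟩ := T3 a b c a z c' hab (Ne.symm hca) (Ne.symm hcb) hza
    (Ne.symm hc'a) (Ne.symm hc'z)
  apply exists_index_two_conj _ K (⟨g, hgG⟩ : G) _ hKidx
  intro h
  have hginv_a : g⁻¹ a = a := by rw [Equiv.Perm.inv_eq_iff_eq, hga]
  have hginv_z : g⁻¹ z = b := by rw [Equiv.Perm.inv_eq_iff_eq, hgb]
  rw [hK, Subgroup.mem_inf, Subgroup.mem_inf, MulAction.mem_stabilizer_iff,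
    MulAction.mem_stabilizer_iff, MulAction.mem_stabilizer_iff, MulAction.mem_stabilizer_iff]
  show ((h : Equiv.Perm α) a = a ∧ (h : Equiv.Perm α) b = b) ↔
    ((g * (h : Equiv.Perm α) * g⁻¹) a = a ∧ (g * (h : Equiv.Perm α) * g⁻¹) z = z)
  rw [Equiv.Perm.mul_apply, Equiv.Perm.mul_apply, Equiv.Perm.mul_apply, Equiv.Perm.mul_apply,
    hginv_a, hginv_z]
  constructor
  · rintro ⟨h1, h2⟩
    rw [h1, h2]
    exact ⟨hga, hgb⟩
  · rintro ⟨h1, h2⟩
    constructor
    · apply g.injective
      rw [h1, hga]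
    · apply g.injective
      rw [h2, hgb]

end Cfsg.Agent.Lib.Helper65.Sharp3
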