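import Mathlib
import Cfsg.Agent.Lib.Helper22.SibCDefs
import Cfsg.Agent.Lib.Helper65.SibleyBetaMain

/-!
# PROJECT SIBC, module [SIBC-BETA] in the exact form of helper22's sheet (`SIBC_MODULES.md`)

`sibC_beta` : wrapper of `Cfsg.Agent.Lib.Helper65.SibleyBeta.sibley_c2_beta` in terms of helper22's
`Ctx` and `SFacts`.
-/

set_option autoImplicit false

namespace Cfsg.Agent.Lib.Helper65.SibC

open Cfsg Cfsg.Agent.Lib.Helper22.SibC

universe u

variable {G : Type u} [Group G] [Fintype G] (H L W₁ W₂ : Subgroup G) [Fintype L]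

/-- MODULE [SIBC-BETA]: case `W₂ ⊓ Z(H) = ⊥` (re-run of S1524 with `Z = Z(H)`). -/
theorem sibC_beta {p : ℕ} (c : Ctx H L W₁ W₂ p)
    (hbeta : ∀ z ∈ W₂, (∀ h ∈ H, z * h = h * z) → z = 1)
    {R : (↥L → ℂ) → Finset (G → ℂ)} (sf : SFacts H L R) :
    IsCoherent (SS H L) ({1}ᶜ : Set ↥L) (indL L) := by
  have : Fact p.Prime := ⟨c.hp⟩
  have hW₂H : W₂ ≤ H := c.hW₂der.trans (Subgroup.commutator_le_self H)
  have hW₂1 : W₂ ≠ ⊥ := by
    intro h
    have h1 := c.hW₂card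
    rw [h, Subgroup.card_bot] at h1
    exact c.hp.one_lt.ne h1
  have hH1 : H ≠ ⊥ := by
    intro h
    apply hW₂1
    rw [eq_bot_iff, ← h]
    exact hW₂H
  have hnil : Group.IsNilpotent H := c.hpH.isNilpotent
  have hcop : (Nat.card W₁).Coprime (Nat.card H) := by
    obtain ⟨k, hk⟩ := c.hpH.exists_card_eq
    rw [hk]
    apply Nat.Coprime.pow_right
    exact ((Nat.Prime.coprime_iff_not_dvd c.hp).mpr c.hcop).symm
  have hcent : ∀ w ∈ W₁, w ≠ 1 → ∀ h ∈ H, w * h = h * w → h ∈ W₂ := by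
    intro w hw hw1 h hh hwh
    rw [← c.hC w hw hw1]
    refine ⟨hh, Subgroup.mem_centralizer_iff.2 ?_⟩
    intro y hy
    rw [Set.mem_singleton_iff] at hy
    rw [hy]
    exact hwh
  exact Cfsg.Agent.Lib.Helper65.SibleyBeta.sibley_c2_beta H L W₁ W₂ c.hodd c.hHL c.hW₁L hH1 c.hW1
    hnil c.hHn c.hinf c.hsup hcop hcent c.hW₂der hbeta c.hTI c.hN R sf.cs

end Cfsg.Agent.Lib.Helper65.SibC
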