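import Mathlib
import Cfsg.Agent.Lib.Helper13.SpBN.Defs

/-! # SPBN-[AX-SQ] (helper65), `_of` form: `s_k ^ 2 ∈ T`, from [E-SMAT] `sRef_coe` as a hypothesis -/

set_option autoImplicit false

namespace Cfsg.Agent.Lib.Helper65.SpBN

open Matrix Cfsg.Agent.Lib.Helper13.SpBN

variable {m : ℕ} {F : Type*} [Field F]

/-- `sPerm k` is an involution. -/
theorem sPerm_sPerm (k : Fin m) (y : Idx m) : sPerm k (sPerm k y) = y := by
  have h : sPerm k * sPerm k = 1 := by
    unfold sPerm
    split_ifs with hk
    · have hdis : Equiv.Perm.Disjoint (Equiv.swap (aI k) (bI k))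
          (Equiv.swap (iota (aI k)) (iota (bI k))) := by
        apply Equiv.Perm.disjoint_swap_swap
        have hb : bI k = Sum.inl ⟨k.val + 1, hk⟩ := by unfold bI; rw [dif_pos hk]
        rw [hb]
        simp [aI, iota, Fin.ext_iff]
      have hc := hdis.commute
      calc Equiv.swap (aI k) (bI k) * Equiv.swap (iota (aI k)) (iota (bI k)) *
            (Equiv.swap (aI k) (bI k) * Equiv.swap (iota (aI k)) (iota (bI k)))
          = (Equiv.swap (aI k) (bI k) * Equiv.swap (aI k) (bI k)) *
            (Equiv.swap (iota (aI k)) (iota (bI k)) * Equiv.swap (iota (aI k)) (iota (bI k))) := by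
            rw [mul_assoc, ← mul_assoc (Equiv.swap (iota (aI k)) (iota (bI k))), ← hc.eq]
            simp only [mul_assoc]
        _ = 1 := by rw [Equiv.swap_mul_self, Equiv.swap_mul_self, one_mul]
    · exact Equiv.swap_mul_self _ _
  have := congrArg (fun σ : Equiv.Perm (Idx m) => σ y) h
  simpa using this

/-- the square of an involutive monomial matrix is diagonal -/
theorem monoMat_mul_self_apply_of_ne (π : Equiv.Perm (Idx m)) (ν : Idx m → F)
    (hπ : ∀ y, π (π y) = y) {x y : Idx m} (hxy : x ≠ y) :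
    (monoMat π ν * monoMat π ν) x y = 0 := by
  rw [Matrix.mul_apply]
  apply Finset.sum_eq_zero
  intro z _
  unfold monoMat
  simp only [Matrix.of_apply]
  by_cases h1 : z = π y
  · subst h1
    rw [if_neg, zero_mul]
    rw [hπ]
    exact hxy
  · rw [if_neg h1, mul_zero]

/-- [AX-SQ] with [E-SMAT] as a hypothesis. -/
theorem sRef_sq_mem_of (k : Fin m)
    (hs : ((sRef k : SpG m F) : Matrix (Idx m) (Idx m) F) = monoMat (sPerm k) (sSign k)) :
    (sRef k : SpG m F) * sRef k ∈ Tsp m F := by
  have hoff : ∀ x y : Idx m, x ≠ y →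
      (((sRef k : SpG m F) * sRef k : SpG m F) : Matrix (Idx m) (Idx m) F) x y = 0 := by
    intro x y hxy
    show ((sRef k : SpG m F).1 * (sRef k : SpG m F).1) x y = 0
    rw [hs]
    exact monoMat_mul_self_apply_of_ne _ _ (sPerm_sPerm k) hxy
  refine ⟨?_, ?_⟩
  · intro i j hij
    apply hoff
    rintro rfl
    exact lt_irrefl _ hij
  · intro i j hij
    rw [Matrix.transpose_apply]
    apply hoff
    rintro rfl
    exact lt_irrefl _ hij

end Cfsg.Agent.Lib.Helper65.SpBN
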