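import Mathlib
import Cfsg.Agent.Lib.Helper13.SpBN.Defs

/-! # SPBN-[J-CONJ] (helper65): conjugation by `J` is inverse-transpose -/

set_option autoImplicit false

namespace Cfsg.Agent.Lib.Helper65.SpBN

open Matrix Cfsg.Agent.Lib.Helper13.SpBN

variable {m : ℕ} {F : Type*} [Field F]

/-- `J⁻¹ g J = (g⁻¹)ᵀ` as matrices. -/
theorem Jel_conj_coe (g : SpG m F) :
    (((Jel m F)⁻¹ * g * Jel m F : SpG m F) : Matrix (Idx m) (Idx m) F) =
      ((g⁻¹ : SpG m F) : Matrix (Idx m) (Idx m) F)ᵀ := by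
  have hJinv : (((Jel m F)⁻¹ : SpG m F) : Matrix (Idx m) (Idx m) F) = -J (Fin m) F := by
    rw [SymplecticGroup.coe_inv]
    show -J (Fin m) F * (J (Fin m) F)ᵀ * J (Fin m) F = -J (Fin m) F
    rw [J_transpose, Matrix.neg_mul, Matrix.mul_neg, neg_neg, J_squared, Matrix.neg_mul, Matrix.one_mul]
  show ((Jel m F)⁻¹ : SpG m F).1 * g.1 * (Jel m F).1 = _
  rw [hJinv, SymplecticGroup.coe_inv]
  show -J (Fin m) F * g.1 * J (Fin m) F = (-J (Fin m) F * (g.1)ᵀ * J (Fin m) F)ᵀ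
  rw [Matrix.transpose_mul, Matrix.transpose_mul, Matrix.transpose_transpose, Matrix.transpose_neg,
    J_transpose, neg_neg, Matrix.neg_mul, Matrix.neg_mul, Matrix.neg_mul, Matrix.mul_assoc]

/-- [J-CONJ]  conjugation by `J` is inverse-transpose -/
theorem Jel_conj_mem_Bsp_iff (g : SpG m F) :
    (Jel m F)⁻¹ * g * Jel m F ∈ Bsp m F ↔ g ∈ Bop m F := by
  rw [← (Bop m F).inv_mem_iff (x := g), mem_Bsp, mem_Bop, Jel_conj_coe]

end Cfsg.Agent.Lib.Helper65.SpBN
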