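import Mathlib
import Cfsg.Agent.Lib.Helper13.SpBN.Defs

/-! # SPBN-[R-P] (helper65): `B ≤ P_k` (exact) and `s_k ∈ P_k` (`_of` form: [E-SMAT] as a hypothesis) -/

set_option autoImplicit false

namespace Cfsg.Agent.Lib.Helper65.SpBN

open Matrix Cfsg.Agent.Lib.Helper13.SpBN

variable {m : ℕ} {F : Type*} [Field F]

theorem rk_injective : Function.Injective (rk : Idx m → ℕ) := by
  intro x y h
  rcases x with x | x <;> rcases y with y | y <;> simp only [rk] at h
  · exact congrArg Sum.inl (Fin.ext h)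
  · have := x.isLt; have := y.isLt; omega
  · have := x.isLt; have := y.isLt; omega
  · have := x.isLt; have := y.isLt
    exact congrArg Sum.inr (Fin.ext (by omega))

theorem rk_aI (k : Fin m) : rk (aI k) = k.val := rfl

theorem rk_bI (k : Fin m) : rk (bI k) = k.val + 1 := by
  unfold bI
  split_ifs with h
  · rfl
  · simp only [rk]
    have := k.isLt
    omega

theorem rkP_le_rk (k : Fin m) (c : Idx m) : rkP k c ≤ rk c := by
  unfold rkP
  split_ifs with h1 h2
  · rw [h1, rk_aI, rk_bI]; omega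
  · rw [h2]
    by_cases hk : k.val + 1 < m
    · have hb : bI k = Sum.inl ⟨k.val + 1, hk⟩ := by unfold bI; rw [dif_pos hk]
      rw [hb]
      simp only [iota, aI, Sum.swap_inl, rk]
      omega
    · exfalso
      apply h1
      rw [h2]
      unfold bI
      rw [dif_neg hk]
      rfl
  · exact le_rfl

theorem rk_le_rkP_succ (k : Fin m) (c : Idx m) : rk c ≤ rkP k c + 1 := by
  unfold rkP
  split_ifs with h1 h2
  · rw [h1, rk_aI, rk_bI]
  · rw [h2]
    by_cases hk : k.val + 1 < m
    · have hb : bI k = Sum.inl ⟨k.val + 1, hk⟩ := by unfold bI; rw [dif_pos hk]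
      rw [hb]
      simp only [iota, aI, Sum.swap_inl, rk]
      omega
    · exfalso
      apply h1
      rw [h2]
      unfold bI
      rw [dif_neg hk]
      rfl
  · omega

/-- `rkP k` is a weakly monotone function of `rk`. -/
theorem rk_lt_of_rkP_lt (k : Fin m) {i j : Idx m} (h : rkP k j < rkP k i) : rk j < rk i := by
  by_contra hcon
  push Not at hcon
  rcases Nat.eq_or_lt_of_le hcon with heq | hlt
  · have := rk_injective heq
    subst this
    exact lt_irrefl _ h
  · have h1 := rkP_le_rk k i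
    have h2 := rk_le_rkP_succ k j
    omega

/-- [R-P] -/
theorem Bsp_le_Psp (k : Fin m) : Bsp m F ≤ Psp k := by
  intro g hg i j hij
  exact hg (rk_lt_of_rkP_lt k hij)

theorem rkP_aI (k : Fin m) : rkP k (aI k) = rk (aI k) := by
  unfold rkP
  have h1 : aI k ≠ bI k := by
    intro h
    have h2 := congrArg rk h
    rw [rk_aI, rk_bI] at h2
    omega
  have h2 : aI k ≠ iota (aI k) := by simp [aI, iota]
  rw [if_neg h1, if_neg h2]

theorem rkP_bI (k : Fin m) : rkP k (bI k) = rk (aI k) := by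
  unfold rkP
  rw [if_pos rfl]

theorem rkP_swap_of_eq (k : Fin m) {a b : Idx m} (hab : rkP k a = rkP k b) (y : Idx m) :
    rkP k (Equiv.swap a b y) = rkP k y := by
  rw [Equiv.swap_apply_def]
  split_ifs with h1 h2
  · rw [h1, hab]
  · rw [h2, hab]
  · rfl

theorem rkP_iota_short (k : Fin m) (hk : k.val + 1 < m) :
    rkP k (iota (aI k)) = rkP k (iota (bI k)) := by
  have hb : bI k = Sum.inl ⟨k.val + 1, hk⟩ := by unfold bI; rw [dif_pos hk]
  unfold rkP
  rw [hb]
  have h1 : iota (aI k) ≠ (Sum.inl ⟨k.val + 1, hk⟩ : Idx m) := by simp [aI, iota]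
  have h3 : iota (Sum.inl ⟨k.val + 1, hk⟩ : Idx m) ≠ (Sum.inl ⟨k.val + 1, hk⟩ : Idx m) := by
    simp [iota]
  have h4 : iota (Sum.inl ⟨k.val + 1, hk⟩ : Idx m) ≠ iota (aI k) := by
    simp [aI, iota, Fin.ext_iff]
  rw [if_neg h1, if_pos rfl, if_neg h3, if_neg h4]

theorem rkP_sPerm (k : Fin m) (y : Idx m) : rkP k (sPerm k y) = rkP k y := by
  have hab : rkP k (aI k) = rkP k (bI k) := by rw [rkP_aI, rkP_bI]
  unfold sPerm
  split_ifs with hk
  · rw [Equiv.Perm.mul_apply, rkP_swap_of_eq k hab, rkP_swap_of_eq k (rkP_iota_short k hk)]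
  · exact rkP_swap_of_eq k hab y

/-- [R-P] `s_k ∈ P_k`, with [E-SMAT] as a hypothesis. -/
theorem sRef_mem_Psp_of (k : Fin m)
    (hs : ((sRef k : SpG m F) : Matrix (Idx m) (Idx m) F) = monoMat (sPerm k) (sSign k)) :
    (sRef k : SpG m F) ∈ Psp k := by
  intro i j hij
  rw [hs]
  unfold monoMat
  simp only [Matrix.of_apply]
  rw [if_neg]
  rintro rfl
  rw [rkP_sPerm] at hij
  exact lt_irrefl _ hij

end Cfsg.Agent.Lib.Helper65.SpBN
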