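import Mathlib
import Cfsg.Agent.Lib.Helper13.SpBN.Defs

/-! # SPBN-[R-XB] (helper65): root elements are upper triangular, opposite ones lower triangular -/

set_option autoImplicit false

namespace Cfsg.Agent.Lib.Helper65.SpBN

open Matrix Cfsg.Agent.Lib.Helper13.SpBN

variable {m : ℕ} {F : Type*} [Field F]

theorem xMat_blockTriangular (k : Fin m) (t : F) : BlockTriangular (xMat k t : Matrix (Idx m) (Idx m) F) rk := by
  intro i j hij
  unfold xMat
  split_ifs with h
  · rcases i with i | i <;> rcases j with j | j
    · simp only [rk] at hij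
      rw [fromBlocks_apply₁₁, transvection, Matrix.add_apply, Matrix.one_apply, Matrix.single_apply]
      have hne : i ≠ j := by rintro rfl; omega
      rw [if_neg hne, if_neg, add_zero]
      rintro ⟨rfl, rfl⟩
      simp at hij
    · rw [fromBlocks_apply₁₂]; rfl
    · rw [fromBlocks_apply₂₁]; rfl
    · simp only [rk] at hij
      rw [fromBlocks_apply₂₂, transvection, Matrix.add_apply, Matrix.one_apply, Matrix.single_apply]
      have hi := i.isLt
      have hj := j.isLt
      have hne : i ≠ j := by rintro rfl; omega
      rw [if_neg hne, if_neg, add_zero]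
      rintro ⟨rfl, rfl⟩
      simp at hij
      omega
  · rcases i with i | i <;> rcases j with j | j
    · simp only [rk] at hij
      rw [fromBlocks_apply₁₁, Matrix.one_apply]
      have hne : i ≠ j := by rintro rfl; omega
      rw [if_neg hne]
    · simp only [rk] at hij
      have hi := i.isLt
      have hj := j.isLt
      omega
    · rw [fromBlocks_apply₂₁]; rfl
    · simp only [rk] at hij
      rw [fromBlocks_apply₂₂, Matrix.one_apply]
      have hne : i ≠ j := by rintro rfl; omega
      rw [if_neg hne]

/-- [R-XB] -/
theorem xRoot_mem_Bsp (k : Fin m) (t : F) : xRoot k t ∈ Bsp m F :=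
  xMat_blockTriangular k t

/-- [R-XB] -/
theorem yRoot_mem_Bop (k : Fin m) (t : F) : yRoot k t ∈ Bop m F := by
  show BlockTriangular ((xMat k t)ᵀ)ᵀ rk
  rw [Matrix.transpose_transpose]
  exact xMat_blockTriangular k t

end Cfsg.Agent.Lib.Helper65.SpBN
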