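import Cfsg.Agent.Lib.Helper85.Suz2Defs

/-!
# Project SUZ2 (helper85): small common lemmas for the modules [B4], [B5], [B6] (helper65)
-/

set_option autoImplicit false

namespace Cfsg.Agent.Lib.Helper65.Suz2

open Cfsg.Agent.Lib.Helper19.Suz Cfsg.Agent.Lib.Helper85.Suz2

universe u

variable {P : Type u} [Group P] {Y : Subgroup (MulAut P)}
variable {F : Type} [Field F] [Fintype F] {aZ : P → F} {κ : MulAut P → F}
  {σ : MulAut P → (F ≃+* F)} {c : (F ≃+* F) → P → F}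

/-- automorphisms of a finite field commute -/
theorem ringEquiv_comm {K : Type*} [Field K] [Finite K] (s t : K ≃+* K) (x : K) :
    s (t x) = t (s x) := by
  by_cases hx : x = 0
  · rw [hx, map_zero, map_zero, map_zero]
  obtain ⟨g, hg⟩ := IsCyclic.exists_generator (α := Kˣ)
  have hS : ∀ f : Kˣ →* Kˣ, ∃ a : ℤ, ∀ w : Kˣ, f w = w ^ a := by
    intro f
    obtain ⟨a, ha⟩ := Subgroup.mem_zpowers_iff.mp (hg (f g))
    refine ⟨a, fun w => ?_⟩
    obtain ⟨k, rfl⟩ := Subgroup.mem_zpowers_iff.mp (hg w)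
    rw [map_zpow, ← ha, ← zpow_mul, ← zpow_mul, mul_comm]
  obtain ⟨a, ha⟩ := hS (Units.map (s : K →* K))
  obtain ⟨b, hb⟩ := hS (Units.map (t : K →* K))
  have key : Units.map (s : K →* K) (Units.map (t : K →* K) (Units.mk0 x hx)) =
      Units.map (t : K →* K) (Units.map (s : K →* K) (Units.mk0 x hx)) := by
    rw [ha, hb, ha, hb, ← zpow_mul, ← zpow_mul, mul_comm]
  have := congrArg Units.val key
  simpa using this

theorem CHyp.c_one (H : CHyp P Y F aZ κ σ c) (τ : F ≃+* F) : c τ 1 = 0 := by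
  have h := H.c_mul τ 1 1
  rw [mul_one] at h
  exact left_eq_add.mp h

theorem CHyp.c_inv (H : CHyp P Y F aZ κ σ c) (τ : F ≃+* F) (x : P) : c τ x⁻¹ = c τ x := by
  have := H.zc.char2
  have h := H.c_mul τ x⁻¹ x
  rw [inv_mul_cancel, CHyp.c_one H] at h
  have h2 : c τ x⁻¹ = - c τ x := eq_neg_of_add_eq_zero_left h.symm
  rw [h2, CharTwo.neg_eq]

theorem CHyp.aZ_one (H : CHyp P Y F aZ κ σ c) : aZ 1 = 0 := by
  have h := H.zc.aZ_mul 1 (Subgroup.one_mem _) 1 (Subgroup.one_mem _)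
  rw [mul_one] at h
  exact left_eq_add.mp h

theorem Z0_inv_eq {z : P} (hz : z ∈ Z0 P) : z⁻¹ = z :=
  inv_eq_of_mul_eq_one_left hz.2

theorem Z0_comm {z : P} (hz : z ∈ Z0 P) (g : P) : g * z = z * g :=
  (Subgroup.mem_center_iff.mp hz.1) g

/-- `aZ` is injective on `Z0 P` -/
theorem CHyp.aZ_inj2 (H : CHyp P Y F aZ κ σ c) {z w : P} (hz : z ∈ Z0 P) (hw : w ∈ Z0 P)
    (h : aZ z = aZ w) : z = w := by
  have := H.zc.char2
  have h1 : aZ (z * w) = 0 := by
    rw [H.zc.aZ_mul z hz w hw, h, CharTwo.add_self_eq_zero]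
  have h2 := H.zc.aZ_inj (z * w) (Subgroup.mul_mem _ hz hw) h1
  have h3 : z = w⁻¹ := eq_inv_of_mul_eq_one_left h2
  rw [h3, Z0_inv_eq hw]

/-- squaring is multiplicative on the abelian group `Nsub P` -/
theorem CHyp.sq_mul (H : CHyp P Y F aZ κ σ c) {a b : P} (ha : a ∈ Nsub P) (hb : b ∈ Nsub P) :
    (a * b) * (a * b) = (a * a) * (b * b) := by
  have h := H.Eab b hb a ha
  calc (a * b) * (a * b) = a * (b * a) * b := by group
    _ = a * (a * b) * b := by rw [h]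
    _ = (a * a) * (b * b) := by group

/-- the square of an element of `Nsub P` lies in `Z0 P` -/
theorem sq_mem_Z0 {a : P} (ha : a ∈ Nsub P) : a * a ∈ Z0 P := (mem_Nsub.mp ha).1

end Cfsg.Agent.Lib.Helper65.Suz2
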