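import Mathlib

/-!
# Sylow 2-subgroups meeting non-trivially in an extension `N.2`

Abstract lemma: `N ⊴ G` of index `2`, `P` a Sylow 2-subgroup, `U = P ⊓ N`.  If any two
elements `m, m'` of `N` for which `U ⊓ m U m⁻¹ = ⊥` and `U ⊓ m' U m'⁻¹ = ⊥` are in the same
`(U, U)`-double coset, then `P ⊓ x P x⁻¹ ≠ ⊥` for every `x`.
-/

set_option autoImplicit false

open scoped Pointwise

namespace Cfsg.Agent.Lib.Helper65.SylowMeet

variable {G : Type*} [Group G]

theorem mem_conj_smul_iff (x y : G) (P : Subgroup G) :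
    y ∈ MulAut.conj x • P ↔ x⁻¹ * y * x ∈ P := by
  rw [Subgroup.mem_pointwise_smul_iff_inv_smul_mem]
  simp [MulAut.smul_def]

theorem inf_conj_ne_bot [Finite G] (N : Subgroup G) [hN : N.Normal] (hidx : N.index = 2) (P : Sylow 2 G)
    (H : ∀ m ∈ N, ∀ m' ∈ N,
      (∀ u ∈ (P : Subgroup G), u ∈ N → m * u * m⁻¹ ∈ (P : Subgroup G) → u = 1) →
      (∀ u ∈ (P : Subgroup G), u ∈ N → m' * u * m'⁻¹ ∈ (P : Subgroup G) → u = 1) →
      ∃ u ∈ (P : Subgroup G), u ∈ N ∧ ∃ t ∈ (P : Subgroup G), t ∈ N ∧ m' = u * m * t)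
    (x : G) : (P : Subgroup G) ⊓ MulAut.conj x • (P : Subgroup G) ≠ ⊥ := by
  classical
  -- an element of `P` outside `N`
  obtain ⟨g, hgP, hgN⟩ : ∃ g ∈ (P : Subgroup G), g ∉ N := by
    by_contra hcon
    push Not at hcon
    have hle : (P : Subgroup G) ≤ N := hcon
    have h1 : N.index ∣ (P : Subgroup G).index := Subgroup.index_dvd_of_le hle
    rw [hidx] at h1
    exact P.not_dvd_index h1
  -- reduce to `x ∈ N`
  obtain ⟨n, hnN, hn⟩ : ∃ n ∈ N, MulAut.conj x • (P : Subgroup G) = MulAut.conj n • (P : Subgroup G) := by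
    by_cases hx : x ∈ N
    · exact ⟨x, hx, rfl⟩
    · refine ⟨x * g⁻¹, ?_, ?_⟩
      · rw [Subgroup.mul_mem_iff_of_index_two hidx]
        constructor
        · intro h; exact absurd h hx
        · intro h; exact absurd (by simpa using h) hgN
      · have h1 : MulAut.conj x = MulAut.conj (x * g⁻¹) * MulAut.conj g := by
          rw [← map_mul]; simp
        rw [h1, mul_smul, Subgroup.conj_smul_eq_self_of_mem hgP]
  rw [hn]
  by_cases hopp : ∀ u ∈ (P : Subgroup G), u ∈ N → n * u * n⁻¹ ∈ (P : Subgroup G) → u = 1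
  · -- opposite case
    have hm'N : g * n * g⁻¹ ∈ N := hN.conj_mem n hnN g
    have hopp' : ∀ u ∈ (P : Subgroup G), u ∈ N →
        (g * n * g⁻¹) * u * (g * n * g⁻¹)⁻¹ ∈ (P : Subgroup G) → u = 1 := by
      intro u huP huN h
      have hu'P : g⁻¹ * u * g ∈ (P : Subgroup G) := mul_mem (mul_mem (inv_mem hgP) huP) hgP
      have hu'N : g⁻¹ * u * g ∈ N := by
        have := hN.conj_mem u huN g⁻¹
        simpa using this
      have h2 : n * (g⁻¹ * u * g) * n⁻¹ ∈ (P : Subgroup G) := by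
        have h3 : n * (g⁻¹ * u * g) * n⁻¹ = g⁻¹ * ((g * n * g⁻¹) * u * (g * n * g⁻¹)⁻¹) * g := by
          group
        rw [h3]
        exact mul_mem (mul_mem (inv_mem hgP) h) hgP
      have h4 := hopp _ hu'P hu'N h2
      have : u = g * (g⁻¹ * u * g) * g⁻¹ := by group
      rw [this, h4]; group
    obtain ⟨u, huP, huN, t, htP, htN, hut⟩ := H n hnN (g * n * g⁻¹) hm'N hopp hopp'
    intro hbot
    have hy : u⁻¹ * g ∈ (P : Subgroup G) ⊓ MulAut.conj n • (P : Subgroup G) := by
      refine Subgroup.mem_inf.mpr ⟨mul_mem (inv_mem huP) hgP, ?_⟩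
      rw [mem_conj_smul_iff]
      have h5 : n⁻¹ * (u⁻¹ * g) * n = t * g := by
        have h6 : g * n = u * n * t * g := by
          rw [← hut]; group
        calc n⁻¹ * (u⁻¹ * g) * n = n⁻¹ * u⁻¹ * (g * n) := by group
          _ = n⁻¹ * u⁻¹ * (u * n * t * g) := by rw [h6]
          _ = t * g := by group
      rw [h5]
      exact mul_mem htP hgP
    rw [hbot, Subgroup.mem_bot] at hy
    apply hgN
    have : g = u := by
      have := congrArg (fun z => u * z) hy
      simpa using this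
    rw [this]; exact huN
  · push Not at hopp
    obtain ⟨u, huP, huN, hunP, hu1⟩ := hopp
    intro hbot
    have hy : n * u * n⁻¹ ∈ (P : Subgroup G) ⊓ MulAut.conj n • (P : Subgroup G) := by
      refine Subgroup.mem_inf.mpr ⟨hunP, ?_⟩
      rw [mem_conj_smul_iff]
      have : n⁻¹ * (n * u * n⁻¹) * n = u := by group
      rw [this]; exact huP
    rw [hbot, Subgroup.mem_bot] at hy
    apply hu1
    have : u = n⁻¹ * (n * u * n⁻¹) * n := by group
    rw [this, hy]; group

end Cfsg.Agent.Lib.Helper65.SylowMeet
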